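import Cfsg.Agent.Omega.Lie.LemmaT
import Cfsg.Agent.SignalizersComponents.Components
import Cfsg.Agent.SignalizersComponents.CompBasic
import Cfsg.Agent.S0542
import Cfsg.Agent.Mrg.Omega.BTwo.QuadGrp
import Cfsg.Agent.Omega.Lie.CompT
import Cfsg.Agent.Omega.Lie.CompB
import Cfsg.Agent.Lib.GenFitting
import Cfsg.Agent.Mrg.Omega.BTwo.Conj
import Cfsg.Agent.OddHalf.Known

section


/-!
# Components satisfy the hypotheses of (T1) (`LemmaT.lean`)

* `comp_of_isComponent`: a component `K` of a finite group `H` with `O_2(H) = 1` is a `LemmaT.Comp`;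
* `exists_involution`: a subnormal subgroup of even order has an involution in every Sylow 2-subgroup of `H`.
* `Set0.normalises_component`: (T1) for components.
-/

set_option autoImplicit false

namespace Cfsg.Agent.Omega.Lie.LemmaT

open Cfsg Subgroup

variable {H : Type*} [Group H]

theorem comp_of_isComponent [Finite H] {K : Subgroup H} (hK : IsComponent K) (hO : pCore 2 H = ⊥) : Comp K where
  conj := by
    intro g
    by_cases h : K.map (MulAut.conj g).toMonoidHom = K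
    · left
      intro y
      constructor
      · intro hy
        rw [← h]
        exact ⟨y, hy, rfl⟩
      · intro hy
        rw [← h] at hy
        obtain ⟨x, hx, hxy⟩ := hy
        have h1 : g * x * g⁻¹ = g * y * g⁻¹ := hxy
        have h2 : x = y := by
          have := congrArg (fun z => g⁻¹ * z * g) h1
          simpa [mul_assoc] using this
        rwa [← h2]
    · right
      intro x hx y hy
      have h1 := SignalizersComponents.Components.component_le_centralizer_of_ne hK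
        (SignalizersComponents.Components.isComponent_conj g hK) (Ne.symm h) hx
      exact (mem_centralizer_iff.1 h1 (g * y * g⁻¹) ⟨y, hy, rfl⟩).symm
  cen := by
    intro x hx hxx hc
    let Z : Subgroup K := zpowers ⟨x, hx⟩
    have hZc : Z ≤ center K := by
      rw [zpowers_le, mem_center_iff]
      intro y
      exact Subtype.ext (hc y y.2).symm
    have hZn : Z.Normal := ⟨fun z hz y => by
      have h1 := mem_center_iff.1 (hZc hz) y
      have h2 : y * z * y⁻¹ = z := by rw [h1]; group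
      rwa [h2]⟩
    have hZp : IsPGroup 2 Z := by
      rw [IsPGroup.iff_card]
      have h1 : Nat.card Z ∣ 2 := by
        rw [Nat.card_zpowers]
        exact orderOf_dvd_of_pow_eq_one (by rw [pow_two]; exact Subtype.ext hxx)
      rcases (Nat.dvd_prime Nat.prime_two).1 h1 with h2 | h2
      · exact ⟨0, by rw [h2, pow_zero]⟩
      · exact ⟨1, by rw [h2, pow_one]⟩
    have hZs : (Z.map K.subtype).IsSubnormal := by
      have h1 : Z.IsSubnormal := IsSubnormal.step Z ⊤ le_top IsSubnormal.top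
        (by
          rw [normal_subgroupOf_iff_le_normalizer le_top]
          intro y _
          rw [mem_normalizer_iff]
          intro z
          constructor
          · intro hz; exact hZn.conj_mem z hz y
          · intro hz
            have := hZn.conj_mem _ hz y⁻¹
            have e : y⁻¹ * (y * z * y⁻¹) * y⁻¹⁻¹ = z := by group
            rwa [e] at this)
      exact h1.trans' hK.1
    have h2 := SignalizersComponents.CompBasic.subnormal_pGroup_le_pCore hZs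
      (hZp.map K.subtype)
    rw [hO] at h2
    have h3 : x ∈ Z.map K.subtype := ⟨⟨x, hx⟩, mem_zpowers _, rfl⟩
    exact mem_bot.1 (h2 h3)

theorem exists_involution [Finite H] (S : Sylow 2 H) {K : Subgroup H} (hK : K.IsSubnormal)
    (h2 : 2 ∣ Nat.card K) : ∃ x ∈ K, x ∈ (S : Subgroup H) ∧ x ≠ 1 ∧ x * x = 1 := by
  obtain ⟨Q, hQ⟩ := Cfsg.Agent.S0542.result 2 K hK S
  have h3 : Q.toSubgroup ≠ ⊥ := Q.ne_bot_of_dvd_card h2
  have h4 : Nontrivial Q := (Subgroup.nontrivial_iff_ne_bot _).2 h3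
  have h5 : 2 ∣ Nat.card Q := by
    obtain ⟨n, hn⟩ := IsPGroup.iff_card.1 Q.isPGroup'
    have hn0 : n ≠ 0 := by
      rintro rfl
      rw [pow_zero] at hn
      have h6 : 1 < Nat.card Q := Finite.one_lt_card
      have h7 : Nat.card Q = 1 := hn
      omega
    have h8 : Nat.card Q = 2 ^ n := hn
    rw [h8]
    exact dvd_pow_self 2 hn0
  obtain ⟨x, hx⟩ := exists_prime_orderOf_dvd_card' 2 h5
  refine ⟨((x : K) : H), (x : K).2, ?_, ?_, ?_⟩
  · have h6 : (x : K) ∈ (S : Subgroup H).subgroupOf K := hQ ▸ (x.2 : (x : K) ∈ (Q : Subgroup K))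
    exact mem_subgroupOf.1 h6
  · intro h6
    have h7 : x = 1 := Subtype.ext (Subtype.ext h6)
    rw [h7, orderOf_one] at hx
    exact absurd hx (by norm_num)
  · have h6 : x * x = 1 := by
      have h7 := pow_orderOf_eq_one x
      rwa [hx, pow_two] at h7
    exact congrArg (fun y : Q => ((y : K) : H)) h6

/-- **(T1)** for components: `A` normalises every component of even order. `S` contains the involutions of `K` in
some Sylow 2-subgroup (e.g. `S = S₀ ∩ H⁰` with `K ≤ H⁰`). -/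
theorem Set0.normalises_component [Finite H] {S A T : Subgroup H} (h : Set0 S A T)
    (hT : ∃ t ∈ T, t ≠ 1) (hO : pCore 2 H = ⊥) (S₀ : Sylow 2 H) {K : Subgroup H} (hK : IsComponent K)
    (h2 : 2 ∣ Nat.card K) (hS : ∀ x ∈ (S₀ : Subgroup H), x ∈ K → x ∈ S) : A ≤ normalizer (K : Set H) := by
  obtain ⟨x, hxK, hxS, hx1, hx2⟩ := exists_involution S₀ hK.1 h2
  intro a ha
  rw [mem_normalizer_iff]
  exact h.normalises hT (comp_of_isComponent hK hO) hxK (hS x hxS hxK) hx1 hx2 ha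

end Cfsg.Agent.Omega.Lie.LemmaT

end

section


/-!
# NODE LIE: the group `H = N(R) / O₂(N(R))` (bb OMEGA #10745, #12098)

`im R A` is the image of `A` in `HQ R = N(R)/O₂(N(R))`.  For the situation `b : BTC V R`, `τ : TorD V R i j v t`
(torus), `C : Crd ..` (coordinates) and a Sylow 2-subgroup `S₁` of `G` in `N(V) ∩ N(R i)` we verify the abstract
hypotheses of `LemmaT`, `CompT`, `CompB` for `A = im (U j)`, `T = im τ.grp`, `S = im (S₁ ⊓ C(R i))`.
-/

set_option autoImplicit false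
set_option linter.unusedSectionVars false

namespace Cfsg.Agent.Omega.Lie.Quot

open Subgroup Cfsg.Agent.Omega.BTwo Cfsg.Agent.Omega.Lie

universe u v w

variable {G : Type u} [Group G]

/-- `H = N(R) / O₂(N(R))` -/
abbrev HQ (R : Subgroup G) : Type u := ↥(normalizer (R : Set G)) ⧸ pCore 2 ↥(normalizer (R : Set G))

/-- the projection `N(R) → H` -/
def pr (R : Subgroup G) : ↥(normalizer (R : Set G)) →* HQ R := QuotientGroup.mk' _

/-- the image of (the intersection with `N(R)` of) a subgroup of `G` -/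
def im (R A : Subgroup G) : Subgroup (HQ R) := (A.subgroupOf (normalizer (R : Set G))).map (pr R)

theorem pr_surjective (R : Subgroup G) : Function.Surjective (pr R) := QuotientGroup.mk'_surjective _

theorem exists_pr {R : Subgroup G} (h : HQ R) : ∃ (g : G) (hg : g ∈ normalizer (R : Set G)), pr R ⟨g, hg⟩ = h := by
  obtain ⟨g, rfl⟩ := pr_surjective R h
  exact ⟨g, g.2, rfl⟩

theorem mem_im {R A : Subgroup G} {h : HQ R} :
    h ∈ im R A ↔ ∃ (g : G) (hg : g ∈ normalizer (R : Set G)), g ∈ A ∧ pr R ⟨g, hg⟩ = h := by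
  unfold im
  rw [mem_map]
  constructor
  · rintro ⟨g, hg, rfl⟩
    exact ⟨g, g.2, mem_subgroupOf.1 hg, rfl⟩
  · rintro ⟨g, hg, hgA, rfl⟩
    exact ⟨⟨g, hg⟩, mem_subgroupOf.2 hgA, rfl⟩

theorem pr_mem_im {R A : Subgroup G} {g : G} (hg : g ∈ normalizer (R : Set G)) (h : g ∈ A) :
    pr R ⟨g, hg⟩ ∈ im R A := mem_im.2 ⟨g, hg, h, rfl⟩

theorem pr_eq_one {R : Subgroup G} {g : G} (hg : g ∈ normalizer (R : Set G)) :
    pr R ⟨g, hg⟩ = 1 ↔ g ∈ QQ R := by
  unfold pr
  rw [QuotientGroup.mk'_apply, QuotientGroup.eq_one_iff]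
  constructor
  · intro h; exact ⟨⟨g, hg⟩, h, rfl⟩
  · rintro ⟨x, hx, hxg⟩
    have : x = ⟨g, hg⟩ := Subtype.ext hxg
    rwa [← this]

theorem pr_eq_pr {R : Subgroup G} {g h : G} (hg : g ∈ normalizer (R : Set G)) (hh : h ∈ normalizer (R : Set G)) :
    pr R ⟨g, hg⟩ = pr R ⟨h, hh⟩ ↔ g⁻¹ * h ∈ QQ R := by
  have h1 : pr R ⟨g, hg⟩ = pr R ⟨h, hh⟩ ↔ pr R ⟨g⁻¹ * h, mul_mem (inv_mem hg) hh⟩ = 1 := by
    have e : (⟨g⁻¹ * h, mul_mem (inv_mem hg) hh⟩ : ↥(normalizer (R : Set G))) = ⟨g, hg⟩⁻¹ * ⟨h, hh⟩ := rfl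
    rw [e, map_mul, map_inv, inv_mul_eq_one]
  rw [h1, pr_eq_one]

theorem im_mono {R A B : Subgroup G} (h : A ≤ B) : im R A ≤ im R B := by
  intro x hx
  obtain ⟨g, hg, hgA, rfl⟩ := mem_im.1 hx
  exact pr_mem_im hg (h hgA)

theorem im_sup {R A B : Subgroup G} (hA : A ≤ normalizer (R : Set G)) (hB : B ≤ normalizer (R : Set G)) :
    im R (A ⊔ B) = im R A ⊔ im R B := by
  unfold im
  rw [subgroupOf_sup hA hB, Subgroup.map_sup]

theorem im_eq_bot {R A : Subgroup G} (hA : A ≤ QQ R) : im R A = ⊥ := by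
  rw [eq_bot_iff]
  intro x hx
  obtain ⟨g, hg, hgA, rfl⟩ := mem_im.1 hx
  exact mem_bot.2 ((pr_eq_one hg).2 (hA hgA))

theorem im_isPGroup {R A : Subgroup G} {p : ℕ} (h : IsPGroup p A) : IsPGroup p (im R A) := by
  unfold im
  exact (h.comap_of_injective _ (normalizer (R : Set G)).subtype_injective).map _

theorem pCore_HQ (R : Subgroup G) : pCore 2 (HQ R) = ⊥ := Lib.Cores.pCore_quotient_pCore 2

/-- membership in the image of a subgroup containing `O₂(N(R))` -/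
theorem pr_mem_im_iff {R A : Subgroup G} (hA : QQ R ≤ A) {g : G} (hg : g ∈ normalizer (R : Set G)) :
    pr R ⟨g, hg⟩ ∈ im R A ↔ g ∈ A := by
  refine ⟨fun h => ?_, pr_mem_im hg⟩
  obtain ⟨x, hx, hxA, e⟩ := mem_im.1 h
  have h1 := hA ((pr_eq_pr hx hg).1 e)
  have e2 : g = x * (x⁻¹ * g) := by group
  rw [e2]
  exact mul_mem hxA h1

theorem im_inf {R A B : Subgroup G} (hA : QQ R ≤ A) (hB : QQ R ≤ B) : im R (A ⊓ B) = im R A ⊓ im R B := by
  refine le_antisymm (le_inf (im_mono inf_le_left) (im_mono inf_le_right)) ?_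
  intro x hx
  obtain ⟨g, hg, rfl⟩ := exists_pr x
  rw [mem_inf, pr_mem_im_iff hA, pr_mem_im_iff hB] at hx
  exact pr_mem_im hg (mem_inf.2 hx)

/-- the image of a Sylow 2-subgroup of `G` contained in `N(R)` -/
theorem exists_sylow [Finite G] {R : Subgroup G} (S₁ : Sylow 2 G) (hS : (S₁ : Subgroup G) ≤ normalizer (R : Set G)) :
    ∃ P : Sylow 2 (HQ R), (P : Subgroup (HQ R)) = im R S₁ := by
  refine ⟨(S₁.subtype hS).mapSurjective (pr_surjective R), ?_⟩
  rfl

theorem QQ_le_sylow [Finite G] {R : Subgroup G} (S₁ : Sylow 2 G) (hS : (S₁ : Subgroup G) ≤ normalizer (R : Set G)) :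
    QQ R ≤ S₁ := by
  rintro _ ⟨x, hx, rfl⟩
  exact (Lib.Cores.pCore_le_sylow (S₁.subtype hS) hx : x ∈ (S₁ : Subgroup G).subgroupOf _)

/-! ### The real situation -/

section real

variable {ι : Type w} {V : Subgroup G} {R : ι → Subgroup G} {F : Type v} [Field F] {i j : ι} {v : F → F → G}
  {t : F → G} {w1 w2 : F → G}

/-- `A = U j O₂(N(R i)) / O₂(N(R i))` -/
def AA (V : Subgroup G) (R : ι → Subgroup G) (i j : ι) : Subgroup (HQ (R i)) := im (R i) (UU V R j)

/-- `T` in `H` -/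
def TT (τ : TorD V R i j v t) : Subgroup (HQ (R i)) := im (R i) τ.grp

/-- `S = (S₁ ∩ C(R i)) / O₂(N(R i))` -/
def SS (R : ι → Subgroup G) (i : ι) (P : Subgroup G) : Subgroup (HQ (R i)) :=
  im (R i) (P ⊓ centralizer (R i : Set G))

/-- `H⁰ = C(R i) / O₂(N(R i))` -/
def H0 (R : ι → Subgroup G) (i : ι) : Subgroup (HQ (R i)) := im (R i) (centralizer (R i : Set G))

section

variable (b : BT V R)
include b

theorem U_le_N (i j : ι) : UU V R j ≤ normalizer (R i : Set G) := (UU_le_cen j).trans (b.cen_le_N i)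

theorem U_inf_Q (hij : i ≠ j) {u : G} (hu : u ∈ UU V R j) : u ∈ QQ (R i) ↔ u ∈ DD V R := by
  constructor
  · intro h
    rw [b.D_eq hij.symm]
    exact mem_inf.2 ⟨UU_le_WW j hu, h⟩
  · intro h
    exact b.W_le_Q i (mem_DD.1 h i)

theorem Q_le_C (i : ι) : QQ (R i) ≤ centralizer (R i : Set G) := fun g hg =>
  mem_centralizer_iff.2 fun a ha => (b.QR i g hg a ha).symm

theorem mem_AA {h : HQ (R i)} : h ∈ AA V R i j ↔
    ∃ (u : G) (hu : u ∈ UU V R j), pr (R i) ⟨u, U_le_N b i j hu⟩ = h := by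
  unfold AA
  rw [mem_im]
  constructor
  · rintro ⟨g, hg, hu, rfl⟩; exact ⟨g, hu, rfl⟩
  · rintro ⟨g, hu, rfl⟩; exact ⟨g, _, hu, rfl⟩

theorem A_sq (hij : i ≠ j) {a : HQ (R i)} (ha : a ∈ AA V R i j) : a * a = 1 := by
  obtain ⟨u, hu, rfl⟩ := (mem_AA b).1 ha
  rw [← map_mul]
  have h1 : u * u ∈ DD V R := b.Y_sq (UU_le_YY j hu)
  exact (pr_eq_one (mul_mem (U_le_N b i j hu) (U_le_N b i j hu))).2
    ((U_inf_Q b hij (mul_mem hu hu)).2 h1)

end

section tor

variable (b : BT V R) (τ : TorD V R i j v t)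

theorem mem_TT {h : HQ (R i)} : h ∈ TT τ ↔ ∃ (a : F) (ha : a ≠ 0), pr (R i) ⟨t a, τ.normR ha⟩ = h := by
  unfold TT
  rw [mem_im]
  constructor
  · rintro ⟨g, hg, ⟨a, ha, rfl⟩, rfl⟩; exact ⟨a, ha, rfl⟩
  · rintro ⟨a, ha, rfl⟩; exact ⟨t a, _, ⟨a, ha, rfl⟩, rfl⟩

theorem T_comm {x y : HQ (R i)} (hx : x ∈ TT τ) (hy : y ∈ TT τ) : x * y = y * x := by
  obtain ⟨a, ha, rfl⟩ := (mem_TT τ).1 hx
  obtain ⟨c, hc, rfl⟩ := (mem_TT τ).1 hy
  rw [← map_mul, ← map_mul]
  exact congrArg (pr (R i)) (Subtype.ext (τ.comm ha hc))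

include b τ

theorem t_norm_U {a : F} (ha : a ≠ 0) {u : G} (hu : u ∈ UU V R j) : t a * u * (t a)⁻¹ ∈ UU V R j := by
  have h1 := b.cj_UU (b.X_le_NV (τ.memX a ha)) (cj_eq_self_iff.2 (τ.normR' ha))
  rw [← h1]
  exact conj_mem_cj hu

theorem TA_mem {x a : HQ (R i)} (hx : x ∈ TT τ) (ha : a ∈ AA V R i j) : x * a * x⁻¹ ∈ AA V R i j := by
  obtain ⟨c, hc, rfl⟩ := (mem_TT τ).1 hx
  obtain ⟨u, hu, rfl⟩ := (mem_AA b).1 ha
  exact (mem_AA b).2 ⟨_, t_norm_U b τ hc hu, rfl⟩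

/-- `t a` acts fixed point freely on `A` -/
theorem fpf (hij : i ≠ j) {a : F} (ha : a ≠ 0) (ha1 : a ≠ 1) {u : G} (hu : u ∈ UU V R j)
    (h : u⁻¹ * (t a * u * (t a)⁻¹) ∈ QQ (R i)) : u ∈ DD V R := by
  have h1 : u⁻¹ * (t a * u * (t a)⁻¹) ∈ DD V R :=
    (U_inf_Q b hij (mul_mem (inv_mem hu) (t_norm_U b τ ha hu))).1 h
  have hN : u ∈ normalizer (DD V R : Set G) := b.NV_le_ND (cen_le_NV V (UU_le_cen j hu))
  have h2 := conj_mem_of_normalizer hN h1
  have e : u * (u⁻¹ * (t a * u * (t a)⁻¹)) * u⁻¹ = (t a⁻¹)⁻¹ * u * t a⁻¹ * u⁻¹ := by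
    rw [τ.inv ha]; group
  rw [e] at h2
  exact τ.fpf_U' b (inv_ne_zero ha) (by rwa [ne_eq, inv_eq_one]) hu h2

/-- an odd order element of `O₂(N(R i))` is trivial -/
theorem t_notin {a : F} (ha : a ≠ 0) (h : t a ∈ QQ (R i)) : a = 1 := by
  have h1 : orderOf (t a) = 1 := by
    obtain ⟨n, hn⟩ := O2_isPGroup _ ⟨t a, h⟩
    have hn' : (t a) ^ 2 ^ n = 1 := congrArg Subtype.val hn
    have h2 := orderOf_dvd_of_pow_eq_one hn'
    have h3 : Nat.Coprime (orderOf (t a)) (2 ^ n) := (Nat.coprime_two_right.2 (τ.odd a ha)).pow_right n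
    exact Nat.Coprime.eq_one_of_dvd h3 h2
  have h2 : t a = 1 := orderOf_eq_one_iff.1 h1
  by_contra ha1
  have h3 := τ.fpf_V ha ha1 (g := v 1 0) ((τ.v_mem _).2 ⟨1, 0, rfl⟩) (by rw [h2]; group)
  exact one_ne_zero (τ.v_inj _ _ h3).1

theorem T_reg (hij : i ≠ j) {a : HQ (R i)} (ha : a ∈ AA V R i j) (ha1 : a ≠ 1) {x : HQ (R i)} (hx : x ∈ TT τ)
    (h : x * a * x⁻¹ = a) : x = 1 := by
  obtain ⟨c, hc, rfl⟩ := (mem_TT τ).1 hx
  obtain ⟨u, hu, rfl⟩ := (mem_AA b).1 ha
  by_cases hc1 : c = 1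
  · subst hc1
    rw [pr_eq_one, τ.one]
    exact one_mem _
  · exfalso
    apply ha1
    rw [pr_eq_one]
    have h1 : pr (R i) ⟨u, U_le_N b i j hu⟩ = pr (R i) ⟨t c * u * (t c)⁻¹,
        mul_mem (mul_mem (τ.normR hc) (U_le_N b i j hu)) (inv_mem (τ.normR hc))⟩ := h.symm
    exact (U_inf_Q b hij hu).2 (fpf b τ hij hc hc1 hu ((pr_eq_pr _ _).1 h1))

theorem T_line (hij : i ≠ j) {a : HQ (R i)} (ha : a ∈ AA V R i j) {x : HQ (R i)} (hx : x ∈ TT τ) :
    a * (x * a * x⁻¹) = 1 ∨ ∃ y ∈ TT τ, a * (x * a * x⁻¹) = y * a * y⁻¹ := by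
  obtain ⟨c, hc, rfl⟩ := (mem_TT τ).1 hx
  obtain ⟨u, hu, rfl⟩ := (mem_AA b).1 ha
  by_cases h0 : 1 + c⁻¹ = 0
  · left
    have hc1 : c = 1 := by
      have h1 := τ.two b (1 : F)
      have h2 : c⁻¹ = 1 := add_left_cancel (h0.trans h1.symm)
      rw [← inv_inv c, h2, inv_one]
    subst hc1
    have e : pr (R i) ⟨t 1, τ.normR hc⟩ = 1 := by rw [pr_eq_one, τ.one]; exact one_mem _
    rw [e, one_mul, inv_one, mul_one]
    exact A_sq b hij ha
  · right
    have h1 := τ.wU' 1 c⁻¹ one_ne_zero (inv_ne_zero hc) h0 u hu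
    rw [τ.one, inv_one, one_mul, mul_one, τ.inv hc, inv_inv] at h1
    refine ⟨(pr (R i) ⟨t (1 + c⁻¹), τ.normR h0⟩)⁻¹, inv_mem ((mem_TT τ).2 ⟨_, h0, rfl⟩), ?_⟩
    have hUN := U_le_N b i j hu
    have htN := τ.normR hc
    have hsN := τ.normR h0
    have e1 : (pr (R i) ⟨t (1 + c⁻¹), τ.normR h0⟩)⁻¹ * pr (R i) ⟨u, hUN⟩ * (pr (R i) ⟨t (1 + c⁻¹), τ.normR h0⟩)⁻¹⁻¹ =
        pr (R i) ⟨(t (1 + c⁻¹))⁻¹ * u * t (1 + c⁻¹), mul_mem (mul_mem (inv_mem hsN) hUN) hsN⟩ := by
      rw [inv_inv]; rfl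
    have e2 : pr (R i) ⟨u, hUN⟩ * (pr (R i) ⟨t c, htN⟩ * pr (R i) ⟨u, hUN⟩ * (pr (R i) ⟨t c, htN⟩)⁻¹) =
        pr (R i) ⟨u * (t c * u * (t c)⁻¹), mul_mem hUN (mul_mem (mul_mem htN hUN) (inv_mem htN))⟩ := rfl
    rw [e1, e2, pr_eq_pr]
    set x := (t (1 + c⁻¹))⁻¹ * u * t (1 + c⁻¹) with hx'
    set y := u * (t c * u * (t c)⁻¹) with hy'
    have hyU : y ∈ UU V R j := mul_mem hu (t_norm_U b τ hc hu)
    have hN : y⁻¹ ∈ normalizer (DD V R : Set G) := b.NV_le_ND (cen_le_NV V (UU_le_cen j (inv_mem hyU)))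
    have h2 := conj_mem_of_normalizer hN h1
    have e3 : y⁻¹ * (x * y⁻¹) * y⁻¹⁻¹ = y⁻¹ * x := by group
    rw [e3] at h2
    exact b.W_le_Q i (mem_DD.1 h2 i)

theorem scal (hij : i ≠ j) : CompT.Scal (AA V R i j) (TT τ) where
  comm _ hs _ ht := T_comm τ hs ht
  sq _ ha := A_sq b hij ha
  norm _ ht _ ha := TA_mem b τ ht ha
  reg _ ha ha1 _ ht h := T_reg b τ hij ha ha1 ht h
  line _ ha _ ht := T_line b τ hij ha ht

/-- `|T| = q - 1` -/
theorem card_T [Finite F] : Nat.card (TT τ) + 1 = Nat.card F := by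
  have h1 : Nat.card (TT τ) = Nat.card Fˣ := by
    symm
    refine Nat.card_congr (Equiv.ofBijective (fun a : Fˣ =>
      (⟨pr (R i) ⟨t a, τ.normR a.ne_zero⟩, (mem_TT τ).2 ⟨a, a.ne_zero, rfl⟩⟩ : TT τ)) ⟨?_, ?_⟩)
    · intro a c hac
      have h2 : pr (R i) ⟨t a, τ.normR a.ne_zero⟩ = pr (R i) ⟨t c, τ.normR c.ne_zero⟩ := congrArg Subtype.val hac
      have h3 := (pr_eq_pr _ _).1 h2
      have h4 : (t (a : F))⁻¹ * t (c : F) = t ((a : F)⁻¹ * c) := by
        rw [τ.mul _ _ (inv_ne_zero a.ne_zero) c.ne_zero, τ.inv a.ne_zero]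
      rw [h4] at h3
      have h5 := t_notin b τ (mul_ne_zero (inv_ne_zero a.ne_zero) c.ne_zero) h3
      apply Units.ext
      rw [inv_mul_eq_one₀ a.ne_zero] at h5
      exact h5
    · rintro ⟨x, hx⟩
      obtain ⟨a, ha, rfl⟩ := (mem_TT τ).1 hx
      exact ⟨Units.mk0 a ha, rfl⟩
  rw [h1, Nat.card_units]
  have : 0 < Nat.card F := Nat.card_pos
  omega

/-- `A = [A, x]` for every `1 ≠ x ∈ T` -/
theorem A_gen (hij : i ≠ j) {a : F} (ha : a ≠ 0) (ha1 : a ≠ 1) {x : HQ (R i)} (hx : x ∈ AA V R i j) :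
    ∃ y ∈ AA V R i j, x = y⁻¹ * (pr (R i) ⟨t a, τ.normR ha⟩ * y * (pr (R i) ⟨t a, τ.normR ha⟩)⁻¹) := by
  obtain ⟨u, hu, rfl⟩ := (mem_AA b).1 hx
  obtain ⟨u', hu', h⟩ := τ.exists_comm b ha ha1 hu
  have hUN := U_le_N b i j hu
  have hUN' := U_le_N b i j hu'
  have htN := τ.normR ha
  refine ⟨pr (R i) ⟨u', hUN'⟩, (mem_AA b).2 ⟨u', hu', rfl⟩, ?_⟩
  have hc := (scal b τ hij)
  have hA' : pr (R i) ⟨u', hUN'⟩ ∈ AA V R i j := (mem_AA b).2 ⟨u', hu', rfl⟩
  have hT : pr (R i) ⟨t a, htN⟩ ∈ TT τ := (mem_TT τ).2 ⟨a, ha, rfl⟩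
  have e1 : pr (R i) ⟨u, hUN⟩ = pr (R i) ⟨t a * u' * (t a)⁻¹ * u'⁻¹,
      mul_mem (mul_mem (mul_mem htN hUN') (inv_mem htN)) (inv_mem hUN')⟩ := by
    symm
    rw [pr_eq_pr]
    set y := t a * u' * (t a)⁻¹ * u'⁻¹ with hy
    have hyU : y ∈ UU V R j := mul_mem (t_norm_U b τ ha hu') (inv_mem hu')
    have hN : y⁻¹ ∈ normalizer (DD V R : Set G) := b.NV_le_ND (cen_le_NV V (UU_le_cen j (inv_mem hyU)))
    have h2 := conj_mem_of_normalizer hN h
    have e3 : y⁻¹ * (u * y⁻¹) * y⁻¹⁻¹ = y⁻¹ * u := by group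
    rw [e3] at h2
    exact b.W_le_Q i (mem_DD.1 h2 i)
  have e2 : pr (R i) ⟨t a * u' * (t a)⁻¹ * u'⁻¹,
      mul_mem (mul_mem (mul_mem htN hUN') (inv_mem htN)) (inv_mem hUN')⟩ =
      pr (R i) ⟨t a, htN⟩ * pr (R i) ⟨u', hUN'⟩ * (pr (R i) ⟨t a, htN⟩)⁻¹ * (pr (R i) ⟨u', hUN'⟩)⁻¹ := rfl
  rw [e1, e2]
  -- `A` is commutative
  have hcomm : ∀ x ∈ AA V R i j, ∀ y ∈ AA V R i j, x * y = y * x := by
    intro x hx y hy
    have h1 := hc.sq _ (mul_mem hx hy)
    have h2 : (x * y)⁻¹ = x * y := inv_eq_of_mul_eq_one_left h1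
    rw [mul_inv_rev, inv_eq_of_mul_eq_one_left (hc.sq x hx), inv_eq_of_mul_eq_one_left (hc.sq y hy)] at h2
    exact h2.symm
  exact hcomm _ (hc.norm _ hT _ hA') _ (inv_mem hA')

end tor

/-! ### The Sylow subgroup -/

section syl

variable [Finite G] (b : BT V R) (τ : TorD V R i j v t) (C : Crd V R i j v w1 w2) (S₁ : Sylow 2 G)

/-- `S₁` contains every 2-subgroup normalised by `N(V)` -/
theorem le_sylow_of_normal {N P : Subgroup G} (hS : (S₁ : Subgroup G) ≤ N) (hP : P ≤ N) (h2 : IsPGroup 2 P)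
    (hn : ∀ g ∈ N, ∀ x ∈ P, g * x * g⁻¹ ∈ P) : P ≤ S₁ := by
  have h1 : P ≤ O2 N := le_O2_of_normal hP h2 hn
  intro x hx
  obtain ⟨y, hy, rfl⟩ := h1 hx
  exact (Lib.Cores.pCore_le_sylow (S₁.subtype hS) hy : y ∈ (S₁ : Subgroup G).subgroupOf _)

include b

theorem Y_isPGroup : IsPGroup 2 (YY V R) := by
  intro y
  refine ⟨2, Subtype.ext ?_⟩
  change (y : G) ^ (2 ^ 2) = 1
  have h1 := b.Y_sq y.2
  have h2 := b.D_sq h1
  rw [show (2 ^ 2 : ℕ) = 2 * 2 from rfl, pow_mul, pow_two, pow_two]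
  exact h2

theorem Y_le_sylow (hV : (S₁ : Subgroup G) ≤ normalizer (V : Set G)) : YY V R ≤ S₁ :=
  le_sylow_of_normal S₁ hV Y_le_NV (Y_isPGroup b) fun _ hg _ hx => conj_mem_of_normalizer (b.NV_le_NY hg) hx

theorem W_le_sylow (hR : (S₁ : Subgroup G) ≤ normalizer (R i : Set G)) : WW V (R i) ≤ S₁ :=
  (b.W_le_Q i).trans (QQ_le_sylow S₁ hR)

/-- `A ≤ S` -/
theorem A_le_S (i j : ι) (hV : (S₁ : Subgroup G) ≤ normalizer (V : Set G)) : AA V R i j ≤ SS R i S₁ := by
  refine im_mono (le_inf ((UU_le_YY j).trans (Y_le_sylow b S₁ hV)) ?_)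
  exact (UU_le_cen j).trans (centralizer_le (b.R_le i))

include C

/-- `S₁ ⊓ C(R i) = (S₁ ⊓ C(V)) W i` -/
theorem S_eq (hV : (S₁ : Subgroup G) ≤ normalizer (V : Set G)) (hR : (S₁ : Subgroup G) ≤ normalizer (R i : Set G)) :
    (S₁ : Subgroup G) ⊓ centralizer (R i : Set G) = ((S₁ : Subgroup G) ⊓ centralizer (V : Set G)) ⊔ WW V (R i) := by
  have hWR : WW V (R i) ≤ centralizer (R i : Set G) := (b.W_le_Q i).trans (Q_le_C b i)
  apply le_antisymm
  · intro g hg
    obtain ⟨w, hw, hwg⟩ := cen_fact b C (P := (S₁ : Subgroup G) ⊓ centralizer (R i : Set G))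
      (S₁.isPGroup'.to_le inf_le_left) (inf_le_left.trans hV) inf_le_right
      (le_inf (W_le_sylow b S₁ hR) hWR) hg
    have e : g = w⁻¹ * (w * g) := by group
    rw [e]
    refine mul_mem (mem_sup_right (inv_mem hw)) (mem_sup_left (mem_inf.2 ⟨?_, hwg⟩))
    exact mul_mem (W_le_sylow b S₁ hR hw) (mem_inf.1 hg).1
  · refine sup_le (inf_le_inf_left _ (centralizer_le (b.R_le i))) (le_inf (W_le_sylow b S₁ hR) hWR)

include τ

/-- `T` normalises `S` -/
theorem TS_mem (hV : (S₁ : Subgroup G) ≤ normalizer (V : Set G)) (hR : (S₁ : Subgroup G) ≤ normalizer (R i : Set G))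
    {x s : HQ (R i)} (hx : x ∈ TT τ) (hs : s ∈ SS R i S₁) : x * s * x⁻¹ ∈ SS R i S₁ := by
  obtain ⟨a, ha, rfl⟩ := (mem_TT τ).1 hx
  obtain ⟨g, hg, hgS, rfl⟩ := mem_im.1 hs
  have h1 := X_norm_sup b (P := (S₁ : Subgroup G) ⊓ centralizer (V : Set G)) inf_le_right
    (le_inf (Y_le_sylow b S₁ hV) YY_le_cen) i (τ.memX a ha) (τ.normR ha)
  rw [← S_eq b C S₁ hV hR] at h1
  exact mem_im.2 ⟨_, _, conj_mem_of_normalizer h1 hgS, rfl⟩

/-- `[S, T] ≤ A` -/
theorem ST_mem (hij : i ≠ j) (hV : (S₁ : Subgroup G) ≤ normalizer (V : Set G))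
    (hR : (S₁ : Subgroup G) ≤ normalizer (R i : Set G))
    {x s : HQ (R i)} (hx : x ∈ TT τ) (hs : s ∈ SS R i S₁) : s⁻¹ * (x * s * x⁻¹) ∈ AA V R i j := by
  obtain ⟨a, ha, rfl⟩ := (mem_TT τ).1 hx
  obtain ⟨g, hg, hgS, rfl⟩ := mem_im.1 hs
  rw [S_eq b C S₁ hV hR] at hgS
  have hle : (S₁ : Subgroup G) ⊓ centralizer (V : Set G) ⊔ WW V (R i) ≤ centralizer (V : Set G) ⊔ WW V (R i) :=
    sup_le (inf_le_right.trans le_sup_left) le_sup_right
  have hgS' : g ∈ centralizer (V : Set G) ⊔ WW V (R i) := hle hgS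
  have h1 := comm_X_sup b i (inv_mem hgS') (τ.memX a ha) (τ.normR ha)
  rw [Y_sup_W b hij] at h1
  have htN := τ.normR ha
  have e : (pr (R i) ⟨g, hg⟩)⁻¹ * (pr (R i) ⟨t a, htN⟩ * pr (R i) ⟨g, hg⟩ * (pr (R i) ⟨t a, htN⟩)⁻¹) =
      pr (R i) ⟨g⁻¹ * t a * g⁻¹⁻¹ * (t a)⁻¹, mul_mem (mul_mem (mul_mem (inv_mem hg) htN) (inv_mem (inv_mem hg)))
        (inv_mem htN)⟩ := by
    have e1 : (⟨g⁻¹ * t a * g⁻¹⁻¹ * (t a)⁻¹, mul_mem (mul_mem (mul_mem (inv_mem hg) htN) (inv_mem (inv_mem hg)))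
        (inv_mem htN)⟩ : ↥(normalizer (R i : Set G))) = (⟨g, hg⟩)⁻¹ * (⟨t a, htN⟩ * ⟨g, hg⟩ * (⟨t a, htN⟩)⁻¹) := by
      apply Subtype.ext
      change g⁻¹ * t a * g⁻¹⁻¹ * (t a)⁻¹ = g⁻¹ * (t a * g * (t a)⁻¹)
      group
    rw [e1]; rfl
  rw [e]
  -- `U j ⊔ W i` maps onto `A`
  have h2 : im (R i) (UU V R j ⊔ WW V (R i)) = AA V R i j := by
    rw [im_sup (U_le_N b i j) (b.W_le_N i), im_eq_bot (b.W_le_Q i), sup_bot_eq]
    rfl
  rw [← h2]
  exact pr_mem_im _ h1

omit τ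

theorem S_eq_im (hV : (S₁ : Subgroup G) ≤ normalizer (V : Set G)) (hR : (S₁ : Subgroup G) ≤ normalizer (R i : Set G)) :
    SS R i S₁ = im (R i) ((S₁ : Subgroup G) ⊓ centralizer (V : Set G)) := by
  unfold SS
  rw [S_eq b C S₁ hV hR, im_sup (inf_le_right.trans (b.cen_le_N i)) (b.W_le_N i), im_eq_bot (b.W_le_Q i),
    sup_bot_eq]

/-- `S` normalises `A` -/
theorem SA_mem (hV : (S₁ : Subgroup G) ≤ normalizer (V : Set G)) (hR : (S₁ : Subgroup G) ≤ normalizer (R i : Set G))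
    {s a : HQ (R i)} (hs : s ∈ SS R i S₁) (ha : a ∈ AA V R i j) : s * a * s⁻¹ ∈ AA V R i j := by
  rw [S_eq_im b C S₁ hV hR] at hs
  obtain ⟨g, hg, hgS, rfl⟩ := mem_im.1 hs
  obtain ⟨u, hu, rfl⟩ := (mem_AA b).1 ha
  exact (mem_AA b).2 ⟨_, conj_mem_of_normalizer (b.cen_le_NU j (mem_inf.1 hgS).2) hu, rfl⟩

include τ

/-- the hypotheses of (T1) -/
theorem set0 (hij : i ≠ j) (hV : (S₁ : Subgroup G) ≤ normalizer (V : Set G))
    (hR : (S₁ : Subgroup G) ≤ normalizer (R i : Set G)) : LemmaT.Set0 (SS R i S₁) (AA V R i j) (TT τ) where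
  sq _ ha := A_sq b hij ha
  SA _ hs _ ha := SA_mem b C S₁ hV hR hs ha
  TA _ ht _ ha := TA_mem b τ ht ha
  free x hx hx1 a ha h := by
    by_contra ha1
    exact hx1 (T_reg b τ hij ha ha1 hx h)

theorem exists_T [Finite F] (hF : 4 ≤ Nat.card F) : ∃ x ∈ TT τ, x ≠ 1 := by
  by_contra hcon
  push Not at hcon
  have h1 : TT τ = ⊥ := (Subgroup.eq_bot_iff_forall _).2 hcon
  have h2 := card_T b τ
  rw [h1, Subgroup.card_bot] at h2
  omega

omit τ C

/-- `S` is the intersection of a Sylow 2-subgroup of `H` with `H⁰` -/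
theorem exists_P (hR : (S₁ : Subgroup G) ≤ normalizer (R i : Set G)) :
    ∃ P : Sylow 2 (HQ (R i)), (P : Subgroup (HQ (R i))) ⊓ H0 R i = SS R i S₁ := by
  obtain ⟨P, hP⟩ := exists_sylow S₁ hR
  refine ⟨P, ?_⟩
  rw [hP]
  exact (im_inf (QQ_le_sylow S₁ hR) (Q_le_C b i)).symm

omit b in
theorem S_isPGroup : IsPGroup 2 (SS R i S₁) := im_isPGroup (S₁.isPGroup'.to_le inf_le_left)

omit b in
theorem S_le_H0 : SS R i S₁ ≤ H0 R i := im_mono inf_le_right

/-- `S ⊓ K` is a Sylow 2-subgroup of every subnormal subgroup `K ≤ H⁰` -/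
theorem syl (hR : (S₁ : Subgroup G) ≤ normalizer (R i : Set G)) {K : Subgroup (HQ (R i))} (hK : K.IsSubnormal)
    (hK0 : K ≤ H0 R i) {P : Subgroup (HQ (R i))} (hPK : P ≤ K) (hP : IsPGroup 2 P) (hSP : SS R i S₁ ⊓ K ≤ P) :
    P ≤ SS R i S₁ := by
  obtain ⟨P₀, hP₀⟩ := exists_P b S₁ hR
  obtain ⟨Q, hQ⟩ := Cfsg.Agent.S0542.result 2 K hK P₀
  have h1 : (Q : Subgroup K) ≤ P.subgroupOf K := by
    rw [hQ]
    intro x hx
    refine mem_subgroupOf.2 (hSP ?_)
    rw [← hP₀]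
    exact ⟨⟨mem_subgroupOf.1 hx, hK0 x.2⟩, x.2⟩
  have h2 : P.subgroupOf K = Q := Q.is_maximal' (hP.comap_of_injective _ K.subtype_injective) h1
  intro x hx
  have h3 : (⟨x, hPK hx⟩ : K) ∈ (Q : Subgroup K) := by
    rw [← h2]
    exact mem_subgroupOf.2 hx
  rw [hQ] at h3
  rw [← hP₀]
  exact ⟨mem_subgroupOf.1 h3, hK0 (hPK hx)⟩

include τ C

/-- **(T1)** in `H = N(R i)/O₂(N(R i))` -/
theorem A_norm [Finite F] (hij : i ≠ j) (hF : 4 ≤ Nat.card F) (hV : (S₁ : Subgroup G) ≤ normalizer (V : Set G))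
    (hR : (S₁ : Subgroup G) ≤ normalizer (R i : Set G)) {K : Subgroup (HQ (R i))} (hK : Cfsg.IsComponent K)
    (hK0 : K ≤ H0 R i) (h2 : 2 ∣ Nat.card K) : AA V R i j ≤ normalizer (K : Set (HQ (R i))) := by
  obtain ⟨P, hP⟩ := exists_P b S₁ hR
  refine (set0 b τ C S₁ hij hV hR).normalises_component (exists_T b τ C hF) (pCore_HQ _) P hK h2 ?_
  intro x hx hxK
  rw [← hP]
  exact ⟨hx, hK0 hxK⟩

/-- the centre of a component has odd order -/
theorem cen_odd {K : Subgroup (HQ (R i))} (hK : Cfsg.IsComponent K) {x : HQ (R i)} (hx : x ∈ K)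
    (hc : ∀ y ∈ K, x * y = y * x) : Odd (orderOf x) := by
  have h1 := LemmaT.comp_of_isComponent hK (pCore_HQ (R i))
  rcases Nat.even_or_odd (orderOf x) with h | h
  · exfalso
    obtain ⟨k, hk⟩ := h
    have hk0 : 0 < k := by
      have := orderOf_pos x
      omega
    have h2 : x ^ k * x ^ k = 1 := by rw [← pow_add, ← hk]; exact pow_orderOf_eq_one x
    have h3 : x ^ k = 1 := by
      refine h1.cen _ (K.pow_mem hx k) h2 ?_
      intro y hy
      exact (show Commute x y from hc y hy).pow_left k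
    have h4 := orderOf_dvd_of_pow_eq_one h3
    have h5 := Nat.le_of_dvd hk0 h4
    omega
  · exact h

theorem S_inf_ne_bot (hR : (S₁ : Subgroup G) ≤ normalizer (R i : Set G)) {K : Subgroup (HQ (R i))}
    (hK : Cfsg.IsComponent K) (hK0 : K ≤ H0 R i) (h2 : 2 ∣ Nat.card K) : SS R i S₁ ⊓ K ≠ ⊥ := by
  obtain ⟨P, hP⟩ := exists_P b S₁ hR
  obtain ⟨x, hxK, hxP, hx1, -⟩ := LemmaT.exists_involution P hK.1 h2
  intro h
  apply hx1
  have h3 : x ∈ SS R i S₁ ⊓ K := ⟨by rw [← hP]; exact ⟨hxP, hK0 hxK⟩, hxK⟩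
  rw [h] at h3
  exact mem_bot.1 h3

/-- `S ⊓ K` has no element `≠ 1` centralising `K` -/
theorem S_inf_cen {K : Subgroup (HQ (R i))} (hK : Cfsg.IsComponent K) {x : HQ (R i)} (hx : x ∈ SS R i S₁ ⊓ K)
    (hc : ∀ y ∈ K, x * y = y * x) : x = 1 := by
  have h1 := cen_odd b τ C hK (mem_inf.1 hx).2 hc
  obtain ⟨n, hn⟩ := S_isPGroup S₁ ⟨x, (mem_inf.1 hx).1⟩
  have hn' : x ^ 2 ^ n = 1 := congrArg Subtype.val hn
  have h2 := orderOf_dvd_of_pow_eq_one hn'
  have h3 : Nat.Coprime (orderOf x) (2 ^ n) := (Nat.coprime_two_right.2 h1).pow_right n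
  exact orderOf_eq_one_iff.1 (Nat.Coprime.eq_one_of_dvd h3 h2)

/-- **(T2), combinatorics** in `H` -/
theorem torus_or_three [Finite F] (hij : i ≠ j) (hF : 4 ≤ Nat.card F)
    (hV : (S₁ : Subgroup G) ≤ normalizer (V : Set G)) (hR : (S₁ : Subgroup G) ≤ normalizer (R i : Set G))
    {K : Subgroup (HQ (R i))} (hK : Cfsg.IsComponent K) (hK0 : K ≤ H0 R i) (h2 : 2 ∣ Nat.card K) :
    TT τ ≤ normalizer (K : Set (HQ (R i))) ∨ CompT.Three (AA V R i j) (TT τ) K (SS R i S₁ ⊓ K) := by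
  refine CompT.torus_component (scal b τ hij) ?_ hK (S_inf_ne_bot b τ C S₁ hR hK hK0 h2)
    (fun x hx => S_inf_cen b τ C S₁ hK hx) (fun x hx y hy => ST_mem b τ C S₁ hij hV hR hy hx)
  have := card_T b τ
  omega

/-- **(T3)**: the structure `CompB.Pre` for a component normalised by `T` -/
theorem pre [Finite F] (hij : i ≠ j) (hF : 4 ≤ Nat.card F)
    (hV : (S₁ : Subgroup G) ≤ normalizer (V : Set G)) (hR : (S₁ : Subgroup G) ≤ normalizer (R i : Set G))
    {K : Subgroup (HQ (R i))} (hK : Cfsg.IsComponent K) (hK0 : K ≤ H0 R i) (h2 : 2 ∣ Nat.card K)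
    (hT : TT τ ≤ normalizer (K : Set (HQ (R i)))) : CompB.Pre (SS R i S₁) (AA V R i j) (TT τ) K where
  S2 := S_isPGroup S₁
  AS := A_le_S b S₁ i j hV
  A2 _ ha := A_sq b hij ha
  TA _ ht _ ha := TA_mem b τ ht ha
  TS _ ht _ hs := TS_mem b τ C S₁ hV hR ht hs
  TK _ ht _ hx := conj_mem_of_normalizer (hT ht) hx
  ST _ ht _ hs := ST_mem b τ C S₁ hij hV hR ht hs
  AT := by
    obtain ⟨x, hx, hx1⟩ := exists_T b τ C hF
    obtain ⟨a, ha, rfl⟩ := (mem_TT τ).1 hx
    have ha1 : a ≠ 1 := by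
      rintro rfl
      apply hx1
      rw [pr_eq_one, τ.one]
      exact one_mem _
    intro y hy
    obtain ⟨y', hy', rfl⟩ := A_gen b τ hij ha ha1 hy
    exact subset_closure ⟨y', hy', _, hx, rfl⟩
  AK _ ha _ hx := conj_mem_of_normalizer (A_norm b τ C S₁ hij hF hV hR hK hK0 h2 ha) hx
  syl _ hPK hP hSP := syl b S₁ hR hK.1 hK0 hPK hP hSP
  zodd _ hx hc := cen_odd b τ C hK hx hc

end syl

end real

end Cfsg.Agent.Omega.Lie.Quot

end

section


/-!
# NODE LIE: the end of the component theorem, abstract (bb OMEGA #11541 (5), `A ≤ E(H⁰)`)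

`H` finite, `O₂(H) = 1`, `H⁰` normal, `A ≤ H⁰` a 2-group; `A` centralises every nilpotent normal subgroup `N ≤ H⁰`
of `H` of odd order, and acts on every component `K ≤ H⁰` as `A ⊓ K`.  Then `A` is contained in the product of
the `A ⊓ K`, and `A ≤ [N, N]` for `N = ⟨A^H⟩`.
-/

set_option autoImplicit false

namespace Cfsg.Agent.Omega.Lie.Layer

open Subgroup Cfsg Cfsg.Agent.Omega.Lie.CompB

variable {H : Type*} [Group H]

/-- `A` acts on `K` as `A ⊓ K` -/
def InnA (A K : Subgroup H) : Prop := ∀ a ∈ A, ∃ b ∈ A ⊓ K, Acts K a b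

theorem InnA.of_comm {A K : Subgroup H} (h : ∀ a ∈ A, ∀ x ∈ K, a * x = x * a) : InnA A K := fun a ha =>
  ⟨1, one_mem _, fun x hx => by rw [h a ha x hx]; group⟩

theorem InnA.of_hyp {S A T K : Subgroup H} (h : CompB.Hyp S A T K) : InnA A K := fun _ ha => h.acts ha

/-- the components in `H⁰` -/
def Cps (H0 K : Subgroup H) : Prop := IsComponent K ∧ K ≤ H0

/-- elements of different components commute -/
theorem comm_of_ne [Finite H] {K L : Subgroup H} (hK : IsComponent K) (hL : IsComponent L) (hne : K ≠ L) {x y : H}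
    (hx : x ∈ K) (hy : y ∈ L) : x * y = y * x :=
  (mem_centralizer_iff.1 (SignalizersComponents.Components.component_le_centralizer_of_ne hK hL hne hx) y hy).symm

/-- correcting `a` on finitely many components -/
theorem exists_mul [Finite H] {A : Subgroup H} (s : Finset (Subgroup H)) (hs : ∀ K ∈ s, IsComponent K)
    (hI : ∀ K ∈ s, InnA A K) {a : H} (ha : a ∈ A) :
    ∃ b ∈ (⨆ K ∈ s, A ⊓ K), ∀ K ∈ s, ∀ x ∈ K, b⁻¹ * a * x = x * (b⁻¹ * a) := by
  classical
  induction s using Finset.induction_on with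
  | empty => exact ⟨1, one_mem _, fun K hK => absurd hK (Finset.notMem_empty K)⟩
  | insert K s hK ih =>
    obtain ⟨b, hb, hb'⟩ := ih (fun L hL => hs L (Finset.mem_insert_of_mem hL))
      (fun L hL => hI L (Finset.mem_insert_of_mem hL))
    have hbA : b ∈ A := by
      have : (⨆ L ∈ s, A ⊓ L) ≤ A := iSup₂_le fun L _ => inf_le_left
      exact this hb
    have ha' : b⁻¹ * a ∈ A := mul_mem (inv_mem hbA) ha
    obtain ⟨c, hc, hc'⟩ := hI K (Finset.mem_insert_self K s) _ ha'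
    refine ⟨b * c, mul_mem ?_ ?_, ?_⟩
    · have : (⨆ L ∈ s, A ⊓ L) ≤ ⨆ L ∈ insert K s, A ⊓ L :=
        iSup₂_le fun L hL => le_iSup₂ (f := fun (L : Subgroup H) (_ : L ∈ insert K s) => A ⊓ L) L
          (Finset.mem_insert_of_mem hL)
      exact this hb
    · exact (le_iSup₂ (f := fun (L : Subgroup H) (_ : L ∈ insert K s) => A ⊓ L) K
        (Finset.mem_insert_self K s)) hc
    · intro L hL x hx
      rcases Finset.mem_insert.1 hL with rfl | hL
      · have h1 := hc' x hx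
        calc (b * c)⁻¹ * a * x = c⁻¹ * (b⁻¹ * a * x * (b⁻¹ * a)⁻¹) * (b⁻¹ * a) := by group
          _ = c⁻¹ * (c * x * c⁻¹) * (b⁻¹ * a) := by rw [h1]
          _ = x * ((b * c)⁻¹ * a) := by group
      · have hne : K ≠ L := by rintro rfl; exact hK hL
        have h1 := hb' L hL x hx
        have h2 := comm_of_ne (hs K (Finset.mem_insert_self K s)) (hs L (Finset.mem_insert_of_mem hL)) hne
          (inv_mem hc.2) hx
        calc (b * c)⁻¹ * a * x = c⁻¹ * (b⁻¹ * a * x) := by group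
          _ = (c⁻¹ * x) * (b⁻¹ * a) := by rw [h1]; group
          _ = x * ((b * c)⁻¹ * a) := by rw [h2]; group

variable {A H0 : Subgroup H}

/-- **`A ≤ ∏ (A ⊓ K)`** -/
theorem le_iSup_inf [Finite H] (hO : pCore 2 H = ⊥) (hn : H0.Normal) (hA0 : A ≤ H0) (hA2 : ∀ a ∈ A, a * a = 1)
    (hF : ∀ N : Subgroup H, N.Normal → N ≤ H0 → Group.IsNilpotent N → Odd (Nat.card N) →
      ∀ x ∈ N, ∀ a ∈ A, a * x = x * a)
    (hI : ∀ K, IsComponent K → K ≤ H0 → InnA A K) :
    A ≤ ⨆ K ∈ {K : Subgroup H | Cps H0 K}, A ⊓ K := by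
  classical
  have hfact : Fact (Nat.Prime 2) := ⟨Nat.prime_two⟩
  -- the Fitting subgroup has odd order
  have hFn : (fittingSubgroup H).Normal := Lib.Cores.fittingSubgroup_normal
  have hFnil : Group.IsNilpotent (fittingSubgroup H) := Lib.Cores.fittingSubgroup_isNilpotent
  have hsmall : ∀ z ∈ fittingSubgroup H, ∀ k : ℕ, z ^ 2 ^ k = 1 → z = 1 := by
    intro z hz k hk
    have := Lib.GenFitting.mem_pCore_of_mem_fitting (p := 2) hz hk
    rw [hO] at this
    exact mem_bot.1 this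
  have hodd : ∀ N : Subgroup H, N ≤ fittingSubgroup H → Odd (Nat.card N) := by
    intro N hN
    rw [← Nat.not_even_iff_odd, even_iff_two_dvd]
    intro h2
    obtain ⟨x, hx⟩ := exists_prime_orderOf_dvd_card' 2 h2
    have h3 : (x : H) = 1 := by
      refine hsmall _ (hN x.2) 1 ?_
      have h4 := pow_orderOf_eq_one x
      rw [hx] at h4
      rw [pow_one]
      exact congrArg Subtype.val h4
    have h5 : x = 1 := Subtype.ext h3
    rw [h5, orderOf_one] at hx
    exact absurd hx (by norm_num)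
  -- `A` centralises `F(H)`
  have hAF : ∀ x ∈ fittingSubgroup H, ∀ a ∈ A, a * x = x * a := by
    intro x hx a ha
    have hNn : (fittingSubgroup H ⊓ H0).Normal := inferInstance
    have hNnil : Group.IsNilpotent (fittingSubgroup H ⊓ H0 : Subgroup H) := by
      have h1 : Group.IsNilpotent ((fittingSubgroup H ⊓ H0).subgroupOf (fittingSubgroup H)) := inferInstance
      exact Group.nilpotent_of_mulEquiv (subgroupOfEquivOfLe (inf_le_left : fittingSubgroup H ⊓ H0 ≤ fittingSubgroup H))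
    have hc : a * x * a⁻¹ * x⁻¹ ∈ fittingSubgroup H ⊓ H0 := by
      refine mem_inf.2 ⟨mul_mem (hFn.conj_mem x hx a) (inv_mem hx), ?_⟩
      have e : a * x * a⁻¹ * x⁻¹ = a * (x * a⁻¹ * x⁻¹) := by group
      rw [e]
      exact mul_mem (hA0 ha) (hn.conj_mem _ (inv_mem (hA0 ha)) x)
    have h1 := hF _ hNn inf_le_right hNnil (hodd _ inf_le_left) _ hc a ha
    set c := a * x * a⁻¹ * x⁻¹ with hcdef
    have h2 : c * c = 1 := by
      have hai : a⁻¹ = a := inv_eq_of_mul_eq_one_left (hA2 a ha)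
      have e1 : a * x * a⁻¹ = c * x := by rw [hcdef]; group
      have e2 : a * (a * x * a⁻¹) * a⁻¹ = x := by
        calc a * (a * x * a⁻¹) * a⁻¹ = (a * a) * x * (a * a)⁻¹ := by group
          _ = x := by rw [hA2 a ha]; group
      rw [e1] at e2
      have e3 : a * (c * x) * a⁻¹ = c * (c * x) := by
        calc a * (c * x) * a⁻¹ = (a * c) * x * a⁻¹ := by group
          _ = c * (a * x * a⁻¹) := by rw [h1]; group
          _ = c * (c * x) := by rw [e1]
      rw [e3] at e2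
      have e4 : c * c * x = x := by rw [mul_assoc]; exact e2
      exact mul_eq_right.1 e4
    have h3 : c = 1 := hsmall c hc.1 1 (by rw [pow_one, pow_two]; exact h2)
    rw [hcdef, mul_inv_eq_one, mul_inv_eq_iff_eq_mul] at h3
    exact h3
  -- the finite set of components in `H0`
  intro a ha
  have hfin : {K : Subgroup H | Cps H0 K}.Finite := Set.toFinite _
  obtain ⟨b, hb, hb'⟩ := exists_mul (A := A) hfin.toFinset (fun K hK => (hfin.mem_toFinset.1 hK).1)
    (fun K hK => hI K (hfin.mem_toFinset.1 hK).1 (hfin.mem_toFinset.1 hK).2) ha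
  have hbS : b ∈ ⨆ K ∈ {K : Subgroup H | Cps H0 K}, A ⊓ K := by
    have : (⨆ K ∈ hfin.toFinset, A ⊓ K) ≤ ⨆ K ∈ {K : Subgroup H | Cps H0 K}, A ⊓ K :=
      iSup₂_le fun K hK => le_iSup₂ (f := fun (K : Subgroup H) (_ : K ∈ {K : Subgroup H | Cps H0 K}) => A ⊓ K) K
        (hfin.mem_toFinset.1 hK)
    exact this hb
  have hbA : b ∈ A := by
    have : (⨆ K ∈ {K : Subgroup H | Cps H0 K}, A ⊓ K) ≤ A := iSup₂_le fun L _ => inf_le_left
    exact this hbS
  have hcA : b⁻¹ * a ∈ A := mul_mem (inv_mem hbA) ha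
  -- `c` centralises the layer
  have hc1 : ∀ K, IsComponent K → ∀ x ∈ K, b⁻¹ * a * x = x * (b⁻¹ * a) := by
    intro K hK x hx
    by_cases hK0 : K ≤ H0
    · exact hb' K (hfin.mem_toFinset.2 ⟨hK, hK0⟩) x hx
    · rcases SignalizersComponents.Components.component_le_or_commutator_eq_bot hK
        (H := H0) (Normal.isSubnormal hn) with h | h
      · exact absurd h hK0
      · have h1 := commutator_eq_bot_iff_le_centralizer.mp h hx
        exact mem_centralizer_iff.1 h1 _ (hA0 hcA)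
  have hc2 : b⁻¹ * a ∈ centralizer (generalizedFittingSubgroup H : Set H) := by
    have h1 : generalizedFittingSubgroup H ≤ centralizer {b⁻¹ * a} := by
      rw [Lib.GenFitting.genFitting_def, Lib.GenFitting.layer_def]
      refine sup_le (sSup_le fun K hK x hx => ?_) fun x hx => ?_
      · rw [mem_centralizer_singleton_iff]
        exact (hc1 K hK x hx).symm
      · rw [mem_centralizer_singleton_iff]
        exact (hAF x hx _ hcA).symm
    rw [mem_centralizer_iff]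
    intro x hx
    exact mem_centralizer_singleton_iff.1 (h1 hx)
  have hZn : (centralizer (generalizedFittingSubgroup H : Set H)).Normal := by
    have := Lib.GenFitting.genFitting_normal (G := H)
    infer_instance
  have hZc : IsMulCommutative (centralizer (generalizedFittingSubgroup H : Set H)) := by
    refine ⟨⟨fun x y => Subtype.ext ?_⟩⟩
    exact (mem_centralizer_iff.1 x.2 y (Lib.GenFitting.centralizer_genFitting_le y.2)).symm
  have hZnil : Group.IsNilpotent (centralizer (generalizedFittingSubgroup H : Set H)) := by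
    let _ : CommGroup (centralizer (generalizedFittingSubgroup H : Set H)) :=
      { (inferInstance : Group (centralizer (generalizedFittingSubgroup H : Set H))) with
        mul_comm := hZc.1.1 }
    infer_instance
  have h3 := Lib.GenFitting.mem_pCore_of_mem_nilpotent_normal (p := 2) hZn hZnil hc2 (k := 1)
    (by rw [pow_one, pow_two]; exact hA2 _ hcA)
  rw [hO] at h3
  have h4 : b = a := inv_mul_eq_one.1 (mem_bot.1 h3)
  rw [← h4]
  exact hbS

/-- a component meeting `A` is contained in `⟨A^H⟩` -/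
theorem le_normalClosure [Finite H] (hO : pCore 2 H = ⊥) (hA2 : ∀ a ∈ A, a * a = 1) {K : Subgroup H}
    (hK : IsComponent K) (hne : A ⊓ K ≠ ⊥) : K ≤ normalClosure (A : Set H) := by
  have hfact : Fact (Nat.Prime 2) := ⟨Nat.prime_two⟩
  have hn : ((normalClosure (A : Set H)).subgroupOf K).Normal := inferInstance
  rcases SignalizersComponents.Components.quasisimple_normal hK.2 _ hn with h | h
  · exact subgroupOf_eq_top.1 h
  · exfalso
    apply hne
    rw [eq_bot_iff]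
    rintro x ⟨hxA, hxK⟩
    have h1 : (⟨x, hxK⟩ : K) ∈ center K := h (mem_subgroupOf.2 (subset_normalClosure hxA))
    -- the subgroup generated by `x` is subnormal
    let Z : Subgroup K := zpowers ⟨x, hxK⟩
    have hZc : Z ≤ center K := zpowers_le.2 h1
    have hZn : Z.Normal := ⟨fun z hz y => by
      have h1 := mem_center_iff.1 (hZc hz) y
      have h2 : y * z * y⁻¹ = z := by rw [h1]; group
      rwa [h2]⟩
    have hZp : IsPGroup 2 Z := by
      rw [IsPGroup.iff_card]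
      have h2 : Nat.card Z ∣ 2 := by
        rw [Nat.card_zpowers]
        exact orderOf_dvd_of_pow_eq_one (by rw [pow_two]; exact Subtype.ext (hA2 x hxA))
      rcases (Nat.dvd_prime Nat.prime_two).1 h2 with h3 | h3
      · exact ⟨0, by rw [h3, pow_zero]⟩
      · exact ⟨1, by rw [h3, pow_one]⟩
    have hZs : (Z.map K.subtype).IsSubnormal := (Normal.isSubnormal hZn).trans' hK.1
    have h2 := SignalizersComponents.CompBasic.subnormal_pGroup_le_pCore hZs (hZp.map K.subtype)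
    rw [hO] at h2
    exact h2 ⟨⟨x, hxK⟩, mem_zpowers _, rfl⟩

/-- **`A ≤ [N, N]`, `N = ⟨A^H⟩`** -/
theorem le_commutator [Finite H] (hO : pCore 2 H = ⊥) (hn : H0.Normal) (hA0 : A ≤ H0) (hA2 : ∀ a ∈ A, a * a = 1)
    (hF : ∀ N : Subgroup H, N.Normal → N ≤ H0 → Group.IsNilpotent N → Odd (Nat.card N) →
      ∀ x ∈ N, ∀ a ∈ A, a * x = x * a)
    (hI : ∀ K, IsComponent K → K ≤ H0 → InnA A K) :
    A ≤ ⁅normalClosure (A : Set H), normalClosure (A : Set H)⁆ := by
  refine (le_iSup_inf hO hn hA0 hA2 hF hI).trans (iSup₂_le fun K hK => ?_)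
  by_cases hne : A ⊓ K = ⊥
  · rw [hne]; exact bot_le
  · have h1 := le_normalClosure hO hA2 hK.1 hne
    have h2 : K ≤ ⁅K, K⁆ := by
      have hp := hK.1.2.1
      have h3 : (commutator K).map K.subtype = ⁅K, K⁆ := by
        rw [_root_.commutator_def, map_commutator, ← MonoidHom.range_eq_map, K.range_subtype]
      rw [← h3, hp.commutator_eq_top, ← MonoidHom.range_eq_map, K.range_subtype]
    exact inf_le_right.trans (h2.trans (commutator_mono h1 h1))

end Cfsg.Agent.Omega.Lie.Layer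

end

section


/-!
# NODE LIE: `⟨A^H⟩` is the product of the moved components (piece (P4) of #15373)

`H` finite, `O₂(H) = 1`, `H⁰` normal, `A ≤ H⁰` of exponent two, `Mov A H⁰ K` : `K ≤ H⁰` is a component not centralised
by `A`.  `Dat H⁰ S A T` : `A` centralises the nilpotent normal subgroups `≤ H⁰` of odd order, `CompB.Hyp S A T K` for
the moved components.

* `Dat.inn`, `Dat.inf_ne`, `Dat.inf_eq_bot`, `Dat.le_nc`: `A ⊓ K` is `≠ 1` / `= 1` for moved / unmoved `K`; `K ≤ ⟨A^H⟩`;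
* `Dat.A_le` : `A ≤ ⨆ A ⊓ K`, `K` moved; `nc_le_layer`;
* `Mov.conj` : elements normalising `A` permute the moved components;
* `Dat.nc_eq` : if the moved components are permuted by `H`, then `⟨A^H⟩ = ⨆ K` (and it is generated by the conjugates
  of `A` under itself: `Dat.nc_self`), its components are the moved ones (`Dat.mov_of_le`), `Dat.inv_of_fac` : this is
  so if `H = ⟨A^H⟩ N_H(A)`;
* `Dat.sylow_eq` : `S ⊓ ⟨A^H⟩ = ⨆ (S ⊓ K)`.
-/

set_option autoImplicit false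

namespace Cfsg.Agent.Omega.Lie.End.AHat

open Subgroup Cfsg Cfsg.Agent.Omega.Lie Cfsg.Agent.Omega.Lie.CompB Cfsg.Agent.Omega.Lie.Layer
open Cfsg.Agent.SignalizersComponents.Components

variable {H : Type*} [Group H]

/-- the moved components -/
def Mov (A H0 K : Subgroup H) : Prop := IsComponent K ∧ K ≤ H0 ∧ ∃ a ∈ A, ∃ k ∈ K, a * k ≠ k * a

/-- the conjugate of a subgroup -/
abbrev cg (h : H) (K : Subgroup H) : Subgroup H := K.map (MulAut.conj h).toMonoidHom

theorem mem_cg {h x : H} {K : Subgroup H} : x ∈ cg h K ↔ h⁻¹ * x * h ∈ K := by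
  constructor
  · rintro ⟨y, hy, rfl⟩
    have e : h⁻¹ * (h * y * h⁻¹) * h = y := by group
    change h⁻¹ * (h * y * h⁻¹) * h ∈ K
    rw [e]; exact hy
  · intro hx
    exact ⟨_, hx, by change h * (h⁻¹ * x * h) * h⁻¹ = x; group⟩

theorem cg_mul (g h : H) (K : Subgroup H) : cg (g * h) K = cg g (cg h K) := by
  ext x
  rw [mem_cg, mem_cg, mem_cg]
  have e : (g * h)⁻¹ * x * (g * h) = h⁻¹ * (g⁻¹ * x * g) * h := by group
  rw [e]

theorem cg_eq_of_norm {h : H} {K : Subgroup H} (hh : h ∈ normalizer (K : Set H)) : cg h K = K := by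
  ext x
  rw [mem_cg]
  have h1 := mem_normalizer_iff.1 (inv_mem hh) x
  rw [inv_inv] at h1
  exact h1.symm

/-- elements normalising `A` and `H⁰` permute the moved components -/
theorem Mov.conj {A H0 K : Subgroup H} (hn : H0.Normal) (hK : Mov A H0 K) {h : H}
    (hh : ∀ a ∈ A, h * a * h⁻¹ ∈ A) : Mov A H0 (cg h K) := by
  obtain ⟨h1, h2, a, ha, k, hk, hne⟩ := hK
  refine ⟨isComponent_conj h h1, ?_, h * a * h⁻¹, hh a ha, h * k * h⁻¹, ⟨k, hk, rfl⟩, fun e => hne ?_⟩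
  · rintro _ ⟨x, hx, rfl⟩
    exact hn.conj_mem _ (h2 hx) h
  · have e1 : h * a * h⁻¹ * (h * k * h⁻¹) = h * (a * k) * h⁻¹ := by group
    have e2 : h * k * h⁻¹ * (h * a * h⁻¹) = h * (k * a) * h⁻¹ := by group
    rw [e1, e2] at e
    exact mul_left_cancel (mul_right_cancel e)

/-- the data -/
structure Dat (H0 S A T : Subgroup H) : Prop where
  O2 : pCore 2 H = ⊥
  norm : H0.Normal
  A_le : A ≤ H0
  sq : ∀ a ∈ A, a * a = 1
  odd : ∀ N : Subgroup H, N.Normal → N ≤ H0 → Group.IsNilpotent N → Odd (Nat.card N) →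
    ∀ x ∈ N, ∀ a ∈ A, a * x = x * a
  hyp : ∀ K, Mov A H0 K → Hyp S A T K

namespace Dat

variable {H0 S A T K L : Subgroup H} (d : Dat H0 S A T)
include d

theorem inn (hK : IsComponent K) (hK0 : K ≤ H0) : InnA A K := by
  by_cases h : ∃ a ∈ A, ∃ k ∈ K, a * k ≠ k * a
  · exact InnA.of_hyp (d.hyp K ⟨hK, hK0, h⟩)
  · push Not at h
    exact InnA.of_comm h

/-- `A ⊓ K ≠ 1` for a moved component -/
theorem inf_ne (hK : Mov A H0 K) : A ⊓ K ≠ ⊥ := by
  obtain ⟨h1, h2, a, ha, k, hk, hne⟩ := hK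
  obtain ⟨c, hc, hac⟩ := d.inn h1 h2 a ha
  intro h0
  rw [h0, mem_bot] at hc
  apply hne
  have := hac k hk
  rw [hc, one_mul, inv_one, mul_one, mul_inv_eq_iff_eq_mul] at this
  exact this

/-- a subgroup of `A` in the centre of a component is trivial -/
theorem inf_eq_bot' [Finite H] (hK : IsComponent K) (hc : ∀ x (hx : x ∈ A ⊓ K), (⟨x, hx.2⟩ : K) ∈ center K) :
    A ⊓ K = ⊥ := by
  have hfact : Fact (Nat.Prime 2) := ⟨Nat.prime_two⟩
  rw [eq_bot_iff]
  intro x hx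
  have hxA := (mem_inf.1 hx).1
  have hxK := (mem_inf.1 hx).2
  let Z : Subgroup K := zpowers ⟨x, hxK⟩
  have hZc : Z ≤ center K := zpowers_le.2 (hc x hx)
  have hZn : Z.Normal := ⟨fun z hz y => by
    have h1 := mem_center_iff.1 (hZc hz) y
    have h2 : y * z * y⁻¹ = z := by rw [h1]; group
    rwa [h2]⟩
  have hZp : IsPGroup 2 Z := by
    rw [IsPGroup.iff_card]
    have h2 : Nat.card Z ∣ 2 := by
      rw [Nat.card_zpowers]
      exact orderOf_dvd_of_pow_eq_one (by rw [pow_two]; exact Subtype.ext (d.sq x hxA))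
    rcases (Nat.dvd_prime Nat.prime_two).1 h2 with h3 | h3
    · exact ⟨0, by rw [h3, pow_zero]⟩
    · exact ⟨1, by rw [h3, pow_one]⟩
  have hZs : (Z.map K.subtype).IsSubnormal := (Normal.isSubnormal hZn).trans' hK.1
  have h2 := SignalizersComponents.CompBasic.subnormal_pGroup_le_pCore hZs (hZp.map K.subtype)
  rw [d.O2] at h2
  exact h2 ⟨⟨x, hxK⟩, mem_zpowers _, rfl⟩

/-- `A ⊓ K = 1` for an unmoved component -/
theorem inf_eq_bot [Finite H] (hK : IsComponent K) (hc : ∀ a ∈ A, ∀ k ∈ K, a * k = k * a) : A ⊓ K = ⊥ :=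
  d.inf_eq_bot' hK fun x hx => mem_center_iff.2 fun y => Subtype.ext (hc x hx.1 y y.2).symm

/-- a moved component is contained in `⟨A^H⟩` -/
theorem le_nc [Finite H] (hK : Mov A H0 K) : K ≤ normalClosure (A : Set H) :=
  le_normalClosure d.O2 d.sq hK.1 (d.inf_ne hK)

/-- **`A = ∏ (A ⊓ K)`**, `K` moved -/
theorem A_le_iSup [Finite H] : A ≤ ⨆ K ∈ {K : Subgroup H | Mov A H0 K}, A ⊓ K := by
  refine (le_iSup_inf d.O2 d.norm d.A_le d.sq d.odd fun K hK hK0 => d.inn hK hK0).trans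
    (iSup₂_le fun K hK => ?_)
  by_cases h : ∃ a ∈ A, ∃ k ∈ K, a * k ≠ k * a
  · exact le_iSup₂ (f := fun (K : Subgroup H) (_ : K ∈ {K : Subgroup H | Mov A H0 K}) => A ⊓ K) K
      (⟨hK.1, hK.2, h⟩ : Mov A H0 K)
  · push Not at h
    rw [d.inf_eq_bot hK.1 h]
    exact bot_le

/-- the product of the moved components -/
theorem A_le_prod [Finite H] : A ≤ ⨆ K ∈ {K : Subgroup H | Mov A H0 K}, K :=
  d.A_le_iSup.trans (iSup₂_mono fun _ _ => inf_le_right)

omit d in
theorem prod_le_layer : (⨆ K ∈ {K : Subgroup H | Mov A H0 K}, K) ≤ layer H :=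
  iSup₂_le fun _ hK => component_le_layer hK.1

theorem nc_le_layer [Finite H] : normalClosure (A : Set H) ≤ layer H := by
  have : (layer H).Normal := layer_normal H
  exact normalClosure_le_normal (d.A_le_prod.trans prod_le_layer)

theorem nc_le [Finite H] : normalClosure (A : Set H) ≤ H0 := by
  have := d.norm
  exact normalClosure_le_normal d.A_le

/-- `⟨A^H⟩` normalises every component of `H` -/
theorem nc_norm [Finite H] (hK : IsComponent K) : normalClosure (A : Set H) ≤ normalizer (K : Set H) :=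
  d.nc_le_layer.trans (layer_le_normalizer_component hK)

theorem prod_le_nc [Finite H] : (⨆ K ∈ {K : Subgroup H | Mov A H0 K}, K) ≤ normalClosure (A : Set H) :=
  iSup₂_le fun _ hK => d.le_nc hK

/-- **`⟨A^H⟩` is the product of the moved components**, if these are permuted by `H` -/
theorem nc_eq [Finite H] (hinv : ∀ K, Mov A H0 K → ∀ h : H, Mov A H0 (cg h K)) :
    normalClosure (A : Set H) = ⨆ K ∈ {K : Subgroup H | Mov A H0 K}, K := by
  refine le_antisymm ?_ d.prod_le_nc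
  have hn : (⨆ K ∈ {K : Subgroup H | Mov A H0 K}, K).Normal := by
    constructor
    intro x hx h
    have h1 : (⨆ K ∈ {K : Subgroup H | Mov A H0 K}, K).map (MulAut.conj h).toMonoidHom ≤
        ⨆ K ∈ {K : Subgroup H | Mov A H0 K}, K := by
      rw [Subgroup.map_iSup]
      refine iSup_le fun K => ?_
      rw [Subgroup.map_iSup]
      refine iSup_le fun hK => ?_
      exact le_iSup₂ (f := fun (K : Subgroup H) (_ : K ∈ {K : Subgroup H | Mov A H0 K}) => K) (cg h K)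
        (hinv K hK h)
    exact h1 ⟨x, hx, rfl⟩
  exact normalClosure_le_normal d.A_le_prod

/-- the moved components are permuted by `H` if `H = ⟨A^H⟩ N_H(A)` -/
theorem inv_of_fac [Finite H]
    (hfac : ∀ h : H, ∃ x ∈ normalClosure (A : Set H), ∃ n, (∀ a ∈ A, n * a * n⁻¹ ∈ A) ∧ h = x * n)
    (hK : Mov A H0 K) (h : H) : Mov A H0 (cg h K) := by
  obtain ⟨x, hx, n, hn, rfl⟩ := hfac h
  have h1 := hK.conj d.norm hn
  rw [cg_mul, cg_eq_of_norm (d.nc_norm h1.1 hx)]
  exact h1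

/-- a component contained in `⟨A^H⟩` is moved -/
theorem mov_of_le [Finite H] (hinv : ∀ K, Mov A H0 K → ∀ h : H, Mov A H0 (cg h K)) (hL : IsComponent L)
    (hle : L ≤ normalClosure (A : Set H)) : Mov A H0 L := by
  by_contra hcon
  -- `L` commutes with every moved component
  have h1 : normalClosure (A : Set H) ≤ centralizer (L : Set H) := by
    rw [d.nc_eq hinv]
    refine iSup₂_le fun K hK => ?_
    exact component_le_centralizer_of_ne hK.1 hL (by rintro rfl; exact hcon hK)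
  apply quasisimple_not_isMulCommutative hL.2
  refine ⟨⟨fun x y => Subtype.ext ?_⟩⟩
  exact (mem_centralizer_iff.1 (h1 (hle x.2)) y y.2).symm

/-- `⟨A^H⟩` is perfect -/
theorem nc_perfect [Finite H] (hinv : ∀ K, Mov A H0 K → ∀ h : H, Mov A H0 (cg h K)) :
    ⁅normalClosure (A : Set H), normalClosure (A : Set H)⁆ = normalClosure (A : Set H) := by
  refine le_antisymm (commutator_le_self _) ?_
  conv_lhs => rw [d.nc_eq hinv]
  refine iSup₂_le fun K hK => ?_
  have h1 := component_commutator_self hK.1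
  calc K = ⁅K, K⁆ := h1.symm
    _ ≤ _ := commutator_mono (d.le_nc hK) (d.le_nc hK)

/-- a moved component is generated by the `K`-conjugates of `A ⊓ K` -/
theorem comp_gen [Finite H] (hK : Mov A H0 K) {N : Subgroup H} (hAN : A ⊓ K ≤ N)
    (hN : ∀ x ∈ K, ∀ y ∈ N, x * y * x⁻¹ ∈ N) : K ≤ N := by
  have hn : (N.subgroupOf K).Normal := ⟨fun y hy x => mem_subgroupOf.2 (hN x x.2 y (mem_subgroupOf.1 hy))⟩
  rcases quasisimple_normal hK.1.2 _ hn with h | h
  · exact subgroupOf_eq_top.1 h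
  · exfalso
    apply d.inf_ne hK
    refine d.inf_eq_bot' hK.1 fun x hx => ?_
    exact h (mem_subgroupOf.2 (hAN hx))

/-! ### The Sylow 2-subgroup -/

omit d in
/-- splitting off the 2-part -/
theorem exists_parts [Finite H] {k : H} {N : ℕ} (ho : Odd (orderOf (k ^ 2 ^ N))) :
    ∃ u v : H, k = u * v ∧ u ^ 2 ^ N = 1 ∧ u ∈ zpowers k ∧ v ∈ zpowers (k ^ 2 ^ N) := by
  set r := orderOf (k ^ 2 ^ N) with hr
  have hcop : IsCoprime (r : ℤ) ((2 ^ N : ℕ) : ℤ) :=
    Nat.isCoprime_iff_coprime.2 (Nat.Coprime.pow_right N (Nat.coprime_two_right.2 ho))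
  obtain ⟨a, b, hab⟩ := hcop
  refine ⟨k ^ (a * (r : ℤ)), (k ^ 2 ^ N) ^ b, ?_, ?_, zpow_mem (mem_zpowers k) _, zpow_mem (mem_zpowers _) _⟩
  · rw [← zpow_natCast k (2 ^ N), ← zpow_mul, ← zpow_add, mul_comm ((2 ^ N : ℕ) : ℤ) b, hab, zpow_one]
  · rw [← zpow_natCast, ← zpow_mul]
    have e : a * (r : ℤ) * ((2 ^ N : ℕ) : ℤ) = ((2 ^ N : ℕ) : ℤ) * (r : ℤ) * a := by ring
    rw [e, zpow_mul, zpow_mul, zpow_natCast, zpow_natCast, hr, pow_orderOf_eq_one, one_zpow]

theorem sylow_aux [Finite H] (hS : IsPGroup 2 S) (s : Finset (Subgroup H)) (hs : ∀ K ∈ s, Mov A H0 K) :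
    ∀ x ∈ S, ∀ w y : H, Odd (orderOf w) → (∀ K ∈ s, ∀ k ∈ K, w * k = k * w) → y ∈ (⨆ K ∈ s, K) →
      x = w * y → x ∈ ⨆ K ∈ s, S ⊓ K := by
  classical
  induction s using Finset.induction_on with
  | empty =>
    intro x hx w y hw _ hy e
    have hy1 : y = 1 := by simpa using hy
    rw [hy1, mul_one] at e
    obtain ⟨n, hn⟩ := hS ⟨x, hx⟩
    have h2 : x ^ 2 ^ n = 1 := congrArg Subtype.val hn
    have h3 : orderOf x ∣ 2 ^ n := orderOf_dvd_of_pow_eq_one h2
    rw [← e] at hw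
    have h4 : Nat.Coprime (orderOf x) (2 ^ n) := Nat.Coprime.pow_right n (Nat.coprime_two_right.2 hw)
    have h5 : x = 1 := orderOf_eq_one_iff.1 (Nat.Coprime.eq_one_of_dvd h4 h3)
    rw [h5]; exact one_mem _
  | insert K s hK ih =>
    intro x hx w y hw hwc hy e
    have hKM := hs K (Finset.mem_insert_self K s)
    have hsM : ∀ L ∈ s, Mov A H0 L := fun L hL => hs L (Finset.mem_insert_of_mem hL)
    -- `E = ⨆ L ∈ s, L` commutes with `K`
    have hE : (⨆ L ∈ s, L) ≤ centralizer (K : Set H) := iSup₂_le fun L hL =>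
      component_le_centralizer_of_ne (hsM L hL).1 hKM.1 (by rintro rfl; exact hK hL)
    -- `y = k * y'`
    have hy' : y ∈ K ⊔ ⨆ L ∈ s, L := by
      have h1 : (⨆ L ∈ insert K s, L) ≤ K ⊔ ⨆ L ∈ s, L := by
        refine iSup₂_le fun L hL => ?_
        rcases Finset.mem_insert.1 hL with rfl | hL
        · exact le_sup_left
        · exact (le_iSup₂ (f := fun (L : Subgroup H) (_ : L ∈ s) => L) L hL).trans le_sup_right
      exact h1 hy
    have hnorm : (⨆ L ∈ s, L) ≤ normalizer (K : Set H) := hE.trans (centralizer_le_normalizer _)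
    rw [← SetLike.mem_coe, coe_mul_of_right_le_normalizer_left K _ hnorm] at hy'
    obtain ⟨k, hk, y', hyE, rfl⟩ := hy'
    have hkK : k ∈ K := hk
    have hyE' : y' ∈ ⨆ L ∈ s, L := hyE
    have hyc : ∀ z ∈ K, y' * z = z * y' := fun z hz => (mem_centralizer_iff.1 (hE hyE') z hz).symm
    have hwK : ∀ z ∈ K, w * z = z * w := hwc K (Finset.mem_insert_self K s)
    have hxc : ∀ z ∈ K, x * z * x⁻¹ = k * z * k⁻¹ := by
      intro z hz
      have hkz : k * z * k⁻¹ ∈ K := mul_mem (mul_mem hkK hz) (inv_mem hkK)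
      rw [e]
      calc w * (k * y') * z * (w * (k * y'))⁻¹ = w * (k * (y' * z) * y'⁻¹ * k⁻¹) * w⁻¹ := by group
        _ = w * (k * z * k⁻¹) * w⁻¹ := by rw [hyc z hz]; group
        _ = k * z * k⁻¹ := by rw [hwK _ hkz]; group
    have hh := d.hyp K hKM
    -- `w` commutes with `y'`
    have hwE : ∀ z ∈ ⨆ L ∈ s, L, w * z = z * w := by
      have h1 : (⨆ L ∈ s, L) ≤ centralizer ({w} : Set H) := iSup₂_le fun L hL z hz => by
        rw [mem_centralizer_singleton_iff]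
        exact (hwc L (Finset.mem_insert_of_mem hL) z hz).symm
      intro z hz
      exact (mem_centralizer_singleton_iff.1 (h1 hz)).symm
    -- a power of `k` is central in `K`
    obtain ⟨n, hn⟩ := hS ⟨x, hx⟩
    have hxn : x ^ 2 ^ n = 1 := congrArg Subtype.val hn
    have hkc : ∀ z ∈ K, k ^ 2 ^ n * z = z * k ^ 2 ^ n := by
      intro z hz
      have h1 : ∀ m : ℕ, ∀ z ∈ K, x ^ m * z * (x ^ m)⁻¹ = k ^ m * z * (k ^ m)⁻¹ := by
        intro m
        induction m with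
        | zero => intro z _; simp
        | succ m ih =>
          intro z hz
          have hkz : k * z * k⁻¹ ∈ K := mul_mem (mul_mem hkK hz) (inv_mem hkK)
          calc x ^ (m + 1) * z * (x ^ (m + 1))⁻¹ = x ^ m * (x * z * x⁻¹) * (x ^ m)⁻¹ := by
                rw [pow_succ]; group
            _ = x ^ m * (k * z * k⁻¹) * (x ^ m)⁻¹ := by rw [hxc z hz]
            _ = k ^ m * (k * z * k⁻¹) * (k ^ m)⁻¹ := ih _ hkz
            _ = k ^ (m + 1) * z * (k ^ (m + 1))⁻¹ := by rw [pow_succ]; group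
      have h2 := h1 (2 ^ n) z hz
      rw [hxn, one_mul, inv_one, mul_one] at h2
      rw [eq_comm, mul_inv_eq_iff_eq_mul] at h2
      exact h2
    have hko := hh.zodd _ (pow_mem hkK (2 ^ n)) hkc
    obtain ⟨u, v, hkuv, hu2, huk, hv⟩ := exists_parts hko
    have huK : u ∈ K := (zpowers_le.2 hkK) huk
    have hvK : v ∈ K := (zpowers_le.2 (pow_mem hkK _)) hv
    have hvc : ∀ z ∈ K, v * z = z * v := by
      have h1 : zpowers (k ^ 2 ^ n) ≤ centralizer (K : Set H) := zpowers_le.2 (mem_centralizer_iff.2 fun z hz =>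
        (hkc z hz).symm)
      intro z hz
      exact (mem_centralizer_iff.1 (h1 hv) z hz).symm
    have hvo := hh.zodd v hvK hvc
    -- `u ∈ S`
    have hkS : ∀ z ∈ S ⊓ K, k * z * k⁻¹ ∈ S ⊓ K := by
      intro z hz
      have hzS : z ∈ S := (mem_inf.1 hz).1
      have hzK : z ∈ K := (mem_inf.1 hz).2
      refine mem_inf.2 ⟨?_, mul_mem (mul_mem hkK hzK) (inv_mem hkK)⟩
      rw [← hxc z hzK]
      exact mul_mem (mul_mem hx hzS) (inv_mem hx)
    have hkN : k ∈ normalizer ((S ⊓ K : Subgroup H) : Set H) := Cfsg.Agent.Omega.BTwo.mem_normalizer_of_conj hkS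
    have huN : u ∈ normalizer ((S ⊓ K : Subgroup H) : Set H) := (zpowers_le.2 hkN) huk
    have huS : u ∈ S := by
      refine hh.mem_of_normalizes huK hu2 (fun z hz => (mem_normalizer_iff.1 huN z).1 hz) fun z hz => ?_
      have h1 := (mem_normalizer_iff.1 (inv_mem huN) z).1 hz
      rwa [inv_inv] at h1
    -- the rest
    have hcuv : u * v = v * u := (hvc u huK).symm
    have huy : u * y' = y' * u := (hyc u huK).symm
    have hvy : v * y' = y' * v := (hyc v hvK).symm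
    have hwu : w * u = u * w := hwK u huK
    have hwv : w * v = v * w := hwK v hvK
    have e2 : u⁻¹ * x = (w * v) * y' := by
      rw [e, hkuv]
      calc u⁻¹ * (w * (u * v * y')) = u⁻¹ * (w * u) * v * y' := by group
        _ = w * v * y' := by rw [hwu]; group
    have h3 := ih hsM (u⁻¹ * x) (mul_mem (inv_mem huS) hx) (w * v) y' ?_ ?_ hyE' e2
    · have h4 : x = u * (u⁻¹ * x) := by group
      rw [h4]
      refine mul_mem ?_ ?_
      · exact (le_iSup₂ (f := fun (L : Subgroup H) (_ : L ∈ insert K s) => S ⊓ L) K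
          (Finset.mem_insert_self K s)) ⟨huS, huK⟩
      · have h5 : (⨆ L ∈ s, S ⊓ L) ≤ ⨆ L ∈ insert K s, S ⊓ L := iSup₂_le fun L hL =>
          le_iSup₂ (f := fun (L : Subgroup H) (_ : L ∈ insert K s) => S ⊓ L) L (Finset.mem_insert_of_mem hL)
        exact h5 h3
    · -- odd order of `w v`
      have h4 : Commute w v := hwv
      exact (hw.mul hvo).of_dvd_nat h4.orderOf_mul_dvd_mul_orderOf
    · intro L hL z hz
      have h5 : v * z = z * v := by
        have h6 := component_le_centralizer_of_ne (hsM L hL).1 hKM.1 (by rintro rfl; exact hK hL) hz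
        exact mem_centralizer_iff.1 h6 v hvK
      have h6 := hwc L (Finset.mem_insert_of_mem hL) z hz
      calc w * v * z = w * (v * z) := by group
        _ = (w * z) * v := by rw [h5]; group
        _ = z * (w * v) := by rw [h6]; group

/-- `S ⊓ ∏ K = ∏ (S ⊓ K)` over the moved components -/
theorem sylow_prod [Finite H] (hS : IsPGroup 2 S) :
    S ⊓ (⨆ K ∈ {K : Subgroup H | Mov A H0 K}, K) = ⨆ K ∈ {K : Subgroup H | Mov A H0 K}, S ⊓ K := by
  classical
  refine le_antisymm ?_ (iSup₂_le fun K hK => le_inf inf_le_left ?_)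
  · rintro x ⟨hxS, hx⟩
    have hfin : {K : Subgroup H | Mov A H0 K}.Finite := Set.toFinite _
    have h1 : x ∈ ⨆ K ∈ hfin.toFinset, K := by simpa using hx
    have h2 := d.sylow_aux hS hfin.toFinset (fun K hK => hfin.mem_toFinset.1 hK) x hxS 1 x
      (by rw [orderOf_one]; exact odd_one) (fun _ _ k _ => by rw [one_mul, mul_one]) h1 (one_mul x).symm
    simpa using h2
  · exact inf_le_right.trans (le_iSup₂ (f := fun (K : Subgroup H) (_ : K ∈ {K : Subgroup H | Mov A H0 K}) => K) K hK)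

/-- **`S ⊓ ⟨A^H⟩ = ∏ (S ⊓ K)`** -/
theorem sylow_eq [Finite H] (hS : IsPGroup 2 S) (hinv : ∀ K, Mov A H0 K → ∀ h : H, Mov A H0 (cg h K)) :
    S ⊓ normalClosure (A : Set H) = ⨆ K ∈ {K : Subgroup H | Mov A H0 K}, S ⊓ K := by
  rw [d.nc_eq hinv, d.sylow_prod hS]

end Dat

end Cfsg.Agent.Omega.Lie.End.AHat

end

section


/-!
# The components of `N(R)/O₂(N(R))` in a K-proper group are known
-/

set_option autoImplicit false

namespace Cfsg.Agent.Omega.Lie.LayerKnown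

open Subgroup Cfsg Cfsg.Agent.Omega.Lie.Quot

universe u

/-- a simple nonabelian image of a proper subgroup of a K-proper group is known -/
theorem known_of_hom {G : Type u} [Group G] (hK : IsKProper G) {P : Subgroup G} (hne : P ≠ ⊤) {L : Type u} [Group L]
    (f : P →* L) (hf : Function.Surjective f) (hs : IsSimpleGroup L) (hna : ¬ IsMulCommutative L) :
    IsKnownSimple' L := by
  let e : P ⧸ f.ker ≃* L := QuotientGroup.quotientKerEquivOfSurjective f hf
  have h1 : IsSimpleGroup (P ⧸ f.ker) := OddHalf.Known.isSimple_congr e.symm hs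
  have h2 : ¬ IsMulCommutative (P ⧸ f.ker) := by
    intro h
    apply hna
    refine ⟨⟨fun a b => ?_⟩⟩
    apply e.symm.injective
    rw [map_mul, map_mul]
    exact h.is_comm.comm _ _
  exact OddHalf.Known.isKnownSimple'_congr e h2 (OddHalf.Known.known_quotient hK P hne f.ker h1 h2)

theorem not_comm {K : Type*} [Group K] (hK : IsQuasisimple K) : ¬ IsMulCommutative (K ⧸ center K) := by
  intro hc
  have h1 : commutator K ≤ center K := by
    rw [commutator_def, Subgroup.commutator_le]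
    intro x _ y _
    change x * y * x⁻¹ * y⁻¹ ∈ _
    rw [← QuotientGroup.eq_one_iff]
    have h3 := hc.is_comm.comm (x : K ⧸ center K) (y : K ⧸ center K)
    rw [QuotientGroup.mk_mul, QuotientGroup.mk_mul, QuotientGroup.mk_mul, QuotientGroup.mk_inv,
      QuotientGroup.mk_inv, h3]
    group
  have h4 : center K = ⊤ := top_le_iff.1 (by rw [← hK.1.commutator_eq_top]; exact h1)
  have h5 : Subsingleton (K ⧸ center K) := by rw [h4]; exact QuotientGroup.subsingleton_quotient_top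
  have := hK.2
  exact not_subsingleton _ h5

/-- **A quasisimple subgroup of `N(R)/O₂(N(R))`, `N(R)` proper, `G` K-proper, is known modulo its centre.** -/
theorem known {G : Type u} [Group G] (hG : IsKProper G) {R : Subgroup G} (hR : normalizer (R : Set G) ≠ ⊤)
    {K : Subgroup (HQ R)} (hK : IsQuasisimple K) : IsKnownSimple' (K ⧸ center K) := by
  let P : Subgroup G := (K.comap (pr R)).map (normalizer (R : Set G)).subtype
  have hP : P ≠ ⊤ := by
    intro h
    exact hR (top_le_iff.1 (h ▸ map_subtype_le _))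
  let e : ↥(K.comap (pr R)) ≃* P := (K.comap (pr R)).equivMapOfInjective _ (Subgroup.subtype_injective _)
  let g : ↥(K.comap (pr R)) →* K := (pr R).subgroupComap K
  have hg : Function.Surjective g := (pr R).subgroupComap_surjective_of_surjective K (pr_surjective R)
  refine known_of_hom hG hP (((QuotientGroup.mk' (center K)).comp g).comp e.symm.toMonoidHom) ?_ hK.2 (not_comm hK)
  exact ((QuotientGroup.mk'_surjective _).comp hg).comp e.symm.surjective

end Cfsg.Agent.Omega.Lie.LayerKnown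

end
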