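import Cfsg.Agent.Omega.Lie.HeisCover
import Mathlib
import Cfsg.Agent.S0270
import Cfsg.Agent.LieClassical.SympCenter
import Cfsg.Prelude.Def_LieTypeChar
import Cfsg.Agent.Omega.Lie.CenTwo
import Cfsg.Agent.AutOrth.Final
import Cfsg.Agent.ClassicalGeometry.OmegaIndex
import Cfsg.Agent.ChevalleyStructure.Elts
import Cfsg.Agent.S1025
import Cfsg.Agent.S1032
import Cfsg.Agent.Omega.TwoF.Rk
import Cfsg.Agent.ChevalleyStructure.Reach
import Cfsg.Agent.S1031
import Cfsg.Agent.S1054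
import Cfsg.Agent.Lib.ElemAbGL

section


/-!
# The Heisenberg bound over a finite field

`F` a finite elementary abelian `r`-group (a vector space over `ZMod r`), `X : F → E` additive, acting nontrivially
on a finite abelian `2`-group `V`.

* `exists_functional`: there is a functional `f ≠ 0` such that `X F` acts nontrivially on the fixed points of
  `X (ker f)`;
* `two_pow_le`: if for every functional `f ≠ 0` there are `x i, y i ∈ E` (`i < n`) which form a Heisenberg
  configuration modulo `X (ker f)`, then `2 ^ (ord_r(2) * r ^ n) ≤ |V|`;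
* `FH`: `X, A j, B j : F → E` (`j < h`) with `B j t * A j u * (B j t)⁻¹ = A j u * X (c j * t * u)`, `c j ≠ 0`, `F` a
  field; `FH.two_pow_le`: `2 ^ (ord_r(2) * |F| ^ h) ≤ |V|`.
-/

set_option autoImplicit false
set_option linter.dupNamespace false
set_option linter.unusedSectionVars false
set_option linter.style.haveILetI false

universe u v w

namespace Cfsg.Agent.Omega.Lie.HeisF

open Finset Cfsg.Agent.Omega.Lie.Heis

section hyperplane

variable {E : Type u} [Group E] {F : Type w} [AddCommGroup F] {r : ℕ} [Fact r.Prime] [Module (ZMod r) F]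
  {X : F → E} (hX : ∀ t u, X (t + u) = X t * X u)

include hX in
theorem X_zero : X 0 = 1 := by
  have h := hX 0 0
  rw [add_zero] at h
  exact left_eq_mul.1 h

include hX in
theorem X_nsmul (n : ℕ) (t : F) : X (n • t) = X t ^ n := by
  induction n with
  | zero => rw [zero_smul, pow_zero, X_zero hX]
  | succ n ih => rw [succ_nsmul, hX, ih, pow_succ]

include hX in
theorem X_smul (c : ZMod r) (t : F) : X (c • t) = X t ^ c.val := by
  rw [← X_nsmul hX, ← Nat.cast_smul_eq_nsmul (ZMod r) c.val t, ZMod.natCast_zmod_val]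

include hX in
theorem X_pow (t : F) : X t ^ r = 1 := by
  rw [← X_nsmul hX, ← Nat.cast_smul_eq_nsmul (ZMod r) r t, ZMod.natCast_self, zero_smul, X_zero hX]

include hX in
theorem X_comm (t u : F) : X t * X u = X u * X t := by rw [← hX, ← hX, add_comm]

variable [Finite F] {A : Type v} [AddCommGroup A] [DistribMulAction E A]

include hX in
/-- A hyperplane `ker f` whose fixed points are not fixed by `X F`. -/
theorem exists_functional (ht : ∀ v : A, r • v = 0 → v = 0) (hne : ∃ (t : F) (v : A), X t • v ≠ v) :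
    ∃ f : F →ₗ[ZMod r] ZMod r, f ≠ 0 ∧ ∃ v : A, (∀ t, f t = 0 → X t • v = v) ∧ ∃ t, X t • v ≠ v := by
  classical
  have hr : r.Prime := Fact.out
  let S : Set (Submodule (ZMod r) F) := {H | ∃ v : A, (∀ t ∈ H, X t • v = v) ∧ ∃ t, X t • v ≠ v}
  haveI : Finite (Submodule (ZMod r) F) := Finite.of_injective _ SetLike.coe_injective
  obtain ⟨t₀, v₀, h₀⟩ := hne
  have hS : S.Nonempty := ⟨⊥, v₀, fun t ht => by
    rw [(Submodule.mem_bot _).1 ht, X_zero hX, one_smul], t₀, h₀⟩
  obtain ⟨H, hH⟩ := (Set.toFinite S).exists_maximal hS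
  obtain ⟨v, hv, t₁, ht₁⟩ := hH.prop
  have hmax : ∀ K : Submodule (ZMod r) F, H < K → ∀ w : A, (∀ t ∈ K, X t • w = w) → ∀ t, X t • w = w := by
    intro K hK w hw t
    by_contra hcon
    exact absurd (hH.le_of_ge (show K ∈ S from ⟨w, hw, t, hcon⟩) hK.le) (not_le_of_gt hK)
  have hlt : H < ⊤ := by
    rw [lt_top_iff_ne_top]
    rintro rfl
    exact ht₁ (hv t₁ Submodule.mem_top)
  obtain ⟨f, hf, hle⟩ := H.exists_le_ker_of_lt_top hlt
  refine ⟨f, hf, v, ?_, t₁, ht₁⟩
  suffices hker : LinearMap.ker f ≤ H from fun t ht => hv t (hker ht)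
  by_contra hnle
  obtain ⟨a, ha, haH⟩ := SetLike.not_le_iff_exists.1 hnle
  obtain ⟨s, hs⟩ : ∃ s, f s ≠ 0 := by
    by_contra hcon
    push Not at hcon
    exact hf (LinearMap.ext hcon)
  -- norms
  have hN : ∀ b, b ∉ H → ∀ t, X t • ∑ j ∈ range r, X b ^ j • v = ∑ j ∈ range r, X b ^ j • v := by
    intro b hb
    refine hmax (H ⊔ Submodule.span (ZMod r) {b}) ?_ _ ?_
    · refine lt_of_le_of_ne le_sup_left fun h => hb ?_
      rw [h]
      exact Submodule.mem_sup_right (Submodule.mem_span_singleton_self b)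
    · intro t htm
      obtain ⟨y, hy, z, hz, rfl⟩ := Submodule.mem_sup.1 htm
      obtain ⟨c, rfl⟩ := Submodule.mem_span_singleton.1 hz
      rw [hX, mul_smul, X_smul hX,
        pow_smul_of_fix (smul_norm (X_pow hX b) v) c.val, smul_sum]
      refine sum_congr rfl fun j _ => ?_
      have h1 : X y * X b ^ j = X b ^ j * X y := (Commute.pow_right (X_comm hX y b : Commute (X y) (X b)) j)
      rw [smul_smul, h1, mul_smul, hv y hy]
  have hsk : ∀ k : ℕ, s + k • a ∉ H := by
    intro k hk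
    have h1 : f (s + k • a) = 0 := LinearMap.mem_ker.1 (hle hk)
    rw [map_add, map_nsmul, LinearMap.mem_ker.1 ha, smul_zero, add_zero] at h1
    exact hs h1
  have hja : ∀ j, j ∈ range r → j ≠ 0 → j • a ∉ H := by
    intro j hj hj0 hjH
    apply haH
    have h1 : (j : ZMod r) ≠ 0 := by
      rw [Ne, ZMod.natCast_eq_zero_iff]
      intro hd
      have := Nat.le_of_dvd (Nat.pos_of_ne_zero hj0) hd
      have := mem_range.1 hj
      omega
    rw [← Nat.cast_smul_eq_nsmul (ZMod r) j a] at hjH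
    have h2 := H.smul_mem (j : ZMod r)⁻¹ hjH
    rwa [smul_smul, inv_mul_cancel₀ h1, one_smul] at h2
  -- the identity
  have hid : ∑ k ∈ range r, ∑ j ∈ range r, X (s + k • a) ^ j • v =
      r • v + ∑ j ∈ (range r).erase 0, ∑ k ∈ range r, X (j • a) ^ k • v := by
    rw [sum_comm]
    have h0 : (0 : ℕ) ∈ range r := mem_range.2 hr.pos
    rw [← Finset.add_sum_erase _ _ h0]
    congr 1
    · simp
    · refine sum_congr rfl fun j hj => ?_
      have hj0 := (mem_erase.1 hj).1
      have hj1 := (mem_erase.1 hj).2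
      have h1 : ∑ k ∈ range r, X (s + k • a) ^ j • v = X s ^ j • ∑ k ∈ range r, X (j • a) ^ k • v := by
        rw [smul_sum]
        refine sum_congr rfl fun k _ => ?_
        rw [hX, Commute.mul_pow (X_comm hX s (k • a)), mul_smul, X_nsmul hX k a, X_nsmul hX j a, ← pow_mul,
          ← pow_mul, mul_comm k j]
      rw [h1]
      exact pow_smul_of_fix (hN (j • a) (hja j hj1 hj0) s) j
  have hfin : X t₁ • (r • v) = r • v := by
    have h1 : X t₁ • ∑ k ∈ range r, ∑ j ∈ range r, X (s + k • a) ^ j • v =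
        ∑ k ∈ range r, ∑ j ∈ range r, X (s + k • a) ^ j • v := by
      rw [smul_sum]
      exact sum_congr rfl fun k _ => hN _ (hsk k) t₁
    have h2 : X t₁ • ∑ j ∈ (range r).erase 0, ∑ k ∈ range r, X (j • a) ^ k • v =
        ∑ j ∈ (range r).erase 0, ∑ k ∈ range r, X (j • a) ^ k • v := by
      rw [smul_sum]
      exact sum_congr rfl fun j hj => hN _ (hja j (mem_erase.1 hj).2 (mem_erase.1 hj).1) t₁
    rw [hid, smul_add, h2] at h1
    exact add_right_cancel h1
  apply ht₁
  have h3 : X t₁ • (r • v) = r • (X t₁ • v) := map_nsmul (DistribSMul.toAddMonoidHom A (X t₁)) r v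
  have h4 : r • (X t₁ • v - v) = 0 := by rw [smul_sub, ← h3, hfin, sub_self]
  exact sub_eq_zero.1 (ht _ h4)

end hyperplane

section main

variable {E : Type u} [Group E] {F : Type w} [AddCommGroup F] [Finite F] {r : ℕ} [Fact r.Prime] [Module (ZMod r) F]
  {X : F → E} (hX : ∀ t u, X (t + u) = X t * X u) {V : Type v} [CommGroup V] [Finite V] (φ : E →* MulAut V)

include hX in
/-- **The Heisenberg bound, all functionals.** -/
theorem two_pow_le (h2 : IsPGroup 2 V) (hr2 : r ≠ 2) (hne : ∃ t, φ (X t) ≠ 1) {n : ℕ}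
    (H : ∀ f : F →ₗ[ZMod r] ZMod r, f ≠ 0 → ∃ (x y : Fin n → E) (w : Fin n → Fin n → F),
      (∀ i, x i ^ r = 1) ∧ (∀ i t, X t * x i = x i * X t) ∧ (∀ i t, X t * y i = y i * X t) ∧
      (∀ i j, x i * x j = x j * x i) ∧ (∀ i j, y i * x j * (y i)⁻¹ = x j * X (w i j)) ∧
      ∀ i j, f (w i j) = if i = j then 1 else 0) :
    2 ^ (orderOf (2 : ZMod r) * r ^ n) ≤ Nat.card V := by
  classical
  have hr : r.Prime := Fact.out
  letI := addAct φ
  haveI : Finite (Additive V) := inferInstanceAs (Finite V)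
  have h4 : IsPGroup 2 (Multiplicative (Additive V)) := by
    intro g
    obtain ⟨k, hk⟩ := h2 (Additive.toMul (Multiplicative.toAdd g))
    exact ⟨k, hk⟩
  have ht := tors_of_two (A := Additive V) hr h4 hr2
  have hne' : ∃ (t : F) (v : Additive V), X t • v ≠ v := by
    obtain ⟨t, ht⟩ := hne
    by_contra hcon
    push Not at hcon
    apply ht
    ext v
    exact congrArg Additive.toMul (hcon t (Additive.ofMul v))
  obtain ⟨f, hf, v, hv, t₁, ht₁⟩ := exists_functional hX ht hne'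
  obtain ⟨x, y, w, hxr, hXx, hXy, hxx, hyx, hfw⟩ := H f hf
  obtain ⟨s, hs⟩ : ∃ s, f s = 1 := by
    obtain ⟨s, hs⟩ : ∃ s, f s ≠ 0 := by
      by_contra hcon
      push Not at hcon
      exact hf (LinearMap.ext hcon)
    exact ⟨(f s)⁻¹ • s, by rw [map_smul, smul_eq_mul, inv_mul_cancel₀ hs]⟩
  -- the fixed points of `X (ker f)`
  let W : Subgroup V :=
    { carrier := {v | ∀ t, f t = 0 → φ (X t) v = v}
      one_mem' := fun t _ => map_one _
      mul_mem' := fun {a b} ha hb t ht => by rw [map_mul, ha t ht, hb t ht]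
      inv_mem' := fun {a} ha t ht => by rw [map_inv, ha t ht] }
  let N : Subgroup E := Subgroup.centralizer (Set.range X)
  have hmem : ∀ g : E, (∀ t, X t * g = g * X t) → g ∈ N := by
    intro g hg
    rw [Subgroup.mem_centralizer_iff]
    rintro _ ⟨t, rfl⟩
    exact hg t
  have hW : ∀ g : N, ∀ a ∈ W, (φ.comp N.subtype) g a ∈ W := by
    intro g a ha t ht
    show φ (X t) (φ (g : E) a) = φ (g : E) a
    have hg := Subgroup.mem_centralizer_iff.1 g.2 (X t) ⟨t, rfl⟩
    rw [← MulAut.mul_apply, ← map_mul, hg, map_mul, MulAut.mul_apply, ha t ht]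
  let ψ : N →* MulAut W := resAct (φ.comp N.subtype) W hW
  have hψ : ∀ (g : E) (hg : g ∈ N) (a : W), ((ψ ⟨g, hg⟩ a : W) : V) = φ g a := fun g hg a => rfl
  have hXN : ∀ t, X t ∈ N := fun t => hmem _ fun t' => X_comm hX t' t
  have hψ0 : ∀ t, f t = 0 → ψ ⟨X t, hXN t⟩ = 1 := by
    intro t ht
    ext a
    rw [hψ]
    exact a.2 t ht
  have hψ1 : ∀ t u, f t = f u → ψ ⟨X t, hXN t⟩ = ψ ⟨X u, hXN u⟩ := by
    intro t u htu
    have h5 : (⟨X t, hXN t⟩ : N) = ⟨X u, hXN u⟩ * ⟨X (t - u), hXN (t - u)⟩ := by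
      apply Subtype.ext
      show X t = X u * X (t - u)
      rw [← hX, add_sub_cancel]
    rw [h5, map_mul, hψ0 (t - u) (by rw [map_sub, htu, sub_self]), mul_one]
  have hH : Heis.Heis r n (ψ ⟨X s, hXN s⟩) (fun i => ψ ⟨x i, hmem _ (hXx i)⟩) (fun i => ψ ⟨y i, hmem _ (hXy i)⟩) := by
    refine ⟨hr, ?_, fun i => ?_, fun i => ?_, fun i => ?_, fun i j => ?_, fun i j hij => ?_, fun i => ?_⟩
    · rw [← map_pow, ← map_one ψ]
      congr 1
      exact Subtype.ext (X_pow hX s)
    · rw [← map_pow, ← map_one ψ]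
      congr 1
      exact Subtype.ext (hxr i)
    · rw [← map_mul, ← map_mul]
      congr 1
      exact Subtype.ext (hXx i s)
    · rw [← map_mul, ← map_mul]
      congr 1
      exact Subtype.ext (hXy i s)
    · rw [← map_mul, ← map_mul]
      congr 1
      exact Subtype.ext (hxx i j)
    · have h5 : (⟨y i, hmem _ (hXy i)⟩ : N) * ⟨x j, hmem _ (hXx j)⟩ =
          ⟨x j, hmem _ (hXx j)⟩ * ⟨X (w i j), hXN (w i j)⟩ * ⟨y i, hmem _ (hXy i)⟩ := by
        apply Subtype.ext
        show y i * x j = x j * X (w i j) * y i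
        rw [← hyx]; group
      rw [← map_mul, h5, map_mul, map_mul, hψ0 _ (by rw [hfw, if_neg hij]), mul_one]
    · have h5 : (⟨y i, hmem _ (hXy i)⟩ : N) * ⟨x i, hmem _ (hXx i)⟩ * (⟨y i, hmem _ (hXy i)⟩ : N)⁻¹ =
          ⟨x i, hmem _ (hXx i)⟩ * ⟨X (w i i), hXN (w i i)⟩ := by
        apply Subtype.ext
        show y i * x i * (y i)⁻¹ = x i * X (w i i)
        exact hyx i i
      rw [← map_inv, ← map_mul, ← map_mul, h5, map_mul, hψ1 (w i i) s (by rw [hfw, if_pos rfl, hs])]
  have hz : ψ ⟨X s, hXN s⟩ ≠ 1 := by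
    intro hz
    apply ht₁
    have hvW : v.toMul ∈ W := fun t ht => congrArg Additive.toMul (hv t ht)
    have h6 : ψ ⟨X t₁, hXN t₁⟩ = 1 := by
      have h7 : ψ ⟨X t₁, hXN t₁⟩ = ψ ⟨X (f t₁ • s), hXN _⟩ := hψ1 _ _ (by
        rw [map_smul, hs, smul_eq_mul, mul_one])
      have h8 : (⟨X (f t₁ • s), hXN _⟩ : N) = ⟨X s, hXN s⟩ ^ (f t₁).val := Subtype.ext (X_smul hX _ _)
      rw [h7, h8, map_pow, hz, one_pow]
    have h9 := congrArg (fun g : MulAut W => ((g ⟨v.toMul, hvW⟩ : W) : V)) h6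
    exact congrArg Additive.ofMul h9
  have h10 := hH.two_pow_le_mulAut (MonoidHom.id (MulAut W)) (h2.to_subgroup W) hr2 hz
  exact h10.trans (Nat.card_le_card_of_injective _ Subtype.val_injective)

end main

/-! ### Fields -/

/-- A Heisenberg configuration over the field `F`. -/
structure FH {E : Type u} [Group E] {F : Type w} [Field F] (r h : ℕ) (X : F → E) (A B : Fin h → F → E)
    (c : Fin h → F) : Prop where
  add : ∀ t u, X (t + u) = X t * X u
  A_pow : ∀ j t, A j t ^ r = 1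
  XA : ∀ j t u, X t * A j u = A j u * X t
  XB : ∀ j t u, X t * B j u = B j u * X t
  AA : ∀ i j t u, A i t * A j u = A j u * A i t
  BA : ∀ i j, i ≠ j → ∀ t u, B i t * A j u = A j u * B i t
  conj : ∀ j t u, B j t * A j u * (B j t)⁻¹ = A j u * X (c j * t * u)
  c_ne : ∀ j, c j ≠ 0

section field

variable {E : Type u} [Group E] {F : Type w} [Field F] [Finite F] {r h : ℕ} {X : F → E} {A B : Fin h → F → E}
    {c : Fin h → F} {V : Type v} [CommGroup V] [Finite V]

/-- **The Heisenberg bound over the field `F`.** -/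
theorem FH.two_pow_le [Fact r.Prime] [CharP F r] (hH : FH r h X A B c) (φ : E →* MulAut V) (h2 : IsPGroup 2 V)
    (hr2 : r ≠ 2) (hne : ∃ t, φ (X t) ≠ 1) : 2 ^ (orderOf (2 : ZMod r) * Nat.card F ^ h) ≤ Nat.card V := by
  classical
  letI : Algebra (ZMod r) F := ZMod.algebra F r
  haveI : Module.Finite (ZMod r) F := Module.Finite.of_finite
  let e := Module.finrank (ZMod r) F
  have hcard : Nat.card F = r ^ e := by
    rw [Module.natCard_eq_pow_finrank (K := ZMod r) (V := F), Nat.card_zmod]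
  have hpow : Nat.card F ^ h = r ^ (h * e) := by rw [hcard, ← pow_mul, mul_comm]
  rw [hpow]
  refine HeisF.two_pow_le hH.add φ h2 hr2 hne ?_
  intro f hf
  -- dual bases for `(t, u) ↦ f (t * u)`
  let Bf : LinearMap.BilinForm (ZMod r) F := LinearMap.mk₂ (ZMod r) (fun t u => f (t * u))
    (fun t t' u => by rw [add_mul, map_add]) (fun a t u => by rw [smul_mul_assoc, map_smul])
    (fun t u u' => by rw [mul_add, map_add]) (fun a t u => by rw [mul_smul_comm, map_smul])
  have hBf : ∀ t u, Bf t u = f (t * u) := fun t u => rfl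
  have hnd : Bf.Nondegenerate := by
    obtain ⟨s, hs⟩ : ∃ s, f s ≠ 0 := by
      by_contra hcon
      push Not at hcon
      exact hf (LinearMap.ext hcon)
    constructor
    · intro t ht
      by_contra ht0
      apply hs
      have := ht (t⁻¹ * s)
      rwa [hBf, ← mul_assoc, mul_inv_cancel₀ ht0, one_mul] at this
    · intro t ht
      by_contra ht0
      apply hs
      have := ht (s * t⁻¹)
      rwa [hBf, mul_assoc, inv_mul_cancel₀ ht0, mul_one] at this
  let b : Module.Basis (Fin e) (ZMod r) F := Module.finBasis (ZMod r) F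
  let b' : Fin e → F := fun i => Bf.dualBasis hnd b i
  have hbb : ∀ i j, f (b' i * b j) = if i = j then 1 else 0 := by
    intro i j
    have := LinearMap.BilinForm.apply_dualBasis_left hnd b i j
    rw [hBf] at this
    rw [this]
    simp only [eq_comm]
  let ε : Fin (h * e) ≃ Fin h × Fin e := finProdFinEquiv.symm
  refine ⟨fun i => A (ε i).1 (b (ε i).2), fun i => B (ε i).1 ((c (ε i).1)⁻¹ * b' (ε i).2),
    fun i j => if (ε i).1 = (ε j).1 then b' (ε i).2 * b (ε j).2 else 0, fun i => hH.A_pow _ _, fun i t => hH.XA _ _ _,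
    fun i t => hH.XB _ _ _, fun i j => hH.AA _ _ _ _, fun i j => ?_, fun i j => ?_⟩
  · by_cases hij : (ε i).1 = (ε j).1
    · simp only
      rw [if_pos hij, hij, hH.conj, ← mul_assoc, mul_inv_cancel₀ (hH.c_ne _), one_mul]
    · simp only
      rw [if_neg hij, X_zero hH.add, mul_one, hH.BA _ _ hij]
      group
  · by_cases hij : (ε i).1 = (ε j).1
    · simp only
      rw [if_pos hij, hbb]
      by_cases hij2 : (ε i).2 = (ε j).2
      · have : i = j := ε.injective (Prod.ext hij hij2)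
        rw [if_pos hij2, if_pos this]
      · rw [if_neg hij2, if_neg (fun h => hij2 (by rw [h]))]
    · simp only
      rw [if_neg hij, map_zero, if_neg (fun h => hij (by rw [h]))]

end field

end Cfsg.Agent.Omega.Lie.HeisF

end

section


/-!
# Heisenberg groups over a field: the configuration

`z : F → G`, `x i, y i : F → G` additive, `z` central, `y i t * x i s * (y i t)⁻¹ = x i s * z (s * t)`, all other
pairs `x, x` and `y, x` commute.
-/

set_option autoImplicit false
set_option linter.dupNamespace false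

namespace Cfsg.Agent.Omega.Lie.FHeis

/-- A Heisenberg configuration over the field `F`. -/
structure FHeis {F : Type*} [Field F] {ι : Type*} {G : Type*} [Group G] (z : F → G) (x y : ι → F → G) :
    Prop where
  z_add : ∀ s t, z (s + t) = z s * z t
  x_add : ∀ i s t, x i (s + t) = x i s * x i t
  y_add : ∀ i s t, y i (s + t) = y i s * y i t
  zx : ∀ i s t, z s * x i t = x i t * z s
  zy : ∀ i s t, z s * y i t = y i t * z s
  xx : ∀ i j s t, i ≠ j → x i s * x j t = x j t * x i s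
  yx : ∀ i j s t, i ≠ j → y i t * x j s = x j s * y i t
  conj : ∀ i s t, y i t * x i s * (y i t)⁻¹ = x i s * z (s * t)

variable {F : Type*} [Field F] {ι : Type*} {G : Type*} [Group G] {z : F → G} {x y : ι → F → G}

theorem add_zero' {f : F → G} (h : ∀ s t, f (s + t) = f s * f t) : f 0 = 1 := by
  have := h 0 0
  rw [add_zero] at this
  exact left_eq_mul.1 this

theorem add_neg' {f : F → G} (h : ∀ s t, f (s + t) = f s * f t) (s : F) : f (-s) = (f s)⁻¹ := by
  have := h s (-s)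
  rw [add_neg_cancel, add_zero' h] at this
  exact eq_inv_of_mul_eq_one_right this.symm

theorem add_comm' {f : F → G} (h : ∀ s t, f (s + t) = f s * f t) (s t : F) : f s * f t = f t * f s := by
  rw [← h, add_comm, h]

theorem add_pow' {f : F → G} (h : ∀ s t, f (s + t) = f s * f t) (s : F) (n : ℕ) : f s ^ n = f (n * s) := by
  induction n with
  | zero => rw [pow_zero, Nat.cast_zero, zero_mul, add_zero' h]
  | succ n ih => rw [pow_succ, ih, ← h]; congr 1; push_cast; ring

theorem add_pow_char {f : F → G} (h : ∀ s t, f (s + t) = f s * f t) {p : ℕ} [CharP F p] (s : F) : f s ^ p = 1 := by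
  rw [add_pow' h, CharP.cast_eq_zero, zero_mul, add_zero' h]

/-- A homomorphism maps configurations to configurations. -/
theorem FHeis.map {H : Type*} [Group H] (h : FHeis z x y) (f : G →* H) :
    FHeis (fun s => f (z s)) (fun i s => f (x i s)) (fun i s => f (y i s)) where
  z_add s t := by rw [h.z_add, map_mul]
  x_add i s t := by rw [h.x_add, map_mul]
  y_add i s t := by rw [h.y_add, map_mul]
  zx i s t := by rw [← map_mul, h.zx, map_mul]
  zy i s t := by rw [← map_mul, h.zy, map_mul]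
  xx i j s t hij := by rw [← map_mul, h.xx i j s t hij, map_mul]
  yx i j s t hij := by rw [← map_mul, h.yx i j s t hij, map_mul]
  conj i s t := by rw [← map_inv, ← map_mul, ← map_mul, h.conj, map_mul]

end Cfsg.Agent.Omega.Lie.FHeis

end

section


/-!
# Lifting Heisenberg configurations over a field to odd central extensions

`π : L → K` onto with central kernel of odd order (possibly divisible by the characteristic).
If the configuration `FHeis z x y` in `K` is accompanied by an element `g` inverting all `x i s, y i s`, by tori,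
by elements permuting the pairs and by separating elements (`Force`), then it lifts to `L` (`lift`).
-/

set_option autoImplicit false
set_option linter.dupNamespace false

universe u v w

namespace Cfsg.Agent.Omega.Lie.HeisLift

open Cfsg.Agent.Omega.Lie.FHeis

section lifts

variable {L : Type v} {K : Type u} [Group L] [Group K] {π : L →* K}

theorem mem_center (hc : π.ker ≤ Subgroup.center L) {c : L} (h : π c = 1) (x : L) : x * c = c * x :=
  Subgroup.mem_center_iff.1 (hc (MonoidHom.mem_ker.2 h)) x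

theorem exists_mul (hc : π.ker ≤ Subgroup.center L) {a b : L} (h : π a = π b) :
    ∃ c, π c = 1 ∧ (∀ x : L, x * c = c * x) ∧ a = b * c :=
  ⟨b⁻¹ * a, by rw [map_mul, map_inv, h, inv_mul_cancel],
    mem_center hc (by rw [map_mul, map_inv, h, inv_mul_cancel]), by group⟩

theorem pow_card (c : L) (h : π c = 1) : c ^ Nat.card π.ker = 1 := by
  have := pow_card_eq_one' (x := (⟨c, MonoidHom.mem_ker.2 h⟩ : π.ker))
  exact congrArg Subtype.val this

theorem eq_one_of_sq (ho : Odd (Nat.card π.ker)) {c : L} (h : π c = 1) (h2 : c * c = 1) : c = 1 := by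
  obtain ⟨m, hm⟩ := ho
  have h3 := pow_card c h
  rw [hm, pow_succ, pow_mul, pow_two, h2, one_pow, one_mul] at h3
  exact h3

theorem inv_lift_unique (hc : π.ker ≤ Subgroup.center L) (ho : Odd (Nat.card π.ker)) {g a b : L}
    (ha : g * a * g⁻¹ = a⁻¹) (hb : g * b * g⁻¹ = b⁻¹) (h : π a = π b) : a = b := by
  obtain ⟨c, hc1, hcc, rfl⟩ := exists_mul hc h
  have h1 : g * (b * c) * g⁻¹ = b⁻¹ * c := by
    calc g * (b * c) * g⁻¹ = g * b * (c * g⁻¹) := by group
      _ = g * b * (g⁻¹ * c) := by rw [hcc]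
      _ = g * b * g⁻¹ * c := by group
      _ = b⁻¹ * c := by rw [hb]
  rw [h1, mul_inv_rev, hcc] at ha
  have h2 : c = c⁻¹ := mul_right_cancel ha
  have h3 : c = 1 := eq_one_of_sq ho hc1 (by nth_rw 1 [h2]; exact inv_mul_cancel c)
  rw [h3, mul_one]

theorem exists_inv_lift (hπ : Function.Surjective π) (hc : π.ker ≤ Subgroup.center L)
    (ho : Odd (Nat.card π.ker)) {g : L} {k : K} (h : π g * k * (π g)⁻¹ = k⁻¹) :
    ∃ a : L, π a = k ∧ g * a * g⁻¹ = a⁻¹ := by
  obtain ⟨a, rfl⟩ := hπ k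
  obtain ⟨m, hm⟩ := ho
  set c := g * a * g⁻¹ * a with hcd
  have hc1 : π c = 1 := by
    rw [hcd, map_mul, map_mul, map_mul, map_inv, h, inv_mul_cancel]
  have hcc := mem_center hc hc1
  have hk : π (c ^ m) = 1 := by rw [map_pow, hc1, one_pow]
  have hcm := mem_center hc hk
  refine ⟨a * c ^ m, by rw [map_mul, hk, mul_one], ?_⟩
  have h3 := pow_card c hc1
  rw [hm] at h3
  have h1 : g * a * g⁻¹ = c * a⁻¹ := by rw [hcd]; group
  have h2 : g * (a * c ^ m) * g⁻¹ = c * a⁻¹ * c ^ m := by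
    calc g * (a * c ^ m) * g⁻¹ = g * a * (c ^ m * g⁻¹) := by group
      _ = g * a * (g⁻¹ * c ^ m) := by rw [hcm]
      _ = g * a * g⁻¹ * c ^ m := by group
      _ = c * a⁻¹ * c ^ m := by rw [h1]
  rw [h2, eq_inv_iff_mul_eq_one]
  calc c * a⁻¹ * c ^ m * (a * c ^ m) = c * a⁻¹ * (c ^ m * a) * c ^ m := by group
    _ = c * a⁻¹ * (a * c ^ m) * c ^ m := by rw [hcm a]
    _ = c ^ (2 * m + 1) := by group
    _ = 1 := h3

theorem conj_inv (hc : π.ker ≤ Subgroup.center L) {g a y : L} (ha : g * a * g⁻¹ = a⁻¹)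
    (h2 : π y * π g = π g * π y) : g * (y * a * y⁻¹) * g⁻¹ = (y * a * y⁻¹)⁻¹ := by
  have h3 : π (g * y) = π (y * g) := by rw [map_mul, map_mul, h2]
  obtain ⟨c, -, hcc, h4⟩ := exists_mul hc h3
  calc g * (y * a * y⁻¹) * g⁻¹ = (g * y) * a * (g * y)⁻¹ := by group
    _ = (y * g) * (c * a) * c⁻¹ * (y * g)⁻¹ := by rw [h4]; group
    _ = (y * g) * (a * c) * c⁻¹ * (y * g)⁻¹ := by rw [hcc]
    _ = y * (g * a * g⁻¹) * y⁻¹ := by group
    _ = (y * a * y⁻¹)⁻¹ := by rw [ha]; group

theorem comm_of_inv (hc : π.ker ≤ Subgroup.center L) (ho : Odd (Nat.card π.ker)) {g a y : L}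
    (ha : g * a * g⁻¹ = a⁻¹) (h1 : π y * π a = π a * π y) (h2 : π y * π g = π g * π y) : y * a = a * y := by
  have h3 : y * a * y⁻¹ = a := inv_lift_unique hc ho (conj_inv hc ha h2) ha (by
    rw [map_mul, map_mul, map_inv, h1, mul_inv_cancel_right])
  calc y * a = y * a * y⁻¹ * y := by group
    _ = a * y := by rw [h3]

theorem comm_of_sep (hπ : Function.Surjective π) (hc : π.ker ≤ Subgroup.center L)
    (ho : Odd (Nat.card π.ker)) {a b : L} {h : K} (h1 : π a * π b = π b * π a)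
    (h2 : h * π a * h⁻¹ = (π a)⁻¹) (h3 : h * π b = π b * h) : a * b = b * a := by
  obtain ⟨h', rfl⟩ := hπ h
  obtain ⟨a', ha', ha''⟩ := exists_inv_lift hπ hc ho h2
  obtain ⟨c, -, hcc, rfl⟩ := exists_mul hc ha'.symm
  have h4 : b * a' = a' * b := comm_of_inv hc ho ha'' (by rw [ha']; exact h1.symm) h3.symm
  calc a' * c * b = a' * (c * b) := by group
    _ = a' * (b * c) := by rw [hcc]
    _ = (a' * b) * c := by group
    _ = b * (a' * c) := by rw [← h4]; group

theorem comm_of_coprime (hc : π.ker ≤ Subgroup.center L) {a b : L} {m n : ℕ} (h : π a * π b = π b * π a)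
    (ha : π a ^ m = 1) (hb : π b ^ n = 1) (hmn : Nat.Coprime m n) : a * b = b * a := by
  have h0 : π (a * b * a⁻¹) = π b := by rw [map_mul, map_mul, map_inv, h, mul_inv_cancel_right]
  obtain ⟨c, hc1, hcc, hab⟩ := exists_mul hc h0
  have hca : ∀ k : ℕ, a ^ k * b * (a ^ k)⁻¹ = b * c ^ k := by
    intro k
    induction k with
    | zero => group
    | succ k ih =>
      calc a ^ (k + 1) * b * (a ^ (k + 1))⁻¹ = a * (a ^ k * b * (a ^ k)⁻¹) * a⁻¹ := by
            rw [pow_succ']; group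
        _ = a * b * (c ^ k * a⁻¹) := by rw [ih]; group
        _ = a * b * (a⁻¹ * c ^ k) := by
            rw [((show Commute a⁻¹ c from hcc a⁻¹).pow_right k).eq]
        _ = a * b * a⁻¹ * c ^ k := by group
        _ = b * c ^ (k + 1) := by rw [hab, pow_succ']; group
  have h1 : c ^ m = 1 := by
    have h2 := hca m
    rw [← mem_center hc (show π (a ^ m) = 1 by rw [map_pow, ha]) b, mul_inv_cancel_right] at h2
    exact (left_eq_mul.1 h2)
  have h2 : c ^ n = 1 := by
    have h3 : a * b ^ n * a⁻¹ = b ^ n * c ^ n := by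
      rw [← conj_pow, hab, (show Commute b c from hcc b).mul_pow]
    rw [mem_center hc (show π (b ^ n) = 1 by rw [map_pow, hb]) a, mul_inv_cancel_right] at h3
    exact left_eq_mul.1 h3
  have h3 : c = 1 := by
    rw [← pow_one c, ← hmn, pow_gcd_eq_one]
    exact ⟨h1, h2⟩
  rw [h3, mul_one] at hab
  calc a * b = a * b * a⁻¹ * a := by group
    _ = b * a := by rw [hab]

end lifts

/-- An alternating form invariant under all scalars vanishes. -/
theorem alt_zero {F : Type*} [Field F] {Z : Type*} [Group Z] (c : F → F → Z)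
    (hz : ∀ s t, c s t * c s t = 1 → c s t = 1) (hcc : ∀ s t s' t', c s t * c s' t' = c s' t' * c s t)
    (hl : ∀ s s' t, c (s + s') t = c s t * c s' t) (hr : ∀ s t t', c s (t + t') = c s t * c s t')
    (ha : ∀ s, c s s = 1) (hu : ∀ u : F, u ≠ 0 → ∀ s t, c (u * s) (u * t) = c s t) (s t : F) : c s t = 1 := by
  have hd : ∀ s t, s ≠ 0 → c s t = c 1 (s⁻¹ * t) := by
    intro s t hs
    have := hu s⁻¹ (inv_ne_zero hs) s t
    rw [inv_mul_cancel₀ hs] at this
    exact this.symm
  have h1 : ∀ a : F, a ≠ 0 → a ≠ 1 → c 1 a = c 1 (a * a) := by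
    intro a h0 h1
    have h2 : (1 : F) - a ≠ 0 := sub_ne_zero.2 h1.symm
    have h3 := hl a⁻¹ (1 - a)⁻¹ 1
    have h4 : a⁻¹ + (1 - a)⁻¹ = (a * (1 - a))⁻¹ := by
      field_simp
      ring
    rw [h4, hd _ _ (inv_ne_zero (mul_ne_zero h0 h2)), hd _ _ (inv_ne_zero h0), hd _ _ (inv_ne_zero h2),
      inv_inv, inv_inv, inv_inv, mul_one, mul_one, mul_one] at h3
    have h5 : c 1 (a * (1 - a)) * c 1 (a * a) = c 1 a := by rw [← hr]; congr 1; ring
    have h6 : c 1 a * c 1 (1 - a) = 1 := by rw [← hr, ← ha 1]; congr 1; ring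
    rw [h3, h6, one_mul] at h5
    exact h5.symm
  have h2 : ∀ a : F, c 1 (-a) = (c 1 a)⁻¹ := by
    intro a
    have := hr 1 a (-a)
    rw [add_neg_cancel] at this
    have h0 : c 1 0 = 1 := by
      have := hr 1 0 0
      rw [add_zero] at this
      exact left_eq_mul.1 this
    rw [h0] at this
    exact eq_inv_of_mul_eq_one_right this.symm
  have h3 : ∀ a : F, a ≠ 0 → c 1 a = 1 := by
    intro a h0
    by_cases ha1 : a = 1
    · rw [ha1]; exact ha 1
    by_cases ha2 : a = -1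
    · rw [ha2, h2, ha 1, inv_one]
    have h4 := h1 a h0 ha1
    have h5 := h1 (-a) (neg_ne_zero.2 h0) (fun h => ha2 (by rw [← h, neg_neg]))
    rw [neg_mul_neg, ← h4, h2] at h5
    apply hz
    nth_rw 1 [← h5]
    exact inv_mul_cancel _
  by_cases hs : s = 0
  · subst hs
    have := hl 0 0 t
    rw [add_zero] at this
    exact left_eq_mul.1 this
  · rw [hd s t hs]
    by_cases ht : t = 0
    · subst ht
      rw [mul_zero]
      have := hr 1 0 0
      rw [add_zero] at this
      exact left_eq_mul.1 this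
    · exact h3 _ (mul_ne_zero (inv_ne_zero hs) ht)

/-- The elements of `K` which force the commutator form of an odd cover. -/
structure Force {F : Type*} [Field F] {ι : Type*} {K : Type u} [Group K] (p : ℕ) (z : F → K) (x y : ι → F → K)
    (g : K) (t : ι → F → K) (w : ι → K) (i₀ : ι) : Prop where
  gx : ∀ i s, g * x i s * g⁻¹ = (x i s)⁻¹
  gy : ∀ i s, g * y i s * g⁻¹ = (y i s)⁻¹
  gz : ∀ s, z s * g = g * z s
  tg : ∀ i u, u ≠ 0 → t i u * g = g * t i u
  tz : ∀ i u, u ≠ 0 → ∀ s, t i u * z s = z s * t i u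
  tord : ∀ i u, u ≠ 0 → Nat.Coprime (orderOf (t i u)) p
  tx : ∀ i u, u ≠ 0 → ∀ s, t i u * x i s * (t i u)⁻¹ = x i (u * s)
  ty : ∀ i u, u ≠ 0 → ∀ s, t i u * y i s * (t i u)⁻¹ = y i (u⁻¹ * s)
  wg : ∀ i, w i * g = g * w i
  wz : ∀ i s, w i * z s = z s * w i
  word : ∀ i, Nat.Coprime (orderOf (w i)) p
  wx : ∀ i s, w i * x i₀ s * (w i)⁻¹ = x i s
  wy : ∀ i s, w i * y i₀ s * (w i)⁻¹ = y i s
  sepxx : ∀ i j, i ≠ j → ∃ h, (∀ s, h * x i s * h⁻¹ = (x i s)⁻¹) ∧ ∀ s, h * x j s = x j s * h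
  sepyx : ∀ i j, i ≠ j → ∃ h, ((∀ s, h * y i s * h⁻¹ = (y i s)⁻¹) ∧ ∀ s, h * x j s = x j s * h) ∨
    ((∀ s, h * y i s = y i s * h) ∧ ∀ s, h * x j s * h⁻¹ = (x j s)⁻¹)

/-- A homomorphism maps the data to data. -/
theorem Force.map {F : Type*} [Field F] {ι : Type*} {K : Type u} [Group K] {p : ℕ} {z : F → K} {x y : ι → F → K}
    {g : K} {t : ι → F → K} {w : ι → K} {i₀ : ι} (h : Force p z x y g t w i₀) {H : Type v} [Group H] (f : K →* H) :
    Force p (fun s => f (z s)) (fun i s => f (x i s)) (fun i s => f (y i s)) (f g) (fun i u => f (t i u))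
      (fun i => f (w i)) i₀ where
  gx i s := by rw [← map_inv, ← map_mul, ← map_mul, h.gx, map_inv]
  gy i s := by rw [← map_inv, ← map_mul, ← map_mul, h.gy, map_inv]
  gz s := by rw [← map_mul, h.gz, map_mul]
  tg i u hu := by rw [← map_mul, h.tg i u hu, map_mul]
  tz i u hu s := by rw [← map_mul, h.tz i u hu, map_mul]
  tord i u hu := Nat.Coprime.coprime_dvd_left (orderOf_map_dvd f _) (h.tord i u hu)
  tx i u hu s := by rw [← map_inv, ← map_mul, ← map_mul, h.tx i u hu]
  ty i u hu s := by rw [← map_inv, ← map_mul, ← map_mul, h.ty i u hu]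
  wg i := by rw [← map_mul, h.wg, map_mul]
  wz i s := by rw [← map_mul, h.wz, map_mul]
  word i := Nat.Coprime.coprime_dvd_left (orderOf_map_dvd f _) (h.word i)
  wx i s := by rw [← map_inv, ← map_mul, ← map_mul, h.wx]
  wy i s := by rw [← map_inv, ← map_mul, ← map_mul, h.wy]
  sepxx i j hij := by
    obtain ⟨k, h1, h2⟩ := h.sepxx i j hij
    exact ⟨f k, fun s => by rw [← map_inv, ← map_inv, ← map_mul, ← map_mul, h1],
      fun s => by rw [← map_mul, h2, map_mul]⟩
  sepyx i j hij := by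
    obtain ⟨k, ⟨h1, h2⟩ | ⟨h1, h2⟩⟩ := h.sepyx i j hij
    · exact ⟨f k, Or.inl ⟨fun s => by rw [← map_inv, ← map_inv, ← map_mul, ← map_mul, h1],
        fun s => by rw [← map_mul, h2, map_mul]⟩⟩
    · exact ⟨f k, Or.inr ⟨fun s => by rw [← map_mul, h1, map_mul],
        fun s => by rw [← map_inv, ← map_inv, ← map_mul, ← map_mul, h2]⟩⟩

section main

variable {F : Type*} [Field F] {ι : Type*} {K : Type u} [Group K] {L : Type v} [Group L] {π : L →* K}

/-- The root groups lift. -/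
theorem lift_root {p : ℕ} [Fact p.Prime] [CharP F p] (hπ : Function.Surjective π)
    (hc : π.ker ≤ Subgroup.center L) (ho : Odd (Nat.card π.ker)) {g : L} {x : F → K}
    (hx : ∀ s t, x (s + t) = x s * x t) (gx : ∀ s, π g * x s * (π g)⁻¹ = (x s)⁻¹) (t : F → K)
    (tg : ∀ u, u ≠ 0 → t u * π g = π g * t u)
    (tx : ∀ u, u ≠ 0 → ∃ u' : F, u' ≠ 0 ∧ t u' = t u' ∧ ∀ s, t u' * x s * (t u')⁻¹ = x (u * s)) :
    ∃ X : F → L, (∀ s, π (X s) = x s) ∧ (∀ s, g * X s * g⁻¹ = (X s)⁻¹) ∧ ∀ s t, X (s + t) = X s * X t := by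
  choose X hX1 hX2 using fun s => exists_inv_lift hπ hc ho (gx s)
  refine ⟨X, hX1, hX2, ?_⟩
  -- the commutators
  have hcen : ∀ s t, π (X s * X t * (X s)⁻¹ * (X t)⁻¹) = 1 := by
    intro s t
    rw [map_mul, map_mul, map_mul, map_inv, map_inv, hX1, hX1, ← hx, add_comm, hx]
    group
  have hcc := fun s t => mem_center hc (hcen s t)
  have hsum : ∀ s t, ∃ c, (∀ x : L, x * c = c * x) ∧ X (s + t) = X s * X t * c := by
    intro s t
    obtain ⟨c, -, h1, h2⟩ := exists_mul hc (a := X (s + t)) (b := X s * X t) (by rw [map_mul, hX1, hX1, hX1, hx])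
    exact ⟨c, h1, h2⟩
  have hone : ∀ s t, X s * X t * (X s)⁻¹ * (X t)⁻¹ = 1 := by
    apply alt_zero (fun s t => X s * X t * (X s)⁻¹ * (X t)⁻¹)
    · intro s t h
      exact eq_one_of_sq ho (hcen s t) h
    · intro s t s' t'
      exact (hcc s' t' _)
    · intro s s' t
      obtain ⟨c, h1, h2⟩ := hsum s s'
      show X (s + s') * X t * (X (s + s'))⁻¹ * (X t)⁻¹ = _
      rw [h2]
      calc X s * X s' * c * X t * (X s * X s' * c)⁻¹ * (X t)⁻¹
          = X s * X s' * (c * X t) * c⁻¹ * (X s * X s')⁻¹ * (X t)⁻¹ := by group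
        _ = X s * X s' * (X t * c) * c⁻¹ * (X s * X s')⁻¹ * (X t)⁻¹ := by rw [h1]
        _ = X s * (X s' * X t * (X s')⁻¹ * (X t)⁻¹) * (X t * (X s)⁻¹ * (X t)⁻¹) := by group
        _ = X s * (X t * (X s)⁻¹ * (X t)⁻¹) * (X s' * X t * (X s')⁻¹ * (X t)⁻¹) := by
            rw [mul_assoc, ← hcc s' t]; group
        _ = _ := by group
    · intro s t t'
      obtain ⟨c, h1, h2⟩ := hsum t t'
      show X s * X (t + t') * (X s)⁻¹ * (X (t + t'))⁻¹ = _
      rw [h2]
      calc X s * (X t * X t' * c) * (X s)⁻¹ * (X t * X t' * c)⁻¹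
          = X s * (X t * X t') * (c * (X s)⁻¹) * c⁻¹ * (X t * X t')⁻¹ := by group
        _ = X s * (X t * X t') * ((X s)⁻¹ * c) * c⁻¹ * (X t * X t')⁻¹ := by rw [h1]
        _ = X s * X t * (X s)⁻¹ * (X s * X t' * (X s)⁻¹ * (X t')⁻¹) * (X t)⁻¹ := by group
        _ = X s * X t * (X s)⁻¹ * ((X t)⁻¹ * (X s * X t' * (X s)⁻¹ * (X t')⁻¹)) := by
            rw [hcc s t' (X t)⁻¹]; group
        _ = _ := by group
    · intro s
      group
    · intro u hu s t'
      obtain ⟨u', hu', -, htx⟩ := tx u hu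
      obtain ⟨τ, hτ⟩ := hπ (t u')
      have h1 : ∀ s, τ * X s * τ⁻¹ = X (u * s) := by
        intro s
        apply inv_lift_unique hc ho (conj_inv hc (hX2 s) (by rw [hτ]; exact tg u' hu')) (hX2 _)
        rw [map_mul, map_mul, map_inv, hτ, hX1, hX1, htx]
      show X (u * s) * X (u * t') * (X (u * s))⁻¹ * (X (u * t'))⁻¹ = X s * X t' * (X s)⁻¹ * (X t')⁻¹
      rw [← h1, ← h1]
      calc τ * X s * τ⁻¹ * (τ * X t' * τ⁻¹) * (τ * X s * τ⁻¹)⁻¹ * (τ * X t' * τ⁻¹)⁻¹
          = τ * (X s * X t' * (X s)⁻¹ * (X t')⁻¹) * τ⁻¹ := by group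
        _ = (X s * X t' * (X s)⁻¹ * (X t')⁻¹) * τ * τ⁻¹ := by rw [hcc s t' τ]
        _ = _ := by group
  intro s s'
  have hcm : X s * X s' = X s' * X s := by
    have h1 := hone s s'
    calc X s * X s' = X s * X s' * (X s)⁻¹ * (X s')⁻¹ * (X s' * X s) := by group
      _ = X s' * X s := by rw [h1, one_mul]
  apply inv_lift_unique hc ho (hX2 _) _ (by rw [map_mul, hX1, hX1, hX1, hx])
  calc g * (X s * X s') * g⁻¹ = (g * X s * g⁻¹) * (g * X s' * g⁻¹) := by group
    _ = (X s' * X s)⁻¹ := by rw [hX2, hX2]; group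
    _ = (X s * X s')⁻¹ := by rw [hcm]

/-- **Lifting of Heisenberg configurations over a field to odd central extensions.** -/
theorem lift {p : ℕ} [Fact p.Prime] [CharP F p] (hπ : Function.Surjective π)
    (hc : π.ker ≤ Subgroup.center L) (ho : Odd (Nat.card π.ker)) {z : F → K} {x y : ι → F → K}
    (h : FHeis z x y) {g : K} {t : ι → F → K} {w : ι → K} {i₀ : ι} (f : Force p z x y g t w i₀) :
    ∃ (z' : F → L) (x' y' : ι → F → L), (∀ s, π (z' s) = z s) ∧ (∀ i s, π (x' i s) = x i s) ∧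
      (∀ i s, π (y' i s) = y i s) ∧ FHeis z' x' y' := by
  obtain ⟨g, rfl⟩ := hπ g
  choose X hX1 hX2 hX3 using fun i => lift_root (p := p) hπ hc ho (h.x_add i) (f.gx i) (t i) (f.tg i)
    (fun u hu => ⟨u, hu, rfl, f.tx i u hu⟩)
  choose Y hY1 hY2 hY3 using fun i => lift_root (p := p) hπ hc ho (h.y_add i) (f.gy i) (t i) (f.tg i)
    (fun u hu => ⟨u⁻¹, inv_ne_zero hu, rfl, fun s => by rw [f.ty i u⁻¹ (inv_ne_zero hu), inv_inv]⟩)
  -- lifts of `z` commute with all `X`, `Y`
  have zX : ∀ (a : L) (s : F), π a = z s → ∀ i r, a * X i r = X i r * a := by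
    intro a s ha i r
    exact comm_of_inv hc ho (hX2 i r) (by rw [ha, hX1, h.zx]) (by rw [ha, f.gz])
  have zY : ∀ (a : L) (s : F), π a = z s → ∀ i r, a * Y i r = Y i r * a := by
    intro a s ha i r
    exact comm_of_inv hc ho (hY2 i r) (by rw [ha, hY1, h.zy]) (by rw [ha, f.gz])
  -- the commutators `β`
  let β : ι → F → F → L := fun i s r => Y i r * X i s * (Y i r)⁻¹ * (X i s)⁻¹
  have hβ : ∀ i s r, π (β i s r) = z (s * r) := by
    intro i s r
    show π (Y i r * X i s * (Y i r)⁻¹ * (X i s)⁻¹) = z (s * r)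
    rw [map_mul, map_mul, map_mul, map_inv, map_inv, hY1, hX1, h.conj, ← h.zx, mul_inv_cancel_right]
  have βX : ∀ i s r j q, β i s r * X j q = X j q * β i s r := fun i s r j q => zX _ _ (hβ i s r) j q
  have βY : ∀ i s r j q, β i s r * Y j q = Y j q * β i s r := fun i s r j q => zY _ _ (hβ i s r) j q
  have hconj : ∀ i s r, Y i r * X i s * (Y i r)⁻¹ = X i s * β i s r := by
    intro i s r
    rw [← βX]
    show _ = Y i r * X i s * (Y i r)⁻¹ * (X i s)⁻¹ * X i s
    group
  have βr : ∀ i s r r', β i s (r + r') = β i s r * β i s r' := by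
    intro i s r r'
    show Y i (r + r') * X i s * (Y i (r + r'))⁻¹ * (X i s)⁻¹ = _
    rw [hY3]
    calc Y i r * Y i r' * X i s * (Y i r * Y i r')⁻¹ * (X i s)⁻¹
        = Y i r * (Y i r' * X i s * (Y i r')⁻¹) * (Y i r)⁻¹ * (X i s)⁻¹ := by group
      _ = Y i r * X i s * (β i s r' * (Y i r)⁻¹) * (X i s)⁻¹ := by rw [hconj]; group
      _ = Y i r * X i s * ((Y i r)⁻¹ * β i s r') * (X i s)⁻¹ := by
          rw [(show Commute (β i s r') (Y i r) from βY i s r' i r).inv_right.eq]
      _ = Y i r * X i s * (Y i r)⁻¹ * (β i s r' * (X i s)⁻¹) := by group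
      _ = Y i r * X i s * (Y i r)⁻¹ * ((X i s)⁻¹ * β i s r') := by
          rw [(show Commute (β i s r') (X i s) from βX i s r' i s).inv_right.eq]
      _ = β i s r * β i s r' := by
          show _ = Y i r * X i s * (Y i r)⁻¹ * (X i s)⁻¹ * β i s r'
          group
  have βt : ∀ i u, u ≠ 0 → ∀ s r, β i (u * s) (u⁻¹ * r) = β i s r := by
    intro i u hu s r
    obtain ⟨τ, hτ⟩ := hπ (t i u)
    have h1 : ∀ s, τ * X i s * τ⁻¹ = X i (u * s) := by
      intro s
      apply inv_lift_unique hc ho (conj_inv hc (hX2 i s) (by rw [hτ]; exact f.tg i u hu)) (hX2 i _)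
      rw [map_mul, map_mul, map_inv, hτ, hX1, hX1, f.tx i u hu]
    have h2 : ∀ s, τ * Y i s * τ⁻¹ = Y i (u⁻¹ * s) := by
      intro s
      apply inv_lift_unique hc ho (conj_inv hc (hY2 i s) (by rw [hτ]; exact f.tg i u hu)) (hY2 i _)
      rw [map_mul, map_mul, map_inv, hτ, hY1, hY1, f.ty i u hu]
    have h3 : τ * β i s r = β i s r * τ :=
      comm_of_coprime hc (m := orderOf (t i u)) (n := p) (by rw [hτ, hβ]; exact f.tz i u hu _)
        (by rw [hτ]; exact pow_orderOf_eq_one _) (by rw [hβ]; exact add_pow_char h.z_add _) (f.tord i u hu)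
    show Y i (u⁻¹ * r) * X i (u * s) * (Y i (u⁻¹ * r))⁻¹ * (X i (u * s))⁻¹ = β i s r
    rw [← h1, ← h2]
    calc τ * Y i r * τ⁻¹ * (τ * X i s * τ⁻¹) * (τ * Y i r * τ⁻¹)⁻¹ * (τ * X i s * τ⁻¹)⁻¹
        = τ * (Y i r * X i s * (Y i r)⁻¹ * (X i s)⁻¹) * τ⁻¹ := by group
      _ = β i s r * τ * τ⁻¹ := by rw [← h3]
      _ = β i s r := by group
  have βone : ∀ i s r, s ≠ 0 → β i s r = β i 1 (s * r) := by
    intro i s r hs
    have h1 := βt i s⁻¹ (inv_ne_zero hs) s r
    rw [inv_mul_cancel₀ hs, inv_inv] at h1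
    exact h1.symm
  have βw : ∀ i s r, β i s r = β i₀ s r := by
    intro i s r
    obtain ⟨ω, hω⟩ := hπ (w i)
    have h1 : ∀ s, ω * X i₀ s * ω⁻¹ = X i s := by
      intro s
      apply inv_lift_unique hc ho (conj_inv hc (hX2 i₀ s) (by rw [hω]; exact f.wg i)) (hX2 i _)
      rw [map_mul, map_mul, map_inv, hω, hX1, hX1, f.wx i]
    have h2 : ∀ s, ω * Y i₀ s * ω⁻¹ = Y i s := by
      intro s
      apply inv_lift_unique hc ho (conj_inv hc (hY2 i₀ s) (by rw [hω]; exact f.wg i)) (hY2 i _)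
      rw [map_mul, map_mul, map_inv, hω, hY1, hY1, f.wy i]
    have h3 : ω * β i₀ s r = β i₀ s r * ω :=
      comm_of_coprime hc (m := orderOf (w i)) (n := p) (by rw [hω, hβ]; exact f.wz i _)
        (by rw [hω]; exact pow_orderOf_eq_one _) (by rw [hβ]; exact add_pow_char h.z_add _) (f.word i)
    show Y i r * X i s * (Y i r)⁻¹ * (X i s)⁻¹ = β i₀ s r
    rw [← h1, ← h2]
    calc ω * Y i₀ r * ω⁻¹ * (ω * X i₀ s * ω⁻¹) * (ω * Y i₀ r * ω⁻¹)⁻¹ * (ω * X i₀ s * ω⁻¹)⁻¹
        = ω * (Y i₀ r * X i₀ s * (Y i₀ r)⁻¹ * (X i₀ s)⁻¹) * ω⁻¹ := by group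
      _ = β i₀ s r * ω * ω⁻¹ := by rw [← h3]
      _ = β i₀ s r := by group
  refine ⟨fun s => β i₀ 1 s, X, Y, fun s => by rw [hβ, one_mul], hX1, hY1, ?_⟩
  refine ⟨fun s r => βr i₀ 1 s r, hX3, hY3, fun i s r => βX i₀ 1 s i r, fun i s r => βY i₀ 1 s i r, ?_, ?_, ?_⟩
  · intro i j s r hij
    obtain ⟨k, hk1, hk2⟩ := f.sepxx i j hij
    exact comm_of_sep hπ hc ho (h := k) (by rw [hX1, hX1, h.xx i j s r hij]) (by rw [hX1, hk1]) (by rw [hX1, hk2])
  · intro i j s r hij
    obtain ⟨k, ⟨hk1, hk2⟩ | ⟨hk1, hk2⟩⟩ := f.sepyx i j hij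
    · exact comm_of_sep hπ hc ho (h := k) (by rw [hX1, hY1, h.yx i j s r hij]) (by rw [hY1, hk1]) (by rw [hX1, hk2])
    · exact (comm_of_sep hπ hc ho (h := k) (by rw [hX1, hY1, h.yx i j s r hij]) (by rw [hX1, hk2])
        (by rw [hY1, hk1])).symm
  · intro i s r
    show Y i r * X i s * (Y i r)⁻¹ = X i s * β i₀ 1 (s * r)
    rw [hconj]
    by_cases hs : s = 0
    · subst hs
      have h1 : ∀ j q, β j 0 q = 1 := by
        intro j q
        show Y j q * X j 0 * (Y j q)⁻¹ * (X j 0)⁻¹ = 1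
        rw [add_zero' (hX3 j)]
        group
      rw [h1, zero_mul, add_zero' (fun s r => βr i₀ 1 s r)]
    · rw [βone i s r hs, βw]

end main

end Cfsg.Agent.Omega.Lie.HeisLift

end

section


/-!
# The lower bound from a Heisenberg configuration over a field

* `FHeis.two_pow_le`: a configuration `FHeis z x y` (`ι` pairs over the finite field `F` of characteristic `p`) in a
  group acting on a `2`-group `V` with `z F` acting nontrivially: `2 ^ (ord_p(2) * |F| ^ |ι|) ≤ |V|`;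
* `LB.fheis`: `K` simple with `FHeis z x y`, `Force ...`, `z ≠ 1`: the same bound for all odd covers of `K`.
-/

set_option autoImplicit false
set_option linter.dupNamespace false

universe u v w

namespace Cfsg.Agent.Omega.Lie.HeisLift

open Cfsg.Agent.Omega.Lie.FHeis Cfsg.Agent.Omega.Lie.Heis

variable {F : Type*} [Field F] {ι : Type*}

/-- **The Heisenberg bound** for `FHeis`. -/
theorem two_pow_le [Finite F] [Finite ι] {p : ℕ} [Fact p.Prime] [CharP F p] (hp2 : p ≠ 2) {E : Type*} [Group E]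
    {z : F → E} {x y : ι → F → E} (h : FHeis z x y) {V : Type*} [CommGroup V] [Finite V] (φ : E →* MulAut V)
    (h2 : IsPGroup 2 V) (hne : ∃ t, φ (z t) ≠ 1) :
    2 ^ (orderOf (2 : ZMod p) * Nat.card F ^ Nat.card ι) ≤ Nat.card V := by
  let e : Fin (Nat.card ι) ≃ ι := (Finite.equivFin ι).symm
  have hH : HeisF.FH p (Nat.card ι) z (fun j => x (e j)) (fun j => y (e j)) (fun _ => 1) := by
    refine ⟨h.z_add, fun j t => add_pow_char (h.x_add _) t, fun j t u => h.zx _ _ _, fun j t u => h.zy _ _ _,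
      fun i j t u => ?_, fun i j hij t u => h.yx _ _ _ _ fun h' => hij (e.injective h'), fun j t u => ?_,
      fun j => one_ne_zero⟩
    · by_cases hij : i = j
      · subst hij
        exact add_comm' (h.x_add _) t u
      · exact h.xx _ _ _ _ fun h' => hij (e.injective h')
    · show y (e j) t * x (e j) u * (y (e j) t)⁻¹ = x (e j) u * z (1 * t * u)
      rw [h.conj, one_mul, mul_comm t u]
  exact hH.two_pow_le φ h2 hp2 hne

/-- **The lower bound in all odd covers** of a simple group `K` with a Heisenberg configuration. -/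
theorem LB.fheis [Finite F] [Finite ι] {p : ℕ} [Fact p.Prime] [CharP F p] (hp2 : p ≠ 2) {K : Type u} [Group K]
    [IsSimpleGroup K] {z : F → K} {x y : ι → F → K} (h : FHeis z x y) (hz : ∃ s, z s ≠ 1) {g : K} {t : ι → F → K}
    {w : ι → K} {i₀ : ι} (f : Force p z x y g t w i₀) :
    Heis.LB.{u, v, w} K (orderOf (2 : ZMod p) * Nat.card F ^ Nat.card ι) := by
  intro L _ _ π hπ hc ho hL V _ _ h2 φ hφ
  obtain ⟨z', x', y', hz', -, -, h'⟩ := lift (p := p) hπ hc ho h f
  refine two_pow_le hp2 h' φ h2 ?_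
  obtain ⟨s, hs⟩ := hz
  refine ⟨s, fun h1 => hs ?_⟩
  have h3 : z' s ∈ π.ker := ker_le_ker hπ hc hL hφ (MonoidHom.mem_ker.2 h1)
  rw [← hz', MonoidHom.mem_ker.1 h3]

end Cfsg.Agent.Omega.Lie.HeisLift

end

section


/-!
# TABLE 2F: the lower bound of `PSp_2m(q)`, `q` odd

`Sp_2m(F)` contains `q^{1+2(m-1)}`: with `U T = [1 T; 0 1]` (`T` symmetric) and `D A = diag(A, A⁻ᵀ)`,
`z s = U (2 s E_oo)`, `x i s = U (s (E_oi + E_io))`, `y i t = D (1 + t E_oi)` (`i ≠ o`).

* `lb`: every nontrivial action of an odd cover of `PSp_2m(F)` (`m ≥ 2`, `char F = p` odd) on a finite abelian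
  2-group `V` has `|V| ≥ 2 ^ (ord_p(2) * |F| ^ (m - 1))`.
-/

set_option autoImplicit false
set_option linter.dupNamespace false

universe u v w

namespace Cfsg.Agent.Omega.TwoF.PspOdd

open Matrix Cfsg Cfsg.Agent.LieClassical.SympCenter Cfsg.Agent.Omega.Lie Cfsg.Agent.Omega.Lie.FHeis
  Cfsg.Agent.Omega.Lie.HeisLift

variable {F : Type u} [Field F] {m : ℕ}

/-- `[1 T; 0 1]` -/
def U (T : Matrix (Fin m) (Fin m) F) (hT : Tᵀ = T) : symplecticGroup (Fin m) F :=
  ⟨fromBlocks 1 T 0 1, upper_mem m hT⟩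

theorem U_congr {T T' : Matrix (Fin m) (Fin m) F} (hT : Tᵀ = T) (hT' : T'ᵀ = T') (h : T = T') : U T hT = U T' hT' := by
  subst h
  rfl

theorem U_mul {T T' : Matrix (Fin m) (Fin m) F} (hT : Tᵀ = T) (hT' : T'ᵀ = T') :
    U T hT * U T' hT' = U (T + T') (by rw [transpose_add, hT, hT']) := by
  apply Subtype.ext
  show fromBlocks 1 T 0 1 * fromBlocks 1 T' 0 1 = fromBlocks 1 (T + T') 0 1
  rw [fromBlocks_multiply]
  simp [add_comm]

theorem U_comm {T T' : Matrix (Fin m) (Fin m) F} (hT : Tᵀ = T) (hT' : T'ᵀ = T') :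
    U T hT * U T' hT' = U T' hT' * U T hT := by
  rw [U_mul, U_mul]
  exact U_congr _ _ (add_comm _ _)

theorem U_inv {T : Matrix (Fin m) (Fin m) F} (hT : Tᵀ = T) :
    (U T hT)⁻¹ = U (-T) (by rw [transpose_neg, hT]) := by
  apply inv_eq_of_mul_eq_one_right
  rw [U_mul]
  apply Subtype.ext
  show fromBlocks 1 (T + -T) 0 1 = 1
  rw [add_neg_cancel, fromBlocks_one]

/-- `diag(A, A⁻ᵀ)` -/
def D : GL (Fin m) F →* symplecticGroup (Fin m) F where
  toFun A := ⟨fromBlocks (A : Matrix (Fin m) (Fin m) F) 0 0 ((A⁻¹ : GL (Fin m) F) : Matrix (Fin m) (Fin m) F)ᵀ, by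
    rw [SymplecticGroup.fromBlocks_mem_iff]
    refine ⟨by simp, by simp, ?_⟩
    rw [transpose_zero, Matrix.zero_mul, sub_zero, ← transpose_mul, ← Units.val_mul, inv_mul_cancel, Units.val_one,
      transpose_one]⟩
  map_one' := by
    apply Subtype.ext
    show fromBlocks ((1 : GL (Fin m) F) : Matrix (Fin m) (Fin m) F) 0 0
      (((1 : GL (Fin m) F)⁻¹ : GL (Fin m) F) : Matrix (Fin m) (Fin m) F)ᵀ = 1
    rw [inv_one, Units.val_one, transpose_one, fromBlocks_one]
  map_mul' A B := by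
    apply Subtype.ext
    show fromBlocks ((A * B : GL (Fin m) F) : Matrix (Fin m) (Fin m) F) 0 0
      (((A * B)⁻¹ : GL (Fin m) F) : Matrix (Fin m) (Fin m) F)ᵀ =
      fromBlocks (A : Matrix (Fin m) (Fin m) F) 0 0 ((A⁻¹ : GL (Fin m) F) : Matrix (Fin m) (Fin m) F)ᵀ *
        fromBlocks (B : Matrix (Fin m) (Fin m) F) 0 0 ((B⁻¹ : GL (Fin m) F) : Matrix (Fin m) (Fin m) F)ᵀ
    rw [fromBlocks_multiply, _root_.mul_inv_rev, Units.val_mul, Units.val_mul, transpose_mul]
    simp

theorem D_U (A : GL (Fin m) F) {T T' : Matrix (Fin m) (Fin m) F} (hT : Tᵀ = T) (hT' : T'ᵀ = T')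
    (h : (A : Matrix (Fin m) (Fin m) F) * T * (A : Matrix (Fin m) (Fin m) F)ᵀ = T') :
    D A * U T hT * (D A)⁻¹ = U T' hT' := by
  rw [mul_inv_eq_iff_eq_mul]
  apply Subtype.ext
  show fromBlocks (A : Matrix (Fin m) (Fin m) F) 0 0 ((A⁻¹ : GL (Fin m) F) : Matrix (Fin m) (Fin m) F)ᵀ *
      fromBlocks 1 T 0 1 = fromBlocks 1 T' 0 1 *
      fromBlocks (A : Matrix (Fin m) (Fin m) F) 0 0 ((A⁻¹ : GL (Fin m) F) : Matrix (Fin m) (Fin m) F)ᵀ
  have h1 : T' * ((A⁻¹ : GL (Fin m) F) : Matrix (Fin m) (Fin m) F)ᵀ = (A : Matrix (Fin m) (Fin m) F) * T := by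
    rw [← h, Matrix.mul_assoc, ← transpose_mul, ← Units.val_mul, inv_mul_cancel, Units.val_one, transpose_one,
      Matrix.mul_one]
  rw [fromBlocks_multiply, fromBlocks_multiply, h1]
  simp

theorem D_U_comm (A : GL (Fin m) F) {T : Matrix (Fin m) (Fin m) F} (hT : Tᵀ = T)
    (h : (A : Matrix (Fin m) (Fin m) F) * T * (A : Matrix (Fin m) (Fin m) F)ᵀ = T) :
    D A * U T hT = U T hT * D A :=
  mul_inv_eq_iff_eq_mul.1 (D_U A hT hT h)

/-- diagonal matrices -/
def Dg : (Fin m → Fˣ) →* GL (Fin m) F where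
  toFun d := ⟨diagonal fun i => (d i : F), diagonal fun i => ((d i)⁻¹ : Fˣ), by
    rw [diagonal_mul_diagonal]; simp, by rw [diagonal_mul_diagonal]; simp⟩
  map_one' := by
    apply Units.ext
    show (diagonal fun i => (((1 : Fin m → Fˣ) i : Fˣ) : F)) = 1
    simp
  map_mul' d d' := by
    apply Units.ext
    show (diagonal fun i => (((d * d') i : Fˣ) : F)) = (diagonal fun i => (d i : F)) * diagonal fun i => (d' i : F)
    rw [diagonal_mul_diagonal]
    simp

theorem Dg_val (d : Fin m → Fˣ) : ((Dg d : GL (Fin m) F) : Matrix (Fin m) (Fin m) F) = diagonal fun i => (d i : F) :=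
  rfl

/-- permutation matrices -/
def P (σ : Equiv.Perm (Fin m)) : GL (Fin m) F :=
  ⟨σ.permMatrix F, σ⁻¹.permMatrix F, by
    rw [Equiv.Perm.permMatrix, PEquiv.toMatrix_toPEquiv_mul]
    ext a b
    simp [Equiv.Perm.permMatrix, PEquiv.toMatrix_apply, Matrix.one_apply, Equiv.toPEquiv_apply], by
    rw [Equiv.Perm.permMatrix, PEquiv.toMatrix_toPEquiv_mul]
    ext a b
    simp [Equiv.Perm.permMatrix, PEquiv.toMatrix_apply, Matrix.one_apply, Equiv.toPEquiv_apply]⟩

theorem P_conj (σ : Equiv.Perm (Fin m)) (T : Matrix (Fin m) (Fin m) F) :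
    ((P σ : GL (Fin m) F) : Matrix (Fin m) (Fin m) F) * T * ((P σ : GL (Fin m) F) : Matrix (Fin m) (Fin m) F)ᵀ =
      T.submatrix σ σ := by
  show σ.permMatrix F * T * (σ.permMatrix F)ᵀ = T.submatrix σ σ
  rw [transpose_permMatrix, Equiv.Perm.permMatrix, Equiv.Perm.permMatrix, PEquiv.toMatrix_toPEquiv_mul,
    PEquiv.mul_toMatrix_toPEquiv]
  rfl

theorem P_sq (i j : Fin m) : (P (Equiv.swap i j) : GL (Fin m) F) ^ 2 = 1 := by
  have h1 : (P (Equiv.swap i j) : GL (Fin m) F)⁻¹ = P (Equiv.swap i j) := by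
    apply Units.ext
    show (Equiv.swap i j)⁻¹.permMatrix F = (Equiv.swap i j).permMatrix F
    rw [Equiv.swap_inv]
  rw [pow_two]
  nth_rw 1 [← h1]
  exact inv_mul_cancel _

theorem P_Dg (σ : Equiv.Perm (Fin m)) (d : Fin m → Fˣ) (h : ∀ a, d (σ a) = d a) :
    (P σ : GL (Fin m) F) * Dg d = Dg d * P σ := by
  apply Units.ext
  show σ.permMatrix F * diagonal (fun i => (d i : F)) = diagonal (fun i => (d i : F)) * σ.permMatrix F
  ext a b
  rw [mul_diagonal, diagonal_mul, Equiv.Perm.permMatrix, PEquiv.toMatrix_apply]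
  simp only [Equiv.toPEquiv_apply, Option.mem_def, Option.some.injEq]
  split_ifs with h1
  · rw [← h1, h, one_mul, mul_one]
  · rw [mul_zero, zero_mul]

/-! ### The elements -/

/-- `1 + t E_oi` -/
def Y {o i : Fin m} (h : i ≠ o) (t : F) : GL (Fin m) F :=
  ⟨1 + single o i t, 1 - single o i t, by
    rw [add_mul, mul_sub, mul_sub, single_mul_single_of_ne (h := h)]; simp, by
    rw [sub_mul, mul_add, mul_add, single_mul_single_of_ne (h := h)]; simp⟩

theorem Y_val {o i : Fin m} (h : i ≠ o) (t : F) :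
    ((Y h t : GL (Fin m) F) : Matrix (Fin m) (Fin m) F) = 1 + single o i t := rfl

theorem Y_add {o i : Fin m} (h : i ≠ o) (s t : F) : Y h (s + t) = Y h s * Y h t := by
  apply Units.ext
  rw [Units.val_mul, Y_val, Y_val, Y_val, add_mul, mul_add, mul_add, single_mul_single_of_ne (h := h), single_add]
  simp [add_comm, add_assoc]

theorem Y_neg {o i : Fin m} (h : i ≠ o) (s : F) : Y h (-s) = (Y h s)⁻¹ := add_neg' (Y_add h) s

theorem Dg_Y {o i : Fin m} (h : i ≠ o) (d : Fin m → Fˣ) (s : F) :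
    Dg d * Y h s * (Dg d)⁻¹ = Y h ((d o : F) * ((d i)⁻¹ : Fˣ) * s) := by
  rw [mul_inv_eq_iff_eq_mul]
  apply Units.ext
  rw [Units.val_mul, Units.val_mul, Y_val, Y_val, Dg_val, mul_add, add_mul, Matrix.mul_one, Matrix.one_mul]
  congr 1
  ext a b
  rw [diagonal_mul, mul_diagonal, single_apply, single_apply]
  split_ifs with h1
  · obtain ⟨rfl, rfl⟩ := h1
    rw [mul_right_comm _ s, mul_assoc (d o : F), Units.inv_mul, mul_one]
  · rw [mul_zero, zero_mul]

theorem submatrix_add' (σ : Equiv.Perm (Fin m)) (A B : Matrix (Fin m) (Fin m) F) :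
    (A + B).submatrix σ σ = A.submatrix σ σ + B.submatrix σ σ := rfl

theorem submatrix_single {i j i' j' : Fin m} (σ : Equiv.Perm (Fin m)) (hi : σ i' = i) (hj : σ j' = j) (s : F) :
    (single i j s).submatrix σ σ = single i' j' s := by
  subst hi hj
  ext a b
  rw [submatrix_apply, single_apply, single_apply]
  simp only [σ.injective.eq_iff]

theorem P_Y {o i j : Fin m} (hi : i ≠ o) (hj : j ≠ o) (σ : Equiv.Perm (Fin m)) (ho : σ o = o) (hij : σ j = i) (s : F) :
    P σ * Y hi s * (P σ)⁻¹ = Y hj s := by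
  apply Units.ext
  have h1 : (((P σ : GL (Fin m) F)⁻¹ : GL (Fin m) F) : Matrix (Fin m) (Fin m) F) =
      ((P σ : GL (Fin m) F) : Matrix (Fin m) (Fin m) F)ᵀ := (transpose_permMatrix σ).symm
  rw [Units.val_mul, Units.val_mul, h1, P_conj, Y_val, Y_val, submatrix_add', submatrix_one_equiv,
    submatrix_single σ ho hij]

theorem P_T {o i j : Fin m} (σ : Equiv.Perm (Fin m)) (ho : σ o = o) (hij : σ j = i) (s : F) :
    ((P σ : GL (Fin m) F) : Matrix (Fin m) (Fin m) F) * (single o i s + single i o s) *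
      ((P σ : GL (Fin m) F) : Matrix (Fin m) (Fin m) F)ᵀ = single o j s + single j o s := by
  rw [P_conj, submatrix_add', submatrix_single σ ho hij, submatrix_single σ hij ho]

theorem sym_x (o i : Fin m) (s : F) : (single o i s + single i o s)ᵀ = single o i s + single i o s := by
  rw [transpose_add, transpose_single, transpose_single, add_comm]

theorem sym_z (o : Fin m) (s : F) : (single o o s)ᵀ = single o o s := transpose_single _ _ _

/-- `x i s = U (s (E_oi + E_io))` -/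
def x (o i : Fin m) (s : F) : symplecticGroup (Fin m) F := U (single o i s + single i o s) (sym_x o i s)

/-- `z s = U (2 s E_oo)` -/
def z (o : Fin m) (s : F) : symplecticGroup (Fin m) F := U (single o o (2 * s)) (sym_z o _)

theorem fheis (o : Fin m) : FHeis (ι := {i : Fin m // i ≠ o}) (z (F := F) o) (fun i => x o i)
    (fun i s => D (Y i.2 s)) where
  z_add s t := by
    rw [z, z, z, U_mul]
    exact U_congr _ _ (by rw [mul_add, single_add])
  x_add i s t := by
    rw [x, x, x, U_mul]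
    exact U_congr _ _ (by rw [single_add, single_add]; abel)
  y_add i s t := by rw [Y_add, map_mul]
  zx i s t := U_comm _ _
  zy i s t := by
    refine (D_U_comm _ _ ?_).symm
    have h1 := i.2
    have h2 := i.2.symm
    simp only [Y_val, transpose_add, transpose_one, transpose_single, add_mul, mul_add, Matrix.mul_one,
      Matrix.one_mul]
    simp [h1, h2, single_mul_single_of_ne]
  xx i j s t _ := U_comm _ _
  yx i j s t hij := by
    refine D_U_comm _ _ ?_
    have hij' : (i : Fin m) ≠ j := fun h => hij (Subtype.ext h)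
    have h1 := i.2
    have h2 := i.2.symm
    simp only [Y_val, transpose_add, transpose_one, transpose_single, add_mul, mul_add, Matrix.mul_one,
      Matrix.one_mul]
    simp [h1, h2, hij', hij'.symm, single_mul_single_of_ne]
  conj i s t := by
    have h1 := i.2
    have h2 := i.2.symm
    rw [x, z, U_mul]
    refine D_U _ _ _ ?_
    simp only [Y_val, transpose_add, transpose_one, transpose_single, add_mul, mul_add, Matrix.mul_one,
      Matrix.one_mul]
    simp only [ne_eq, h1, h2, not_false_eq_true, single_mul_single_of_ne, single_mul_single_same, add_zero,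
      Matrix.zero_mul]
    rw [two_mul, single_add, mul_comm t s]
    abel

theorem Dg_x {o i : Fin m} (d : Fin m → Fˣ) (s : F) :
    D (Dg d) * x o i s * (D (Dg d))⁻¹ = x o i ((d o : F) * (d i : F) * s) := by
  refine D_U _ _ _ ?_
  rw [Dg_val, diagonal_transpose, mul_add, add_mul]
  congr 1
  · ext a b
    rw [mul_diagonal, diagonal_mul, single_apply, single_apply]
    split_ifs with h1
    · obtain ⟨rfl, rfl⟩ := h1
      ring
    · rw [mul_zero, zero_mul]
  · ext a b
    rw [mul_diagonal, diagonal_mul, single_apply, single_apply]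
    split_ifs with h1
    · obtain ⟨rfl, rfl⟩ := h1
      ring
    · rw [mul_zero, zero_mul]

theorem Dg_z {o : Fin m} (d : Fin m → Fˣ) (s : F) (h : (d o : F) * (d o : F) = 1) :
    D (Dg d) * z o s = z o s * D (Dg d) := by
  refine D_U_comm _ _ ?_
  rw [Dg_val, diagonal_transpose]
  ext a b
  rw [mul_diagonal, diagonal_mul, single_apply]
  split_ifs with h1
  · obtain ⟨rfl, rfl⟩ := h1
    linear_combination (2 * s) * h
  · rw [mul_zero, zero_mul]

theorem Dg_y {o i : Fin m} (h : i ≠ o) (d : Fin m → Fˣ) (s : F) :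
    D (Dg d) * D (Y h s) * (D (Dg d))⁻¹ = D (Y h ((d o : F) * ((d i)⁻¹ : Fˣ) * s)) := by
  rw [← map_mul, ← map_inv, ← map_mul, Dg_Y]

/-- The sign change at `i`. -/
def sg (i : Fin m) : symplecticGroup (Fin m) F := D (Dg (Pi.mulSingle i (-1)))

/-- The torus element at `i`. -/
noncomputable def tor (i : Fin m) (u : F) : symplecticGroup (Fin m) F :=
  open Classical in D (Dg (Pi.mulSingle i (if h : u = 0 then 1 else Units.mk0 u h)))

theorem coprime_of_pow {G : Type*} [Group G] {g : G} {n k : ℕ} (h : g ^ n = 1) (hn : Nat.Coprime n k) :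
    Nat.Coprime (orderOf g) k :=
  Nat.Coprime.coprime_dvd_left (orderOf_dvd_of_pow_eq_one h) hn

theorem x_neg (o i : Fin m) (s : F) : x o i (-s) = (x o i s)⁻¹ :=
  add_neg' (f := x o i) (fun s t => by
    rw [x, x, x, U_mul]
    exact U_congr _ _ (by rw [single_add, single_add]; abel)) s

theorem force (o : Fin m) (i₀ : {i : Fin m // i ≠ o}) [Finite F] {p : ℕ} [Fact p.Prime] [CharP F p] (hp2 : p ≠ 2) :
    Force (ι := {i : Fin m // i ≠ o}) p (z (F := F) o) (fun i => x o i) (fun i s => D (Y i.2 s))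
      (sg o) (fun i u => tor i.1 u) (fun i => D (P (Equiv.swap i₀.1 i.1))) i₀ where
  gx i s := by
    rw [sg, Dg_x, ← x_neg]
    congr 1
    simp [Pi.mulSingle_eq_of_ne i.2]
  gy i s := by
    rw [sg, Dg_y, ← map_inv, ← Y_neg]
    congr 2
    simp [Pi.mulSingle_eq_of_ne i.2]
  gz s := by
    rw [sg]
    exact (Dg_z _ _ (by simp)).symm
  tg i u hu := by
    rw [sg, tor, ← map_mul, ← map_mul, ← map_mul, ← map_mul, mul_comm]
  tz i u hu s := by
    rw [tor]
    exact Dg_z _ _ (by simp [Pi.mulSingle_eq_of_ne i.2.symm])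
  tord i u hu := by
    have : Fintype F := Fintype.ofFinite F
    classical
    refine coprime_of_pow (n := Fintype.card F - 1) ?_ ?_
    · rw [tor, ← map_pow, ← map_pow, ← Pi.mulSingle_pow]
      have : (if h : u = 0 then 1 else Units.mk0 u h : Fˣ) ^ (Fintype.card F - 1) = 1 := by
        apply Units.ext
        rw [Units.val_pow_eq_pow_val, Units.val_one]
        exact FiniteField.pow_card_sub_one_eq_one _ (Units.ne_zero _)
      rw [this, Pi.mulSingle_one, map_one, map_one]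
    · obtain ⟨n, hp, hn⟩ := FiniteField.card F p
      rw [hn]
      have h1 : p ∣ p ^ (n : ℕ) := dvd_pow_self p n.ne_zero
      have h2 : 1 ≤ p ^ (n : ℕ) := Nat.one_le_pow _ _ hp.pos
      rw [Nat.coprime_comm, hp.coprime_iff_not_dvd]
      intro h3
      have h4 : p ∣ 1 := by
        have h5 := Nat.dvd_sub h1 h3
        rwa [Nat.sub_sub_self h2] at h5
      exact hp.one_lt.ne' (Nat.dvd_one.1 h4)
  tx i u hu s := by
    rw [tor, Dg_x]
    congr 1
    simp [Pi.mulSingle_eq_of_ne i.2.symm, hu]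
  ty i u hu s := by
    rw [tor, Dg_y]
    congr 2
    simp [Pi.mulSingle_eq_of_ne i.2.symm, hu]
  wg i := by
    rw [sg, ← map_mul, ← map_mul]
    congr 1
    refine P_Dg _ _ ?_
    intro a
    by_cases h1 : a = o
    · rw [h1, Equiv.swap_apply_of_ne_of_ne i₀.2.symm i.2.symm]
    · have h2 : Equiv.swap i₀.1 i.1 a ≠ o := by
        intro h3
        apply h1
        have h4 : Equiv.swap i₀.1 i.1 o = o := Equiv.swap_apply_of_ne_of_ne i₀.2.symm i.2.symm
        exact (Equiv.swap i₀.1 i.1).injective (h3.trans h4.symm)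
      rw [Pi.mulSingle_eq_of_ne h1, Pi.mulSingle_eq_of_ne h2]
  wz i s := by
    refine D_U_comm _ _ ?_
    rw [P_conj, submatrix_single (i' := o) (j' := o)]
    · exact Equiv.swap_apply_of_ne_of_ne i₀.2.symm i.2.symm
    · exact Equiv.swap_apply_of_ne_of_ne i₀.2.symm i.2.symm
  word i := by
    refine coprime_of_pow (n := 2) ?_ ((Nat.coprime_primes Nat.prime_two Fact.out).2 hp2.symm)
    rw [← map_pow, P_sq, map_one]
  wx i s := by
    refine D_U _ _ _ (P_T _ ?_ ?_ s)
    · exact Equiv.swap_apply_of_ne_of_ne i₀.2.symm i.2.symm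
    · exact Equiv.swap_apply_right _ _
  wy i s := by
    rw [← map_mul, ← map_inv, ← map_mul, P_Y i₀.2 i.2 _ ?_ ?_ s]
    · exact Equiv.swap_apply_of_ne_of_ne i₀.2.symm i.2.symm
    · exact Equiv.swap_apply_right _ _
  sepxx i j hij := by
    have hij' : (i : Fin m) ≠ j := fun h => hij (Subtype.ext h)
    refine ⟨sg i.1, fun s => ?_, fun s => ?_⟩
    · rw [sg, Dg_x, ← x_neg]
      congr 1
      simp [Pi.mulSingle_eq_of_ne i.2.symm]
    · rw [sg, ← mul_inv_eq_iff_eq_mul, Dg_x]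
      congr 1
      simp [Pi.mulSingle_eq_of_ne i.2.symm, Pi.mulSingle_eq_of_ne hij'.symm]
  sepyx i j hij := by
    have hij' : (i : Fin m) ≠ j := fun h => hij (Subtype.ext h)
    refine ⟨sg i.1, Or.inl ⟨fun s => ?_, fun s => ?_⟩⟩
    · rw [sg, Dg_y, ← map_inv, ← Y_neg]
      congr 2
      simp [Pi.mulSingle_eq_of_ne i.2.symm]
    · rw [sg, ← mul_inv_eq_iff_eq_mul, Dg_x]
      congr 1
      simp [Pi.mulSingle_eq_of_ne i.2.symm, Pi.mulSingle_eq_of_ne hij'.symm]

theorem z_notMem (o : Fin m) (h2 : (2 : F) ≠ 0) :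
    z (F := F) o 1 ∉ Subgroup.center (symplecticGroup (Fin m) F) := by
  intro h
  obtain ⟨a, ha⟩ := (mem_center_iff m _).1 h
  have h1 := congrFun (congrFun ha (Sum.inl o)) (Sum.inr o)
  have h3 : (z (F := F) o 1).1 (Sum.inl o) (Sum.inr o) = 2 := by
    show fromBlocks 1 (single o o (2 * 1)) 0 1 (Sum.inl o) (Sum.inr o) = (2 : F)
    rw [fromBlocks_apply₁₂, single_apply_same, mul_one]
  rw [h3, Matrix.smul_apply, one_apply_ne (by simp), smul_zero] at h1
  exact h2 h1

/-- **The lower bound of `PSp_2m(F)`**, `F` of odd characteristic `p`, `m ≥ 2`. -/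
theorem lb {F : Type u} [Field F] [Finite F] {p : ℕ} [Fact p.Prime] [CharP F p] (hp2 : p ≠ 2) {m : ℕ} (hm : 2 ≤ m) :
    Heis.LB.{u, v, w} (PSp m F) (orderOf (2 : ZMod p) * Nat.card F ^ (m - 1)) := by
  have : Fintype F := Fintype.ofFinite F
  have hc : 3 ≤ Fintype.card F := by
    obtain ⟨n, hp, hn⟩ := FiniteField.card F p
    rw [hn]
    have h1 : p ^ 1 ≤ p ^ (n : ℕ) := Nat.pow_le_pow_right hp.pos n.pos
    have h2 := hp.two_le
    have : p ≠ 2 := hp2
    rw [pow_one] at h1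
    omega
  have : IsSimpleGroup (PSp m F) := S0270.result m hm fun _ => hc
  let o : Fin m := ⟨0, by omega⟩
  let i₀ : {i : Fin m // i ≠ o} := ⟨⟨1, by omega⟩, by simp [o, Fin.ext_iff]⟩
  let q : symplecticGroup (Fin m) F →* PSp m F := QuotientGroup.mk' _
  have h2 : (2 : F) ≠ 0 := by
    intro h
    have h3 : ((2 : ℕ) : F) = 0 := by exact_mod_cast h
    rw [CharP.cast_eq_zero_iff F p] at h3
    exact hp2 ((Nat.prime_dvd_prime_iff_eq Fact.out Nat.prime_two).1 h3)
  have h3 := LB.fheis.{u, v, w} (F := F) (p := p) hp2 ((fheis (F := F) o).map q) ⟨1, fun h => z_notMem (F := F) o h2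
    ((QuotientGroup.eq_one_iff _).1 h)⟩ ((force (F := F) o i₀ hp2).map q)
  have h4 : Nat.card {i : Fin m // i ≠ o} = m - 1 := by
    rw [Nat.card_eq_fintype_card, Fintype.card_subtype_compl, Fintype.card_fin, Fintype.card_unique]
  rwa [h4] at h3

end Cfsg.Agent.Omega.TwoF.PspOdd

end

section


/-!
# The K-fact (ZS) from the centraliser of a 2-subgroup (helper676)

* `NoCenMove.of_cent`: `E` is a 2-subgroup of `X` and no automorphism of odd order moves an involution of `C(E)` to a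
  different involution of `C(E)`;
* `NoCenMove.of_inv`: the same with an invariant `inv : X → α` which separates the involutions of `C(E)`.
-/

set_option autoImplicit false

namespace Cfsg.Agent.Omega.Lie.CenInv

open Subgroup Cfsg.Agent.Omega.Lie.CenTwo

variable {X : Type*} [Group X]

/-- **Criterion.** -/
theorem of_cent [Finite X] {E : Subgroup X} (hE : IsPGroup 2 E)
    (h : ∀ u v : X, (∀ x ∈ E, x * u = u * x) → (∀ x ∈ E, x * v = v * x) → u * u = 1 → v * v = 1 →
      u ≠ 1 → v ≠ 1 → ∀ α : MulAut X, Odd (orderOf α) → α u = v → u = v) : NoCenMove X := by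
  obtain ⟨S, hS⟩ := hE.exists_le_sylow
  refine NoCenMove.of_classes (S := S) fun u _ hu huu v _ hv hvv α hα hαu => ?_
  by_cases hu1 : u = 1
  · rw [hu1, map_one] at hαu
    rw [hu1, hαu]
  · exact h u v (fun x hx => hu x (hS hx)) (fun x hx => hv x (hS hx)) huu hvv hu1
      (fun hv1 => hu1 (α.injective (by rw [hαu, hv1, map_one]))) α hα hαu

/-- **Criterion**, with an invariant. -/
theorem of_inv [Finite X] {E : Subgroup X} (hE : IsPGroup 2 E) {A : Type*} (inv : X → A)
    (hinv : ∀ α : MulAut X, Odd (orderOf α) → ∀ u, inv (α u) = inv u)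
    (h : ∀ u v : X, (∀ x ∈ E, x * u = u * x) → (∀ x ∈ E, x * v = v * x) → u * u = 1 → v * v = 1 →
      u ≠ 1 → v ≠ 1 → inv u = inv v → u = v) : NoCenMove X :=
  of_cent hE fun u v h1 h2 h3 h4 h5 h6 α hα he => h u v h1 h2 h3 h4 h5 h6 (by rw [← he, hinv α hα])

/-- exactly one involution in `C(E)` -/
theorem of_one_involution [Finite X] {E : Subgroup X} (hE : IsPGroup 2 E) (z : X)
    (h : ∀ u : X, (∀ x ∈ E, x * u = u * x) → u * u = 1 → u ≠ 1 → u = z) : NoCenMove X :=
  of_cent hE fun u v h1 h2 h3 h4 h5 h6 _ _ _ => (h u h1 h3 h5).trans (h v h2 h4 h6).symm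

end Cfsg.Agent.Omega.Lie.CenInv

end

section


/-!
# A 2-group of permutations with few invariant sets (helper676; K-fact (ZS), orthogonal rows)

Points `Pt e = Σ k, (Fin (e k) → ZMod 2)`: the blocks have `2 ^ (e k)` points.  `near` : the permutations which agree
with a translation up to the fixed involution `tr (dd e)`; it has exponent 4.
`const_on_blocks` : a function invariant under the even elements of `near` with a fixed point is constant on the blocks.
-/

set_option autoImplicit false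

namespace Cfsg.Agent.Omega.Lie.CenPerm

open Equiv Equiv.Perm

section near

variable {ι : Type*}

/-- the permutations which agree with an element of `T` up to `σ` at each point -/
def near (σ : Perm ι) (T : Subgroup (Perm ι)) (hσ : ∀ x, σ (σ x) = x)
    (hT : ∀ τ ∈ T, ∀ x, τ (σ x) = σ (τ x)) : Subgroup (Perm ι) where
  carrier := {π | ∃ τ ∈ T, ∀ x, π x = τ x ∨ π x = σ (τ x)}
  mul_mem' := by
    rintro π π' ⟨τ, hτ, h⟩ ⟨τ', hτ', h'⟩
    refine ⟨τ * τ', mul_mem hτ hτ', fun x => ?_⟩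
    rw [Perm.mul_apply, Perm.mul_apply]
    rcases h' x with e' | e' <;> rcases h (π' x) with e | e <;> rw [e, e']
    · left; rfl
    · right; rfl
    · right; rw [hT τ hτ]
    · left; rw [hT τ hτ, hσ]
  one_mem' := ⟨1, one_mem _, fun x => Or.inl rfl⟩
  inv_mem' := by
    rintro π ⟨τ, hτ, h⟩
    refine ⟨τ⁻¹, inv_mem hτ, fun y => ?_⟩
    obtain ⟨x, rfl⟩ := π.surjective y
    have h1 : π⁻¹ (π x) = x := π.symm_apply_apply x
    have h2 : ∀ z, τ⁻¹ (τ z) = z := τ.symm_apply_apply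
    rw [h1]
    rcases h x with e | e
    · left; rw [e, h2]
    · right
      rw [e, ← hT τ hτ, h2, hσ]

theorem mem_near {σ : Perm ι} {T : Subgroup (Perm ι)} {hσ : ∀ x, σ (σ x) = x}
    {hT : ∀ τ ∈ T, ∀ x, τ (σ x) = σ (τ x)} {π : Perm ι} :
    π ∈ near σ T hσ hT ↔ ∃ τ ∈ T, ∀ x, π x = τ x ∨ π x = σ (τ x) := Iff.rfl

theorem near_four {σ : Perm ι} {T : Subgroup (Perm ι)} {hσ : ∀ x, σ (σ x) = x}
    {hT : ∀ τ ∈ T, ∀ x, τ (σ x) = σ (τ x)} (h2 : ∀ τ ∈ T, ∀ x, τ (τ x) = x) {π : Perm ι}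
    (hπ : π ∈ near σ T hσ hT) (x : ι) : π (π (π (π x))) = x := by
  obtain ⟨τ, hτ, h⟩ := hπ
  have h1 : ∀ x, π (π x) = x ∨ π (π x) = σ x := by
    intro x
    rcases h x with e | e <;> rcases h (π x) with e' | e' <;> rw [e', e]
    · left; exact h2 τ hτ x
    · right; rw [h2 τ hτ x]
    · right; rw [hT τ hτ, h2 τ hτ x]
    · left; rw [hT τ hτ, hσ, h2 τ hτ x]
  rcases h1 x with e | e
  · rw [e, e]
  · by_cases hx : σ x = x
    · rw [e, hx, e, hx]
    · rcases h1 (σ x) with e' | e'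
      · exfalso
        apply hx
        have := π.injective (π.injective (e'.trans e.symm))
        exact this
      · rw [e, e', hσ]

end near

section blocks

variable {κ : Type} (e : κ → ℕ)

/-- the points -/
abbrev Pt := Σ k, (Fin (e k) → ZMod 2)

variable {e}

/-- translations -/
def tr (t : ∀ k, Fin (e k) → ZMod 2) : Perm (Pt e) := Equiv.sigmaCongrRight fun k => Equiv.addRight (t k)

theorem tr_apply (t : ∀ k, Fin (e k) → ZMod 2) (k : κ) (v : Fin (e k) → ZMod 2) :
    tr t ⟨k, v⟩ = ⟨k, v + t k⟩ := rfl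

theorem add_self' {k : κ} (v : Fin (e k) → ZMod 2) : v + v = 0 := by
  funext j
  exact CharTwo.add_self_eq_zero _

theorem tr_tr (t : ∀ k, Fin (e k) → ZMod 2) (x : Pt e) : tr t (tr t x) = x := by
  obtain ⟨k, v⟩ := x
  rw [tr_apply, tr_apply, add_assoc, add_self', add_zero]

theorem tr_comm (t t' : ∀ k, Fin (e k) → ZMod 2) (x : Pt e) : tr t (tr t' x) = tr t' (tr t x) := by
  obtain ⟨k, v⟩ := x
  rw [tr_apply, tr_apply, tr_apply, tr_apply, add_right_comm]

variable (e)

/-- the group of translations -/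
def TT : Subgroup (Perm (Pt e)) where
  carrier := Set.range tr
  mul_mem' := by
    rintro _ _ ⟨t, rfl⟩ ⟨t', rfl⟩
    refine ⟨t + t', ?_⟩
    ext x : 1
    obtain ⟨k, v⟩ := x
    rw [Perm.mul_apply, tr_apply, tr_apply, tr_apply, Pi.add_apply, add_right_comm, add_assoc]
  one_mem' := ⟨0, by
    ext x : 1
    obtain ⟨k, v⟩ := x
    rw [tr_apply, Pi.zero_apply, add_zero]
    rfl⟩
  inv_mem' := by
    rintro _ ⟨t, rfl⟩
    refine ⟨t, ?_⟩
    rw [eq_inv_iff_mul_eq_one]
    ext x : 1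
    exact tr_tr t x

/-- the fixed translation -/
def dd (k : κ) : Fin (e k) → ZMod 2 := fun j => if (j : ℕ) = 0 then 1 else 0

/-- the 2-group of permutations -/
def PP : Subgroup (Perm (Pt e)) := near (tr (dd e)) (TT e) (tr_tr _) (by
  rintro _ ⟨t, rfl⟩ x
  exact tr_comm _ _ _)

variable {e}

theorem PP_four {π : Perm (Pt e)} (hπ : π ∈ PP e) (x : Pt e) : π (π (π (π x))) = x :=
  near_four (by
    rintro _ ⟨t, rfl⟩ x
    exact tr_tr t x) hπ x

theorem tr_mem_PP (t : ∀ k, Fin (e k) → ZMod 2) : tr t ∈ PP e := ⟨tr t, ⟨t, rfl⟩, fun _ => Or.inl rfl⟩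

variable [DecidableEq κ]

theorem swap_mem_PP (x : Pt e) : swap x (tr (dd e) x) ∈ PP e := by
  refine ⟨1, one_mem _, fun y => ?_⟩
  rw [Perm.one_apply]
  by_cases h1 : y = x
  · right; rw [h1, swap_apply_left]
  · by_cases h2 : y = tr (dd e) x
    · right; rw [h2, swap_apply_right, tr_tr]
    · left; rw [swap_apply_of_ne_of_ne h1 h2]

theorem sign_tr_single [Fintype κ] (k : κ) (hk : 2 ≤ e k) (t : Fin (e k) → ZMod 2) :
    Perm.sign (tr (e := e) (Pi.single k t)) = 1 := by
  by_cases ht : t = 0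
  · have : tr (e := e) (Pi.single k t) = 1 := by
      rw [ht, Pi.single_zero]
      ext x : 1
      obtain ⟨k, v⟩ := x
      rw [tr_apply, Pi.zero_apply, add_zero]
      rfl
    rw [this, map_one]
  rw [Equiv.Perm.sign_of_pow_two_eq_one (by
    ext x : 1
    rw [pow_two]
    exact tr_tr _ x)]
  have h1 : Fintype.card (Pt e) - Fintype.card (Function.fixedPoints (tr (e := e) (Pi.single k t))) =
      2 ^ e k := by
    rw [← Fintype.card_compl_set]
    have h2 : Fintype.card (Fin (e k) → ZMod 2) = 2 ^ e k := by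
      rw [Fintype.card_fun, ZMod.card, Fintype.card_fin]
    rw [← h2]
    refine Fintype.card_congr
      { toFun := fun x => if h : x.1.1 = k then h ▸ x.1.2 else 0
        invFun := fun v => ⟨⟨k, v⟩, ?_⟩
        left_inv := ?_
        right_inv := ?_ }
    · rw [Set.mem_compl_iff, Function.mem_fixedPoints, Function.IsFixedPt, tr_apply, Pi.single_eq_same]
      intro h
      have h3 := eq_of_heq (Sigma.mk.inj_iff.1 h).2
      exact ht (by simpa using h3)
    · rintro ⟨⟨l, v⟩, hx⟩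
      have hl : l = k := by
        by_contra hl
        apply hx
        rw [Function.mem_fixedPoints, Function.IsFixedPt, tr_apply, Pi.single_eq_of_ne hl, add_zero]
      subst hl
      simp
    · intro v
      simp
  rw [h1]
  have h3 : 2 ^ e k / 2 = 2 * 2 ^ (e k - 2) := by
    obtain ⟨m, hm⟩ := Nat.exists_eq_add_of_le hk
    rw [hm, pow_add]
    simp
    omega
  rw [h3, pow_mul]
  simp

/-- a function which is invariant under the even elements of `PP e` with a fixed point (`b`: all even elements) is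
constant on the blocks -/
theorem const_on_blocks [Fintype κ] {M : Type*} {s : Pt e → M} {b : Prop}
    (hs : ∀ π ∈ PP e, Perm.sign π = 1 → (b ∨ ∃ x, π x = x) → ∀ x, s (π x) = s x)
    (hbig : ∃ l, 2 ≤ e l) (hfix : b ∨ ∀ k : κ, ∃ l : κ, l ≠ k) (k : κ) (v w : Fin (e k) → ZMod 2) :
    s ⟨k, v⟩ = s ⟨k, w⟩ := by
  by_cases hvw : v = w
  · rw [hvw]
  rcases Nat.lt_or_ge (e k) 2 with h2 | h2
  · have h1 : e k = 1 := by
      rcases Nat.eq_zero_or_pos (e k) with h0 | h0
      · exfalso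
        apply hvw
        have : IsEmpty (Fin (e k)) := by rw [h0]; infer_instance
        exact Subsingleton.elim _ _
      · omega
    obtain ⟨l, hl⟩ := hbig
    have hlk : l ≠ k := by rintro rfl; omega
    have hw : tr (dd e) ⟨k, v⟩ = (⟨k, w⟩ : Pt e) := by
      rw [tr_apply]
      congr 1
      funext j
      have hj : (j : ℕ) = 0 := by have := j.2; omega
      have h3 : v j ≠ w j := by
        intro h
        apply hvw
        funext i
        have : i = j := by apply Fin.ext; have := i.2; omega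
        rw [this, h]
      rw [Pi.add_apply, dd, if_pos hj]
      generalize v j = a at h3 ⊢
      generalize w j = c at h3 ⊢
      revert h3
      revert a c
      decide
    set x₀ : Pt e := ⟨l, 0⟩ with hx₀
    set x₁ : Pt e := tr (dd e) x₀ with hx₁
    have hdd : dd e l ≠ 0 := by
      intro h
      have := congrFun h ⟨0, by omega⟩
      simp [dd] at this
    have h01 : x₀ ≠ x₁ := by
      intro h
      rw [hx₁, hx₀, tr_apply, zero_add] at h
      exact hdd (eq_of_heq (Sigma.mk.inj_iff.1 h).2).symm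
    have hkl : ∀ (v : Fin (e k) → ZMod 2) (u : Fin (e l) → ZMod 2), (⟨k, v⟩ : Pt e) ≠ ⟨l, u⟩ := by
      intro v u h
      exact hlk (congrArg Sigma.fst h).symm
    have hm : swap (⟨k, v⟩ : Pt e) ⟨k, w⟩ * swap x₀ x₁ ∈ PP e := by
      rw [← hw]
      exact mul_mem (swap_mem_PP _) (swap_mem_PP _)
    have hsg : Perm.sign (swap (⟨k, v⟩ : Pt e) ⟨k, w⟩ * swap x₀ x₁) = 1 := by
      rw [map_mul, Perm.sign_swap, Perm.sign_swap h01]
      · rfl
      · intro h
        exact hvw (eq_of_heq (Sigma.mk.inj_iff.1 h).2)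
    have h4 := hs _ hm hsg (Or.inr ⟨⟨l, fun j => if (j : ℕ) = 1 then 1 else 0⟩, by
      have ha : (⟨l, fun j => if (j : ℕ) = 1 then 1 else 0⟩ : Pt e) ≠ x₀ := by
        intro h
        have := congrFun (eq_of_heq (Sigma.mk.inj_iff.1 h).2) ⟨1, by omega⟩
        simp at this
      have hb : (⟨l, fun j => if (j : ℕ) = 1 then 1 else 0⟩ : Pt e) ≠ x₁ := by
        intro h
        rw [hx₁, hx₀, tr_apply, zero_add] at h
        have := congrFun (eq_of_heq (Sigma.mk.inj_iff.1 h).2) ⟨1, by omega⟩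
        simp [dd] at this
      rw [Perm.mul_apply, swap_apply_of_ne_of_ne ha hb,
        swap_apply_of_ne_of_ne (hkl _ _).symm (hkl _ _).symm]⟩) ⟨k, v⟩
    rw [Perm.mul_apply, swap_apply_of_ne_of_ne (hkl _ _) (by
      rw [hx₁, hx₀, tr_apply]; exact hkl _ _), swap_apply_left] at h4
    exact h4.symm
  · have h4 := hs (tr (Pi.single k (v + w))) (tr_mem_PP _) (sign_tr_single k h2 _) (by
      rcases hfix with h | h
      · exact Or.inl h
      · obtain ⟨l, hl⟩ := h k
        refine Or.inr ⟨⟨l, 0⟩, ?_⟩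
        rw [tr_apply, Pi.single_eq_of_ne hl, add_zero]) ⟨k, v⟩
    rw [tr_apply, Pi.single_eq_same, ← add_assoc, add_self', zero_add] at h4
    exact h4.symm

/-- the number of points in a union of blocks -/
theorem card_union [Fintype κ] (P : Finset κ) :
    (Finset.univ.filter fun x : Pt e => x.1 ∈ P).card = ∑ k ∈ P, 2 ^ e k := by
  have h1 : (Finset.univ.filter fun x : Pt e => x.1 ∈ P) = P.sigma fun k => Finset.univ := by
    ext x
    simp
  rw [h1, Finset.card_sigma]
  refine Finset.sum_congr rfl fun k _ => ?_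
  rw [Finset.card_univ, Fintype.card_fun, ZMod.card, Fintype.card_fin]

theorem card_Pt [Fintype κ] : Fintype.card (Pt e) = ∑ k, 2 ^ e k := by
  rw [← card_union (e := e) Finset.univ, ← Finset.card_univ]
  congr 1
  ext x
  simp

omit [DecidableEq κ] in
theorem eq_of_sum [Fintype κ] (he : Function.Injective e) {P P' : Finset κ}
    (h : ∑ k ∈ P, 2 ^ e k = ∑ k ∈ P', 2 ^ e k) : P = P' := by
  have h1 : ∀ P : Finset κ, ∑ i ∈ P.image e, 2 ^ i = ∑ k ∈ P, 2 ^ e k := fun P =>
    Finset.sum_image fun a _ b _ hab => he hab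
  rw [← h1, ← h1] at h
  have h2 := Finset.geomSum_injective le_rfl h
  exact Finset.image_injective he h2

end blocks

end Cfsg.Agent.Omega.Lie.CenPerm

end

section


/-!
# The K-fact (ZS) for the orthogonal groups in odd characteristic, I (helper676)

`Frame`: an orthogonal basis indexed by `ι ⊕ ν` with the value `c` on `ι` and the value `c'` on `ν`.
The monomial 2-group `mono` of `E Q`, and its centraliser modulo scalars: sign vectors.
-/

set_option autoImplicit false

namespace Cfsg.Agent.Omega.Lie.CenOrthA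

open QuadraticMap Cfsg.Agent.LieClassical.OrthCore Cfsg.Agent.LieClassical.OrthTrans

variable {F V : Type*} [Field F] [AddCommGroup V] [Module F V] {Q : QuadraticForm F V}

/-- an orthogonal basis with the value `c` on `ι` and the value `c'` on `ν` -/
structure Frame (Q : QuadraticForm F V) (ι ν : Type) where
  b : Module.Basis (ι ⊕ ν) F V
  c : F
  c' : F
  hc : c ≠ 0
  hc' : c' ≠ 0
  val : ∀ i, Q (b (.inl i)) = c
  val' : ∀ u, Q (b (.inr u)) = c'
  ortho : ∀ i j, i ≠ j → polar Q (b i) (b j) = 0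

variable {ι ν : Type} (A : Frame Q ι ν)

namespace Frame

theorem ne (i : ι ⊕ ν) : Q (A.b i) ≠ 0 := by
  rcases i with i | u
  · rw [A.val]; exact A.hc
  · rw [A.val']; exact A.hc'

/-- an isometry from its values on the basis -/
theorem mem_O_of_basis (h2 : (2 : F) ≠ 0) {f : V ≃ₗ[F] V} (h1 : ∀ i, Q (f (A.b i)) = Q (A.b i))
    (h3 : ∀ i j, i ≠ j → polar Q (f (A.b i)) (f (A.b j)) = 0) : f ∈ O Q := by
  have h4 : (polarBilin Q).compl₁₂ f.toLinearMap f.toLinearMap = polarBilin Q := by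
    apply A.b.ext
    intro i
    apply A.b.ext
    intro j
    rw [LinearMap.compl₁₂_apply, polarBilin_apply_apply, polarBilin_apply_apply]
    show polar Q (f (A.b i)) (f (A.b j)) = _
    by_cases hij : i = j
    · subst hij
      rw [polar_self', polar_self', h1]
    · rw [h3 i j hij, A.ortho i j hij]
  intro v
  have h5 := LinearMap.congr_fun (LinearMap.congr_fun h4 v) v
  rw [LinearMap.compl₁₂_apply, polarBilin_apply_apply, polarBilin_apply_apply] at h5
  change polar Q (f v) (f v) = polar Q v v at h5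
  rw [polar_self', polar_self'] at h5
  exact mul_left_cancel₀ h2 h5

theorem refl_same (i : ι ⊕ ν) : refl Q (A.b i) (A.ne i) (A.b i) = -A.b i := by
  rw [refl_apply, polar_self', mul_comm (2 : F), ← mul_assoc, inv_mul_cancel₀ (A.ne i), one_mul,
    two_smul]
  abel

theorem refl_other {i j : ι ⊕ ν} (h : i ≠ j) : refl Q (A.b i) (A.ne i) (A.b j) = A.b j := by
  rw [refl_apply, A.ortho i j h, mul_zero, zero_smul, sub_zero]

/-- the sign change on two coordinates -/
noncomputable def sg (i j : ι) : V ≃ₗ[F] V :=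
  refl Q (A.b (.inl i)) (A.ne _) * refl Q (A.b (.inl j)) (A.ne _)

theorem sg_mem (hG : Good Q) (i j : ι) : A.sg i j ∈ E Q :=
  hG.refl_mul_refl_mem (A.ne _) (A.ne _) (by rw [A.val, A.val])

theorem sg_left {i j : ι} (h : i ≠ j) : A.sg i j (A.b (.inl i)) = -A.b (.inl i) := by
  show refl Q (A.b (.inl i)) (A.ne _) (refl Q (A.b (.inl j)) (A.ne _) _) = _
  rw [A.refl_other (by simpa using h.symm), A.refl_same]

theorem sg_right {i j : ι} (h : i ≠ j) : A.sg i j (A.b (.inl j)) = -A.b (.inl j) := by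
  show refl Q (A.b (.inl i)) (A.ne _) (refl Q (A.b (.inl j)) (A.ne _) _) = _
  rw [A.refl_same, map_neg, A.refl_other (by simpa using h)]

theorem sg_other {i j : ι} {k : ι ⊕ ν} (hi : k ≠ .inl i) (hj : k ≠ .inl j) :
    A.sg i j (A.b k) = A.b k := by
  show refl Q (A.b (.inl i)) (A.ne _) (refl Q (A.b (.inl j)) (A.ne _) _) = _
  rw [A.refl_other hj.symm, A.refl_other hi.symm]

/-- a permutation of the coordinates -/
noncomputable def pm (π : Equiv.Perm ι) : V ≃ₗ[F] V :=
  A.b.equiv A.b (Equiv.sumCongr π (Equiv.refl ν))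

theorem pm_inl (π : Equiv.Perm ι) (i : ι) : A.pm π (A.b (.inl i)) = A.b (.inl (π i)) := by
  rw [pm, Module.Basis.equiv_apply]; rfl

theorem pm_inr (π : Equiv.Perm ι) (u : ν) : A.pm π (A.b (.inr u)) = A.b (.inr u) := by
  rw [pm, Module.Basis.equiv_apply]; rfl

theorem pm_mul (π π' : Equiv.Perm ι) : A.pm (π * π') = A.pm π * A.pm π' := by
  apply LinearEquiv.toLinearMap_injective
  apply A.b.ext
  rintro (i | u)
  · show A.pm (π * π') _ = A.pm π (A.pm π' _)
    rw [pm_inl, pm_inl, pm_inl]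
    rfl
  · show A.pm (π * π') _ = A.pm π (A.pm π' _)
    rw [pm_inr, pm_inr, pm_inr]

theorem pm_one : A.pm 1 = 1 := by
  apply LinearEquiv.toLinearMap_injective
  apply A.b.ext
  rintro (i | u)
  · show A.pm 1 _ = _
    rw [pm_inl]; rfl
  · show A.pm 1 _ = _
    rw [pm_inr]; rfl

theorem val_sub {i j : ι} (h : i ≠ j) : Q (A.b (.inl i) - A.b (.inl j)) = 2 * A.c := by
  rw [sub_eq_add_neg, Q_add, QuadraticMap.map_neg, polar_neg_right, A.ortho _ _ (by simpa using h), A.val,
    A.val]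
  ring

theorem sub_ne (h2 : (2 : F) ≠ 0) {i j : ι} (h : i ≠ j) : Q (A.b (.inl i) - A.b (.inl j)) ≠ 0 := by
  rw [A.val_sub h]
  exact mul_ne_zero h2 A.hc

theorem polar_self_b (i : ι) : polar Q (A.b (.inl i)) (A.b (.inl i)) = 2 * A.c := by
  rw [polar_self', A.val]

theorem pm_swap [DecidableEq ι] (h2 : (2 : F) ≠ 0) {i j : ι} (h : i ≠ j) :
    A.pm (Equiv.swap i j) = refl Q (A.b (.inl i) - A.b (.inl j)) (A.sub_ne h2 h) := by
  have h2c : (2 : F) * A.c ≠ 0 := mul_ne_zero h2 A.hc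
  apply LinearEquiv.toLinearMap_injective
  apply A.b.ext
  rintro (k | u)
  · show A.pm _ _ = refl Q _ _ _
    rw [pm_inl, refl_apply, polar_sub_left, A.val_sub h]
    by_cases hi : k = i
    · subst hi
      rw [Equiv.swap_apply_left, A.polar_self_b, A.ortho _ _ (by simpa using h.symm), sub_zero,
        inv_mul_cancel₀ h2c, one_smul]
      abel
    · by_cases hj : k = j
      · subst hj
        rw [Equiv.swap_apply_right, A.polar_self_b, A.ortho _ _ (by simpa using h), zero_sub, mul_neg,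
          inv_mul_cancel₀ h2c, neg_smul, one_smul]
        abel
      · rw [Equiv.swap_apply_of_ne_of_ne hi hj, A.ortho _ _ (by simpa using Ne.symm hi),
          A.ortho _ _ (by simpa using Ne.symm hj), sub_zero, mul_zero, zero_smul, sub_zero]
  · show A.pm _ _ = refl Q _ _ _
    rw [pm_inr, refl_apply, polar_sub_left, A.ortho _ _ (by simp), A.ortho _ _ (by simp), sub_zero, mul_zero,
      zero_smul, sub_zero]

/-- even permutations of the coordinates lie in `E Q` -/
theorem pm_mem [Fintype ι] [DecidableEq ι] (hG : Good Q) (h2 : (2 : F) ≠ 0) {i₀ j₀ : ι} (h₀ : i₀ ≠ j₀)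
    {π : Equiv.Perm ι} (hπ : Equiv.Perm.sign π = 1) : A.pm π ∈ E Q := by
  have key : ∀ {i j : ι} (h : i ≠ j) {k l : ι} (h' : k ≠ l),
      refl Q _ (A.sub_ne h2 h) * refl Q _ (A.sub_ne h2 h') ∈ E Q := fun h _ _ h' =>
    hG.refl_mul_refl_mem _ _ (by rw [A.val_sub h, A.val_sub h'])
  have main : ∀ π : Equiv.Perm ι, (Equiv.Perm.sign π = 1 → A.pm π ∈ E Q) ∧
      (Equiv.Perm.sign π = -1 → refl Q _ (A.sub_ne h2 h₀) * A.pm π ∈ E Q) := by
    intro π
    induction π using Equiv.Perm.swap_induction_on with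
    | one =>
      rw [pm_one]
      refine ⟨fun _ => one_mem _, fun h => ?_⟩
      rw [map_one] at h
      exact absurd h (by decide)
    | swap_mul π i j hij ih =>
      rw [pm_mul, A.pm_swap h2 hij, map_mul, Equiv.Perm.sign_swap hij]
      constructor
      · intro h
        have h3 : Equiv.Perm.sign π = -1 := by
          rw [neg_one_mul, neg_eq_iff_eq_neg] at h
          exact h
        have h4 := mul_mem (key hij h₀) (ih.2 h3)
        have e : refl Q _ (A.sub_ne h2 hij) * refl Q _ (A.sub_ne h2 h₀) *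
            (refl Q _ (A.sub_ne h2 h₀) * A.pm π) = refl Q _ (A.sub_ne h2 hij) * A.pm π := by
          rw [mul_assoc, ← mul_assoc (refl Q _ (A.sub_ne h2 h₀)), refl_mul_self, one_mul]
        rwa [e] at h4
      · intro h
        have h3 : Equiv.Perm.sign π = 1 := by
          rw [neg_one_mul] at h
          exact neg_injective h
        rw [← mul_assoc]
        exact mul_mem (key h₀ hij) (ih.1 h3)
  exact (main π).1 hπ

/-! ### The monomial group -/

/-- the monomial elements of `E Q` with permutation in `P` -/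
noncomputable def mono (P : Subgroup (Equiv.Perm ι)) : Subgroup ↥(E Q) where
  carrier := {g | ∃ π ∈ P, (∀ i, (g : V ≃ₗ[F] V) (A.b (.inl i)) = A.b (.inl (π i)) ∨
    (g : V ≃ₗ[F] V) (A.b (.inl i)) = -A.b (.inl (π i))) ∧
    ∀ u, (g : V ≃ₗ[F] V) (A.b (.inr u)) = A.b (.inr u) ∨ (g : V ≃ₗ[F] V) (A.b (.inr u)) = -A.b (.inr u)}
  mul_mem' := by
    rintro g h ⟨π, hπ, h1, h2⟩ ⟨π', hπ', h1', h2'⟩
    refine ⟨π * π', mul_mem hπ hπ', fun i => ?_, fun u => ?_⟩
    · show (g : V ≃ₗ[F] V) ((h : V ≃ₗ[F] V) _) = _ ∨ (g : V ≃ₗ[F] V) ((h : V ≃ₗ[F] V) _) = _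
      rcases h1' i with e | e <;> rcases h1 (π' i) with e' | e' <;> simp [e, e']
    · show (g : V ≃ₗ[F] V) ((h : V ≃ₗ[F] V) _) = _ ∨ (g : V ≃ₗ[F] V) ((h : V ≃ₗ[F] V) _) = _
      rcases h2' u with e | e <;> rcases h2 u with e' | e' <;> simp [e, e']
  one_mem' := ⟨1, one_mem _, fun i => Or.inl rfl, fun u => Or.inl rfl⟩
  inv_mem' := by
    rintro g ⟨π, hπ, h1, h2⟩
    have hinv : ∀ v w : V, (g : V ≃ₗ[F] V) v = w → ((g⁻¹ : ↥(E Q)) : V ≃ₗ[F] V) w = v := by
      rintro v w rfl
      exact LinearEquiv.symm_apply_apply _ _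
    refine ⟨π⁻¹, inv_mem hπ, fun i => ?_, fun u => ?_⟩
    · obtain ⟨j, rfl⟩ := π.surjective i
      have hj : π⁻¹ (π j) = j := π.symm_apply_apply j
      rw [hj]
      rcases h1 j with e | e
      · exact Or.inl (hinv _ _ e)
      · right
        have := hinv _ _ e
        rw [map_neg] at this
        exact neg_eq_iff_eq_neg.1 this
    · rcases h2 u with e | e
      · exact Or.inl (hinv _ _ e)
      · right
        have := hinv _ _ e
        rw [map_neg] at this
        exact neg_eq_iff_eq_neg.1 this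

theorem mem_mono {P : Subgroup (Equiv.Perm ι)} {g : ↥(E Q)} : g ∈ A.mono P ↔
    ∃ π ∈ P, (∀ i, (g : V ≃ₗ[F] V) (A.b (.inl i)) = A.b (.inl (π i)) ∨
    (g : V ≃ₗ[F] V) (A.b (.inl i)) = -A.b (.inl (π i))) ∧
    ∀ u, (g : V ≃ₗ[F] V) (A.b (.inr u)) = A.b (.inr u) ∨
      (g : V ≃ₗ[F] V) (A.b (.inr u)) = -A.b (.inr u) := Iff.rfl

theorem isPGroup_mono {P : Subgroup (Equiv.Perm ι)} (hP : ∀ π ∈ P, ∀ x, π (π (π (π x))) = x) :
    IsPGroup 2 (A.mono P) := by
  rintro ⟨g, π, hπ, h1, h2⟩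
  refine ⟨3, ?_⟩
  apply Subtype.ext
  apply Subtype.ext
  show ((g ^ 8 : ↥(E Q)) : V ≃ₗ[F] V) = 1
  apply LinearEquiv.toLinearMap_injective
  apply A.b.ext
  have h8 : ∀ v, ((g ^ 8 : ↥(E Q)) : V ≃ₗ[F] V) v = (g : V ≃ₗ[F] V) ((g : V ≃ₗ[F] V) ((g : V ≃ₗ[F] V)
      ((g : V ≃ₗ[F] V) ((g : V ≃ₗ[F] V) ((g : V ≃ₗ[F] V) ((g : V ≃ₗ[F] V)
      ((g : V ≃ₗ[F] V) v))))))) := fun v => rfl
  rintro (i | u)
  · show ((g ^ 8 : ↥(E Q)) : V ≃ₗ[F] V) _ = _
    rw [h8]
    have h4 : ∀ i, (g : V ≃ₗ[F] V) ((g : V ≃ₗ[F] V) ((g : V ≃ₗ[F] V) ((g : V ≃ₗ[F] V) (A.b (.inl i))))) =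
        A.b (.inl i) ∨ (g : V ≃ₗ[F] V) ((g : V ≃ₗ[F] V) ((g : V ≃ₗ[F] V)
        ((g : V ≃ₗ[F] V) (A.b (.inl i))))) = -A.b (.inl i) := by
      intro i
      have h5 := hP π hπ i
      rcases h1 i with e | e <;> rcases h1 (π i) with e' | e' <;> rcases h1 (π (π i)) with e'' | e'' <;>
        rcases h1 (π (π (π i))) with e''' | e''' <;> simp [e, e', e'', e''', h5]
    rcases h4 i with e | e <;> rw [e]
    · rw [e]; rfl
    · rw [map_neg, map_neg, map_neg, map_neg, e, neg_neg]; rfl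
  · show ((g ^ 8 : ↥(E Q)) : V ≃ₗ[F] V) _ = _
    rw [h8]
    rcases h2 u with e | e <;> simp [e]

theorem sg_mem_mono (hG : Good Q) (P : Subgroup (Equiv.Perm ι)) {i j : ι} (h : i ≠ j) :
    (⟨A.sg i j, A.sg_mem hG i j⟩ : ↥(E Q)) ∈ A.mono P := by
  refine ⟨1, one_mem _, fun k => ?_, fun u => Or.inl (A.sg_other (by simp) (by simp))⟩
  by_cases hi : k = i
  · subst hi; exact Or.inr (A.sg_left h)
  · by_cases hj : k = j
    · subst hj; exact Or.inr (A.sg_right h)
    · exact Or.inl (A.sg_other (by simpa using hi) (by simpa using hj))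

theorem pm_mem_mono {P : Subgroup (Equiv.Perm ι)} {π : Equiv.Perm ι} (hπ : π ∈ P)
    (hE : A.pm π ∈ E Q) : (⟨A.pm π, hE⟩ : ↥(E Q)) ∈ A.mono P :=
  ⟨π, hπ, fun i => Or.inl (A.pm_inl π i), fun u => Or.inl (A.pm_inr π u)⟩

end Frame

end Cfsg.Agent.Omega.Lie.CenOrthA

end

section


/-!
# Lifting Heisenberg configurations to central extensions with kernel of odd order

No information on the Schur multiplier is used, the order of the kernel may be divisible by the characteristic.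

* `Cov π`: `π : L →* K` is surjective with central kernel of odd order;
* `LC g g'`: in all such extensions all lifts of `g` and `g'` commute; `LC.of_inv`: it is enough that `g`, `g'`
  commute and that some `s` inverts `g` and centralises `g'`; `cenLC g` is a subgroup;
* `lift_FH`: a Heisenberg configuration `X, A j, B j` such that one element inverts the `X t` and `A j t` and
  centralises the `B j t` lifts, provided that `LC` holds for the pairs `(X, X)`, `(X, A)`, `(A, A)`;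
* `LB.fh`: the bound `|V| ≥ 2 ^ (ord_r(2) * |F| ^ h)` for all nontrivial actions of all such perfect extensions.
-/

set_option autoImplicit false
set_option linter.unusedSectionVars false
set_option linter.style.haveILetI false

universe u v w w'

namespace Cfsg.Agent.Omega.Lie.HeisF

open Cfsg.Agent.Omega.Lie.Heis

/-- A central extension with kernel of odd order. -/
structure Cov {L : Type v} {K : Type u} [Group L] [Group K] (π : L →* K) : Prop where
  surj : Function.Surjective π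
  cen : π.ker ≤ Subgroup.center L
  odd : Odd (Nat.card π.ker)

namespace Cov

variable {L : Type v} {K : Type u} [Group L] [Group K] {π : L →* K} (hπ : Cov π)

include hπ

theorem comm {c : L} (hc : π c = 1) (a : L) : a * c = c * a :=
  Subgroup.mem_center_iff.1 (hπ.cen (MonoidHom.mem_ker.2 hc)) a

theorem coprime {c : L} (hc : π c = 1) : Nat.Coprime 2 (orderOf c) := by
  have h1 : orderOf c ∣ Nat.card π.ker := by
    have := orderOf_dvd_natCard (⟨c, MonoidHom.mem_ker.2 hc⟩ : π.ker)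
    rwa [Subgroup.orderOf_mk] at this
  exact (Nat.coprime_two_left.2 hπ.odd).coprime_dvd_right h1

theorem eq_one {c : L} (hc : π c = 1) (h2 : c * c = 1) : c = 1 := by
  have h1 : orderOf c ∣ 2 := orderOf_dvd_of_pow_eq_one (by rw [pow_two, h2])
  exact orderOf_eq_one_iff.1 (Nat.eq_one_of_dvd_coprimes (hπ.coprime hc) h1 dvd_rfl)

theorem exists_sqrt {c : L} (hc : π c = 1) : ∃ d, π d = 1 ∧ d * d = c := by
  obtain ⟨k, hk⟩ := exists_pow_eq_self_of_coprime (n := 2) (x := c) (hπ.coprime hc)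
  refine ⟨c ^ k, by rw [map_pow, hc, one_pow], ?_⟩
  rw [← pow_add, ← two_mul, pow_mul, hk]

/-- Inverted lifts exist. -/
theorem exists_inv_lift {σ : L} {g : K} (h : π σ * g * (π σ)⁻¹ = g⁻¹) :
    ∃ a, π a = g ∧ σ * a * σ⁻¹ = a⁻¹ := by
  obtain ⟨a, rfl⟩ := hπ.surj g
  have h1 : π (σ * a * σ⁻¹ * a)⁻¹ = 1 := by
    rw [map_inv, map_mul, map_mul, map_mul, map_inv, h, inv_mul_cancel, inv_one]
  obtain ⟨d, hd, hdd⟩ := hπ.exists_sqrt h1
  refine ⟨a * d, by rw [map_mul, hd, mul_one], ?_⟩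
  rw [eq_inv_iff_mul_eq_one]
  calc σ * (a * d) * σ⁻¹ * (a * d) = σ * a * (d * (σ⁻¹ * a)) * d := by group
    _ = σ * a * ((σ⁻¹ * a) * d) * d := by rw [hπ.comm hd (σ⁻¹ * a)]
    _ = (σ * a * σ⁻¹ * a) * (d * d) := by group
    _ = 1 := by rw [hdd, mul_inv_cancel]

/-- Inverted lifts are unique. -/
theorem inv_lift_unique {σ a b : L} (h : π a = π b) (ha : σ * a * σ⁻¹ = a⁻¹) (hb : σ * b * σ⁻¹ = b⁻¹) :
    a = b := by
  have h1 : π (b⁻¹ * a) = 1 := by rw [map_mul, map_inv, h, inv_mul_cancel]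
  set z := b⁻¹ * a with hz
  have h2 : a = b * z := by rw [hz]; group
  have h3 : z * z = 1 := by
    have h4 : σ * a * σ⁻¹ = b⁻¹ * z := by
      calc σ * a * σ⁻¹ = σ * b * (z * σ⁻¹) := by rw [h2]; group
        _ = σ * b * (σ⁻¹ * z) := by rw [hπ.comm h1]
        _ = σ * b * σ⁻¹ * z := by group
        _ = b⁻¹ * z := by rw [hb]
    have h5 : a⁻¹ = b⁻¹ * z⁻¹ := by rw [h2, hπ.comm h1, mul_inv_rev]
    have h6 : b⁻¹ * z = b⁻¹ * z⁻¹ := by rw [← h4, ha, h5]
    have h7 := mul_left_cancel h6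
    rw [eq_inv_iff_mul_eq_one] at h7
    exact h7
  rw [h2, hπ.eq_one h1 h3, mul_one]

end Cov

/-- In all central extensions (in the universe `v`) with kernel of odd order all lifts of `g` and `g'` commute. -/
def LC {K : Type u} [Group K] (g g' : K) : Prop :=
  ∀ (L : Type v) [Group L] (π : L →* K), Cov π → ∀ a b : L, π a = g → π b = g' → a * b = b * a

namespace LC

variable {K : Type u} [Group K] {g g' k : K}

theorem symm (h : LC.{u, v} g g') : LC.{u, v} g' g := fun L _ π hπ a b ha hb => (h L π hπ b a hb ha).symm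

/-- **The parity trick.** -/
theorem of_inv {s : K} (hc : g * g' = g' * g) (h1 : s * g * s⁻¹ = g⁻¹) (h2 : s * g' * s⁻¹ = g') :
    LC.{u, v} g g' := by
  intro L _ π hπ a b ha hb
  obtain ⟨σ, hσ⟩ := hπ.surj s
  set c := a * b * a⁻¹ * b⁻¹ with hcd
  have hc1 : π c = 1 := by
    rw [hcd, map_mul, map_mul, map_mul, map_inv, map_inv, ha, hb, hc]; group
  have hz : π (a * (σ * a * σ⁻¹)) = 1 := by
    rw [map_mul, map_mul, map_mul, map_inv, ha, hσ, h1, mul_inv_cancel]
  have hw : π (b⁻¹ * (σ * b * σ⁻¹)) = 1 := by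
    rw [map_mul, map_mul, map_mul, map_inv, map_inv, hb, hσ, h2, inv_mul_cancel]
  set z := a * (σ * a * σ⁻¹) with hzd
  set w := b⁻¹ * (σ * b * σ⁻¹) with hwd
  have h3 : σ * a * σ⁻¹ = a⁻¹ * z := by rw [hzd]; group
  have h4 : σ * b * σ⁻¹ = b * w := by rw [hwd]; group
  have h5 : σ * c * σ⁻¹ = c := by
    rw [hπ.comm hc1, mul_inv_cancel_right]
  have h6 : σ * c * σ⁻¹ = (a⁻¹ * z) * (b * w) * (a⁻¹ * z)⁻¹ * (b * w)⁻¹ := by
    rw [← h3, ← h4, hcd]; group
  have h7 : (a⁻¹ * z) * (b * w) * (a⁻¹ * z)⁻¹ * (b * w)⁻¹ = a⁻¹ * b * a * b⁻¹ := by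
    calc (a⁻¹ * z) * (b * w) * (a⁻¹ * z)⁻¹ * (b * w)⁻¹
        = a⁻¹ * (z * (b * w)) * (z⁻¹ * a) * (b * w)⁻¹ := by group
      _ = a⁻¹ * ((b * w) * z) * (z⁻¹ * a) * (b * w)⁻¹ := by rw [hπ.comm hz]
      _ = a⁻¹ * b * (w * a) * (w⁻¹ * b⁻¹) := by group
      _ = a⁻¹ * b * (a * w) * (w⁻¹ * b⁻¹) := by rw [hπ.comm hw]
      _ = a⁻¹ * b * a * b⁻¹ := by group
  have h8 : a⁻¹ * b * a * b⁻¹ = c⁻¹ := by
    have h9 : b * a = c⁻¹ * (a * b) := by rw [hcd]; group
    have h10 : π c⁻¹ = 1 := by rw [map_inv, hc1, inv_one]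
    calc a⁻¹ * b * a * b⁻¹ = a⁻¹ * (b * a) * b⁻¹ := by group
      _ = a⁻¹ * (c⁻¹ * (a * b)) * b⁻¹ := by rw [h9]
      _ = (a⁻¹ * c⁻¹) * a := by group
      _ = (c⁻¹ * a⁻¹) * a := by rw [hπ.comm h10]
      _ = c⁻¹ := by group
  have h9 : c = c⁻¹ := by rw [← h8, ← h7, ← h6, h5]
  have h10 : c = 1 := hπ.eq_one hc1 (by rw [eq_inv_iff_mul_eq_one] at h9; exact h9)
  have h11 : a * b = c * (b * a) := by rw [hcd]; group
  rw [h11, h10, one_mul]

end LC

/-- The elements whose lifts commute with the lifts of `k`. -/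
def cenLC {K : Type u} [Group K] (k : K) : Subgroup K where
  carrier := {g | LC.{u, v} g k}
  one_mem' := fun L _ π hπ a b ha _ => (hπ.comm ha b).symm
  mul_mem' := by
    intro g g' hg hg' L _ π hπ a b ha hb
    obtain ⟨x, hx⟩ := hπ.surj g
    have hy : π (x⁻¹ * a) = g' := by rw [map_mul, map_inv, hx, ha]; group
    have h1 := hg L π hπ x b hx hb
    have h2 := hg' L π hπ (x⁻¹ * a) b hy hb
    calc a * b = x * ((x⁻¹ * a) * b) := by group
      _ = x * (b * (x⁻¹ * a)) := by rw [h2]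
      _ = (x * b) * (x⁻¹ * a) := by group
      _ = (b * x) * (x⁻¹ * a) := by rw [h1]
      _ = b * a := by group
  inv_mem' := by
    intro g hg L _ π hπ a b ha hb
    have h1 := hg L π hπ a⁻¹ b (by rw [map_inv, ha, inv_inv]) hb
    calc a * b = a * (b * a⁻¹) * a := by group
      _ = a * (a⁻¹ * b) * a := by rw [h1]
      _ = b * a := by group

theorem mem_cenLC {K : Type u} [Group K] {k g : K} : g ∈ cenLC.{u, v} k ↔ LC.{u, v} g k := Iff.rfl

/-- **Lifting.** -/
theorem lift_FH {K : Type u} [Group K] {F : Type w} [Field F] {r h : ℕ} {X : F → K} {A B : Fin h → F → K}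
    {c : Fin h → F} (hH : FH r h X A B c) {s : K} (sX : ∀ t, s * X t * s⁻¹ = (X t)⁻¹)
    (sA : ∀ j t, s * A j t * s⁻¹ = (A j t)⁻¹) (sB : ∀ j t, s * B j t * s⁻¹ = B j t)
    (XX : ∀ t u, LC.{u, v} (X t) (X u)) (XA : ∀ j t u, LC.{u, v} (X t) (A j u))
    (AA : ∀ i j t u, LC.{u, v} (A i t) (A j u)) {L : Type v} [Group L] {π : L →* K} (hπ : Cov π) :
    ∃ (X' : F → L) (A' B' : Fin h → F → L), FH r h X' A' B' c ∧ ∀ t, π (X' t) = X t := by
  obtain ⟨σ, hσ⟩ := hπ.surj s
  have hXl : ∀ t, ∃ a, π a = X t ∧ σ * a * σ⁻¹ = a⁻¹ := fun t => hπ.exists_inv_lift (by rw [hσ, sX])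
  have hAl : ∀ j t, ∃ a, π a = A j t ∧ σ * a * σ⁻¹ = a⁻¹ := fun j t => hπ.exists_inv_lift (by rw [hσ, sA])
  have hBl : ∀ j t, ∃ a, π a = B j t := fun j t => hπ.surj _
  choose X' hX' hsX using hXl
  choose A' hA' hsA using hAl
  choose B' hB' using hBl
  have cXX : ∀ t u, X' t * X' u = X' u * X' t := fun t u => XX t u L π hπ _ _ (hX' t) (hX' u)
  have cXA : ∀ j t u, X' t * A' j u = A' j u * X' t := fun j t u => XA j t u L π hπ _ _ (hX' t) (hA' j u)
  have cXB : ∀ j t u, X' t * B' j u = B' j u * X' t := fun j t u =>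
    LC.of_inv (hH.XB j t u) (sX t) (sB j u) L π hπ _ _ (hX' t) (hB' j u)
  refine ⟨X', A', B', ⟨?_, ?_, cXA, cXB, ?_, ?_, ?_, hH.c_ne⟩, hX'⟩
  · intro t u
    apply hπ.inv_lift_unique (σ := σ)
    · rw [map_mul, hX', hX', hX', hH.add]
    · exact hsX _
    · calc σ * (X' t * X' u) * σ⁻¹ = (σ * X' t * σ⁻¹) * (σ * X' u * σ⁻¹) := by group
        _ = (X' t)⁻¹ * (X' u)⁻¹ := by rw [hsX, hsX]
        _ = (X' u * X' t)⁻¹ := by rw [mul_inv_rev]
        _ = (X' t * X' u)⁻¹ := by rw [cXX]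
  · intro j t
    apply hπ.eq_one
    · rw [map_pow, hA', hH.A_pow]
    · have h1 : π (A' j t ^ r) = 1 := by rw [map_pow, hA', hH.A_pow]
      have h2 : σ * A' j t ^ r * σ⁻¹ = (A' j t ^ r)⁻¹ := by
        rw [← conj_pow, hsA, inv_pow]
      rw [hπ.comm h1, mul_inv_cancel_right] at h2
      rw [eq_inv_iff_mul_eq_one] at h2
      exact h2
  · intro i j t u
    exact AA i j t u L π hπ _ _ (hA' i t) (hA' j u)
  · intro i j hij t u
    exact (LC.of_inv (hH.BA i j hij t u).symm (sA j u) (sB i t)).symm L π hπ _ _ (hB' i t) (hA' j u)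
  · intro j t u
    -- `w := [B', A']` is inverted by `σ`
    set w := B' j t * A' j u * (B' j t)⁻¹ * (A' j u)⁻¹ with hw
    have hπw : π w = X (c j * t * u) := by
      rw [hw, map_mul, map_mul, map_mul, map_inv, map_inv, hB', hA', hH.conj, hH.XA j (c j * t * u) u |>.symm]
      group
    have hwA : w * A' j u = A' j u * w := XA j _ u L π hπ _ _ hπw (hA' j u)
    have hBA : B' j t * A' j u * (B' j t)⁻¹ = w * A' j u := by rw [hw]; group
    have hζ : π ((B' j t)⁻¹ * (σ * B' j t * σ⁻¹)) = 1 := by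
      rw [map_mul, map_mul, map_mul, map_inv, map_inv, hB', hσ, sB, inv_mul_cancel]
    set ζ := (B' j t)⁻¹ * (σ * B' j t * σ⁻¹) with hζd
    have h1 : σ * B' j t * σ⁻¹ = B' j t * ζ := by rw [hζd]; group
    have h2 : σ * w * σ⁻¹ = w⁻¹ := by
      have h3 : σ * w * σ⁻¹ = (σ * B' j t * σ⁻¹) * (σ * A' j u * σ⁻¹) * (σ * B' j t * σ⁻¹)⁻¹ *
          (σ * A' j u * σ⁻¹)⁻¹ := by rw [hw]; group
      rw [h3, h1, hsA]
      calc B' j t * ζ * (A' j u)⁻¹ * (B' j t * ζ)⁻¹ * ((A' j u)⁻¹)⁻¹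
          = B' j t * (ζ * (A' j u)⁻¹) * (ζ⁻¹ * (B' j t)⁻¹) * A' j u := by group
        _ = B' j t * ((A' j u)⁻¹ * ζ) * (ζ⁻¹ * (B' j t)⁻¹) * A' j u := by rw [hπ.comm hζ]
        _ = (B' j t * A' j u * (B' j t)⁻¹)⁻¹ * A' j u := by group
        _ = (w * A' j u)⁻¹ * A' j u := by rw [hBA]
        _ = (A' j u * w)⁻¹ * A' j u := by rw [hwA]
        _ = w⁻¹ := by group
    have h3 : w = X' (c j * t * u) := hπ.inv_lift_unique (by rw [hπw, hX']) h2 (hsX _)
    rw [hBA, h3, cXA]

/-- **The Heisenberg bound for all perfect central extensions with kernel of odd order.** -/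
theorem LB.fh {K : Type u} [Group K] [IsSimpleGroup K] {F : Type w'} [Field F] [Finite F] {r h : ℕ}
    [Fact r.Prime] [CharP F r] (hr2 : r ≠ 2) {X : F → K} {A B : Fin h → F → K}
    {c : Fin h → F} (hH : FH r h X A B c) {s : K} (sX : ∀ t, s * X t * s⁻¹ = (X t)⁻¹)
    (sA : ∀ j t, s * A j t * s⁻¹ = (A j t)⁻¹) (sB : ∀ j t, s * B j t * s⁻¹ = B j t)
    (XX : ∀ t u, LC.{u, v} (X t) (X u)) (XA : ∀ j t u, LC.{u, v} (X t) (A j u))
    (AA : ∀ i j t u, LC.{u, v} (A i t) (A j u)) (hX1 : ∃ t, X t ≠ 1) :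
    LB.{u, v, w} K (orderOf (2 : ZMod r) * Nat.card F ^ h) := by
  intro L _ _ π hπ hc ho hL V _ _ h2 φ hφ
  obtain ⟨X', A', B', hH', hX'⟩ := lift_FH hH sX sA sB XX XA AA (π := π) ⟨hπ, hc, ho⟩
  obtain ⟨t, ht⟩ := hX1
  refine hH'.two_pow_le φ h2 hr2 ⟨t, fun h => ht ?_⟩
  have h1 : X' t ∈ π.ker := ker_le_ker hπ hc hL hφ (MonoidHom.mem_ker.2 h)
  rw [← hX', MonoidHom.mem_ker.1 h1]

end Cfsg.Agent.Omega.Lie.HeisF

end

section


/-!
# The Heisenberg bound for Chevalley groups over fields of odd order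

`D` one of the tabulated Chevalley data, `ρ` a root, `prs` a list of pairs `(α, β, m)` of roots with `α + β = ρ`.
`chk D ρ i0 prs ex = true` is a finite check; it implies `LB (D.group F) (2 * |F| ^ prs.length)` for every finite
field of odd order for which `D.group F` is simple (`lb_of_chk`).
-/

set_option autoImplicit false
set_option linter.style.haveILetI false

universe u u' v w

namespace Cfsg.Agent.Omega.TwoF.ChevHeis

open Cfsg.Lie Cfsg.Lie.ChevalleyDatum Cfsg.Agent.ChevalleyStructure Cfsg.Agent.ChevalleyStructure.Elts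
  Cfsg.Agent.Omega.Lie.Heis Cfsg.Agent.Omega.Lie.HeisF

section defs

variable (D : ChevalleyDatum)

/-- the root groups of `r` and `s` commute -/
def cm (r s : ℕ) : Bool := r == s || (s != D.neg r && (D.commTerms r s).isEmpty)

/-- some `h_i(-1)` inverts one of the root groups and centralises the other -/
def sp (r s : ℕ) : Bool := (List.range D.rank).any fun i => (D.cartan i r % 2 == 0) != (D.cartan i s % 2 == 0)

/-- `[X_β, X_γ] = X_r` with constant `m = ± 1, ± 2` -/
def br (β γ r : ℕ) (m : ℤ) : Bool := Nat.blt β D.nroots && (Nat.blt γ D.nroots && (γ != β && (γ != D.neg β &&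
  (decide (D.commTerms β γ = [(r, m, 1, 1)]) && (m == 1 || m == -1 || m == 2 || m == -2)))))

/-- lifts commute, separated case -/
def l1 (r s : ℕ) : Bool := cm D r s && sp D r s

/-- lifts commute -/
def l2 (ex : List (ℕ × ℕ × ℕ × ℕ × ℤ)) (r s : ℕ) : Bool :=
  l1 D r s || ex.any fun x => x.1 == r && (x.2.1 == s && (br D x.2.2.1 x.2.2.2.1 r x.2.2.2.2 &&
    (l1 D x.2.2.1 s && l1 D x.2.2.2.1 s)))

/-- the check for one pair -/
def chk1 (ρ i0 : ℕ) (ex : List (ℕ × ℕ × ℕ × ℕ × ℤ)) (p : ℕ × ℕ × ℤ) : Bool :=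
  br D p.1 p.2.1 ρ p.2.2 && (D.cartan i0 p.1 % 2 != 0 && (D.cartan i0 p.2.1 % 2 == 0 &&
    (cm D ρ p.1 && (cm D ρ p.2.1 && (l2 D ex p.1 ρ && l2 D ex p.1 p.1)))))

/-- the check for two pairs -/
def chk2 (ex : List (ℕ × ℕ × ℕ × ℕ × ℤ)) (p q : ℕ × ℕ × ℤ) : Bool :=
  cm D p.1 q.1 && (cm D p.2.1 q.1 && (cm D q.2.1 p.1 && (l2 D ex p.1 q.1 || l2 D ex q.1 p.1)))

/-- all pairs of a list -/
def pw {α : Type*} (f : α → α → Bool) : List α → Bool
  | [] => true
  | x :: l => l.all (f x) && pw f l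

/-- the check -/
def chk (ρ i0 : ℕ) (prs : List (ℕ × ℕ × ℤ)) (ex : List (ℕ × ℕ × ℕ × ℕ × ℤ)) : Bool :=
  Nat.blt ρ D.nroots && (Nat.blt i0 D.rank && (D.cartan i0 ρ % 2 != 0 && (l2 D ex ρ ρ &&
    (prs.all (chk1 D ρ i0 ex) && pw (chk2 D ex) prs))))

end defs

theorem pw_get {α : Type*} {f : α → α → Bool} {l : List α} (h : pw f l = true) :
    ∀ i j : Fin l.length, i < j → f (l.get i) (l.get j) = true := by
  have h1 : l.Pairwise fun x y => f x y = true := by
    induction l with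
    | nil => exact List.Pairwise.nil
    | cons x l ih =>
      simp only [pw, Bool.and_eq_true] at h
      exact List.Pairwise.cons (fun y hy => List.all_eq_true.1 h.1 y hy) (ih h.2)
  exact List.pairwise_iff_get.1 h1

section elts

variable {D : ChevalleyDatum} (hD : InList D) {F : Type u} [Field F]

/-- the root elements in the Chevalley group -/
def xK (r : ℕ) (t : F) : D.group F := ⟨xG hD r t, xG_mem_group hD r t⟩

/-- the involutions of the torus -/
def tK (F : Type u) [Field F] (i : ℕ) : D.group F := ⟨hG hD (D.simple i) (-1), hG_mem_group hD _ _⟩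

theorem xK_add (r : ℕ) (t u : F) : xK hD r (t + u) = xK hD r t * xK hD r u :=
  Subtype.ext (xG_add hD r t u).symm

theorem xK_inv (r : ℕ) (t : F) : (xK hD r t)⁻¹ = xK hD r (-t) := Subtype.ext (xG_inv hD r t)

theorem xK_zero (r : ℕ) : xK hD r (0 : F) = 1 := Subtype.ext (xG_zero hD r)

theorem xK_comm_self (r : ℕ) (t u : F) : xK hD r t * xK hD r u = xK hD r u * xK hD r t := by
  rw [← xK_add, ← xK_add, add_comm]

theorem tK_conj {i s : ℕ} (hi : i < D.rank) (hs : s < D.nroots) (t : F) :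
    tK hD F i * xK hD s t * (tK hD F i)⁻¹ = xK hD s ((-1) ^ (D.cartan i s) * t) := by
  rw [mul_inv_eq_iff_eq_mul]
  apply Subtype.ext
  apply Units.ext
  show D.hMat F (D.simple i) (-1) * D.x F s t = _
  exact S1032.result D hD i s hi hs (-1) (neg_ne_zero.2 one_ne_zero) t

theorem tK_odd {i s : ℕ} (hi : i < D.rank) (hs : s < D.nroots) (h : (D.cartan i s % 2 != 0) = true) (t : F) :
    tK hD F i * xK hD s t * (tK hD F i)⁻¹ = (xK hD s t)⁻¹ := by
  have h1 : Odd (D.cartan i s) := by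
    rw [Int.odd_iff]
    have h2 : D.cartan i s % 2 ≠ 0 := by simpa using h
    omega
  rw [tK_conj hD hi hs, h1.neg_one_zpow, neg_one_mul, xK_inv]

theorem tK_even {i s : ℕ} (hi : i < D.rank) (hs : s < D.nroots) (h : (D.cartan i s % 2 == 0) = true) (t : F) :
    tK hD F i * xK hD s t * (tK hD F i)⁻¹ = xK hD s t := by
  have h1 : Even (D.cartan i s) := by
    rw [Int.even_iff]
    simpa using h
  rw [tK_conj hD hi hs, h1.neg_one_zpow, one_mul]

theorem xK_word {r s : ℕ} (hr : r < D.nroots) (hs : s < D.nroots) (hrs : s ≠ r) (hneg : s ≠ D.neg r) (t u : F) :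
    xK hD s u * xK hD r t = xK hD r t * xK hD s u *
      ⟨wordG hD (D.commWord F r s t u), wordG_mem_group hD _⟩ := by
  apply Subtype.ext
  apply Units.ext
  show D.x F s u * D.x F r t = D.x F r t * D.x F s u * ((wordG hD (D.commWord F r s t u) : GL D.Idx F) :
    Matrix D.Idx D.Idx F)
  rw [coe_wordG]
  exact S1025.result D hD r s hr hs hrs hneg t u

theorem xK_commute {r s : ℕ} (hr : r < D.nroots) (hs : s < D.nroots) (h : cm D r s = true) (t u : F) :
    xK hD r t * xK hD s u = xK hD s u * xK hD r t := by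
  simp only [cm, Bool.or_eq_true, Bool.and_eq_true, beq_iff_eq, bne_iff_ne, List.isEmpty_iff] at h
  by_cases hrs : r = s
  · subst hrs; exact xK_comm_self hD r t u
  · obtain ⟨h1, h2⟩ := h.resolve_left hrs
    have h3 := xK_word hD hr hs (Ne.symm hrs) h1 t u
    have h4 : D.commWord F r s t u = [] := by
      show (D.commTerms r s).map _ = []
      rw [h2, List.map_nil]
    have h5 : (⟨wordG hD (D.commWord F r s t u), wordG_mem_group hD _⟩ : D.group F) = 1 := by
      apply Subtype.ext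
      show wordG hD (D.commWord F r s t u) = 1
      rw [h4]; rfl
    rw [h5, mul_one] at h3
    exact h3.symm

theorem br_lt {β γ r : ℕ} {m : ℤ} (h : br D β γ r m = true) : β < D.nroots ∧ γ < D.nroots := by
  simp only [br, Bool.and_eq_true, Nat.blt_eq] at h
  exact ⟨h.1, h.2.1⟩

theorem br_ne (h2 : (2 : F) ≠ 0) {β γ r : ℕ} {m : ℤ} (h : br D β γ r m = true) : (m : F) ≠ 0 := by
  simp only [br, Bool.and_eq_true, Bool.or_eq_true, beq_iff_eq] at h
  rcases h.2.2.2.2.2 with ((h | h) | h) | h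
  · rw [h]; simp
  · rw [h]; simp
  · rw [h]; simpa using h2
  · rw [h]; simpa using h2

theorem xK_br {β γ r : ℕ} {m : ℤ} (h : br D β γ r m = true) (t u : F) :
    xK hD γ u * xK hD β t = xK hD β t * xK hD γ u * xK hD r (-(m * t * u)) := by
  simp only [br, Bool.and_eq_true, Nat.blt_eq, bne_iff_ne, decide_eq_true_eq] at h
  obtain ⟨hβ, hγ, h1, h2, h3, -⟩ := h
  have h4 := xK_word hD hβ hγ h1 h2 t u
  have h5 : (⟨wordG hD (D.commWord F β γ t u), wordG_mem_group hD _⟩ : D.group F) = xK hD r (-(m * t * u)) := by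
    apply Subtype.ext
    show wordG hD ((D.commTerms β γ).map fun c => (c.1, (c.2.1 : F) * (-t) ^ c.2.2.1 * u ^ c.2.2.2)) =
      xG hD r (-(m * t * u))
    rw [h3]
    simp only [List.map_cons, List.map_nil, wordG_cons, wordG_nil, mul_one, pow_one]
    congr 1
    ring
  rw [h5] at h4
  exact h4

theorem lc_l1 {r s : ℕ} (hr : r < D.nroots) (hs : s < D.nroots) (h : l1 D r s = true) (t u : F) :
    LC.{u, v} (xK hD r t) (xK hD s u) := by
  simp only [l1, Bool.and_eq_true] at h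
  obtain ⟨h1, h2⟩ := h
  obtain ⟨i, hi, h3⟩ := List.any_eq_true.1 h2
  rw [List.mem_range] at hi
  have hc := xK_commute hD hr hs h1 t u
  rcases Bool.eq_false_or_eq_true (D.cartan i r % 2 == 0) with h4 | h4
  · have h5 : (D.cartan i s % 2 != 0) = true := by
      rw [h4] at h3
      simpa using h3
    exact (LC.of_inv hc.symm (tK_odd hD hi hs h5 u) (tK_even hD hi hr h4 t)).symm
  · have h5 : (D.cartan i s % 2 == 0) = true := by
      rw [h4] at h3
      simpa using h3
    have h6 : (D.cartan i r % 2 != 0) = true := by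
      simpa using h4
    exact LC.of_inv hc (tK_odd hD hi hr h6 t) (tK_even hD hi hs h5 u)

theorem lc_br (h2 : (2 : F) ≠ 0) {β γ r s : ℕ} {m : ℤ} (hb : br D β γ r m = true) (hs : s < D.nroots)
    (h1 : l1 D β s = true) (h1' : l1 D γ s = true) (t u : F) : LC.{u, v} (xK hD r t) (xK hD s u) := by
  rw [← mem_cenLC]
  have h3 := xK_br hD hb (-((m : F)⁻¹ * t)) 1
  have h4 : -((m : F) * -((m : F)⁻¹ * t) * 1) = t := by
    have := br_ne h2 hb
    field_simp
  rw [h4] at h3
  obtain ⟨hβ, hγ⟩ := br_lt hb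
  have h5 : xK hD β (-((m : F)⁻¹ * t)) ∈ cenLC.{u, v} (xK hD s u) := lc_l1 hD hβ hs h1 _ _
  have h6 : xK hD γ (1 : F) ∈ cenLC.{u, v} (xK hD s u) := lc_l1 hD hγ hs h1' _ _
  have h7 : xK hD r t = (xK hD β (-((m : F)⁻¹ * t)) * xK hD γ 1)⁻¹ * (xK hD γ 1 * xK hD β (-((m : F)⁻¹ * t))) := by
    rw [h3]; group
  rw [h7]
  exact mul_mem (inv_mem (mul_mem h5 h6)) (mul_mem h6 h5)

theorem lc_l2 (h2 : (2 : F) ≠ 0) {ex : List (ℕ × ℕ × ℕ × ℕ × ℤ)} {r s : ℕ} (hr : r < D.nroots)
    (hs : s < D.nroots) (h : l2 D ex r s = true) (t u : F) : LC.{u, v} (xK hD r t) (xK hD s u) := by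
  simp only [l2, Bool.or_eq_true, List.any_eq_true, Bool.and_eq_true, beq_iff_eq] at h
  rcases h with h | ⟨x, -, -, -, h3, h4, h5⟩
  · exact lc_l1 hD hr hs h t u
  · exact lc_br hD h2 h3 hs h4 h5 t u

end elts

theorem two_le_order {r : ℕ} (hr : r.Prime) (hr2 : r ≠ 2) : 2 ≤ orderOf (2 : ZMod r) := by
  haveI : Fact r.Prime := ⟨hr⟩
  have h3 : 2 < r := lt_of_le_of_ne hr.two_le (Ne.symm hr2)
  have h1 : orderOf (2 : ZMod r) ≠ 0 := by
    intro h
    have h2 : (2 : ZMod r) ≠ 0 := by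
      intro h0
      have := (ZMod.natCast_eq_zero_iff 2 r).1 (by exact_mod_cast h0)
      exact absurd (Nat.le_of_dvd (by norm_num) this) (by omega)
    exact (orderOf_pos_iff.2 (isOfFinOrder_iff_pow_eq_one.2
      ⟨r - 1, by omega, ZMod.pow_card_sub_one_eq_one h2⟩)).ne' h
  have h2 : orderOf (2 : ZMod r) ≠ 1 := by
    intro h
    have h0 := orderOf_eq_one_iff.1 h
    have h4 : (1 : ZMod r) = 0 := by linear_combination h0
    exact one_ne_zero h4
  omega

/-- **The Heisenberg row of a Chevalley group.** -/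
theorem lb_of_chk {D : ChevalleyDatum} (hD : InList D) (F : Type u) [Field F] [Finite F] (h2 : (2 : F) ≠ 0)
    [IsSimpleGroup (D.group F)] {ρ i0 : ℕ} {prs : List (ℕ × ℕ × ℤ)} {ex : List (ℕ × ℕ × ℕ × ℕ × ℤ)}
    (h : chk D ρ i0 prs ex = true) : LB.{u, v, w} (D.group F) (2 * Nat.card F ^ prs.length) := by
  obtain ⟨r, hrc⟩ := CharP.exists F
  have hr : r.Prime := (CharP.char_is_prime_or_zero F r).resolve_right (CharP.char_ne_zero_of_finite F r)
  haveI : Fact r.Prime := ⟨hr⟩
  have hr2 : r ≠ 2 := by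
    rintro rfl
    exact h2 (by exact_mod_cast CharP.cast_eq_zero F 2)
  simp only [chk, Bool.and_eq_true, Nat.blt_eq, List.all_eq_true] at h
  obtain ⟨hρ, hi0, hρo, hρρ, h1, hpw⟩ := h
  have hget := pw_get hpw
  have hp : ∀ j : Fin prs.length, chk1 D ρ i0 ex (prs.get j) = true := fun j => h1 _ (prs.get_mem j)
  simp only [chk1, Bool.and_eq_true] at hp
  have hlt : ∀ j, (prs.get j).1 < D.nroots ∧ (prs.get j).2.1 < D.nroots := fun j => br_lt (hp j).1
  have hAA0 : ∀ i j, i < j → chk2 D ex (prs.get i) (prs.get j) = true := hget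
  simp only [chk2, Bool.and_eq_true, Bool.or_eq_true] at hAA0
  have hAAc : ∀ i j, cm D (prs.get i).1 (prs.get j).1 = true ∨ cm D (prs.get j).1 (prs.get i).1 = true := by
    intro i j
    rcases lt_trichotomy i j with h | h | h
    · exact Or.inl (hAA0 i j h).1
    · subst h; left; simp [cm]
    · exact Or.inr (hAA0 j i h).1
  have hBA : ∀ i j, i ≠ j → cm D (prs.get i).2.1 (prs.get j).1 = true := by
    intro i j hij
    rcases lt_or_gt_of_ne hij with h | h
    · exact (hAA0 i j h).2.1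
    · exact (hAA0 j i h).2.2.1
  have hconj : ∀ (j : Fin prs.length) (t u : F), xK hD (prs.get j).2.1 t * xK hD (prs.get j).1 u *
      (xK hD (prs.get j).2.1 t)⁻¹ = xK hD (prs.get j).1 u * xK hD ρ (-((prs.get j).2.2 : F) * t * u) := by
    intro j t u
    have e1 := xK_commute hD hρ (hlt j).2 (hp j).2.2.2.2.1 (-(((prs.get j).2.2 : F) * u * t)) t
    have e2 : -((prs.get j).2.2 : F) * t * u = -(((prs.get j).2.2 : F) * u * t) := by ring
    rw [mul_inv_eq_iff_eq_mul, xK_br hD (hp j).1, e2, mul_assoc (xK hD (prs.get j).1 u),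
      mul_assoc (xK hD (prs.get j).1 u), e1]
  have hFH : FH r prs.length (xK hD ρ (F := F)) (fun j => xK hD (prs.get j).1) (fun j => xK hD (prs.get j).2.1)
      (fun j => -((prs.get j).2.2 : F)) := by
    refine ⟨xK_add hD ρ, fun j t => ?_, fun j t u => ?_, fun j t u => ?_, fun i j t u => ?_, fun i j hij t u => ?_,
      hconj, fun j => neg_ne_zero.2 (br_ne h2 (hp j).1)⟩
    · have h3 : ∀ n : ℕ, xK hD (prs.get j).1 t ^ n = xK hD (prs.get j).1 ((n : F) * t) := by
        intro n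
        induction n with
        | zero => rw [pow_zero, Nat.cast_zero, zero_mul, xK_zero]
        | succ n ih => rw [pow_succ, ih, ← xK_add]; congr 1; push_cast; ring
      rw [h3, CharP.cast_eq_zero, zero_mul, xK_zero]
    · exact xK_commute hD hρ (hlt j).1 (hp j).2.2.2.1 t u
    · exact xK_commute hD hρ (hlt j).2 (hp j).2.2.2.2.1 t u
    · rcases hAAc i j with h | h
      · exact xK_commute hD (hlt i).1 (hlt j).1 h t u
      · exact (xK_commute hD (hlt j).1 (hlt i).1 h u t).symm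
    · exact xK_commute hD (hlt i).2 (hlt j).1 (hBA i j hij) t u
  have h5 := LB.fh.{u, v, w, u} hr2 hFH (s := tK hD F i0) (fun t => tK_odd hD hi0 hρ hρo t)
    (fun j t => tK_odd hD hi0 (hlt j).1 (hp j).2.1 t) (fun j t => tK_even hD hi0 (hlt j).2 (hp j).2.2.1 t)
    (fun t u => lc_l2 hD h2 hρ hρ hρρ t u)
    (fun j t u => (lc_l2 hD h2 (hlt j).1 hρ (hp j).2.2.2.2.2.1 u t).symm)
    (fun i j t u => by
      rcases lt_trichotomy i j with h | h | h
      · rcases (hAA0 i j h).2.2.2 with h' | h'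
        · exact lc_l2 hD h2 (hlt i).1 (hlt j).1 h' t u
        · exact (lc_l2 hD h2 (hlt j).1 (hlt i).1 h' u t).symm
      · subst h
        exact lc_l2 hD h2 (hlt i).1 (hlt i).1 (hp i).2.2.2.2.2.2 t u
      · rcases (hAA0 j i h).2.2.2 with h' | h'
        · exact (lc_l2 hD h2 (hlt j).1 (hlt i).1 h' u t).symm
        · exact lc_l2 hD h2 (hlt i).1 (hlt j).1 h' t u)
    ⟨1, fun h => one_ne_zero ((xG_eq_one_iff hD hρ (1 : F)).1 (congrArg Subtype.val h))⟩
  intro L _ _ π hπ hc ho hL V _ _ hV φ hφ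
  refine le_trans (Nat.pow_le_pow_right (by norm_num) ?_) (h5 L π hπ hc ho hL V hV φ hφ)
  exact Nat.mul_le_mul_right _ (two_le_order hr hr2)

theorem LB.of_equiv {K : Type u} {K' : Type u'} [Group K] [Group K'] (e : K ≃* K') {m : ℕ} (h : LB.{u, v, w} K m) :
    LB.{u', v, w} K' m := by
  intro L _ _ π hπ hc ho hL V _ _ hV φ hφ
  have hk : (e.symm.toMonoidHom.comp π).ker = π.ker := by
    ext x
    rw [MonoidHom.mem_ker, MonoidHom.mem_ker]
    exact e.symm.map_eq_one_iff
  refine h L (e.symm.toMonoidHom.comp π) (e.symm.surjective.comp hπ) (by rw [hk]; exact hc) (by rw [hk]; exact ho)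
    hL V hV φ hφ

end Cfsg.Agent.Omega.TwoF.ChevHeis

end

section


/-!
# A crude upper bound for the 2-rank of the automorphism group

* `card_aut_of_gen`: `K` generated by `d` elements, `|K| ≤ 2 ^ k`: `|Aut K| ≤ 2 ^ (d * k)`;
* `exists_gen`: the Chevalley group `D.group F` is generated by `2 * rank * e` elements, `|F| = p ^ e`;
* `card_aut_chev`: `|Aut (D.group F)| ≤ 2 ^ (2 * rank * dim * (|F| - 1))` if `|D.group F| ≤ |F| ^ dim`, `|F|` odd.
-/

set_option autoImplicit false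
set_option linter.style.haveILetI false

universe u v w

namespace Cfsg.Agent.Omega.TwoF.RkGen

open Cfsg.Agent.Omega.TwoF.Rk

section gen

variable {K : Type u} [Group K] [Finite K]

theorem card_mulAut_le (S : Finset K) (hS : Subgroup.closure (S : Set K) = ⊤) :
    Nat.card (MulAut K) ≤ Nat.card K ^ S.card := by
  have hinj : Function.Injective (fun (f : MulAut K) (s : S) => f (s : K)) := by
    intro f g hfg
    have h1 : f.toMonoidHom = g.toMonoidHom := by
      apply MonoidHom.eq_of_eqOn_dense hS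
      intro s hs
      exact congrFun hfg ⟨s, hs⟩
    exact MulEquiv.ext fun x => DFunLike.congr_fun h1 x
  have h1 := Nat.card_le_card_of_injective _ hinj
  have h2 : Nat.card S = S.card := by rw [Nat.card_eq_fintype_card, Fintype.card_coe]
  rwa [Nat.card_fun, h2] at h1

theorem card_aut_of_gen {d k : ℕ} (S : Finset K) (hS : Subgroup.closure (S : Set K) = ⊤) (hd : S.card ≤ d)
    (hk : Nat.card K ≤ 2 ^ k) : Nat.card (MulAut K) ≤ 2 ^ (d * k) := by
  have hpos : 0 < Nat.card K := Nat.card_pos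
  calc Nat.card (MulAut K) ≤ Nat.card K ^ S.card := card_mulAut_le S hS
    _ ≤ Nat.card K ^ d := Nat.pow_le_pow_right hpos hd
    _ ≤ (2 ^ k) ^ d := Nat.pow_le_pow_left hk d
    _ = 2 ^ (d * k) := by rw [← pow_mul, mul_comm]

theorem rk_of_card_aut {a : ℕ} (h : Nat.card (MulAut K) ≤ 2 ^ a) : RK.{v} K a := by
  intro X _ _ N _ ⟨f⟩ hc A _
  have h1 : Nat.card A ≤ Nat.card X := Nat.card_le_card_of_injective _ Subtype.val_injective
  have h2 : Nat.card X ≤ Nat.card (MulAut K) := Nat.le_of_dvd Nat.card_pos (card_dvd N f hc)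
  exact h1.trans (h2.trans h)

end gen

theorem sq_mul_le {p : ℕ} (hp : 3 ≤ p) (e : ℕ) : e ^ 2 * (p - 1) + 1 ≤ p ^ e := by
  obtain ⟨m, rfl⟩ : ∃ m, p = m + 3 := ⟨p - 3, by omega⟩
  have h0 : m + 3 - 1 = m + 2 := by omega
  rw [h0]
  induction e with
  | zero => simp
  | succ e ih =>
    rcases Nat.eq_zero_or_pos e with he | he
    · subst he; simp
    · obtain ⟨k, rfl⟩ : ∃ k, e = k + 1 := ⟨e - 1, by omega⟩
      have h1 : ((k + 1) ^ 2 * (m + 2) + 1) * (m + 3) =
          ((k + 1 + 1) ^ 2 * (m + 2) + 1) + (m + 2) * (k + 1) * (k * m + 2 * k + m) := by ring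
      have h2 := Nat.mul_le_mul_right (m + 3) ih
      rw [pow_succ (m + 3) (k + 1)]
      exact (Nat.le.intro h1.symm).trans h2

theorem mem_of_basis {K : Type u} [Group K] {F : Type v} [AddCommGroup F] {p : ℕ} [Fact p.Prime]
    [Module (ZMod p) F] {ι : Type w} (b : Module.Basis ι (ZMod p) F) {x : F → K}
    (hx : ∀ t u, x (t + u) = x t * x u) {H : Subgroup K} (h : ∀ i, x (b i) ∈ H) (t : F) : x t ∈ H := by
  let T : Submodule (ZMod p) F :=
    { carrier := {t | x t ∈ H}
      zero_mem' := by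
        show x 0 ∈ H
        rw [Cfsg.Agent.Omega.Lie.HeisF.X_zero hx]
        exact one_mem H
      add_mem' := fun {a c} ha hc => by
        show x (a + c) ∈ H
        rw [hx]
        exact mul_mem ha hc
      smul_mem' := fun c a ha => by
        show x (c • a) ∈ H
        rw [Cfsg.Agent.Omega.Lie.HeisF.X_smul hx]
        exact pow_mem ha _ }
  have h1 : Submodule.span (ZMod p) (Set.range b) ≤ T := by
    rw [Submodule.span_le]
    rintro _ ⟨i, rfl⟩
    exact h i
  rw [b.span_eq] at h1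
  exact h1 Submodule.mem_top

section chev

open Cfsg.Lie Cfsg.Lie.ChevalleyDatum Cfsg.Agent.ChevalleyStructure Cfsg.Agent.ChevalleyStructure.Elts
  Cfsg.Agent.Omega.TwoF.ChevHeis

variable {D : ChevalleyDatum} (hD : InList D) {F : Type u} [Field F]

/-- A subgroup containing the root groups of the fundamental roots and their negatives is everything. -/
theorem eq_top_of_simple {H : Subgroup (D.group F)} (h1 : ∀ i < D.rank, ∀ t : F, xK hD (D.simple i) t ∈ H)
    (h2 : ∀ i < D.rank, ∀ t : F, xK hD (D.neg (D.simple i)) t ∈ H) : H = ⊤ := by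
  have hall : ∀ s < D.nroots, ∀ t : F, xK hD s t ∈ H := by
    refine Reach.reach hD (fun s => ∀ t : F, xK hD s t ∈ H) h1 ?_
    intro i hi s hs hP t
    obtain ⟨η, hη, hc⟩ := Cfsg.Agent.S1031.result (F := F) D hD i s hi hs
    have hn : (⟨nG hD (D.simple i) 1, nG_mem_group hD _ _⟩ : D.group F) ∈ H := by
      have h3 : (⟨nG hD (D.simple i) 1, nG_mem_group hD _ _⟩ : D.group F) =
          xK hD (D.simple i) 1 * (xK hD (D.neg (D.simple i)) (-1⁻¹) * xK hD (D.simple i) 1) := by
        apply Subtype.ext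
        show nG hD (D.simple i) 1 = xG hD (D.simple i) 1 * (xG hD (D.neg (D.simple i)) (-1⁻¹) * xG hD (D.simple i) 1)
        rw [nG_def]
      rw [h3]
      exact mul_mem (h1 i hi 1) (mul_mem (h2 i hi _) (h1 i hi 1))
    have h4 : (⟨nG hD (D.simple i) 1, nG_mem_group hD _ _⟩ : D.group F) * xK hD s ((η : F) * t) =
        xK hD (D.reflectRoot i s) t * ⟨nG hD (D.simple i) 1, nG_mem_group hD _ _⟩ := by
      apply Subtype.ext
      apply Units.ext
      have h5 := hc ((η : F) * t)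
      have h6 : (η : F) * ((η : F) * t) = t := by
        rcases hη with rfl | rfl <;> simp
      rw [h6] at h5
      exact h5
    have h7 : xK hD (D.reflectRoot i s) t = (⟨nG hD (D.simple i) 1, nG_mem_group hD _ _⟩ : D.group F) *
        xK hD s ((η : F) * t) * (⟨nG hD (D.simple i) 1, nG_mem_group hD _ _⟩ : D.group F)⁻¹ := by
      rw [h4]; group
    rw [h7]
    exact mul_mem (mul_mem hn (hP _)) (inv_mem hn)
  have h8 : D.group F ≤ H.map (D.group F).subtype := by
    rw [group_le_iff hD]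
    intro r hr t
    exact ⟨xK hD r t, hall r hr t, rfl⟩
  rw [eq_top_iff]
  rintro g -
  obtain ⟨g', hg', he⟩ := h8 g.2
  have : g' = g := Subtype.ext he
  rwa [← this]

include hD in
theorem exists_gen [Finite F] {p : ℕ} [Fact p.Prime] [Algebra (ZMod p) F] : ∃ S : Finset (D.group F),
    Subgroup.closure (S : Set (D.group F)) = ⊤ ∧ S.card ≤ 2 * D.rank * Module.finrank (ZMod p) F := by
  classical
  haveI : Module.Finite (ZMod p) F := Module.Finite.of_finite
  let b := Module.finBasis (ZMod p) F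
  let f : (Fin D.rank × Bool) × Fin (Module.finrank (ZMod p) F) → D.group F := fun a =>
    xK hD (if a.1.2 then D.simple a.1.1 else D.neg (D.simple a.1.1)) (b a.2)
  refine ⟨Finset.univ.image f, ?_, ?_⟩
  · have hf : ∀ a, f a ∈ Subgroup.closure ((Finset.univ.image f : Finset (D.group F)) : Set (D.group F)) :=
      fun a => Subgroup.subset_closure (by simp)
    apply eq_top_of_simple hD
    · intro i hi
      exact mem_of_basis b (xK_add hD _) fun j => hf ((⟨i, hi⟩, true), j)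
    · intro i hi
      exact mem_of_basis b (xK_add hD _) fun j => hf ((⟨i, hi⟩, false), j)
  · refine Finset.card_image_le.trans ?_
    rw [Finset.card_univ, Fintype.card_prod, Fintype.card_prod, Fintype.card_fin, Fintype.card_bool,
      Fintype.card_fin, mul_comm D.rank 2]

/-- the numerical estimate -/
theorem card_aut_le_of_gen {K : Type v} [Group K] [Finite K] {p e m n : ℕ} (hp3 : 3 ≤ p)
    (S : Finset K) (hS : Subgroup.closure (S : Set K) = ⊤) (hSc : S.card ≤ m * e)
    (hn : Nat.card K ≤ (p ^ e) ^ n) : Nat.card (MulAut K) ≤ 2 ^ (m * n * (p ^ e - 1)) := by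
  have hk : Nat.card K ≤ 2 ^ ((p - 1) * (e * n)) := by
    refine hn.trans ?_
    rw [← pow_mul, pow_mul 2]
    apply Nat.pow_le_pow_left
    have := Nat.lt_two_pow_self (n := p - 1)
    omega
  refine (card_aut_of_gen S hS hSc hk).trans (Nat.pow_le_pow_right (by norm_num) ?_)
  have h4 := sq_mul_le hp3 e
  have h5 : e ^ 2 * (p - 1) ≤ p ^ e - 1 := by omega
  calc m * e * ((p - 1) * (e * n)) = m * n * (e ^ 2 * (p - 1)) := by ring
    _ ≤ _ := Nat.mul_le_mul_left _ h5

include hD in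
/-- **The automorphism group of a Chevalley group.** -/
theorem card_aut_chev [Finite F] (h2 : (2 : F) ≠ 0) {n : ℕ} (hn : Nat.card (D.group F) ≤ Nat.card F ^ n) :
    Nat.card (MulAut (D.group F)) ≤ 2 ^ (2 * D.rank * n * (Nat.card F - 1)) := by
  obtain ⟨p, hpc⟩ := CharP.exists F
  have hp : p.Prime := (CharP.char_is_prime_or_zero F p).resolve_right (CharP.char_ne_zero_of_finite F p)
  haveI : Fact p.Prime := ⟨hp⟩
  have hp2 : p ≠ 2 := by
    rintro rfl
    exact h2 (by exact_mod_cast CharP.cast_eq_zero F 2)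
  have hp3 : 3 ≤ p := lt_of_le_of_ne hp.two_le (Ne.symm hp2)
  letI : Algebra (ZMod p) F := ZMod.algebra F p
  haveI : Module.Finite (ZMod p) F := Module.Finite.of_finite
  have hcard : Nat.card F = p ^ Module.finrank (ZMod p) F := by
    rw [Module.natCard_eq_pow_finrank (K := ZMod p) (V := F), Nat.card_zmod]
  obtain ⟨S, hS, hSc⟩ := exists_gen hD (F := F) (p := p)
  rw [hcard] at hn ⊢
  exact card_aut_le_of_gen hp3 S hS hSc hn

end chev

end Cfsg.Agent.Omega.TwoF.RkGen

end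

section


/-!
# `F₄(q)`, `q` odd: the Heisenberg bound `2 q ^ 7`
-/

set_option autoImplicit false

universe u v w

namespace Cfsg.Agent.Omega.TwoF.F4Odd

open Cfsg.Lie Cfsg.Agent.Omega.Lie.Heis Cfsg.Agent.Omega.TwoF.ChevHeis

/-- the pairs `(α, β, m)`, `α + β` the highest root -/
def prs : List (ℕ × ℕ × ℤ) :=
  [(46, 24, -1), (26, 45, 1), (29, 44, 2), (31, 43, -1), (42, 32, -1), (36, 40, 2), (38, 39, -2)]

/-- decompositions of roots -/
def ex : List (ℕ × ℕ × ℕ × ℕ × ℤ) :=
  [(47, 47, 24, 46, 1), (46, 46, 23, 47, 1), (26, 46, 13, 36, -2), (26, 26, 2, 47, -1),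
   (26, 31, 10, 39, 2), (26, 42, 10, 39, 2), (29, 29, 10, 40, -1), (31, 46, 14, 38, -2),
   (31, 31, 4, 47, 1), (31, 42, 12, 40, 2), (42, 46, 33, 38, 2), (42, 42, 15, 47, 1),
   (36, 36, 10, 44, -1), (38, 38, 12, 44, -1)]

theorem chk_eq : chk chevF4 47 3 prs ex = true := by decide +kernel

/-- **`LB` for `F₄(q)`, `q` odd.** -/
theorem lb (F : Type u) [Field F] [Finite F] (h2 : (2 : F) ≠ 0) :
    LB.{u, v, w} (chevF4.group F) (2 * Nat.card F ^ 7) := by
  have := (Cfsg.Agent.S1054.result (F := F) chevF4 (by simp)).1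
  exact lb_of_chk (by simp [Cfsg.Agent.ChevalleyStructure.Elts.InList]) F h2 chk_eq

end Cfsg.Agent.Omega.TwoF.F4Odd

end

section


/-!
# `E₆(q)`, `q` odd: the Heisenberg bound `2 q ^ 10`
-/

set_option autoImplicit false

universe u v w

namespace Cfsg.Agent.Omega.TwoF.E6Odd

open Cfsg.Lie Cfsg.Agent.Omega.Lie.Heis Cfsg.Agent.Omega.TwoF.ChevHeis

/-- the pairs `(α, β, m)`, `α + β` the highest root -/
def prs : List (ℕ × ℕ × ℤ) :=
  [(70, 46, -1), (47, 69, -1), (48, 68, 1), (49, 67, -1), (50, 66, 1), (51, 65, -1), (52, 64, 1),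
   (63, 53, -1), (62, 54, 1), (61, 55, -1)]

/-- decompositions of roots -/
def ex : List (ℕ × ℕ × ℕ × ℕ × ℤ) :=
  [(71, 71, 46, 70, 1), (70, 70, 25, 71, 1), (47, 47, 2, 71, 1), (48, 48, 3, 71, -1),
   (49, 49, 4, 71, 1), (50, 50, 5, 71, -1), (51, 51, 6, 71, 1), (52, 52, 7, 71, -1),
   (63, 63, 18, 71, 1), (62, 62, 17, 71, -1), (61, 61, 16, 71, 1)]

theorem chk_eq : chk chevE6 71 1 prs ex = true := by decide +kernel

/-- **`LB` for `E₆(q)`, `q` odd.** -/
theorem lb (F : Type u) [Field F] [Finite F] (h2 : (2 : F) ≠ 0) :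
    LB.{u, v, w} (chevE6.group F) (2 * Nat.card F ^ 10) := by
  have := (Cfsg.Agent.S1054.result (F := F) chevE6 (by simp)).1
  exact lb_of_chk (by simp [Cfsg.Agent.ChevalleyStructure.Elts.InList]) F h2 chk_eq

end Cfsg.Agent.Omega.TwoF.E6Odd

end

section


/-!
# The lower bound for `G₂(q)`, `q` odd (TABLE 2F)

The unipotent radical `⟨X_b, X_{3a+b}, X_{3a+2b}⟩` of the long root `SL₃(q)` is a Heisenberg configuration over `F`:
`LB (G₂(q)) (ord_p(2) * q)` in all odd covers.
-/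

set_option autoImplicit false

namespace Cfsg.Agent.Omega.TwoF.GTwoLB

open Cfsg Cfsg.Lie Cfsg.Agent.ChevalleyStructure Cfsg.Agent.ChevalleyStructure.Elts
  Cfsg.Agent.Omega.Lie.HeisF Cfsg.Agent.Omega.Lie

universe u v w

variable {F : Type u} [Field F]

theorem inG2 : InList chevG2 := by simp

/-- root elements -/
noncomputable def X (r : ℕ) (t : F) : ↥(chevG2.group F) := ⟨xG inG2 r t, xG_mem_group inG2 r t⟩

theorem X_add (r : ℕ) (t u : F) : X r (t + u) = X r t * X r u := Subtype.ext (xG_add inG2 r t u).symm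

theorem X_zero (r : ℕ) : X r (0 : F) = 1 := Subtype.ext (xG_zero inG2 r)

theorem X_neg (r : ℕ) (t : F) : X r (-t) = (X r t)⁻¹ := by
  rw [eq_inv_iff_mul_eq_one, ← X_add, neg_add_cancel, X_zero]

theorem X_eq_one {r : ℕ} (hr : r < 12) {t : F} : X r t = 1 ↔ t = 0 := by
  constructor
  · intro h
    exact (xG_eq_one_iff inG2 (r := r) hr t).1 (congrArg Subtype.val h)
  · rintro rfl
    exact X_zero r

theorem X_pow (r n : ℕ) (t : F) : X r t ^ n = X r (n * t) := by
  induction n with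
  | zero => rw [pow_zero, Nat.cast_zero, zero_mul, X_zero]
  | succ n ih => rw [pow_succ, ih, ← X_add]; congr 1; push_cast; ring

theorem X_comm (r : ℕ) (t u : F) : X r t * X r u = X r u * X r t := by
  rw [← X_add, ← X_add, add_comm]

/-- commuting root elements -/
theorem rel0 {r s : ℕ} (hr : r < 12) (hs : s < 12) (hrs : s ≠ r) (hneg : s ≠ chevG2.neg r)
    (h : chevG2.commTerms r s = []) (t u : F) : X s u * X r t = X r t * X s u := by
  apply Subtype.ext
  refine Units.ext ?_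
  show chevG2.x F s u * chevG2.x F r t = chevG2.x F r t * chevG2.x F s u
  have h1 := S1025.result (F := F) chevG2 inG2 r s hr hs hrs hneg t u
  rw [ChevalleyDatum.commWord, h] at h1
  rw [h1]
  show _ * chevG2.wordMat F [] = _
  rw [wordMat_nil, mul_one]

/-- the commutator of two root elements in one root group -/
theorem rel1 {r s k : ℕ} {c : ℤ} (hr : r < 12) (hs : s < 12) (hrs : s ≠ r) (hneg : s ≠ chevG2.neg r)
    (h : chevG2.commTerms r s = [(k, c, 1, 1)]) (t u : F) :
    X s u * X r t = X r t * X s u * X k ((c : F) * (-t) * u) := by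
  apply Subtype.ext
  refine Units.ext ?_
  show chevG2.x F s u * chevG2.x F r t = chevG2.x F r t * chevG2.x F s u * chevG2.x F k ((c : F) * (-t) * u)
  have h1 := S1025.result (F := F) chevG2 inG2 r s hr hs hrs hneg t u
  rw [ChevalleyDatum.commWord, h] at h1
  rw [h1]
  show _ * chevG2.wordMat F [(k, (c : F) * (-t) ^ 1 * u ^ 1)] = _
  rw [wordMat_cons, wordMat_nil, mul_one, pow_one, pow_one]

/-- the elements `h_p(c)` of the torus -/
noncomputable def H (i : ℕ) (c : F) : ↥(chevG2.group F) :=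
  ⟨hG inG2 (chevG2.simple i) c, hG_mem_group inG2 _ _⟩

theorem H_conj {i s : ℕ} (hi : i < 2) (hs : s < 12) {c : F} (hc : c ≠ 0) (t : F) :
    H i c * X s t * (H i c)⁻¹ = X s (c ^ (chevG2.cartan i s) * t) := by
  rw [mul_inv_eq_iff_eq_mul]
  apply Subtype.ext
  refine Units.ext ?_
  show ((hG inG2 (chevG2.simple i) c * xG inG2 s t : GL chevG2.Idx F) : Matrix chevG2.Idx chevG2.Idx F) =
    ((xG inG2 s (c ^ (chevG2.cartan i s) * t) * hG inG2 (chevG2.simple i) c : GL chevG2.Idx F) :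
      Matrix chevG2.Idx chevG2.Idx F)
  rw [Units.val_mul, Units.val_mul, coe_xG, coe_xG, coe_hG]
  exact S1032.result (F := F) chevG2 inG2 i s hi hs c hc t

/-- the elements `h_p(-1)` of the torus -/
noncomputable def T (F : Type u) [Field F] (i : ℕ) : ↥(chevG2.group F) := H i (-1)

theorem T_conj {i s : ℕ} (hi : i < 2) (hs : s < 12) (t : F) :
    T F i * X s t * (T F i)⁻¹ = X s ((-1) ^ (chevG2.cartan i s) * t) :=
  H_conj hi hs (neg_ne_zero.2 one_ne_zero) t

theorem T_inv {i s : ℕ} (hi : i < 2) (hs : s < 12) (h : Odd (chevG2.cartan i s)) (t : F) :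
    T F i * X s t * (T F i)⁻¹ = (X s t)⁻¹ := by
  rw [T_conj hi hs, h.neg_one_zpow, neg_one_mul, X_neg]

theorem T_fix {i s : ℕ} (hi : i < 2) (hs : s < 12) (h : Even (chevG2.cartan i s)) (t : F) :
    T F i * X s t * (T F i)⁻¹ = X s t := by
  rw [T_conj hi hs, h.neg_one_zpow, one_mul]

/-! ### The Heisenberg configuration: `X 11`, `X 6`, `X 10` -/

theorem c11_6 (t u : F) : X 11 t * X 6 u = X 6 u * X 11 t :=
  rel0 (r := 6) (s := 11) (by norm_num) (by norm_num) (by decide) (by decide) (by decide +kernel) u t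

theorem c11_10 (t u : F) : X 11 t * X 10 u = X 10 u * X 11 t :=
  rel0 (r := 10) (s := 11) (by norm_num) (by norm_num) (by decide) (by decide) (by decide +kernel) u t

theorem c1_6 (t u : F) : X 1 t * X 6 u = X 6 u * X 1 t :=
  rel0 (r := 6) (s := 1) (by norm_num) (by norm_num) (by decide) (by decide) (by decide +kernel) u t

/-- `[x_10(t), x_6(u)] = x_11(-t u)` -/
theorem conj10_6 (t u : F) : X 10 t * X 6 u * (X 10 t)⁻¹ = X 6 u * X 11 (-1 * t * u) := by
  have h := rel1 (r := 10) (s := 6) (k := 11) (c := -1) (by norm_num) (by norm_num) (by decide) (by decide)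
    (by decide +kernel) t u
  rw [mul_inv_eq_iff_eq_mul, mul_assoc, c11_10, ← mul_assoc, h]
  rw [mul_assoc (X 10 t * X 6 u), ← X_add]
  have e : ((-1 : ℤ) : F) * -t * u + -1 * t * u = 0 := by push_cast; ring
  rw [e, X_zero, mul_one]

/-- `[x_11, x_1] = x_6` -/
theorem comm11_1 (t : F) : X 6 t = (X 11 t)⁻¹ * (X 1 1)⁻¹ * X 11 t * X 1 1 := by
  have h := rel1 (r := 1) (s := 11) (k := 6) (c := -1) (by norm_num) (by norm_num) (by decide) (by decide)
    (by decide +kernel) (1 : F) t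
  have e : ((-1 : ℤ) : F) * -1 * t = t := by push_cast; ring
  rw [e] at h
  rw [show (X 11 t)⁻¹ * (X 1 1)⁻¹ * X 11 t * X 1 1 = (X 11 t)⁻¹ * (X 1 1)⁻¹ * (X 11 t * X 1 1) by group, h]
  group

/-- `x_11` is a commutator of `x_10` and `x_6` -/
theorem comm10_6 (t : F) : X 11 t = (X 6 1)⁻¹ * (X 10 (-t) * X 6 1 * (X 10 (-t))⁻¹) := by
  rw [conj10_6, inv_mul_cancel_left]
  congr 1
  ring

section LC

theorem lc11_6 (t u : F) : LC.{u, v} (X 11 t) (X 6 u) :=
  LC.of_inv (s := T F 1) (c11_6 t u) (T_inv (by norm_num) (by norm_num) (by decide) t)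
    (T_fix (by norm_num) (by norm_num) (by decide) u)

theorem lc11_10 (t u : F) : LC.{u, v} (X 11 t) (X 10 u) :=
  LC.symm (LC.of_inv (s := T F 0) (c11_10 t u).symm (T_inv (by norm_num) (by norm_num) (by decide) u)
    (T_fix (by norm_num) (by norm_num) (by decide) t))

theorem lc1_6 (t u : F) : LC.{u, v} (X 1 t) (X 6 u) :=
  LC.of_inv (s := T F 1) (c1_6 t u) (T_inv (by norm_num) (by norm_num) (by decide) t)
    (T_fix (by norm_num) (by norm_num) (by decide) u)

theorem lc11_11 (t u : F) : LC.{u, v} (X 11 t) (X 11 u) := by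
  have h6 : ∀ s : F, X 6 s ∈ cenLC.{u, v} (X 11 u) := fun s => mem_cenLC.2 (lc11_6 u s).symm
  have h10 : ∀ s : F, X 10 s ∈ cenLC.{u, v} (X 11 u) := fun s => mem_cenLC.2 (lc11_10 u s).symm
  rw [← mem_cenLC, comm10_6 t]
  exact mul_mem (inv_mem (h6 1)) (mul_mem (mul_mem (h10 _) (h6 1)) (inv_mem (h10 _)))

theorem lc6_6 (t u : F) : LC.{u, v} (X 6 t) (X 6 u) := by
  have h11 : ∀ s : F, X 11 s ∈ cenLC.{u, v} (X 6 u) := fun s => mem_cenLC.2 (lc11_6 s u)
  have h1 : ∀ s : F, X 1 s ∈ cenLC.{u, v} (X 6 u) := fun s => mem_cenLC.2 (lc1_6 s u)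
  rw [← mem_cenLC, comm11_1 t]
  exact mul_mem (mul_mem (mul_mem (inv_mem (h11 _)) (inv_mem (h1 _))) (h11 _)) (h1 _)

end LC

/-- **The lower bound** `ord_p(2) q` for `G₂(q)` in all odd covers. -/
theorem lb [Finite F] {p : ℕ} [Fact p.Prime] [CharP F p] (hp2 : p ≠ 2) [IsSimpleGroup ↥(chevG2.group F)] :
    Heis.LB.{u, v, w} ↥(chevG2.group F) (orderOf (2 : ZMod p) * Nat.card F) := by
  have hH : FH p 1 (X (F := F) 11) (fun _ => X 6) (fun _ => X 10) (fun _ => (-1 : F)) :=
    { add := X_add 11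
      A_pow := fun _ t => by rw [X_pow, CharP.cast_eq_zero, zero_mul, X_zero]
      XA := fun _ t u => c11_6 t u
      XB := fun _ t u => c11_10 t u
      AA := fun _ _ t u => X_comm 6 t u
      BA := fun i j hij => absurd (Subsingleton.elim i j) hij
      conj := fun _ t u => conj10_6 t u
      c_ne := fun _ => neg_ne_zero.2 one_ne_zero }
  have h := LB.fh.{u, v, w} hp2 hH (s := T F 0 * T F 1)
    (fun t => by
      have e : T F 0 * T F 1 * X 11 t * (T F 0 * T F 1)⁻¹ = T F 0 * (T F 1 * X 11 t * (T F 1)⁻¹) * (T F 0)⁻¹ := by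
        group
      rw [e, T_inv (by norm_num) (by norm_num) (by decide), ← X_neg, T_fix (by norm_num) (by norm_num) (by decide)])
    (fun _ t => by
      have e : T F 0 * T F 1 * X 6 t * (T F 0 * T F 1)⁻¹ = T F 0 * (T F 1 * X 6 t * (T F 1)⁻¹) * (T F 0)⁻¹ := by
        group
      show T F 0 * T F 1 * X 6 t * (T F 0 * T F 1)⁻¹ = (X 6 t)⁻¹
      rw [e, T_fix (by norm_num) (by norm_num) (by decide), T_inv (by norm_num) (by norm_num) (by decide)])
    (fun _ t => by
      have e : T F 0 * T F 1 * X 10 t * (T F 0 * T F 1)⁻¹ = T F 0 * (T F 1 * X 10 t * (T F 1)⁻¹) * (T F 0)⁻¹ := by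
        group
      show T F 0 * T F 1 * X 10 t * (T F 0 * T F 1)⁻¹ = X 10 t
      rw [e, T_inv (by norm_num) (by norm_num) (by decide), ← X_neg,
        T_inv (by norm_num) (by norm_num) (by decide), ← X_neg, neg_neg])
    lc11_11 (fun _ => lc11_6) (fun _ _ => lc6_6) ⟨1, fun h => one_ne_zero ((X_eq_one (by norm_num)).1 h)⟩
  rwa [pow_one] at h

end Cfsg.Agent.Omega.TwoF.GTwoLB

end

section


/-!
# Degree bounds from the order of `GL(n, 2)`

`LB.of_dvd`: if `K` is simple, `d` divides `|K|` and `d` does not divide `|GL(n, 2)|` for `n < m`, then `LB K m`.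
-/

set_option autoImplicit false

namespace Cfsg.Agent.Omega.Lie.GLBound

open Cfsg.Agent.Omega.Lie.Heis

universe u v w

variable {K : Type u} [Group K]

/-- An irreducible abelian 2-group is elementary. -/
theorem sq_eq_one {L : Type v} [Group L] {V : Type w} [CommGroup V] [Finite V] (h2 : IsPGroup 2 V)
    {φ : L →* MulAut V} (hi : Irr φ) (x : V) : x ^ 2 = 1 := by
  let U : Subgroup V :=
    { carrier := {x | x ^ 2 = 1}
      one_mem' := one_pow _
      mul_mem' := fun {a b} ha hb => by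
        change (a * b) ^ 2 = 1
        rw [mul_pow, show a ^ 2 = 1 from ha, show b ^ 2 = 1 from hb, one_mul]
      inv_mem' := fun {a} ha => by
        change a⁻¹ ^ 2 = 1
        rw [inv_pow, show a ^ 2 = 1 from ha, inv_one] }
  have hU : ∀ g, ∀ x ∈ U, φ g x ∈ U := by
    intro g x hx
    change (φ g x) ^ 2 = 1
    rw [← map_pow, show x ^ 2 = 1 from hx, map_one]
  rcases hi U hU with h | h
  · -- no involutions
    by_contra hx
    obtain ⟨k, hk⟩ := h2 x
    classical
    have hex : ∃ k : ℕ, x ^ 2 ^ k = 1 := ⟨k, hk⟩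
    have h1 := Nat.find_spec hex
    obtain ⟨l, hl⟩ : ∃ l, Nat.find hex = l + 1 := by
      refine ⟨Nat.find hex - 1, ?_⟩
      have : Nat.find hex ≠ 0 := by
        intro h0
        rw [h0, pow_zero, pow_one] at h1
        exact hx (by rw [h1, one_pow])
      omega
    have h3 : x ^ 2 ^ l ∈ U := by
      change (x ^ 2 ^ l) ^ 2 = 1
      rw [← pow_mul, ← pow_succ, ← hl]
      exact h1
    rw [h] at h3
    exact Nat.find_min hex (by omega) (Subgroup.mem_bot.1 h3)
  · have : x ∈ U := h ▸ Subgroup.mem_top x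
    exact this

/-- **Bound from the order of `GL(n, 2)`.** -/
theorem LB.of_dvd [IsSimpleGroup K] {d m : ℕ} (hd : d ∣ Nat.card K)
    (h : ∀ n < m, ¬ d ∣ Nat.card (Matrix.GeneralLinearGroup (Fin n) (ZMod 2))) : LB.{u, v, w} K m := by
  refine LB.of_irr ?_
  intro L _ _ π hπ hc ho hL V _ _ h2 φ hφ hi
  by_contra hlt
  push Not at hlt
  have : Fact (Nat.Prime 2) := ⟨Nat.prime_two⟩
  obtain ⟨n, hn⟩ := IsPGroup.iff_card.1 h2
  have hnm : n < m := by
    rw [hn] at hlt
    exact (Nat.pow_lt_pow_iff_right (by norm_num)).1 hlt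
  obtain ⟨e⟩ := Cfsg.Agent.Lib.ElemAbGL.mulAut_equiv_GL (V := V) 2 n (sq_eq_one h2 hi) hn
  apply h n hnm
  rw [← Nat.card_congr e.toEquiv]
  refine hd.trans ((Subgroup.card_dvd_of_surjective π hπ).trans ?_)
  exact Subgroup.card_dvd_of_injective φ hφ

end Cfsg.Agent.Omega.Lie.GLBound

end
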