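import Cfsg.Agent.Mrg.Omega.Lie.PairRows
import Cfsg.Agent.Mrg.Omega.Lie.LemNS
import Cfsg.Agent.Mrg.Omega.Lie.LayerPerf

section


/-!
# (h1), SPLIT: the module `M = W i / R i` for `H = HQ (R i)` when `C_D(X) ≠ 1` is allowed (`b : BTS V R`)

`D1 = C_D(X) R i / R i`, `rad = Z(W i)/R i`, `e = V / R i`.

* `A_rad`: `[rad, A] ≤ D1`; `T_D1`: `T` is trivial on `D1`; `e_rad`: `e ∩ rad = 0`; `fix_D`: `C_M(T) ≤ D/R i`;
* `quadD`: `(1 + a)(1 + tat⁻¹) M ≤ e + D1`; `quad_U`: it vanishes on `U i / R i`; `quad4`: `≤ e` for `q = 4`;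
* `lemN`: `e ≤ (1 + a) M + rad` (LEMMA N', #14071); `faith`: `A` is faithful on `M / rad`;
* `stab_e`, `cen_T_norm_A`: `C_H(T)` stabilises `e` and normalises `A`, `q ≥ 8` (over `BT`, after helper932).
-/

set_option autoImplicit false
set_option linter.unusedSectionVars false

namespace Cfsg.Agent.Omega.Lie.ModQS

open Subgroup Cfsg.Agent.Omega.Lie Cfsg.Agent.Omega.Lie.Quot
open Cfsg.Agent.Omega.BTwo hiding ZZ
open Cfsg.Agent.Omega.Lie.LemN (ZZ N0_sq hallWitt ZZ_le_U)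

universe u v w

variable {G : Type u} [Group G] {ι : Type w} {V : Subgroup G} {R : ι → Subgroup G} {F : Type v} [Field F]
  {i j : ι} {vv : F → F → G} {w1 w2 t : F → G}

/-! ### In `G` -/

/-- **(N0)** for `BTS`: `[[W i, u], t u t⁻¹] ≤ V C_D(X)` for `t ∈ X` fixing `R i` and `R j` -/
theorem N0_T (b : BTS V R) {w u t : G} (hw : w ∈ WW V (R i)) (hu : u ∈ UU V R j)
    (ht : t ∈ XX V R) (hti : cj t (R i) = R i) (htj : cj t (R j) = R j) :
    (w * u * w⁻¹ * u⁻¹) * (t * u * t⁻¹) * (w * u * w⁻¹ * u⁻¹)⁻¹ * (t * u * t⁻¹)⁻¹ ∈ DD V R ∧ ∃ y ∈ V,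
      y * ((w * u * w⁻¹ * u⁻¹) * (t * u * t⁻¹) * (w * u * w⁻¹ * u⁻¹)⁻¹ * (t * u * t⁻¹)⁻¹) ∈ DD V R ⊓ CenX V R := by
  have htN := b.X_le_NV ht
  have hu' : t * u * t⁻¹ ∈ UU V R j := by
    have := conj_mem_cj (g := t) hu
    rwa [b.cj_UU htN htj] at this
  have hy := b.WU' hw hu
  have hsq := N0_sq b.toBT hw hu
  set y := w * u * w⁻¹ * u⁻¹ with hydef
  have hyY := UU_le_YY i hy
  have huY := UU_le_YY j hu
  have hu'Y := UU_le_YY j hu'
  have hyu := b.Y_comm hyY hu'Y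
  refine ⟨hyu, b.cen_DU (i := i) hyu fun h hh => ?_⟩
  have hhY := UU_le_YY i hh
  have hhy : h * y * h⁻¹ * y⁻¹ ∈ V := b.R_le i (b.WW_comm i (UU_le_WW i hh) (UU_le_WW i hy))
  have h1 := hallWitt b.toBT hhY hyY hu'Y hhy
  -- `h' = t⁻¹ h t`
  have hti' : cj t⁻¹ (R i) = R i := by rw [← cj_eq_iff.1 hti]
  have hh' : t⁻¹ * h * t ∈ UU V R i := by
    have := conj_mem_cj (g := t⁻¹) hh
    rwa [b.cj_UU (inv_mem htN) hti', inv_inv] at this
  have hh'Y := UU_le_YY i hh'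
  have hh'y : (t⁻¹ * h * t) * y * (t⁻¹ * h * t)⁻¹ * y⁻¹ ∈ V :=
    b.R_le i (b.WW_comm i (UU_le_WW i hh') (UU_le_WW i hy))
  have h2 := hallWitt b.toBT hh'Y hyY huY hh'y
  have h3 : (t⁻¹ * h * t) * (y * u * y⁻¹ * u⁻¹) * (t⁻¹ * h * t)⁻¹ * (y * u * y⁻¹ * u⁻¹)⁻¹ = 1 := by
    rw [← mem_centralizer_iff.1 (YY_le_cen hh'Y) _ hsq]; group
  rw [h3] at h2
  have hδ' : (t⁻¹ * h * t) * u * (t⁻¹ * h * t)⁻¹ * u⁻¹ ∈ DD V R := b.Y_comm hh'Y huY
  set δ' := (t⁻¹ * h * t) * u * (t⁻¹ * h * t)⁻¹ * u⁻¹ with hδ'def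
  have h4 : h * (t * u * t⁻¹) * h⁻¹ * (t * u * t⁻¹)⁻¹ = (t * δ' * t⁻¹ * δ'⁻¹) * δ' := by
    rw [hδ'def]; group
  have h5 : t * δ' * t⁻¹ * δ'⁻¹ ∈ V := b.XD ht hδ'
  have h6 : y * ((t * δ' * t⁻¹ * δ'⁻¹) * δ') * y⁻¹ * ((t * δ' * t⁻¹ * δ'⁻¹) * δ')⁻¹ = 1 := by
    have k1 := mem_centralizer_iff.1 (YY_le_cen hyY) _ h5
    set r := t * δ' * t⁻¹ * δ'⁻¹
    calc y * (r * δ') * y⁻¹ * (r * δ')⁻¹ = (y * r) * δ' * y⁻¹ * δ'⁻¹ * r⁻¹ := by group
      _ = r * (y * δ' * y⁻¹ * δ'⁻¹) * r⁻¹ := by rw [← k1]; group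
      _ = 1 := by rw [← h2]; group
  rw [h4, h6, mul_inv_eq_one, mul_inv_eq_iff_eq_mul] at h1
  exact h1.symm

/-- `[[y, u], t u t⁻¹] = 1` for `y ∈ U i` -/
theorem N0_TU (b : BT V R) {y u t : G} (hy : y ∈ UU V R i) (hu : u ∈ UU V R j)
    (ht : t ∈ XX V R) :
    (y * u * y⁻¹ * u⁻¹) * (t * u * t⁻¹) * (y * u * y⁻¹ * u⁻¹)⁻¹ * (t * u * t⁻¹)⁻¹ = 1 := by
  have hyY := UU_le_YY i hy
  have huY := UU_le_YY j hu
  have hδ := b.Y_comm hyY huY
  set δ := y * u * y⁻¹ * u⁻¹ with hδdef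
  -- `[δ, u] = 1`
  have h1 : δ * u = u * δ := by
    have hr := b.R_le j (b.W_sq j (UU_le_WW j hu))
    have h2 := mem_centralizer_iff.1 (UU_le_cen i hy) _ hr
    have e0 : y * u * y⁻¹ = δ * u := by rw [hδdef]; group
    have e1 : y * (u * u) * y⁻¹ = (δ * u) * (δ * u) := by rw [← e0]; group
    have e2 : y * (u * u) * y⁻¹ = u * u := by rw [← h2]; group
    rw [e2] at e1
    have h3 : u = δ * u * δ := by
      have e3 : u * u = (δ * u * δ) * u := by rw [e1]; group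
      exact mul_right_cancel e3
    have h4 := b.D_sq hδ
    calc δ * u = δ * (δ * u * δ) := by rw [← h3]
      _ = (δ * δ) * u * δ := by group
      _ = u * δ := by rw [h4, one_mul]
  have hXt : t⁻¹ ∈ XX V R := inv_mem ht
  have h2 := b.XD hXt hδ
  set r := t⁻¹ * δ * t⁻¹⁻¹ * δ⁻¹ with hr
  have e1 : t⁻¹ * δ * t = r * δ := by rw [hr]; group
  have hru := mem_centralizer_iff.1 (UU_le_cen j hu) _ h2
  calc δ * (t * u * t⁻¹) * δ⁻¹ * (t * u * t⁻¹)⁻¹ =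
        t * ((t⁻¹ * δ * t) * u * (t⁻¹ * δ * t)⁻¹ * u⁻¹) * t⁻¹ := by group
    _ = t * (r * (δ * u) * δ⁻¹ * r⁻¹ * u⁻¹) * t⁻¹ := by rw [e1]; group
    _ = t * ((r * u) * r⁻¹ * u⁻¹) * t⁻¹ := by rw [h1]; group
    _ = 1 := by rw [hru]; group

/-! ### In `M` -/

variable {M B : Type u} [AddCommGroup M] [AddCommGroup B]
  [DistribMulAction (NR R i) M] [DistribMulAction (NR R i) B] [DistribMulAction (HQ (R i)) M] {p : G → M}
  {r : G → B} {f : M →+ M →+ B} (m : ModQ V R i M B p r f)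

/-- `C_D(X) R i / R i` -/
def D1 : AddSubgroup M := m.sb (DD V R ⊓ CenX V R)

include m

/-- `e ∩ rad = 0` -/
theorem e_rad (b : BT V R) {c : M} (hc : c ∈ m.sb V) (hr : c ∈ m.rad) : c = 0 := by
  obtain ⟨x, hx, hxW, rfl⟩ := hc
  obtain ⟨z, hz, e⟩ := (m.mem_rad b).1 hr
  rw [m.p_ker _ hxW]
  refine b.cen_VW hx ?_
  have h1 := (m.p_eq_iff hz.1 hxW).1 e
  have e2 : x = (z * x⁻¹)⁻¹ * z := by group
  rw [e2]
  exact mul_mem (inv_mem (b.R_cen_W i h1)) hz.2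

/-- `D1 ≤ rad` -/
theorem D1_le_rad (b : BT V R) {c : M} (hc : c ∈ D1 m) : c ∈ m.rad := by
  obtain ⟨x, hx, hxW, rfl⟩ := hc
  exact (m.mem_rad b).2 ⟨x, mem_inf.2 ⟨hxW, cen_X_le i hx.2⟩, rfl⟩

/-- `A` centralises `e` -/
theorem A_e (b : BT V R) {a : HQ (R i)} (ha : a ∈ AA V R i j) {c : M} (hc : c ∈ m.sb V) : a • c = c := by
  obtain ⟨u, hu, rfl⟩ := (mem_AA b).1 ha
  rw [m.pr_smul]
  exact m.cen_e b (UU_le_cen j hu) hc

/-- `T` is trivial on `D1` -/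
theorem T_D1 (τ : TorD V R i j vv t) {s : HQ (R i)} (hs : s ∈ TT τ) {c : M} (hc : c ∈ D1 m) : s • c = c := by
  obtain ⟨a, ha, rfl⟩ := (mem_TT τ).1 hs
  obtain ⟨x, hx, hxW, rfl⟩ := hc
  have h1 : t a * x = x * t a := mem_centralizer_iff.1 hx.2 _ (τ.memX a ha)
  rw [m.act (τ.normR ha) hxW, h1, mul_inv_cancel_right]

/-- `T` normalises `e` -/
theorem T_mem_e (b : BT V R) (τ : TorD V R i j vv t) {s : HQ (R i)} (hs : s ∈ TT τ) {c : M} (hc : c ∈ m.sb V) :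
    s • c ∈ m.sb V := by
  obtain ⟨a, ha, rfl⟩ := (mem_TT τ).1 hs
  obtain ⟨x, hx, hxW, rfl⟩ := hc
  rw [m.act (τ.normR ha) hxW]
  have h1 := conj_mem_of_normalizer (b.X_le_NV (τ.memX a ha)) hx
  exact m.p_mem (V_le_WW V (R i) h1) h1

/-- `[rad, A] ≤ D1` -/
theorem A_rad (b : BTS V R) (hij : i ≠ j) {a : HQ (R i)} (ha : a ∈ AA V R i j) {c : M} (hc : c ∈ m.rad) :
    c + a • c ∈ D1 m := by
  obtain ⟨u, hu, rfl⟩ := (mem_AA b.toBT).1 ha
  obtain ⟨z, hz, rfl⟩ := (m.mem_rad b.toBT).1 hc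
  rw [m.smul_A b.toBT hz.1 hu]
  obtain ⟨h1, h2⟩ := b.cen_W_U hij hz.2 hu
  obtain ⟨x, hx, hf⟩ := b.cen_DW h1 h2
  set y := z * u * z⁻¹ * u⁻¹
  have h3 : p y = p (x * y) := by
    rw [m.p_mul _ (b.R_le_W i i hx) _ (D_le_W V R i h1), (m.p_ker _ (b.R_le_W i i hx)).2 hx, zero_add]
  rw [h3]
  exact m.p_mem (D_le_W V R i hf.1) hf

/-- `(1 + a)(1 + sas⁻¹) M ≤ e + D1`, `s ∈ T` -/
theorem quadD (b : BTS V R) (τ : TorD V R i j vv t) {a s : HQ (R i)} (ha : a ∈ AA V R i j) (hs : s ∈ TT τ)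
    (c : M) : ∃ x ∈ m.sb V, ∃ d ∈ D1 m,
      c + a • c + (s * a * s⁻¹) • c + (a * (s * a * s⁻¹)) • c = x + d := by
  obtain ⟨u, hu, rfl⟩ := (mem_AA b.toBT).1 ha
  obtain ⟨α, hα, rfl⟩ := (mem_TT τ).1 hs
  obtain ⟨w, hw, rfl⟩ := m.p_surj c
  have hu' := t_norm_U b.toBT τ hα hu
  have hN := U_le_N b.toBT i j hu
  have hN' := U_le_N b.toBT i j hu'
  have ht := τ.normR hα
  have hy := LemN.cm_mem b.toBT hw (UU_le_cen j hu)
  have h1 := m.smul_A b.toBT hw hu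
  have h2 := m.smul_A b.toBT hy hu'
  have e1 : pr (R i) ⟨t α, ht⟩ * pr (R i) ⟨u, hN⟩ * (pr (R i) ⟨t α, ht⟩)⁻¹ = pr (R i) ⟨_, hN'⟩ := rfl
  rw [e1]
  have hA' : pr (R i) ⟨_, hN'⟩ ∈ AA V R i j := (mem_AA b.toBT).2 ⟨_, hu', rfl⟩
  have hc : pr (R i) ⟨u, hN⟩ * pr (R i) ⟨_, hN'⟩ = pr (R i) ⟨_, hN'⟩ * pr (R i) ⟨u, hN⟩ := by
    have k1 := A_sq b.toBT τ.ne (mul_mem ha hA')
    have k2 : (pr (R i) ⟨u, hN⟩ * pr (R i) ⟨_, hN'⟩)⁻¹ = pr (R i) ⟨u, hN⟩ * pr (R i) ⟨_, hN'⟩ :=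
      inv_eq_of_mul_eq_one_left k1
    rw [mul_inv_rev, inv_eq_of_mul_eq_one_left (A_sq b.toBT τ.ne ha),
      inv_eq_of_mul_eq_one_left (A_sq b.toBT τ.ne hA')] at k2
    exact k2.symm
  rw [hc, mul_smul]
  have e2 : p w + pr (R i) ⟨u, hN⟩ • p w + pr (R i) ⟨_, hN'⟩ • p w +
      pr (R i) ⟨_, hN'⟩ • (pr (R i) ⟨u, hN⟩ • p w) =
      (p w + pr (R i) ⟨u, hN⟩ • p w) + pr (R i) ⟨_, hN'⟩ • (p w + pr (R i) ⟨u, hN⟩ • p w) := by
    rw [smul_add]; abel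
  rw [e2, h1, h2]
  obtain ⟨h3, y, hy, h4⟩ := N0_T b hw hu (τ.memX α hα) (cj_eq_self_iff.2 (τ.normR hα))
    (cj_eq_self_iff.2 (τ.normR' hα))
  have hyW := V_le_WW V (R i) hy
  refine ⟨p y⁻¹, m.p_mem (inv_mem hyW) (inv_mem hy), _, m.p_mem (D_le_W V R i h4.1) h4, ?_⟩
  rw [← m.p_mul _ (inv_mem hyW) _ (D_le_W V R i h4.1), inv_mul_cancel_left]

/-- `(1 + a)(1 + sas⁻¹)` vanishes on `U i / R i` -/
theorem quad_U (b : BT V R) (τ : TorD V R i j vv t) {a s : HQ (R i)} (ha : a ∈ AA V R i j) (hs : s ∈ TT τ)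
    {c : M} (hc : c ∈ m.sb (UU V R i)) : c + a • c + (s * a * s⁻¹) • c + (a * (s * a * s⁻¹)) • c = 0 := by
  obtain ⟨u, hu, rfl⟩ := (mem_AA b).1 ha
  obtain ⟨α, hα, rfl⟩ := (mem_TT τ).1 hs
  obtain ⟨w, hwU, hw, rfl⟩ := hc
  have hu' := t_norm_U b τ hα hu
  have hN := U_le_N b i j hu
  have hN' := U_le_N b i j hu'
  have ht := τ.normR hα
  have hy := LemN.cm_mem b hw (UU_le_cen j hu)
  have h1 := m.smul_A b hw hu
  have h2 := m.smul_A b hy hu'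
  have e1 : pr (R i) ⟨t α, ht⟩ * pr (R i) ⟨u, hN⟩ * (pr (R i) ⟨t α, ht⟩)⁻¹ = pr (R i) ⟨_, hN'⟩ := rfl
  rw [e1]
  have hA' : pr (R i) ⟨_, hN'⟩ ∈ AA V R i j := (mem_AA b).2 ⟨_, hu', rfl⟩
  have hcc : pr (R i) ⟨u, hN⟩ * pr (R i) ⟨_, hN'⟩ = pr (R i) ⟨_, hN'⟩ * pr (R i) ⟨u, hN⟩ := by
    have k1 := A_sq b τ.ne (mul_mem ha hA')
    have k2 : (pr (R i) ⟨u, hN⟩ * pr (R i) ⟨_, hN'⟩)⁻¹ = pr (R i) ⟨u, hN⟩ * pr (R i) ⟨_, hN'⟩ :=
      inv_eq_of_mul_eq_one_left k1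
    rw [mul_inv_rev, inv_eq_of_mul_eq_one_left (A_sq b τ.ne ha),
      inv_eq_of_mul_eq_one_left (A_sq b τ.ne hA')] at k2
    exact k2.symm
  rw [hcc, mul_smul]
  have e2 : p w + pr (R i) ⟨u, hN⟩ • p w + pr (R i) ⟨_, hN'⟩ • p w +
      pr (R i) ⟨_, hN'⟩ • (pr (R i) ⟨u, hN⟩ • p w) =
      (p w + pr (R i) ⟨u, hN⟩ • p w) + pr (R i) ⟨_, hN'⟩ • (p w + pr (R i) ⟨u, hN⟩ • p w) := by
    rw [smul_add]; abel
  rw [e2, h1, h2, N0_TU b hwU hu (τ.memX α hα), m.p_one]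

/-- `C_M(T) ≤ D / R i` -/
theorem fix_D' (b : BT V R) (τ : TorD V R i j vv t) {β : F} (hβ : β ≠ 0) (hβ2 : 1 + β ≠ 0) {c : M}
    (h1 : ModQ.tq τ hβ • c = c) (h2 : ModQ.tq τ hβ2 • c = c) : c ∈ m.sb (DD V R) := by
  have key : ∀ {X : Subgroup G} {x : G}, x ∈ WW V (R i) → p x = c →
      t (1 + β) * x * (t (1 + β))⁻¹ * (t 1 * x * (t 1)⁻¹ * (t β * x * (t β)⁻¹))⁻¹ ∈ X → c ∈ m.sb X := by
    intro X x hx e h
    have h3 := m.drop τ hβ hβ2 hx h
    rw [e, h1, h2, m.two_M b, sub_zero] at h3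
    exact h3
  obtain ⟨x, hx, e⟩ := m.p_surj c
  obtain ⟨y, hyU, hyW, e'⟩ := key (X := UU V R i) hx e (τ.wW 1 β one_ne_zero hβ hβ2 x hx)
  exact key hyW e' (τ.wU 1 β one_ne_zero hβ hβ2 y hyU)

theorem fix_D (b : BT V R) (hF : ∃ a : F, a ≠ 0 ∧ a ≠ 1) (τ : TorD V R i j vv t) {c : M}
    (hc : ∀ s ∈ TT τ, s • c = c) : c ∈ m.sb (DD V R) := by
  obtain ⟨β, hβ, hβ1⟩ := hF
  have hβ2 : 1 + β ≠ 0 := by
    intro h
    apply hβ1
    have h1 := eq_neg_of_add_eq_zero_right h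
    have h2 : (1 : F) + 1 = 0 := τ.two b 1
    rw [h1, ← eq_neg_of_add_eq_zero_left h2]
  exact fix_D' m b τ hβ hβ2 (hc _ (ModQ.tq_mem τ hβ)) (hc _ (ModQ.tq_mem τ hβ2))

/-- **LEMMA N'** in `M`: `e ≤ (1 + a) M + rad` -/
theorem lemN [Finite G] [CharP F 2] (b : BTS V R) (hF : ∃ a : F, a ≠ 0 ∧ a ≠ 1) (c : Coord V R i j vv w1 w2)
    (τ : TorD V R i j vv t) (hodd : Odd ((normalizer (V : Set G)).relIndex (normalizer (R i : Set G))))
    {a : HQ (R i)} (ha : a ∈ AA V R i j) (ha1 : a ≠ 1) {x : M} (hx : x ∈ m.sb V) :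
    ∃ y : M, ∃ ζ ∈ m.rad, x = y + a • y + ζ := by
  obtain ⟨u, hu, rfl⟩ := (mem_AA b.toBT).1 ha
  obtain ⟨y, hy, -, rfl⟩ := hx
  have hD : u ∉ DD V R := by
    intro hD
    exact ha1 ((pr_eq_one _).2 ((U_inf_Q b.toBT c.ne hu).2 hD))
  obtain ⟨w, hw, ζ, hζ, e⟩ := LemNS.lemNS b hF c τ hodd hu hD hy
  have hW : w * u * w⁻¹ * u⁻¹ ∈ WW V (R i) := LemN.cm_mem b.toBT hw (UU_le_cen j hu)
  refine ⟨p w, p ζ, (m.mem_rad b.toBT).2 ⟨ζ, hζ, rfl⟩, ?_⟩
  rw [e, m.p_mul _ hW _ hζ.1, m.smul_A b.toBT hw hu]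

/-- `e ≠ 0` -/
theorem exists_e (τ : TorD V R i j vv t) : ∃ x ∈ m.sb V, x ≠ 0 := by
  have hv : vv 0 1 ∈ V := (τ.v_mem _).2 ⟨_, _, rfl⟩
  refine ⟨p (vv 0 1), m.p_mem (V_le_WW V (R i) hv) hv, fun h => ?_⟩
  rw [m.p_ker _ (V_le_WW V (R i) hv)] at h
  obtain ⟨x, hx⟩ := (τ.Ri _).1 h
  have h7 : vv x (0 - 1) = 1 := by
    have h8 := τ.v_add x (0 - 1) 0 1
    rw [add_zero, sub_add_cancel, hx] at h8
    exact right_eq_mul.1 h8
  have h8 := (τ.v_inj _ _ h7).2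
  rw [zero_sub, neg_eq_zero] at h8
  exact one_ne_zero h8

/-- `A` is faithful on `M / rad` -/
theorem faith [Finite G] [CharP F 2] (b : BTS V R) (hF : ∃ a : F, a ≠ 0 ∧ a ≠ 1) (c : Coord V R i j vv w1 w2)
    (τ : TorD V R i j vv t) (hodd : Odd ((normalizer (V : Set G)).relIndex (normalizer (R i : Set G))))
    {a : HQ (R i)} (ha : a ∈ AA V R i j) (h : ∀ x : M, x + a • x ∈ m.rad) : a = 1 := by
  by_contra ha1
  obtain ⟨x, hx, hx0⟩ := exists_e m τ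
  obtain ⟨y, ζ, hζ, e⟩ := lemN m b hF c τ hodd ha ha1 hx
  apply hx0
  refine e_rad m b.toBT hx ?_
  rw [e]
  exact add_mem (h y) hζ

/-! ### `q = 4` -/

/-- `1 + s + s² = 0` on `e`, `s = t ω` -/
theorem T_e_sum (b : BT V R) (τ : TorD V R i j vv t) {ω : F} (hω0 : ω ≠ 0) (hω : ω * ω + ω + 1 = 0) {c : M}
    (hc : c ∈ m.sb V) :
    c + ModQ.tq τ hω0 • c + ModQ.tq τ hω0 • ModQ.tq τ hω0 • c = 0 := by
  have h2 : (1 : F) + 1 = 0 := τ.two b 1
  obtain ⟨x, hx, hxW, rfl⟩ := hc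
  obtain ⟨β, γ, rfl⟩ := (τ.v_mem x).1 hx
  have hvW : ∀ y z, vv y z ∈ WW V (R i) := fun y z => V_le_WW V (R i) ((τ.v_mem _).2 ⟨_, _, rfl⟩)
  rw [m.tq_act τ hω0 (hvW _ _), τ.act _ _ _ hω0, m.tq_act τ hω0 (hvW _ _), τ.act _ _ _ hω0,
    ← m.p_mul _ (hvW _ _) _ (hvW _ _), ← τ.v_add, ← m.p_mul _ (hvW _ _) _ (hvW _ _), ← τ.v_add,
    m.p_ker _ (hvW _ _)]
  have h3 : γ + ω⁻¹ * γ + ω⁻¹ * (ω⁻¹ * γ) = 0 := by
    have h4 : ω * ω * (γ + ω⁻¹ * γ + ω⁻¹ * (ω⁻¹ * γ)) = (ω * ω + ω + 1) * γ := by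
      field_simp
    rw [hω, zero_mul] at h4
    exact (mul_eq_zero.1 h4).resolve_left (mul_ne_zero hω0 hω0)
  rw [h3]
  exact (τ.Ri _).2 ⟨_, rfl⟩

omit m in
/-- `a · aˢ · aˢˢ = 1`, `s = t ω`, `q = 4` -/
theorem A_sum (b : BT V R) (τ : TorD V R i j vv t) {w : F} (hw0 : w ≠ 0) (hw : w * w + w + 1 = 0)
    {a : HQ (R i)} (ha : a ∈ AA V R i j) :
    a * (ModQ.tq τ hw0 * a * (ModQ.tq τ hw0)⁻¹) *
      (ModQ.tq τ hw0 * ModQ.tq τ hw0 * a * (ModQ.tq τ hw0 * ModQ.tq τ hw0)⁻¹) = 1 := by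
  have h2 : (1 : F) + 1 = 0 := τ.two b 1
  have hww : w * w ≠ 0 := mul_ne_zero hw0 hw0
  have hw3 : w * w * w = 1 := by linear_combination (w - 1) * hw
  have hww1 : 1 + w = w * w := by linear_combination hw - (w * w) * h2
  have htN := τ.normR hw0
  have ht2 : t w * t w = t (w * w) := (τ.mul w w hw0 hw0).symm
  have ht3 : t w * t w * t w = 1 := by
    rw [ht2, ← τ.mul _ _ hww hw0, hw3, τ.one]
  obtain ⟨u, hu, rfl⟩ := (mem_AA b).1 ha
  have h1 := τ.wU' 1 w one_ne_zero hw0 (by rw [hww1]; exact hww) u hu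
  have hi1 : (t (w * w))⁻¹ = t w := inv_eq_of_mul_eq_one_left (by rw [← τ.mul _ _ hw0 hww, ← mul_assoc, hw3, τ.one])
  have hi2 : (t w)⁻¹ = t w * t w := inv_eq_of_mul_eq_one_left ht3
  rw [hww1, hi1, τ.one, inv_one, one_mul, mul_one, hi2] at h1
  have hi3 : t (w * w) = (t w)⁻¹ := by rw [← hi1, inv_inv]
  have hi4 : t w = (t w * t w)⁻¹ := by rw [← hi2, inv_inv]
  have hN := U_le_N b i j hu
  have h3 : u * (t w * u * (t w)⁻¹) * (t w * t w * u * (t w * t w)⁻¹) ∈ DD V R := by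
    have k1 := t_norm_U b τ hw0 hu
    have hx : (t w * u * (t w)⁻¹) * (u * (t w * t w * u * (t w * t w)⁻¹))⁻¹ ∈ DD V R := by
      have e : t w * u * (t w)⁻¹ * (u * (t w * t w * u * (t w * t w)⁻¹))⁻¹ =
        t w * u * t (w * w) * (u * (t w * t w * u * t w))⁻¹ := by rw [hi3, ← hi4]
      rw [e]; exact h1
    set x := t w * u * (t w)⁻¹ with hxdef
    set z := t w * t w * u * (t w * t w)⁻¹ with hz
    have hxU : x ∈ UU V R j := k1
    have hzU : z ∈ UU V R j := by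
      have k2 := t_norm_U b τ hww hu
      rwa [← ht2] at k2
    have hY : ∀ {y : G}, y ∈ UU V R j → y ∈ YY V R := fun h => UU_le_YY j h
    have k3 := b.Y_comm (hY hu) (hY hxU)
    have k4 := b.Y_sq (hY (mul_mem hu hzU))
    have e : u * x * z = (u * x * u⁻¹ * x⁻¹) * (x * (u * z)⁻¹) * ((u * z) * (u * z)) := by group
    rw [e]
    exact mul_mem (mul_mem k3 hx) k4
  have e : pr (R i) ⟨u, hN⟩ * (ModQ.tq τ hw0 * pr (R i) ⟨u, hN⟩ * (ModQ.tq τ hw0)⁻¹) *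
      (ModQ.tq τ hw0 * ModQ.tq τ hw0 * pr (R i) ⟨u, hN⟩ *
        (ModQ.tq τ hw0 * ModQ.tq τ hw0)⁻¹) =
      pr (R i) ⟨u * (t w * u * (t w)⁻¹) * (t w * t w * u * (t w * t w)⁻¹),
        b.cen_le_N i (b.D_le_cen h3)⟩ := rfl
  rw [e, pr_eq_one]
  exact b.W_le_Q i (mem_DD.1 h3 i)

omit m in
theorem tq_cube (b : BT V R) (τ : TorD V R i j vv t) {w : F} (hw0 : w ≠ 0) (hw : w * w + w + 1 = 0) :
    ModQ.tq τ hw0 * ModQ.tq τ hw0 * ModQ.tq τ hw0 = 1 := by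
  have _ := b
  have hww : w * w ≠ 0 := mul_ne_zero hw0 hw0
  have hw3 : w * w * w = 1 := by linear_combination (w - 1) * hw
  have ht2 : t w * t w = t (w * w) := (τ.mul w w hw0 hw0).symm
  have ht3 : t w * t w * t w = 1 := by
    rw [ht2, ← τ.mul _ _ hww hw0, hw3, τ.one]
  unfold ModQ.tq
  rw [← map_mul, ← map_mul]
  have e : (⟨t w, τ.normR hw0⟩ * ⟨t w, τ.normR hw0⟩ * ⟨t w, τ.normR hw0⟩ : ↥(normalizer (R i : Set G))) = 1 :=
    Subtype.ext ht3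
  rw [e, map_one]

/-- `tq (1 + ω) = (tq ω)²` -/
theorem tq_one_add (b : BT V R) (τ : TorD V R i j vv t) {w : F} (hw0 : w ≠ 0) (hw : w * w + w + 1 = 0)
    (h : 1 + w ≠ 0) (c : M) : ModQ.tq τ h • c = ModQ.tq τ hw0 • ModQ.tq τ hw0 • c := by
  have _ := m
  have h2 : (1 : F) + 1 = 0 := τ.two b 1
  have hww1 : 1 + w = w * w := by linear_combination hw - (w * w) * h2
  rw [smul_smul]
  congr 1
  unfold ModQ.tq
  rw [← map_mul]
  congr 1
  apply Subtype.ext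
  change t (1 + w) = t w * t w
  rw [hww1, τ.mul w w hw0 hw0]

/-- **#14316 (0')**: `(1 + a)(1 + sas⁻¹) M ≤ e` for `q = 4`, `s = t ω` -/
theorem quad4 (b : BTS V R) (τ : TorD V R i j vv t) {w : F} (hw0 : w ≠ 0) (hw : w * w + w + 1 = 0)
    {a : HQ (R i)} (ha : a ∈ AA V R i j) (c : M) :
    c + a • c + (ModQ.tq τ hw0 * a * (ModQ.tq τ hw0)⁻¹) • c +
      (a * (ModQ.tq τ hw0 * a * (ModQ.tq τ hw0)⁻¹)) • c ∈ m.sb V := by
  have h2 : (1 : F) + 1 = 0 := τ.two b.toBT 1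
  have hww1 : 1 + w = w * w := by linear_combination hw - (w * w) * h2
  have hw1 : 1 + w ≠ 0 := by rw [hww1]; exact mul_ne_zero hw0 hw0
  have hsT := ModQ.tq_mem τ hw0
  have hs3 := tq_cube b.toBT τ hw0 hw
  have hsum := A_sum b.toBT τ hw0 hw ha
  have ha2 := TA_mem b.toBT τ hsT ha
  have haa := A_sq b.toBT τ.ne ha
  have haa2 := A_sq b.toBT τ.ne ha2
  have hone := tq_one_add m b.toBT τ hw0 hw hw1
  set s := ModQ.tq τ hw0 with hs
  set a₂ := s * a * s⁻¹ with ha₂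
  have hcomm : a * a₂ = a₂ * a := by
    have k1 := A_sq b.toBT τ.ne (mul_mem ha ha2)
    have k2 : (a * a₂)⁻¹ = a * a₂ := inv_eq_of_mul_eq_one_left k1
    rw [mul_inv_rev, inv_eq_of_mul_eq_one_left haa, inv_eq_of_mul_eq_one_left haa2] at k2
    exact k2.symm
  -- `s a₂ s⁻¹ = a a₂`
  have h3 : s * a₂ * s⁻¹ = a * a₂ := by
    have e : s * s * a * (s * s)⁻¹ = s * a₂ * s⁻¹ := by rw [ha₂]; group
    rw [e] at hsum
    have h := eq_inv_of_mul_eq_one_right hsum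
    rw [h, mul_inv_rev, inv_eq_of_mul_eq_one_left haa, inv_eq_of_mul_eq_one_left haa2, hcomm]
  have h4 : s * (a * a₂) * s⁻¹ = a := by
    calc s * (a * a₂) * s⁻¹ = (s * a * s⁻¹) * (s * a₂ * s⁻¹) := by group
      _ = a₂ * (a * a₂) := by rw [h3]
      _ = a * (a₂ * a₂) := by rw [← mul_assoc, ← hcomm, mul_assoc]
      _ = a := by rw [haa2, mul_one]
  let θ : M → M := fun x => x + a • x + a₂ • x + (a * a₂) • x
  have hθadd : ∀ x y, θ (x + y) = θ x + θ y := by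
    intro x y
    change (x + y) + a • (x + y) + a₂ • (x + y) + (a * a₂) • (x + y) =
      (x + a • x + a₂ • x + (a * a₂) • x) + (y + a • y + a₂ • y + (a * a₂) • y)
    rw [smul_add, smul_add, smul_add]; abel
  have hcs : ∀ {x y : HQ (R i)}, s * x * s⁻¹ = y → ∀ z : M, s • (x • z) = y • (s • z) := by
    intro x y h z
    rw [smul_smul, smul_smul, ← h, inv_mul_cancel_right]
  have hθs : ∀ x, s • θ x = θ (s • x) := by
    intro x
    change s • (x + a • x + a₂ • x + (a * a₂) • x) =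
      s • x + a • s • x + a₂ • s • x + (a * a₂) • s • x
    rw [smul_add, smul_add, smul_add, hcs ha₂.symm, hcs h3, hcs h4]
    abel
  change θ c ∈ m.sb V
  obtain ⟨x, hx, d, hd, e⟩ := quadD m b τ ha hsT c
  change θ c = x + d at e
  -- the sum over `T`
  have h5 : θ (c + s • c + s • s • c) = 0 := by
    refine quad_U m b.toBT τ ha hsT ?_
    refine m.sb_mono (b.D_le_U i) ?_
    have hfix : s • (c + s • c + s • s • c) = c + s • c + s • s • c := by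
      rw [smul_add, smul_add, smul_smul s s (s • c), smul_smul (s * s) s c, hs3, one_smul]
      abel
    exact fix_D' m b.toBT τ hw0 hw1 hfix (by rw [hone, hfix, hfix])
  have h6 : θ (c + s • c + s • s • c) = θ c + s • θ c + s • s • θ c := by
    rw [hθadd, hθadd, ← hθs, ← hθs, ← hθs]
  have hd1 : s • d = d := T_D1 m τ hsT hd
  have hx1 := T_e_sum m b.toBT τ hw0 hw hx
  rw [← hs] at hx1
  rw [h6, e, smul_add, hd1, smul_add, hd1] at h5
  have h7 : x + d + (s • x + d) + (s • s • x + d) = (x + s • x + s • s • x) + (d + d) + d := by abel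
  rw [h7, hx1, m.two_M b.toBT, add_zero, zero_add] at h5
  rw [e, h5, add_zero]
  exact hx

end Cfsg.Agent.Omega.Lie.ModQS

end

section


/-!
# (h1), SPLIT, `q = 4`: `A` centralises `O(H⁰)` (#12397; #14316 (2') of helper499), `C_D(X) ≠ 1` allowed

The variants of `OddQ4Core.lean`, `OddQ4.lean` (helper844) with a radical moved by `A`.
-/

set_option autoImplicit false

namespace Cfsg.Agent.Omega.Lie.OddQ4

section Core

variable {H M R : Type*} [Group H] [AddCommGroup M] [DistribMulAction H M] [AddCommGroup R]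

/-- **#12397, (3)**: there is no nonzero vector without fixed component. -/
theorem no_three' [Finite M] {r : ℕ} [hp : Fact r.Prime] (hr2 : r ≠ 2) (h2 : ∀ m : M, m + m = 0)
    (hR2 : ∀ s : R, s + s = 0) (hR : 2 < Nat.card R) {x₁ x₂ x₃ a₁ a₂ : H} (hx₁ : x₁ ^ r = 1)
    (hx₂ : x₂ ^ r = 1) (hx₃ : x₃ ^ r = 1)
    (h12 : x₁ * x₂ = x₂ * x₁) (h13 : x₁ * x₃ = x₃ * x₁) (h23 : x₂ * x₃ = x₃ * x₂)
    (a11 : a₁ * x₁ * a₁⁻¹ = x₁) (a12 : a₁ * x₂ * a₁⁻¹ = x₂⁻¹) (a13 : a₁ * x₃ * a₁⁻¹ = x₃⁻¹)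
    (a21 : a₂ * x₁ * a₂⁻¹ = x₁⁻¹) (a22 : a₂ * x₂ * a₂⁻¹ = x₂) (a23 : a₂ * x₃ * a₂⁻¹ = x₃⁻¹)
    (hθ : Nat.card (Set.range fun m : M => m + a₁ • m + a₂ • m + (a₁ * a₂) • m) ≤ 4)
    (f : M →+ M →+ R) (halt : ∀ m, f m m = 0)
    (hinv : ∀ u v, f (x₁ • u) (x₁ • v) = f u v ∧ f (x₂ • u) (x₂ • v) = f u v ∧
      f (x₃ • u) (x₃ • v) = f u v)
    (hkey : ∀ v : M, ∀ R₀ : AddSubgroup R, R₀ ≠ ⊤ → (∀ u, f u v ∈ R₀) →
      v + a₁ • v + a₂ • v + (a₁ * a₂) • v = 0) (v₀ : M)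
    (hv1 : sg r x₁ v₀ = 0) (hv2 : sg r x₂ v₀ = 0) (hv3 : sg r x₃ v₀ = 0) : v₀ = 0 := by
  classical
  by_contra hv0
  have hrodd : Odd r := hp.out.odd_of_ne_two hr2
  obtain ⟨c, hc, hv'⟩ := exists_grid h2 hrodd hx₁ h12 hv0 hv1 hv2
  set z : H := x₂ * (x₁ ^ c)⁻¹ with hz
  have cz1 : z * x₁ = x₁ * z := by
    have e : Commute x₂ x₁ := h12.symm
    exact (e.mul_left (((Commute.refl x₁).pow_left c).inv_left)).eq
  have cz3 : z * x₃ = x₃ * z := by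
    have e : Commute x₂ x₃ := h23
    have e' : Commute x₁ x₃ := h13
    exact (e.mul_left ((e'.pow_left c).inv_left)).eq
  have hv'1 : sg r x₁ (sg r z v₀) = 0 := by rw [sg_comm cz1.symm, hv1, sg_zero]
  have hv'3 : sg r x₃ (sg r z v₀) = 0 := by rw [sg_comm cz3.symm, hv3, sg_zero]
  obtain ⟨d, hd, hv''⟩ := exists_grid h2 hrodd hx₁ h13 hv' hv'1 hv'3
  set z' : H := x₃ * (x₁ ^ d)⁻¹ with hz'
  have cz'1 : z' * x₁ = x₁ * z' := by
    have e : Commute x₃ x₁ := h13.symm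
    exact (e.mul_left (((Commute.refl x₁).pow_left d).inv_left)).eq
  have czz' : z * z' = z' * z := by
    have e1 : Commute z x₃ := cz3
    have e2 : Commute z x₁ := cz1
    exact (e1.mul_right ((e2.pow_right d).inv_right)).eq
  have hzr : z ^ r = 1 := by
    have e : Commute x₂ (x₁ ^ c)⁻¹ := ((show Commute x₂ x₁ from h12.symm).pow_right c).inv_right
    rw [hz, e.mul_pow, hx₂, inv_pow, ← pow_mul, mul_comm c, pow_mul, hx₁, one_pow, inv_one, mul_one]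
  have hz'r : z' ^ r = 1 := by
    have e : Commute x₃ (x₁ ^ d)⁻¹ := ((show Commute x₃ x₁ from h13.symm).pow_right d).inv_right
    rw [hz', e.mul_pow, hx₃, inv_pow, ← pow_mul, mul_comm d, pow_mul, hx₁, one_pow, inv_one, mul_one]
  -- the piece `E`
  let E : Set M := {v | z • v = v ∧ z' • v = v ∧ sg r x₁ v = 0}
  have hπ : ∀ u : M, sg r x₁ u = 0 → sg r z' (sg r z u) ∈ E := by
    intro u hu
    refine ⟨?_, smul_sg hz'r _, ?_⟩
    · rw [smul_sg_of (a := z) (x := z') (y := z') (by rw [czz']; group), smul_sg hzr]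
    · rw [sg_comm cz'1.symm, sg_comm cz1.symm, hu, sg_zero, sg_zero]
  set v : M := sg r z' (sg r z v₀) with hv
  have hvE : v ∈ E := hπ v₀ hv1
  have hfix2 : ∀ {y w : M} {g : H}, g • w = w → g⁻¹ • w = w := by
    intro y w g h
    rw [inv_smul_eq_iff, h]
  -- the units `2c`, `2d`
  have hu2 : ∀ n : ℕ, (n : ZMod r) ≠ 0 → IsUnit (((2 * n : ℕ)) : ZMod r) := by
    intro n hn
    rw [isUnit_iff_ne_zero, Nat.cast_mul]
    refine mul_ne_zero ?_ hn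
    intro h
    have h' : ((2 : ℕ) : ZMod r) = 0 := h
    rw [ZMod.natCast_eq_zero_iff] at h'
    exact hr2 ((Nat.prime_dvd_prime_iff_eq hp.out Nat.prime_two).mp h')
  -- `w` with `y x₁ⁿ w = w`, `S₁ w = 0`: `S_{y x₁^{-n}} w = 0`
  have hkill : ∀ (y : H) (n : ℕ) (w : M), y * x₁ = x₁ * y → (n : ZMod r) ≠ 0 →
      (y * x₁ ^ n) • w = w → sg r x₁ w = 0 → sg r (y * (x₁ ^ n)⁻¹) w = 0 := by
    intro y n w hy hn hw hs
    have cy : Commute y x₁ := hy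
    have e1 : (y * (x₁ ^ n)⁻¹) • w = (x₁ ^ (2 * n))⁻¹ • w := by
      have e2 : y * (x₁ ^ n)⁻¹ = (x₁ ^ (2 * n))⁻¹ * (y * x₁ ^ n) := by
        have c1 : Commute y (x₁ ^ (2 * n))⁻¹ := (cy.pow_right _).inv_right
        rw [← mul_assoc, ← c1.eq, mul_assoc]
        congr 1
        rw [two_mul, pow_add]
        group
      rw [e2, ← smul_smul, hw]
    have c2 : (y * (x₁ ^ n)⁻¹) * (x₁ ^ (2 * n))⁻¹ = (x₁ ^ (2 * n))⁻¹ * (y * (x₁ ^ n)⁻¹) := by
      have c1 : Commute y (x₁ ^ (2 * n))⁻¹ := (cy.pow_right _).inv_right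
      have c3 : Commute (x₁ ^ n)⁻¹ (x₁ ^ (2 * n))⁻¹ :=
        (((Commute.refl x₁).pow_left n).pow_right (2 * n)).inv_left.inv_right
      exact (c1.mul_left c3).eq
    rw [sg_congr c2 e1, sg_inv (by rw [← pow_mul, mul_comm, pow_mul, hx₁, one_pow]), sg_pow hx₁ (hu2 n hn), hs]
  have hsa : ∀ (a x : H), a * x * a⁻¹ = x ∨ a * x * a⁻¹ = x⁻¹ → x ^ r = 1 → ∀ w : M,
      sg r x (a • w) = a • sg r x w := by
    intro a x h hx w
    rcases h with h | h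
    · exact (smul_sg_of h w).symm
    · rw [smul_sg_of h w, sg_inv hx]
  have hcj : ∀ (a y : H) (w : M), y • w = w → (a * y * a⁻¹) • (a • w) = a • w := by
    intro a y w h
    rw [smul_smul, inv_mul_cancel_right, ← smul_smul, h]
  have ci : ∀ (a y y' : H) (n : ℕ), a * (y * (y' ^ n)⁻¹) * a⁻¹
      = (a * y * a⁻¹) * ((a * y' * a⁻¹) ^ n)⁻¹ := by
    intro a y y' n
    rw [conj_pow]
    group
  -- `θ` is injective on `E`
  have hθE : ∀ w ∈ E, sg r z' (sg r z (w + a₁ • w + a₂ • w + (a₁ * a₂) • w)) = w := by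
    intro w hw
    obtain ⟨w1, w2, w3⟩ := hw
    have e0 : sg r z w = w := sg_of_fix h2 hrodd w1
    have k1 : sg r x₁ (a₁ • w) = 0 := by rw [hsa a₁ x₁ (Or.inl a11) hx₁, w3, smul_zero]
    have k2 : sg r x₁ (a₂ • w) = 0 := by rw [hsa a₂ x₁ (Or.inr a21) hx₁, w3, smul_zero]
    have k3 : sg r x₁ ((a₁ * a₂) • w) = 0 := by
      rw [← smul_smul, hsa a₁ x₁ (Or.inl a11) hx₁, k2, smul_zero]
    -- `a₁ w`
    have e1 : sg r z (a₁ • w) = 0 := by
      refine hkill x₂ c _ h12.symm hc ?_ k1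
      have h := hcj a₁ z w w1
      rw [hz, ci, a12, a11] at h
      have h' := hfix2 (y := w) h
      rw [mul_inv_rev, inv_inv, inv_inv] at h'
      have e : Commute (x₁ ^ c) x₂ := (show Commute x₁ x₂ from h12).pow_left c
      rwa [e.eq] at h'
    have e2 : sg r z (a₂ • w) = 0 := by
      refine hkill x₂ c _ h12.symm hc ?_ k2
      have h := hcj a₂ z w w1
      rw [hz, ci, a22, a21, inv_pow, inv_inv] at h
      exact h
    have h3 : (a₁ * a₂) • w = a₁ • (a₂ • w) := (smul_smul _ _ _).symm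
    have e3 : sg r z ((a₁ * a₂) • w) = (a₁ * a₂) • w := by
      refine sg_of_fix h2 hrodd ?_
      have h := hcj a₂ z w w1
      rw [hz, ci, a22, a21, inv_pow, inv_inv] at h
      have h' := hcj a₁ _ _ h
      have e : a₁ * (x₂ * x₁ ^ c) * a₁⁻¹ = z⁻¹ := by
        have e5 : a₁ * (x₂ * x₁ ^ c) * a₁⁻¹ = (a₁ * x₂ * a₁⁻¹) * (a₁ * x₁ * a₁⁻¹) ^ c := by
          rw [conj_pow]
          group
        rw [e5, a12, a11, hz, mul_inv_rev, inv_inv]
        exact ((show Commute x₂ x₁ from h12.symm).inv_left.pow_right c).eq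
      rw [e] at h'
      have h'' := hfix2 (y := w) h'
      rw [inv_inv] at h''
      rw [h3]
      exact h''
    have e4 : sg r z' ((a₁ * a₂) • w) = 0 := by
      refine hkill x₃ d _ h13.symm hd ?_ k3
      have h := hcj a₂ z' w w2
      rw [hz', ci, a23, a21, inv_pow, inv_inv] at h
      have h' := hcj a₁ _ _ h
      have e : a₁ * (x₃⁻¹ * x₁ ^ d) * a₁⁻¹ = x₃ * x₁ ^ d := by
        have e5 : a₁ * (x₃⁻¹ * x₁ ^ d) * a₁⁻¹ = (a₁ * x₃ * a₁⁻¹)⁻¹ * (a₁ * x₁ * a₁⁻¹) ^ d := by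
          rw [conj_pow]
          group
        rw [e5, a13, a11, inv_inv]
      rw [e] at h'
      rw [h3]
      exact h'
    have e5 : sg r z (w + a₁ • w + a₂ • w + (a₁ * a₂) • w) = w + (a₁ * a₂) • w := by
      rw [sg_add, sg_add, sg_add, e0, e1, e2, e3, add_zero, add_zero]
    rw [e5, sg_add, e4, sg_of_fix h2 hrodd w2, add_zero]
  have hEcard : Nat.card E ≤ 4 := by
    refine le_trans (Nat.card_le_card_of_injective
      (fun w : E => (⟨(w : M) + a₁ • (w : M) + a₂ • (w : M) + (a₁ * a₂) • (w : M), ⟨w, rfl⟩⟩ :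
        Set.range fun m : M => m + a₁ • m + a₂ • m + (a₁ * a₂) • m)) ?_) hθ
    intro w w' h
    have h' := congrArg Subtype.val h
    dsimp only at h'
    apply Subtype.ext
    rw [← hθE w w.2, ← hθE w' w'.2, h']
  -- the form
  have hodd2 : ∀ s : R, (r : ℕ) • s = s := by
    intro s
    obtain ⟨k, hk⟩ := hrodd
    rw [hk, add_smul, mul_comm, mul_smul, two_nsmul, hR2, smul_zero, zero_add, one_smul]
  have hinvp : ∀ {g : H}, (∀ u w, f (g • u) (g • w) = f u w) → ∀ (n : ℕ) (u w : M),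
      f (g ^ n • u) (g ^ n • w) = f u w := by
    intro g hg n
    induction n with
    | zero => intro u w; rw [pow_zero, one_smul, one_smul]
    | succ n ih => intro u w; rw [pow_succ', ← smul_smul, ← smul_smul, hg, ih]
  have hinvi : ∀ {g : H}, (∀ u w, f (g • u) (g • w) = f u w) → ∀ (u w : M),
      f (g⁻¹ • u) (g⁻¹ • w) = f u w := by
    intro g hg u w
    rw [← hg (g⁻¹ • u) (g⁻¹ • w), smul_inv_smul, smul_inv_smul]
  have hi1 : ∀ u w, f (x₁ • u) (x₁ • w) = f u w := fun u w => (hinv u w).1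
  have hi2 : ∀ u w, f (x₂ • u) (x₂ • w) = f u w := fun u w => (hinv u w).2.1
  have hi3 : ∀ u w, f (x₃ • u) (x₃ • w) = f u w := fun u w => (hinv u w).2.2
  have hiz : ∀ u w, f (z • u) (z • w) = f u w := by
    intro u w
    rw [hz, ← smul_smul, ← smul_smul, hi2, hinvi (hinvp hi1 c)]
  have hiz' : ∀ u w, f (z' • u) (z' • w) = f u w := by
    intro u w
    rw [hz', ← smul_smul, ← smul_smul, hi3, hinvi (hinvp hi1 d)]
  have hpowfix : ∀ {g : H} {w : M}, g • w = w → ∀ n : ℕ, g ^ n • w = w := by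
    intro g w h n
    induction n with
    | zero => rw [pow_zero, one_smul]
    | succ n ih => rw [pow_succ, ← smul_smul, h, ih]
  have hsf : ∀ {g : H}, (∀ u w, f (g • u) (g • w) = f u w) → ∀ u w : M, g • w = w →
      f (sg r g u) w = f u w := by
    intro g hg u w hw
    have e1 : f (sg r g u) w = ∑ k : ZMod r, f (g ^ k.val • u) w := by
      unfold sg
      rw [map_sum, AddMonoidHom.finsetSum_apply]
    have e2 : ∀ k : ZMod r, f (g ^ k.val • u) w = f u w := by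
      intro k
      conv_lhs => rw [← hpowfix hw k.val]
      exact hinvp hg _ _ _
    rw [e1, Finset.sum_congr rfl fun k _ => e2 k, Finset.sum_const, Finset.card_univ, ZMod.card]
    exact hodd2 _
  have hperp : ∀ u w : M, sg r x₁ w = 0 → f (sg r x₁ u) w = 0 := by
    intro u w hw
    have e0 : x₁ • sg r x₁ u = sg r x₁ u := smul_sg hx₁ u
    have e1 : ∀ k : ZMod r, f (sg r x₁ u) w = f (sg r x₁ u) (x₁ ^ k.val • w) := by
      intro k
      rw [← hinvp hi1 k.val (sg r x₁ u) w, hpowfix e0]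
    have e2 : ∑ k : ZMod r, f (sg r x₁ u) (x₁ ^ k.val • w) = f (sg r x₁ u) (sg r x₁ w) := by
      unfold sg
      rw [← map_sum]
    rw [hw, map_zero, ← Finset.sum_congr rfl fun k _ => e1 k, Finset.sum_const, Finset.card_univ,
      ZMod.card] at e2
    exact (hodd2 _).symm.trans e2
  have hE : ∀ u : M, ∃ e ∈ E, f u v = f e v := by
    intro u
    have h0 : sg r x₁ (u + sg r x₁ u) = 0 := by
      rw [sg_add, sg_of_fix h2 hrodd (smul_sg hx₁ u), h2]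
    refine ⟨_, hπ _ h0, ?_⟩
    rw [hsf hiz' _ _ hvE.2.1, hsf hiz _ _ hvE.1, map_add, AddMonoidHom.add_apply,
      hperp u v hvE.2.2, add_zero]
  have hEadd : ∀ a ∈ E, ∀ b ∈ E, a + b ∈ E := by
    rintro a ⟨p1, p2, p3⟩ b ⟨q1, q2, q3⟩
    exact ⟨by rw [smul_add, p1, q1], by rw [smul_add, p2, q2], by rw [sg_add, p3, q3, add_zero]⟩
  have hE0 : (0 : M) ∈ E := ⟨smul_zero _, smul_zero _, sg_zero _⟩
  have hfix : v + a₁ • v + a₂ • v + (a₁ * a₂) • v = 0 := by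
    by_cases hall : ∀ e ∈ E, f e v = 0
    · refine hkey v ⊥ ?_ ?_
      · intro h
        have h1 : Nat.card (⊥ : AddSubgroup R) = Nat.card R := by rw [h, AddSubgroup.card_top]
        rw [AddSubgroup.card_bot] at h1
        omega
      · intro u
        obtain ⟨e, he, heq⟩ := hE u
        rw [heq, hall e he]
        exact zero_mem _
    · push Not at hall
      obtain ⟨e₁, he₁, hne⟩ := hall
      refine hkey v (AddSubgroup.zmultiples (f e₁ v)) ?_ ?_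
      · intro h
        have h1 : Nat.card (AddSubgroup.zmultiples (f e₁ v)) = Nat.card R := by
          rw [h, AddSubgroup.card_top]
        rw [Nat.card_zmultiples] at h1
        have h3 : addOrderOf (f e₁ v) ∣ 2 :=
          addOrderOf_dvd_of_nsmul_eq_zero (by rw [two_nsmul]; exact hR2 _)
        have h4 := Nat.le_of_dvd (by norm_num) h3
        omega
      · intro u
        obtain ⟨e, he, heq⟩ := hE u
        rw [heq]
        by_cases h0 : e = 0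
        · rw [h0, map_zero, AddMonoidHom.zero_apply]
          exact zero_mem _
        by_cases h1 : e = v
        · rw [h1, halt]
          exact zero_mem _
        by_cases h3 : e = e₁
        · rw [h3]
          exact AddSubgroup.mem_zmultiples _
        by_cases h4 : e = e₁ + v
        · rw [h4, map_add, AddMonoidHom.add_apply, halt, add_zero]
          exact AddSubgroup.mem_zmultiples _
        exfalso
        have e10 : e₁ ≠ 0 := by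
          rintro rfl
          exact hne (by rw [map_zero, AddMonoidHom.zero_apply])
        have e1v : e₁ ≠ v := by
          rintro rfl
          exact hne (halt _)
        refine five (S := E) hEcard (u₁ := e₁) (u₂ := v) (u₃ := e) hE0 he₁ hvE he (hEadd _ he₁ _ hvE)
          e10 hv'' h0 e1v (fun h => h3 h.symm) (fun h => h1 h.symm) ?_ (fun h => h4 h.symm)
        intro h
        apply e1v
        calc e₁ = e₁ + (v + v) := by rw [h2, add_zero]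
          _ = (e₁ + v) + v := by rw [add_assoc]
          _ = v := by rw [h, zero_add]
  have h1 := hθE v hvE
  rw [hfix, sg_zero, sg_zero] at h1
  exact hv'' h1.symm

/-- **#12397, core.** `x₁` centralises `[M, a₁]`. -/
theorem core' [Finite M] {r : ℕ} [hp : Fact r.Prime] (hr2 : r ≠ 2) (h2 : ∀ m : M, m + m = 0)
    (hR2 : ∀ s : R, s + s = 0) (hR : 2 < Nat.card R) {x₁ x₂ x₃ a₁ a₂ t : H} (hx₁ : x₁ ^ r = 1)
    (h12 : x₁ * x₂ = x₂ * x₁) (h13 : x₁ * x₃ = x₃ * x₁) (h23 : x₂ * x₃ = x₃ * x₂)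
    (a11 : a₁ * x₁ * a₁⁻¹ = x₁) (a12 : a₁ * x₂ * a₁⁻¹ = x₂⁻¹) (a13 : a₁ * x₃ * a₁⁻¹ = x₃⁻¹)
    (a21 : a₂ * x₁ * a₂⁻¹ = x₁⁻¹) (a22 : a₂ * x₂ * a₂⁻¹ = x₂) (a23 : a₂ * x₃ * a₂⁻¹ = x₃⁻¹)
    (hA2 : a₂ * a₂ = 1) (hA12 : a₁ * a₂ = a₂ * a₁)
    (t1 : t * x₁ * t⁻¹ = x₂) (t2 : t * x₂ * t⁻¹ = x₃) (t3 : t * x₃ * t⁻¹ = x₁)
    (ta1 : t * a₁ * t⁻¹ = a₂) (ta2 : t * a₂ * t⁻¹ = a₁ * a₂)
    (hθ : Nat.card (Set.range fun m : M => m + a₁ • m + a₂ • m + (a₁ * a₂) • m) ≤ 4)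
    (f : M →+ M →+ R) (halt : ∀ m, f m m = 0)
    (hinv : ∀ u v, f (x₁ • u) (x₁ • v) = f u v ∧ f (x₂ • u) (x₂ • v) = f u v ∧
      f (x₃ • u) (x₃ • v) = f u v)
    (hkey : ∀ v : M, ∀ R₀ : AddSubgroup R, R₀ ≠ ⊤ → (∀ u, f u v ∈ R₀) →
      v + a₁ • v + a₂ • v + (a₁ * a₂) • v = 0) (m : M) :
    x₁ • (m + a₁ • m) = m + a₁ • m := by
  classical
  have hrodd : Odd r := hp.out.odd_of_ne_two hr2
  have hx₂ : x₂ ^ r = 1 := by rw [← t1, conj_pow, hx₁]; group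
  have hx₃ : x₃ ^ r = 1 := by rw [← t2, conj_pow, hx₂]; group
  have hsa : ∀ (a x : H), a * x * a⁻¹ = x ∨ a * x * a⁻¹ = x⁻¹ → x ^ r = 1 → ∀ w : M,
      sg r x (a • w) = a • sg r x w := by
    intro a x h hx w
    rcases h with h | h
    · exact (smul_sg_of h w).symm
    · rw [smul_sg_of h w, sg_inv hx]
  have hss : ∀ {x : H}, x ^ r = 1 → ∀ w : M, sg r x (sg r x w) = sg r x w := fun hx w =>
    sg_of_fix h2 hrodd (smul_sg hx w)
  have h0 := no_three' hr2 h2 hR2 hR hx₁ hx₂ hx₃ h12 h13 h23 a11 a12 a13 a21 a22 a23 hθ f halt hinv hkey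
  -- the image of `θ`
  set θ : M → M := fun m => m + a₁ • m + a₂ • m + (a₁ * a₂) • m with hθdef
  have hθx : ∀ (x : H), (a₁ * x * a₁⁻¹ = x ∨ a₁ * x * a₁⁻¹ = x⁻¹) →
      (a₂ * x * a₂⁻¹ = x ∨ a₂ * x * a₂⁻¹ = x⁻¹) → x ^ r = 1 → ∀ w, sg r x (θ w) = θ (sg r x w) := by
    intro x ha hb hx w
    rw [hθdef]
    dsimp only
    rw [sg_add, sg_add, sg_add, hsa a₁ x ha hx, hsa a₂ x hb hx, ← smul_smul, hsa a₁ x ha hx,
      hsa a₂ x hb hx, smul_smul]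
  have hθ1 : ∀ w, sg r x₁ (θ w) = θ (sg r x₁ w) := hθx x₁ (Or.inl a11) (Or.inr a21) hx₁
  have hθ2 : ∀ w, sg r x₂ (θ w) = θ (sg r x₂ w) := hθx x₂ (Or.inr a12) (Or.inl a22) hx₂
  have hθ3 : ∀ w, sg r x₃ (θ w) = θ (sg r x₃ w) := hθx x₃ (Or.inr a13) (Or.inr a23) hx₃
  have hta3 : t * (a₁ * a₂) * t⁻¹ = a₁ := by
    calc t * (a₁ * a₂) * t⁻¹ = (t * a₁ * t⁻¹) * (t * a₂ * t⁻¹) := by group
      _ = a₂ * (a₁ * a₂) := by rw [ta1, ta2]
      _ = a₁ := by rw [hA12, ← mul_assoc, hA2, one_mul]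
  have hcs : ∀ {a b : H}, t * a * t⁻¹ = b → ∀ w : M, t • (a • w) = b • (t • w) := by
    intro a b h w
    rw [smul_smul, smul_smul, ← h, inv_mul_cancel_right]
  have hθt : ∀ w, t • θ w = θ (t • w) := by
    intro w
    rw [hθdef]
    dsimp only
    rw [smul_add, smul_add, smul_add, hcs ta1, hcs ta2, hcs hta3]
    abel
  have hθadd : ∀ u w, θ (u + w) = θ u + θ w := by
    intro u w
    rw [hθdef]
    dsimp only
    rw [smul_add, smul_add, smul_add]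
    abel
  have hθzero : θ 0 = 0 := by
    rw [hθdef]
    dsimp only
    rw [smul_zero, smul_zero, smul_zero, add_zero, add_zero, add_zero]
  set Θ : Set M := Set.range θ with hΘ
  have Θ0 : (0 : M) ∈ Θ := ⟨0, hθzero⟩
  have Θadd : ∀ u ∈ Θ, ∀ w ∈ Θ, u + w ∈ Θ := by
    rintro _ ⟨u, rfl⟩ _ ⟨w, rfl⟩
    exact ⟨u + w, hθadd u w⟩
  have Θ1 : ∀ u ∈ Θ, sg r x₁ u ∈ Θ := by
    rintro _ ⟨u, rfl⟩
    exact ⟨_, (hθ1 u).symm⟩
  have Θ2 : ∀ u ∈ Θ, sg r x₂ u ∈ Θ := by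
    rintro _ ⟨u, rfl⟩
    exact ⟨_, (hθ2 u).symm⟩
  have Θ3 : ∀ u ∈ Θ, sg r x₃ u ∈ Θ := by
    rintro _ ⟨u, rfl⟩
    exact ⟨_, (hθ3 u).symm⟩
  have Θt : ∀ u ∈ Θ, t • u ∈ Θ := by
    rintro _ ⟨u, rfl⟩
    exact ⟨_, (hθt u).symm⟩
  -- transport by `t`
  have st1 : ∀ w : M, t • sg r x₁ w = sg r x₂ (t • w) := fun w => smul_sg_of t1 w
  have st2 : ∀ w : M, t • sg r x₂ w = sg r x₃ (t • w) := fun w => smul_sg_of t2 w
  have st3 : ∀ w : M, t • sg r x₃ w = sg r x₁ (t • w) := fun w => smul_sg_of t3 w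
  have htne : ∀ {w : M}, w ≠ 0 → t • w ≠ 0 := by
    intro w hw h
    exact hw ((smul_eq_zero_iff_eq t).mp h)
  have hdd : ∀ {u w : M}, u + w = 0 → u = w := by
    intro u w h
    calc u = u + (w + w) := by rw [h2, add_zero]
      _ = (u + w) + w := by rw [add_assoc]
      _ = w := by rw [h, zero_add]
  -- pieces with one support
  have hone : ∀ u ∈ Θ, sg r x₁ u = 0 → sg r x₂ u = u → sg r x₃ u = u → u = 0 := by
    intro u hu s1 s2 s3
    by_contra hu0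
    have e21 : sg r x₂ (t • u) = 0 := by rw [← st1, s1, smul_zero]
    have e23 : sg r x₃ (t • u) = t • u := by rw [← st2, s2]
    have e22 : sg r x₁ (t • u) = t • u := by rw [← st3, s3]
    have e31 : sg r x₃ (t • t • u) = 0 := by rw [← st2, e21, smul_zero]
    refine five (S := Θ) hθ Θ0 hu (Θt _ hu) (Θt _ (Θt _ hu)) (Θadd _ hu _ (Θt _ hu)) hu0 (htne hu0)
      (htne (htne hu0)) ?_ ?_ ?_ ?_ ?_
    · intro h
      apply htne hu0
      rw [← e22, ← h, s1]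
    · intro h
      apply hu0
      rw [← s3, h, e31]
    · intro h
      apply htne hu0
      rw [← e23, h, e31]
    · intro h
      apply htne hu0
      rw [← e22, ← hdd h, s1]
    · intro h
      have h' : u + t • u = 0 := by
        have := congrArg (sg r x₃) h
        rwa [sg_add, s3, e23, e31] at this
      apply htne hu0
      rw [← e22, ← hdd h', s1]
  have htwo : ∀ u ∈ Θ, sg r x₁ u = u → sg r x₂ u = 0 → sg r x₃ u = 0 → u = 0 := by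
    intro u hu s1 s2 s3
    by_contra hu0
    have e22 : sg r x₂ (t • u) = t • u := by rw [← st1, s1]
    have e23 : sg r x₃ (t • u) = 0 := by rw [← st2, s2, smul_zero]
    have e21 : sg r x₁ (t • u) = 0 := by rw [← st3, s3, smul_zero]
    have e33 : sg r x₃ (t • t • u) = t • t • u := by rw [← st2, e22]
    refine five (S := Θ) hθ Θ0 hu (Θt _ hu) (Θt _ (Θt _ hu)) (Θadd _ hu _ (Θt _ hu)) hu0 (htne hu0)
      (htne (htne hu0)) ?_ ?_ ?_ ?_ ?_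
    · intro h
      apply hu0
      rw [← s1, h, e21]
    · intro h
      apply htne (htne hu0)
      rw [← e33, ← h, s3]
    · intro h
      apply htne (htne hu0)
      rw [← e33, ← h, e23]
    · intro h
      apply hu0
      rw [← s1, hdd h, e21]
    · intro h
      apply htne (htne hu0)
      rw [← e33, ← h, sg_add, s3, e23, add_zero]
  have c12 : ∀ w : M, sg r x₁ (sg r x₂ w) = sg r x₂ (sg r x₁ w) := sg_comm h12
  have c13 : ∀ w : M, sg r x₁ (sg r x₃ w) = sg r x₃ (sg r x₁ w) := sg_comm h13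
  have c23 : ∀ w : M, sg r x₂ (sg r x₃ w) = sg r x₃ (sg r x₂ w) := sg_comm h23
  -- the same for the other positions
  have hone' : ∀ u ∈ Θ, sg r x₂ u = 0 → sg r x₁ u = u → sg r x₃ u = u → u = 0 := by
    intro u hu s2 s1 s3
    have e1 := Θt _ (Θt _ hu)
    have e := hone (t • t • u) e1 (by rw [← st3, ← st2, s2, smul_zero, smul_zero])
      (by rw [← st1, ← st3, s3]) (by rw [← st2, ← st1, s1])
    by_contra hu0
    exact htne (htne hu0) e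
  have htwo2 : ∀ u ∈ Θ, sg r x₂ u = u → sg r x₁ u = 0 → sg r x₃ u = 0 → u = 0 := by
    intro u hu s2 s1 s3
    have e1 := Θt _ (Θt _ hu)
    have e := htwo (t • t • u) e1 (by rw [← st3, ← st2, s2])
      (by rw [← st1, ← st3, s3, smul_zero, smul_zero]) (by rw [← st2, ← st1, s1, smul_zero, smul_zero])
    by_contra hu0
    exact htne (htne hu0) e
  have htwo3 : ∀ u ∈ Θ, sg r x₃ u = u → sg r x₁ u = 0 → sg r x₂ u = 0 → u = 0 := by
    intro u hu s3 s1 s2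
    have e := htwo (t • u) (Θt _ hu) (by rw [← st3, s3])
      (by rw [← st1, s1, smul_zero]) (by rw [← st2, s2, smul_zero])
    by_contra hu0
    exact htne hu0 e
  -- `(1 + S₁) θ = 0`
  have hp1 : ∀ u ∈ Θ, sg r x₁ u = u := by
    intro u hu
    have hd : ∀ {x : H}, x ^ r = 1 → ∀ w : M, sg r x (w + sg r x w) = 0 := by
      intro x hx w
      rw [sg_add, hss hx, h2]
    have hu1 : u + sg r x₁ u ∈ Θ := Θadd _ hu _ (Θ1 _ hu)
    set w := u + sg r x₁ u with hw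
    have w1 : sg r x₁ w = 0 := hd hx₁ u
    -- `S₂ S₃ w = 0`
    have e23 : sg r x₂ (sg r x₃ w) = 0 := hone _ (Θ2 _ (Θ3 _ hu1))
      (by rw [c12, c13, w1, sg_zero, sg_zero]) (hss hx₂ _) (by rw [← c23, hss hx₃])
    -- `S₂ w = 0`
    have e2 : sg r x₂ w = 0 := htwo2 _ (Θ2 _ hu1) (hss hx₂ _) (by rw [c12, w1, sg_zero])
      (by rw [← c23, e23])
    have e3 : sg r x₃ w = 0 := htwo3 _ (Θ3 _ hu1) (hss hx₃ _) (by rw [c13, w1, sg_zero]) e23
    have e := h0 w w1 e2 e3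
    exact (hdd (hw ▸ e)).symm
  -- the vector `k`
  have hKK : ∀ w : M, a₂ • ((w + a₁ • w) + sg r x₁ (w + a₁ • w)) = (w + a₁ • w) + sg r x₁ (w + a₁ • w) := by
    intro w
    have e1 : θ w = (w + a₁ • w) + a₂ • (w + a₁ • w) := by
      rw [hθdef]
      dsimp only
      rw [smul_add, smul_smul, hA12]
      abel
    have e2 := hp1 (θ w) ⟨w, rfl⟩
    rw [e1, sg_add, hsa a₂ x₁ (Or.inr a21) hx₁] at e2
    have e3 : (w + a₁ • w) + sg r x₁ (w + a₁ • w) = a₂ • (w + a₁ • w) + a₂ • sg r x₁ (w + a₁ • w) := by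
      apply hdd
      have : (w + a₁ • w) + sg r x₁ (w + a₁ • w) + (a₂ • (w + a₁ • w) + a₂ • sg r x₁ (w + a₁ • w))
          = ((w + a₁ • w) + a₂ • (w + a₁ • w)) + (sg r x₁ (w + a₁ • w) + a₂ • sg r x₁ (w + a₁ • w)) := by
        abel
      rw [this, e2, h2]
    rw [smul_add, ← e3]
  set k : M := (m + a₁ • m) + sg r x₁ (m + a₁ • m) with hk
  have hk1 : a₂ • k = k := hKK m
  have hxk : x₁ • k = (x₁ • m + a₁ • (x₁ • m)) + sg r x₁ (x₁ • m + a₁ • (x₁ • m)) := by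
    have e1 : ∀ w : M, x₁ • sg r x₁ w = sg r x₁ (x₁ • w) := fun w => smul_sg_of (by group) w
    have e2 : x₁ • (a₁ • m) = a₁ • (x₁ • m) := by
      rw [smul_smul, smul_smul]
      congr 1
      have := a11
      rw [mul_inv_eq_iff_eq_mul] at this
      exact this.symm
    rw [hk, smul_add, smul_add, e1, smul_add, e2]
  have hk2 : a₂ • (x₁ • k) = x₁ • k := by rw [hxk]; exact hKK _
  have hk3 : x₁⁻¹ • k = x₁ • k := by
    rw [← hk2, smul_smul]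
    have e : a₂ * x₁ = x₁⁻¹ * a₂ := by
      rw [← a21, inv_mul_cancel_right]
    rw [e, ← smul_smul, hk1]
  have hk4 : x₁ • (x₁ • k) = k := by rw [← hk3, smul_inv_smul]
  have hk5 : x₁ • k = k := by
    obtain ⟨j, hj⟩ := hrodd
    have h1 : ∀ n : ℕ, x₁ ^ (2 * n) • k = k := by
      intro n
      induction n with
      | zero => rw [mul_zero, pow_zero, one_smul]
      | succ n ih => rw [mul_add, mul_one, pow_add, ← smul_smul, pow_two, ← smul_smul, hk4, ih]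
    have h3 : x₁ ^ (2 * j + 1) • k = k := by rw [← hj, hx₁, one_smul]
    rwa [pow_succ', ← smul_smul, h1] at h3
  have hk6 : sg r x₁ k = 0 := by rw [hk, sg_add, hss hx₁, h2]
  have hk7 : k = 0 := by rw [← hk6]; exact (sg_of_fix h2 hrodd hk5).symm
  have hk8 : m + a₁ • m = sg r x₁ (m + a₁ • m) := hdd (hk ▸ hk7)
  rw [hk8]
  exact smul_sg hx₁ _


theorem sg_eq_range {r : ℕ} [NeZero r] (x : H) (y : M) : sg r x y = ∑ k ∈ Finset.range r, x ^ k • y := by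
  unfold sg
  refine Finset.sum_nbij (fun k : ZMod r => k.val) ?_ ?_ ?_ ?_
  · intro k _
    exact Finset.mem_range.2 (ZMod.val_lt k)
  · intro a _ b _ h
    exact ZMod.val_injective r h
  · intro k hk
    exact ⟨(k : ZMod r), Finset.mem_coe.2 (Finset.mem_univ _), ZMod.val_natCast_of_lt (Finset.mem_range.1 hk)⟩
  · intro k _
    rfl

/-- a vector of `ker S_x` fixed by an involution inverting `x` is a commutator with it -/
theorem dihedral {r : ℕ} [NeZero r] (hrodd : Odd r) (h2 : ∀ m : M, m + m = 0) {x a : H} (hx : x ^ r = 1)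
    (hax : a * x * a⁻¹ = x⁻¹) {rad : AddSubgroup M} (hrad : ∀ v ∈ rad, x • v ∈ rad) {y : M} (hy : y ∈ rad)
    (hs : sg r x y = 0) (ha : a • y = y) : ∃ u ∈ rad, y = u + a • u := by
  obtain ⟨n, hn⟩ := hrodd
  have hpow : ∀ k : ℕ, x ^ k • y ∈ rad := by
    intro k
    induction k with
    | zero => rw [pow_zero, one_smul]; exact hy
    | succ k ih => rw [pow_succ', mul_smul]; exact hrad _ ih
  refine ⟨∑ k ∈ Finset.range n, x ^ (k + 1) • y, AddSubgroup.sum_mem _ fun k _ => hpow _, ?_⟩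
  have ha2 : a • ∑ k ∈ Finset.range n, x ^ (k + 1) • y = ∑ k ∈ Finset.range n, (x ^ (k + 1))⁻¹ • y := by
    rw [Finset.smul_sum]
    refine Finset.sum_congr rfl fun k _ => ?_
    have e : a * x ^ (k + 1) = (x ^ (k + 1))⁻¹ * a := by
      have h := conj_pow (a := a) (b := x) (i := k + 1)
      rw [hax, inv_pow] at h
      rw [h]; group
    rw [← mul_smul, e, mul_smul, ha]
  have h3 : ∑ k ∈ Finset.range n, (x ^ (k + 1))⁻¹ • y = ∑ k ∈ Finset.range n, x ^ (n + 1 + k) • y := by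
    rw [← Finset.sum_range_reflect]
    refine Finset.sum_congr rfl fun k hk => ?_
    have hk' := Finset.mem_range.1 hk
    congr 1
    rw [inv_eq_iff_mul_eq_one, ← pow_add]
    have : n - 1 - k + 1 + (n + 1 + k) = r := by omega
    rw [this, hx]
  have h4 := hs
  rw [sg_eq_range, hn, show 2 * n + 1 = (n + 1) + n by ring, Finset.sum_range_add, Finset.sum_range_succ',
    pow_zero, one_smul] at h4
  rw [ha2, h3]
  have h5 : y + (∑ k ∈ Finset.range n, x ^ (k + 1) • y + ∑ k ∈ Finset.range n, x ^ (n + 1 + k) • y) = 0 := by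
    rw [← h4]; abel
  calc y = y + ((∑ k ∈ Finset.range n, x ^ (k + 1) • y + ∑ k ∈ Finset.range n, x ^ (n + 1 + k) • y) +
        (∑ k ∈ Finset.range n, x ^ (k + 1) • y + ∑ k ∈ Finset.range n, x ^ (n + 1 + k) • y)) := by
        rw [h2, add_zero]
    _ = _ := by rw [← add_assoc, h5, zero_add]

/-- **END of #14316 (2')**: `x₁` fixes `e` pointwise. -/
theorem fix_e {r : ℕ} [hp : Fact r.Prime] (hr2 : r ≠ 2) (h2 : ∀ m : M, m + m = 0)
    {x₁ x₂ x₃ a₁ a₂ t : H} (hx₁ : x₁ ^ r = 1) (hx₂ : x₂ ^ r = 1) (hx₃ : x₃ ^ r = 1)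
    (h12 : x₁ * x₂ = x₂ * x₁) (h13 : x₁ * x₃ = x₃ * x₁) (h23 : x₂ * x₃ = x₃ * x₂)
    (a11 : a₁ * x₁ * a₁⁻¹ = x₁) (a12 : a₁ * x₂ * a₁⁻¹ = x₂⁻¹) (a13 : a₁ * x₃ * a₁⁻¹ = x₃⁻¹)
    (a21 : a₂ * x₁ * a₂⁻¹ = x₁⁻¹) (a22 : a₂ * x₂ * a₂⁻¹ = x₂) (a23 : a₂ * x₃ * a₂⁻¹ = x₃⁻¹)
    (t1 : t * x₁ * t⁻¹ = x₂) (t2 : t * x₂ * t⁻¹ = x₃) (t3 : t * x₃ * t⁻¹ = x₁)
    (rad D₁ Ee : AddSubgroup M) (r1 : ∀ v ∈ rad, x₁ • v ∈ rad) (r2 : ∀ v ∈ rad, x₂ • v ∈ rad)
    (r3 : ∀ v ∈ rad, x₃ • v ∈ rad) (m1 : ∀ v ∈ Ee, v + x₁ • v ∈ rad) (m2 : ∀ v ∈ Ee, v + x₂ • v ∈ rad)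
    (m3 : ∀ v ∈ Ee, v + x₃ • v ∈ rad) (e1 : ∀ v ∈ Ee, a₁ • v = v) (e2 : ∀ v ∈ Ee, a₂ • v = v)
    (d1 : ∀ v ∈ rad, v + a₁ • v ∈ D₁) (d2 : ∀ v ∈ rad, v + a₂ • v ∈ D₁) (htD : ∀ v ∈ D₁, t • v = v)
    (hte : ∀ v ∈ Ee, t • v ∈ Ee ∧ v + t • v + t • t • v = 0) : ∀ v ∈ Ee, x₁ • v = v := by
  classical
  have hrodd : Odd r := hp.out.odd_of_ne_two hr2
  have hsa : ∀ (a x : H), a * x * a⁻¹ = x ∨ a * x * a⁻¹ = x⁻¹ → x ^ r = 1 → ∀ w : M,
      sg r x (a • w) = a • sg r x w := by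
    intro a x h hx w
    rcases h with h | h
    · exact (smul_sg_of h w).symm
    · rw [smul_sg_of h w, sg_inv hx]
  have hss : ∀ {x : H}, x ^ r = 1 → ∀ w : M, sg r x (sg r x w) = sg r x w := fun hx w =>
    sg_of_fix h2 hrodd (smul_sg hx w)
  have hd : ∀ {x : H}, x ^ r = 1 → ∀ w : M, sg r x (w + sg r x w) = 0 := by
    intro x hx w
    rw [sg_add, hss hx, h2]
  have hpowr : ∀ {x : H}, (∀ v ∈ rad, x • v ∈ rad) → ∀ (k : ℕ) (v : M), v ∈ rad → x ^ k • v ∈ rad := by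
    intro x hx k
    induction k with
    | zero => intro v hv; rw [pow_zero, one_smul]; exact hv
    | succ k ih => intro v hv; rw [pow_succ', mul_smul]; exact hx _ (ih v hv)
  have hsr : ∀ {x : H}, (∀ v ∈ rad, x • v ∈ rad) → ∀ v ∈ rad, sg r x v ∈ rad := by
    intro x hx v hv
    unfold sg
    exact AddSubgroup.sum_mem _ fun k _ => hpowr hx _ v hv
  have hrv : ∀ v : M, (r : ℕ) • v = v := by
    intro s
    obtain ⟨k, hk⟩ := hrodd
    rw [hk, add_smul, mul_comm, mul_smul, two_nsmul, h2, smul_zero, zero_add, one_smul]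
  -- `(1 + S_x) v ∈ rad`
  have hP : ∀ {x : H}, (∀ v ∈ rad, x • v ∈ rad) → ∀ v, v + x • v ∈ rad → v + sg r x v ∈ rad := by
    intro x hx v hv
    have h1 : ∀ k : ℕ, v + x ^ k • v ∈ rad := by
      intro k
      induction k with
      | zero => rw [pow_zero, one_smul, h2]; exact zero_mem _
      | succ k ih =>
        have h3 := add_mem hv (hx _ ih)
        rw [smul_add, ← mul_smul, ← pow_succ'] at h3
        have h4 : v + x • v + (x • v + x ^ (k + 1) • v) = (v + x ^ (k + 1) • v) + (x • v + x • v) := by abel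
        rwa [h4, h2, add_zero] at h3
    have h3 : v + sg r x v = ∑ k : ZMod r, (v + x ^ k.val • v) := by
      rw [Finset.sum_add_distrib, Finset.sum_const, Finset.card_univ, ZMod.card, hrv]
      rfl
    rw [h3]
    exact AddSubgroup.sum_mem _ fun k _ => h1 _
  -- the three pieces
  have key : ∀ v ∈ Ee, v + sg r x₃ (sg r x₂ (sg r x₁ v)) ∈ D₁ := by
   intro v hv
   have p0 : v + sg r x₁ v ∈ D₁ := by
     obtain ⟨u, hu, e⟩ := dihedral hrodd h2 hx₁ a21 r1 (hP r1 v (m1 v hv)) (hd hx₁ v)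
       (by rw [smul_add, ← hsa a₂ x₁ (Or.inr a21) hx₁, e2 v hv])
     rw [e]; exact d2 u hu
   have p1 : sg r x₁ v + sg r x₂ (sg r x₁ v) ∈ D₁ := by
     have h0 : sg r x₁ v + sg r x₂ (sg r x₁ v) = sg r x₁ (v + sg r x₂ v) := by
       rw [sg_add, sg_comm h12]
     have h3 : sg r x₁ v + sg r x₂ (sg r x₁ v) ∈ rad := by
       rw [h0]; exact hsr r1 _ (hP r2 v (m2 v hv))
     obtain ⟨u, hu, e⟩ := dihedral hrodd h2 hx₂ a12 r2 h3 (hd hx₂ _)
       (by rw [smul_add, ← hsa a₁ x₂ (Or.inr a12) hx₂, ← hsa a₁ x₁ (Or.inl a11) hx₁, e1 v hv])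
     rw [e]; exact d1 u hu
   have p2 : sg r x₂ (sg r x₁ v) + sg r x₃ (sg r x₂ (sg r x₁ v)) ∈ D₁ := by
     have h0 : sg r x₂ (sg r x₁ v) + sg r x₃ (sg r x₂ (sg r x₁ v)) = sg r x₂ (sg r x₁ (v + sg r x₃ v)) := by
       rw [sg_add, sg_add, sg_comm h23.symm, sg_comm h13.symm]
     have h3 : sg r x₂ (sg r x₁ v) + sg r x₃ (sg r x₂ (sg r x₁ v)) ∈ rad := by
       rw [h0]; exact hsr r2 _ (hsr r1 _ (hP r3 v (m3 v hv)))
     obtain ⟨u, hu, e⟩ := dihedral hrodd h2 hx₃ a13 r3 h3 (hd hx₃ _)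
       (by rw [smul_add, ← hsa a₁ x₃ (Or.inr a13) hx₃, ← hsa a₁ x₂ (Or.inr a12) hx₂,
         ← hsa a₁ x₁ (Or.inl a11) hx₁, e1 v hv])
     rw [e]; exact d1 u hu
   have p3 := add_mem p0 (add_mem p1 p2)
   have e0 : v + sg r x₁ v + (sg r x₁ v + sg r x₂ (sg r x₁ v) +
      (sg r x₂ (sg r x₁ v) + sg r x₃ (sg r x₂ (sg r x₁ v)))) =
      (v + sg r x₃ (sg r x₂ (sg r x₁ v))) + ((sg r x₁ v + sg r x₁ v) +
        (sg r x₂ (sg r x₁ v) + sg r x₂ (sg r x₁ v))) := by abel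
   rwa [e0, h2, h2, add_zero, add_zero] at p3
  -- equivariance under `t`
  have ht : ∀ v : M, t • (v + sg r x₃ (sg r x₂ (sg r x₁ v))) =
      t • v + sg r x₃ (sg r x₂ (sg r x₁ (t • v))) := by
    intro v
    rw [smul_add, smul_sg_of t3, smul_sg_of t2, smul_sg_of t1, sg_comm h13 (sg r x₂ (t • v)), sg_comm h12,
      sg_comm h23.symm]
  intro v hv
  obtain ⟨q1, q2⟩ := hte v hv
  obtain ⟨q3, -⟩ := hte _ q1
  have k1 := htD _ (key v hv)
  have k2 := htD _ (key _ q1)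
  rw [ht] at k1 k2
  have k3 : v + sg r x₃ (sg r x₂ (sg r x₁ v)) = 0 := by
    have h3 : (v + t • v + t • t • v) + sg r x₃ (sg r x₂ (sg r x₁ (v + t • v + t • t • v))) = 0 := by
      rw [q2, sg_zero, sg_zero, sg_zero, add_zero]
    rw [sg_add, sg_add, sg_add, sg_add, sg_add, sg_add] at h3
    have h4 : (v + t • v + t • t • v) + (sg r x₃ (sg r x₂ (sg r x₁ v)) + sg r x₃ (sg r x₂ (sg r x₁ (t • v))) +
        sg r x₃ (sg r x₂ (sg r x₁ (t • t • v)))) = (v + sg r x₃ (sg r x₂ (sg r x₁ v))) +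
        (t • v + sg r x₃ (sg r x₂ (sg r x₁ (t • v)))) + (t • t • v + sg r x₃ (sg r x₂ (sg r x₁ (t • t • v)))) := by
      abel
    rw [h4, k2, k1, h2, zero_add] at h3
    exact h3
  have hdd : ∀ {u w : M}, u + w = 0 → u = w := by
    intro u w h
    calc u = u + (w + w) := by rw [h2, add_zero]
      _ = (u + w) + w := by rw [add_assoc]
      _ = w := by rw [h, zero_add]
  have k4 := hdd k3
  rw [k4, sg_comm h23.symm, sg_comm h13.symm, sg_comm h12.symm]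
  exact smul_sg hx₁ _

end Core

section main

open Subgroup
open scoped commutatorElement
open OddPart (eq_one_of_inv)

variable {G : Type*} [Group G]

/-- **#12397**: `q = 4`, `A` centralises every solvable subgroup of odd order normalised by `A` and `t`.
`A` elementary abelian 2-group, `t` of order `3` acting on `A` by scalars of order `3`
(`a · aᵗ · aᵗᵗ = 1`); `Hh ≥ A` normalised by `Y`; `M` the module `W₁/R₁`, `f` the commutator form with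
values in `R` (`|R| = 4`); `rad = Z(W₁)/R₁`, `D₁ = C_D(X) R₁/R₁`, `Ee = V/R₁`; `hLN` = LEMMA N' (#14071). -/
theorem centralizes' {M R : Type*} [Finite G] [AddCommGroup M] [Finite M] [DistribMulAction G M]
    [AddCommGroup R] (h2 : ∀ m : M, m + m = 0) (hR2 : ∀ s : R, s + s = 0) (hR : 2 < Nat.card R)
    (f : M →+ M →+ R) (halt : ∀ m, f m m = 0) {A Hh Y : Subgroup G} {t : G}
    (hA : ∀ a ∈ A, a * a = 1) (ht3 : t * t * t = 1) (htA : t ∈ normalizer (A : Set G))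
    (hfpf : ∀ a ∈ A, a * (t * a * t⁻¹) * (t * t * a * (t * t)⁻¹) = 1)
    (hAY : A ≤ normalizer (Y : Set G)) (htY : t ∈ normalizer (Y : Set G))
    (hYodd : Odd (Nat.card Y)) (hYs : Group.IsSolvable Y)
    (hAH : A ≤ Hh) (hYH : ∀ y ∈ Y, ∀ a ∈ A, y * a * y⁻¹ ∈ Hh)
    (hinv : ∀ x ∈ Hh, ∀ u v, f (x • u) (x • v) = f u v)
    (rad D₁ Ee : AddSubgroup M) (hrad : ∀ x ∈ Hh, ∀ v ∈ rad, x • v ∈ rad)
    (hkey : ∀ v : M, ∀ R₀ : AddSubgroup R, R₀ ≠ ⊤ → (∀ u, f u v ∈ R₀) → v ∈ rad)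
    (hN0 : ∀ a ∈ A, ∀ m : M, m + a • m + (t * a * t⁻¹) • m + (a * (t * a * t⁻¹)) • m ∈ Ee)
    (he4 : Nat.card Ee ≤ 4) (her : ∀ v ∈ Ee, v ∈ rad → v = 0) (hAe : ∀ a ∈ A, ∀ v ∈ Ee, a • v = v)
    (hAr : ∀ a ∈ A, ∀ v ∈ rad, v + a • v ∈ D₁) (htD : ∀ v ∈ D₁, t • v = v)
    (hte : ∀ v ∈ Ee, t • v ∈ Ee ∧ v + t • v + t • t • v = 0)
    (hLN : ∀ a ∈ A, a ≠ 1 → ∀ v ∈ Ee, ∃ m : M, ∃ ζ ∈ rad, v = m + a • m + ζ)
    (hnorm : ∀ x ∈ Hh, (∀ v ∈ Ee, x • v = v) → ∀ b ∈ A, x * b * x⁻¹ ∈ A) :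
    ∀ y ∈ Y, ∀ a ∈ A, a * y = y * a := by
  classical
  have hAc : ∀ a ∈ A, ∀ b ∈ A, a * b = b * a := by
    intro a ha b hb
    have e1 : a⁻¹ = a := inv_eq_of_mul_eq_one_right (hA a ha)
    have e2 : b⁻¹ = b := inv_eq_of_mul_eq_one_right (hA b hb)
    have e3 : (a * b)⁻¹ = a * b := inv_eq_of_mul_eq_one_right (hA _ (mul_mem ha hb))
    rw [← e3, mul_inv_rev, e1, e2]
  have htAm : ∀ a ∈ A, t * a * t⁻¹ ∈ A := fun a ha => (mem_normalizer_iff.mp htA a).mp ha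
  have htAi : ∀ a ∈ A, t⁻¹ * a * t ∈ A := by
    intro a ha
    have := (mem_normalizer_iff.mp (inv_mem htA) a).mp ha
    simpa using this
  have ht2 : t * t = t⁻¹ := by rw [eq_inv_iff_mul_eq_one]; exact ht3
  have hordY : ∀ x ∈ Y, Odd (orderOf x) := by
    intro x hx
    refine Odd.of_dvd_nat hYodd ?_
    have : orderOf (⟨x, hx⟩ : Y) ∣ Nat.card Y := orderOf_dvd_natCard _
    rwa [← Subgroup.orderOf_coe] at this
  -- `T = ⟨t⟩`
  have hT : ∀ s ∈ zpowers t, s = 1 ∨ s = t ∨ s = t⁻¹ := by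
    intro s hs
    obtain ⟨n, rfl⟩ := mem_zpowers_iff.mp hs
    have h3 : t ^ (3 : ℤ) = 1 := by
      rw [show (3 : ℤ) = 1 + 1 + 1 by norm_num, zpow_add, zpow_add, zpow_one]
      exact ht3
    have e : n = 3 * (n / 3) + n % 3 := (Int.mul_ediv_add_emod n 3).symm
    have h : n % 3 = 0 ∨ n % 3 = 1 ∨ n % 3 = 2 := by omega
    rw [e, zpow_add, zpow_mul, h3, one_zpow, one_mul]
    rcases h with h | h | h
    · left; rw [h, zpow_zero]
    · right; left; rw [h, zpow_one]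
    · right; right
      rw [h, show (2 : ℤ) = 1 + 1 by norm_num, zpow_add, zpow_one]
      exact ht2
  have hTo : ∀ s ∈ zpowers t, Odd (orderOf s) := by
    intro s hs
    have h3 : s ^ 3 = 1 := by
      have ht : t ^ 3 = 1 := by rw [pow_succ, pow_two]; exact ht3
      rcases hT s hs with rfl | rfl | rfl
      · exact one_pow 3
      · exact ht
      · rw [inv_pow, ht, inv_one]
    exact Odd.of_dvd_nat (by decide) (orderOf_dvd_of_pow_eq_one h3)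
  have hTf : ∀ s ∈ zpowers t, s ≠ 1 → ∀ a ∈ A, s * a = a * s → a = 1 := by
    intro s hs hs1 a ha h
    have hta : t * a * t⁻¹ = a := by
      rcases hT s hs with rfl | rfl | rfl
      · exact absurd rfl hs1
      · rw [h, mul_inv_cancel_right]
      · have h' : a * t = t * a := by
          calc a * t = t * (t⁻¹ * a) * t := by group
            _ = t * (a * t⁻¹) * t := by rw [h]
            _ = t * a := by group
        rw [← h', mul_inv_cancel_right]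
    have h1 := hfpf a ha
    have e : t * t * a * (t * t)⁻¹ = t * (t * a * t⁻¹) * t⁻¹ := by group
    rw [e, hta, hta, hA a ha, one_mul] at h1
    exact h1
  have hsemi := OddPart.semi_of_fpf hA (zpowers_le.mpr htA) hTo hTf
  refine reduce hA (zpowers_le.mpr htA) hsemi (Nat.card Y) Y le_rfl hYodd hYs hAY
    (zpowers_le.mpr htY) ?_
  intro x hx hxw hxc
  by_contra hcon
  push Not at hcon
  obtain ⟨a₀, ha₀, hne⟩ := hcon
  -- an element of prime order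
  have hxodd := hordY x hx
  have hx1 : x ≠ 1 := by
    rintro rfl
    exact hne (by rw [mul_one, one_mul])
  have hn1 : orderOf x ≠ 1 := by rwa [Ne, orderOf_eq_one_iff]
  set r : ℕ := (orderOf x).minFac with hr
  have hrp : r.Prime := Nat.minFac_prime hn1
  have hp : Fact r.Prime := ⟨hrp⟩
  have hrn : r ∣ orderOf x := Nat.minFac_dvd _
  have hrodd : Odd r := Odd.of_dvd_nat hxodd hrn
  have hr2 : r ≠ 2 := by
    rintro h
    rw [h] at hrodd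
    exact absurd hrodd (by decide)
  have hpos : 0 < orderOf x := orderOf_pos x
  set w : G := x ^ (orderOf x / r) with hw
  have hwr : w ^ r = 1 := by
    rw [hw, ← pow_mul, Nat.div_mul_cancel hrn, pow_orderOf_eq_one]
  have hw1 : w ≠ 1 := by
    intro h
    have h1 : orderOf x ∣ orderOf x / r := orderOf_dvd_of_pow_eq_one h
    have h3 : orderOf x / r < orderOf x := Nat.div_lt_self hpos hrp.one_lt
    have h4 : 0 < orderOf x / r := Nat.div_pos (Nat.le_of_dvd hpos hrn) hrp.pos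
    exact absurd (Nat.le_of_dvd h4 h1) (by omega)
  have hwY : w ∈ Y := pow_mem hx _
  have hww : ∀ a ∈ A, a * w * a⁻¹ = w ∨ a * w * a⁻¹ = w⁻¹ := by
    intro a ha
    rcases hxw a ha with h | h
    · left
      rw [hw, ← conj_pow, h]
    · right
      rw [hw, ← conj_pow, h, inv_pow]
  -- nontrivial elements of exponent `r` are not inverted and centralised
  have hnr : ∀ y : G, y ^ r = 1 → y * y = 1 → y = 1 := by
    intro y hy hyy
    obtain ⟨k, hk⟩ := hrodd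
    rw [hk, pow_succ, pow_mul, pow_two, hyy, one_pow, one_mul] at hy
    exact hy
  have hnot : ∀ y : G, y ^ r = 1 → y ≠ 1 → y ≠ y⁻¹ := by
    intro y hy hy1 h
    apply hy1
    apply hnr y hy
    nth_rewrite 2 [h]
    exact mul_inv_cancel y
  have ha₀w : a₀ * w * a₀⁻¹ = w⁻¹ := by
    rcases hxw a₀ ha₀ with h | h
    · exact absurd (mul_inv_eq_iff_eq_mul.mp h) hne
    · rw [hw, ← conj_pow, h, inv_pow]
  -- parity
  have hfi : ∀ a ∈ A, ∀ b ∈ A, a * w * a⁻¹ = w⁻¹ → b * w * b⁻¹ = w⁻¹ → (a * b) * w * (a * b)⁻¹ = w := by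
    intro a _ b _ ha hb
    calc (a * b) * w * (a * b)⁻¹ = a * (b * w * b⁻¹) * a⁻¹ := by group
      _ = (a * w * a⁻¹)⁻¹ := by rw [hb]; group
      _ = w := by rw [ha, inv_inv]
  have hff : ∀ a ∈ A, ∀ b ∈ A, a * w * a⁻¹ = w → b * w * b⁻¹ = w → (a * b) * w * (a * b)⁻¹ = w := by
    intro a _ b _ ha hb
    calc (a * b) * w * (a * b)⁻¹ = a * (b * w * b⁻¹) * a⁻¹ := by group
      _ = w := by rw [hb, ha]
  -- `a₁`
  obtain ⟨a₁, ha₁, p1, p2, p3⟩ : ∃ a₁ ∈ A, a₁ * w * a₁⁻¹ = w ∧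
      (t⁻¹ * a₁ * t) * w * (t⁻¹ * a₁ * t)⁻¹ = w⁻¹ ∧ (t * a₁ * t⁻¹) * w * (t * a₁ * t⁻¹)⁻¹ = w⁻¹ := by
    have hb := htAi a₀ ha₀
    have hc := htAm a₀ ha₀
    have hprod : a₀ * ((t⁻¹ * a₀ * t) * (t * a₀ * t⁻¹)) = 1 := by
      have h := hfpf a₀ ha₀
      rw [ht2, inv_inv, mul_assoc] at h
      rwa [hAc _ hb _ hc]
    have hexp : a₀ = (t⁻¹ * a₀ * t) * (t * a₀ * t⁻¹) := by
      have h := hA a₀ ha₀
      exact mul_left_cancel (h.trans hprod.symm)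
    rcases hww _ hb with h | h
    · -- `t⁻¹ a₀ t` centralises
      have hc' : (t * a₀ * t⁻¹) * w * (t * a₀ * t⁻¹)⁻¹ = w⁻¹ := by
        rcases hww _ hc with h' | h'
        · exfalso
          apply hnot w hwr hw1
          have h3 := hff _ hb _ hc h h'
          rw [← hexp] at h3
          rw [← ha₀w, h3]
        · exact h'
      refine ⟨t⁻¹ * a₀ * t, hb, h, ?_, ?_⟩
      · have e : t⁻¹ * (t⁻¹ * a₀ * t) * t = t * a₀ * t⁻¹ := by
          calc t⁻¹ * (t⁻¹ * a₀ * t) * t = (t⁻¹ * t⁻¹) * a₀ * (t * t) := by group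
            _ = t * a₀ * t⁻¹ := by
              have e1 : t⁻¹ * t⁻¹ = t := by
                rw [← mul_inv_rev, ht2, inv_inv]
              rw [e1, ht2]
        rw [e]
        exact hc'
      · have e : t * (t⁻¹ * a₀ * t) * t⁻¹ = a₀ := by group
        rw [e]
        exact ha₀w
    · -- `t⁻¹ a₀ t` inverts
      have hc' : (t * a₀ * t⁻¹) * w * (t * a₀ * t⁻¹)⁻¹ = w := by
        rcases hww _ hc with h' | h'
        · exact h'
        · exfalso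
          apply hnot w hwr hw1
          have h3 := hfi _ hb _ hc h h'
          rw [← hexp] at h3
          rw [← ha₀w, h3]
      refine ⟨t * a₀ * t⁻¹, hc, hc', ?_, ?_⟩
      · have e : t⁻¹ * (t * a₀ * t⁻¹) * t = a₀ := by group
        rw [e]
        exact ha₀w
      · have e : t * (t * a₀ * t⁻¹) * t⁻¹ = t⁻¹ * a₀ * t := by
          calc t * (t * a₀ * t⁻¹) * t⁻¹ = (t * t) * a₀ * (t * t)⁻¹ := by group
            _ = t⁻¹ * a₀ * t := by rw [ht2, inv_inv]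
        rw [e]
        exact h
  -- the data of `core`
  have ha₂ : t * a₁ * t⁻¹ ∈ A := htAm a₁ ha₁
  set a₂ : G := t * a₁ * t⁻¹ with ha₂def
  set x₂ : G := t * w * t⁻¹ with hx₂def
  set x₃ : G := t⁻¹ * w * t with hx₃def
  have hx₂ : x₂ ^ r = 1 := by rw [hx₂def, conj_pow, hwr]; group
  have hx₃ : x₃ ^ r = 1 := by
    have e : x₃ = t⁻¹ * w * (t⁻¹)⁻¹ := by rw [hx₃def, inv_inv]
    rw [e, conj_pow, hwr]
    group
  have hx₂1 : x₂ ≠ 1 := by
    intro h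
    apply hw1
    calc w = t⁻¹ * x₂ * t := by rw [hx₂def]; group
      _ = 1 := by rw [h]; group
  have hx₃1 : x₃ ≠ 1 := by
    intro h
    apply hw1
    calc w = t * x₃ * t⁻¹ := by rw [hx₃def]; group
      _ = 1 := by rw [h]; group
  have hx₂Y : x₂ ∈ Y := (mem_normalizer_iff.mp htY w).mp hwY
  have hx₃Y : x₃ ∈ Y := by
    have := (mem_normalizer_iff.mp (inv_mem htY) w).mp hwY
    rw [inv_inv] at this
    exact this
  have a12 : a₁ * x₂ * a₁⁻¹ = x₂⁻¹ := by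
    calc a₁ * x₂ * a₁⁻¹ = t * ((t⁻¹ * a₁ * t) * w * (t⁻¹ * a₁ * t)⁻¹) * t⁻¹ := by
          rw [hx₂def]; group
      _ = x₂⁻¹ := by rw [p2, hx₂def]; group
  have a13 : a₁ * x₃ * a₁⁻¹ = x₃⁻¹ := by
    calc a₁ * x₃ * a₁⁻¹ = t⁻¹ * ((t * a₁ * t⁻¹) * w * (t * a₁ * t⁻¹)⁻¹) * t := by
          rw [hx₃def]; group
      _ = x₃⁻¹ := by
        change t⁻¹ * (a₂ * w * a₂⁻¹) * t = x₃⁻¹
        rw [p3, hx₃def]; group
  have a22 : a₂ * x₂ * a₂⁻¹ = x₂ := by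
    calc a₂ * x₂ * a₂⁻¹ = t * (a₁ * w * a₁⁻¹) * t⁻¹ := by rw [ha₂def, hx₂def]; group
      _ = x₂ := by rw [p1]
  have htt : t⁻¹ * t⁻¹ = t := by rw [← mul_inv_rev, ht2, inv_inv]
  have a23 : a₂ * x₃ * a₂⁻¹ = x₃⁻¹ := by
    have e : t⁻¹ * (t⁻¹ * a₁ * t) * t = a₂ := by
      calc t⁻¹ * (t⁻¹ * a₁ * t) * t = (t⁻¹ * t⁻¹) * a₁ * (t * t) := by group
        _ = a₂ := by rw [htt, ht2]
    have e' : a₂ * x₃ * a₂⁻¹ = t⁻¹ * ((t⁻¹ * a₁ * t) * w * (t⁻¹ * a₁ * t)⁻¹) * t := by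
      rw [← e, hx₃def]
      simp only [mul_inv_rev, inv_inv, mul_assoc, mul_inv_cancel_left]
    rw [e', p2, hx₃def]
    group
  have hcomm1 : w * x₂ = x₂ * w := by
    have h : Commute x (t * x * t⁻¹) := by
      have h' := hxc 1 (one_mem _) t (mem_zpowers t)
      rw [one_mul, inv_one, mul_one] at h'
      exact h'
    have h' : Commute w ((t * x * t⁻¹) ^ (orderOf x / r)) := h.pow_pow _ _
    rw [conj_pow] at h'
    exact h'.eq
  have hcomm3 : w * x₃ = x₃ * w := by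
    have h : Commute x (t⁻¹ * x * (t⁻¹)⁻¹) := by
      have h' := hxc 1 (one_mem _) t⁻¹ (inv_mem (mem_zpowers t))
      rw [one_mul, inv_one, mul_one] at h'
      exact h'
    have h' : Commute w ((t⁻¹ * x * (t⁻¹)⁻¹) ^ (orderOf x / r)) := h.pow_pow _ _
    rw [conj_pow, inv_inv] at h'
    exact h'.eq
  have hcomm23 : x₂ * x₃ = x₃ * x₂ := by
    have h : Commute (t * x * t⁻¹) (t⁻¹ * x * (t⁻¹)⁻¹) :=
      hxc t (mem_zpowers t) t⁻¹ (inv_mem (mem_zpowers t))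
    have h' := h.pow_pow (orderOf x / r) (orderOf x / r)
    rw [conj_pow, conj_pow, inv_inv] at h'
    exact h'.eq
  have t2 : t * x₂ * t⁻¹ = x₃ := by
    calc t * x₂ * t⁻¹ = (t * t) * w * (t * t)⁻¹ := by rw [hx₂def]; group
      _ = x₃ := by rw [ht2, inv_inv]
  have t3 : t * x₃ * t⁻¹ = w := by rw [hx₃def]; group
  have ta2 : t * a₂ * t⁻¹ = a₁ * a₂ := by
    have h := hfpf a₁ ha₁
    have e : t * t * a₁ * (t * t)⁻¹ = t * a₂ * t⁻¹ := by rw [ha₂def]; group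
    rw [e] at h
    have h' := eq_inv_of_mul_eq_one_right h
    rw [h']
    exact inv_eq_of_mul_eq_one_right (hA _ (mul_mem ha₁ ha₂))
  -- membership in `Hh`
  have hmem : ∀ y ∈ Y, y ^ r = 1 → ∀ a ∈ A, a * y * a⁻¹ = y⁻¹ → y ∈ Hh := by
    intro y hy hyr a ha h
    have h1 : y⁻¹ * y⁻¹ ∈ Hh := by
      have e : y⁻¹ * y⁻¹ = a * (y * a⁻¹ * y⁻¹) := by
        nth_rewrite 1 [← h]
        group
      rw [e]
      exact mul_mem (hAH ha) (hYH y hy _ (inv_mem ha))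
    have h3 : y * y ∈ Hh := by
      have := inv_mem h1
      rwa [mul_inv_rev, inv_inv] at this
    obtain ⟨k, hk⟩ := hrodd
    have e : y = (y * y) ^ (k + 1) := by
      rw [← pow_two, ← pow_mul, mul_add, mul_one, show 2 * k + 2 = (2 * k + 1) + 1 by ring, pow_succ,
        ← hk, hyr, one_mul]
    rw [e]
    exact pow_mem h3 _
  have hwH : w ∈ Hh := hmem w hwY hwr a₂ ha₂ p3
  have hx₂H : x₂ ∈ Hh := hmem x₂ hx₂Y hx₂ a₁ ha₁ a12
  have hx₃H : x₃ ∈ Hh := hmem x₃ hx₃Y hx₃ a₁ ha₁ a13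
  have ha₁1 : a₁ ≠ 1 := by
    rintro h
    rw [h, one_mul, inv_one, mul_one] at a12
    exact hnot x₂ hx₂ hx₂1 a12
  have hrep : ∀ a ∈ A, ∀ v ∈ rad, v + a • v + (t * a * t⁻¹) • v + (a * (t * a * t⁻¹)) • v = 0 := by
    intro a ha v hv
    refine her _ (hN0 a ha v) ?_
    exact add_mem (add_mem (add_mem hv (hrad a (hAH ha) v hv)) (hrad _ (hAH (htAm a ha)) v hv))
      (hrad _ (hAH (mul_mem ha (htAm a ha))) v hv)
  have hcore : ∀ m : M, w • (m + a₁ • m) = m + a₁ • m := by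
    refine core' hr2 h2 hR2 hR hwr hcomm1 hcomm3 hcomm23 p1 a12 a13 p3 a22 a23 (hA a₂ ha₂)
      (hAc a₁ ha₁ a₂ ha₂) rfl t2 t3 rfl ta2 ?_ f halt
      (fun u v => ⟨hinv w hwH u v, hinv x₂ hx₂H u v, hinv x₃ hx₃H u v⟩)
      (fun v R₀ hR₀ h => hrep a₁ ha₁ v (hkey v R₀ hR₀ h))
    have := Finite.of_injective (Subtype.val : Ee → M) Subtype.val_injective
    refine le_trans (Nat.card_le_card_of_injective (β := Ee) (Set.inclusion ?_)
      (Set.inclusion_injective _)) he4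
    rintro _ ⟨m, rfl⟩
    exact hN0 a₁ ha₁ m
  -- conjugates of `hcore`
  have hcj : ∀ g : G, ∀ m : M, (g * w * g⁻¹) • (m + (g * a₁ * g⁻¹) • m) = m + (g * a₁ * g⁻¹) • m := by
    intro g m
    have h : g • (w • (g⁻¹ • m + a₁ • g⁻¹ • m)) = g • (g⁻¹ • m + a₁ • g⁻¹ • m) := by
      rw [hcore (g⁻¹ • m)]
    have e1 : m + (g * a₁ * g⁻¹) • m = g • (g⁻¹ • m + a₁ • g⁻¹ • m) := by
      rw [smul_add, smul_inv_smul, ← mul_smul, ← mul_smul]
    rw [e1, mul_smul, mul_smul, inv_smul_smul]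
    exact h
  have hmod : ∀ g : G, g * w * g⁻¹ ∈ Hh → g * a₁ * g⁻¹ ∈ A → ∀ v ∈ Ee, v + (g * w * g⁻¹) • v ∈ rad := by
    intro g hgH hgA v hv
    have hg1 : g * a₁ * g⁻¹ ≠ 1 := by
      intro h
      apply ha₁1
      calc a₁ = g⁻¹ * (g * a₁ * g⁻¹) * g := by group
        _ = 1 := by rw [h]; group
    obtain ⟨m, ζ, hζ, rfl⟩ := hLN _ hgA hg1 v hv
    rw [smul_add, hcj g m]
    have e1 : m + (g * a₁ * g⁻¹) • m + ζ + (m + (g * a₁ * g⁻¹) • m + (g * w * g⁻¹) • ζ) =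
        ((m + (g * a₁ * g⁻¹) • m) + (m + (g * a₁ * g⁻¹) • m)) + (ζ + (g * w * g⁻¹) • ζ) := by abel
    rw [e1, h2, zero_add]
    exact add_mem hζ (hrad _ hgH _ hζ)
  have hm1 : ∀ v ∈ Ee, v + w • v ∈ rad := by
    have h := hmod 1 (by simpa using hwH) (by simpa using ha₁)
    simpa using h
  have hm2 : ∀ v ∈ Ee, v + x₂ • v ∈ rad := hmod t hx₂H ha₂
  have hm3 : ∀ v ∈ Ee, v + x₃ • v ∈ rad := by
    have h := hmod t⁻¹ (by rw [inv_inv]; exact hx₃H) (by rw [inv_inv]; exact htAi a₁ ha₁)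
    rwa [inv_inv] at h
  have hfixe : ∀ v ∈ Ee, w • v = v :=
    fix_e hr2 h2 hwr hx₂ hx₃ hcomm1 hcomm3 hcomm23 p1 a12 a13 p3 a22 a23 rfl t2 t3 rad D₁ Ee
      (hrad w hwH) (hrad x₂ hx₂H) (hrad x₃ hx₃H) hm1 hm2 hm3 (hAe a₁ ha₁) (hAe a₂ ha₂) (hAr a₁ ha₁) (hAr a₂ ha₂)
      htD hte
  have h1 := hnorm w hwH hfixe a₂ ha₂
  have h3 : w * w ∈ A := by
    have e : w * w = (w * a₂ * w⁻¹) * a₂⁻¹ := by
      have e1 : w = (a₂ * w * a₂⁻¹)⁻¹ := by rw [p3, inv_inv]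
      nth_rewrite 2 [e1]
      group
    rw [e]
    exact mul_mem h1 (inv_mem ha₂)
  have h4 : (w * w) * (w * w) = 1 := hA _ h3
  have h5 : w * w = 1 := by
    refine hnr (w * w) ?_ h4
    rw [(Commute.refl w).mul_pow, hwr, one_mul]
  exact hw1 (hnr w hwr h5)

end main

end Cfsg.Agent.Omega.Lie.OddQ4

end

section


/-!
# (h1), SPLIT, `q ≥ 4`: `A` centralises every solvable odd order subgroup of `H⁰` normalised by `A` and `T`

`b : BTS V R`, `C_D(X) ≠ 1` allowed.  `q = 4`: `OddQ4S` (#14316 (2')); `q ≥ 8`: `OddPart.centralizes'` (helper843) with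
helper932's `stab_e`, over `BT`.
-/

set_option autoImplicit false
set_option linter.unusedSectionVars false

namespace Cfsg.Agent.Omega.Lie.OddAllS

open Subgroup Cfsg.Agent.Omega.Lie Cfsg.Agent.Omega.Lie.Quot Cfsg.Agent.Omega.Lie.ModQ Cfsg.Agent.Omega.Lie.ModQS
open Cfsg.Agent.Omega.BTwo hiding ZZ

universe u v w

variable {G : Type u} [Group G] {ι : Type w} {V : Subgroup G} {R : ι → Subgroup G} {F : Type v} [Field F]
  {i j : ι} {vv : F → F → G} {w1 w2 t : F → G}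

section

variable {M B : Type u} [AddCommGroup M] [AddCommGroup B]
  [DistribMulAction (NR R i) M] [DistribMulAction (NR R i) B] [DistribMulAction (HQ (R i)) M] {p : G → M}
  {r : G → B} {f : M →+ M →+ B} (m : ModQ V R i M B p r f)
include m

/-- `C_H(T)` stabilises `e`, `q ≥ 8` -/
theorem stab_e' [Finite F] (b : BT V R) (τ : TorD V R i j vv t) (h5 : 5 ≤ Nat.card F) {x : HQ (R i)}
    (hx : ∀ s ∈ TT τ, s * x * s⁻¹ = x) : ∀ d ∈ m.sb V, x • d ∈ m.sb V := by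
  obtain ⟨β, hβ, hβ1, hβ3⟩ := exists_outside h5
  have htwo : ∀ a : F, a + a = 0 := fun a => τ.two b a
  have hneg : ∀ a : F, -a = a := fun a => (eq_neg_of_add_eq_zero_left (htwo a)).symm
  have hβ2 : 1 + β ≠ 0 := by
    intro h
    apply hβ1
    have h1 := eq_neg_of_add_eq_zero_right h
    rw [h1, hneg]
  set s2 := tq τ hβ2 with hs2
  set s := tq τ hβ with hs
  -- the operators
  let Dp : M → M := fun a => s2 • a - (a + s • a)
  let Φ : M → M := fun a => s • Dp (Dp a) - Dp (Dp a)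
  have hcomm : ∀ {z : HQ (R i)}, z ∈ TT τ → ∀ a : M, z • x • a = x • z • a := by
    intro z hz a
    have h1 := hx z hz
    rw [mul_inv_eq_iff_eq_mul] at h1
    rw [smul_smul, smul_smul, h1]
  have hD : ∀ a : M, Dp (x • a) = x • Dp a := by
    intro a
    change s2 • x • a - (x • a + s • x • a) = x • (s2 • a - (a + s • a))
    rw [hcomm (tq_mem τ hβ2), hcomm (tq_mem τ hβ), smul_sub, smul_add]
  have hΦx : ∀ a : M, Φ (x • a) = x • Φ a := by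
    intro a
    change s • Dp (Dp (x • a)) - Dp (Dp (x • a)) = x • (s • Dp (Dp a) - Dp (Dp a))
    rw [hD, hD, hcomm (tq_mem τ hβ)]
    exact (smul_sub x _ _).symm
  have hDU : ∀ a : M, Dp a ∈ m.sb (UU V R i) := by
    intro a
    obtain ⟨w, hw, rfl⟩ := m.p_surj a
    exact m.drop τ hβ hβ2 hw (τ.wW 1 β one_ne_zero hβ hβ2 w hw)
  have hDD : ∀ a ∈ m.sb (UU V R i), Dp a ∈ m.sb (DD V R) := by
    rintro _ ⟨w, hw, hwW, rfl⟩
    exact m.drop τ hβ hβ2 hwW (τ.wU 1 β one_ne_zero hβ hβ2 w hw)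
  have hΦe : ∀ a : M, Φ a ∈ m.sb V := by
    intro a
    obtain ⟨d, hd, hdW, e⟩ := hDD _ (hDU a)
    change s • Dp (Dp a) - Dp (Dp a) ∈ m.sb V
    have hn : t β * d * (t β)⁻¹ ∈ WW V (R i) :=
      conj_mem_of_normalizer (normalizer_le_WW V (R i) (τ.normR hβ)) hdW
    rw [← e, m.tq_act τ hβ hdW, sub_eq_add_neg, ← m.p_inv hdW, ← m.p_mul _ hn _ (inv_mem hdW)]
    exact m.p_mem (mul_mem hn (inv_mem hdW)) (b.XD (τ.memX β hβ) hd)
  -- `Φ` on `e`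
  have hv : ∀ y z, vv y z ∈ V := fun y z => (τ.v_mem _).2 ⟨_, _, rfl⟩
  have hvW : ∀ y z, vv y z ∈ WW V (R i) := fun y z => V_le_WW V (R i) (hv y z)
  have hp0 : ∀ y z, p (vv y z) = p (vv 0 z) := by
    intro y z
    rw [m.p_eq_iff (hvW _ _) (hvW _ _)]
    have h1 := τ.v_add y 0 0 z
    rw [add_zero, zero_add] at h1
    rw [h1, mul_inv_cancel_right]
    exact (τ.Ri _).2 ⟨y, rfl⟩
  have hpa : ∀ z z', p (vv 0 z) + p (vv 0 z') = p (vv 0 (z + z')) := by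
    intro z z'
    rw [← m.p_mul _ (hvW _ _) _ (hvW _ _), ← τ.v_add, add_zero]
  have hpn : ∀ z, - p (vv 0 z) = p (vv 0 z) := fun z =>
    (eq_neg_of_add_eq_zero_left (m.two_M b _)).symm
  have hts : ∀ {a : F} (ha : a ≠ 0) (z : F), tq τ ha • p (vv 0 z) = p (vv 0 (a⁻¹ * z)) := by
    intro a ha z
    rw [m.tq_act τ ha (hvW _ _), τ.act a 0 z ha, mul_zero]
  have hDe : ∀ z, Dp (p (vv 0 z)) = p (vv 0 (((1 + β)⁻¹ + (1 + β⁻¹)) * z)) := by
    intro z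
    change s2 • p (vv 0 z) - (p (vv 0 z) + s • p (vv 0 z)) = _
    rw [hts, hts, hpa, sub_eq_add_neg, hpn, hpa]
    congr 2
    ring
  have hΦv : ∀ z, Φ (p (vv 0 z)) = p (vv 0 ((β⁻¹ + 1) * (((1 + β)⁻¹ + (1 + β⁻¹)) *
      (((1 + β)⁻¹ + (1 + β⁻¹)) * z)))) := by
    intro z
    change s • Dp (Dp (p (vv 0 z))) - Dp (Dp (p (vv 0 z))) = _
    rw [hDe, hDe, hts, sub_eq_add_neg, hpn, hpa]
    congr 2
    ring
  have hκ : (1 + β)⁻¹ + (1 + β⁻¹) ≠ 0 := by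
    intro h
    apply hβ3
    have h1 : β + ((1 + β) * β + (1 + β)) = 0 := by
      have h2 : (1 + β) * β * ((1 + β)⁻¹ + (1 + β⁻¹)) = β + ((1 + β) * β + (1 + β)) := by
        field_simp
      rw [← h2, h, mul_zero]
    have h3 : β + β = 0 := htwo β
    linear_combination h1 - h3
  have hκ' : β⁻¹ + 1 ≠ 0 := by
    intro h
    apply hβ1
    have h1 := eq_neg_of_add_eq_zero_left h
    rw [hneg] at h1
    rw [← inv_inv β, h1, inv_one]
  generalize (1 + β)⁻¹ + (1 + β⁻¹) = κ at hκ hΦv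
  generalize β⁻¹ + 1 = κ' at hκ' hΦv
  intro d hd
  obtain ⟨y, hy, -, rfl⟩ := hd
  obtain ⟨y1, z, rfl⟩ := (τ.v_mem y).1 hy
  have h1 : p (vv y1 z) = Φ (p (vv 0 (κ⁻¹ * (κ⁻¹ * (κ'⁻¹ * z))))) := by
    rw [hΦv, hp0]
    congr 2
    field_simp
  rw [h1, ← hΦx]
  exact hΦe _

/-- `C_H(T)` normalises `A`, `q ≥ 8` -/
theorem cen_T_norm_A' [Finite F] (b : BT V R) (τ : TorD V R i j vv t) (h5 : 5 ≤ Nat.card F) {x : HQ (R i)}
    (hx : ∀ s ∈ TT τ, s * x * s⁻¹ = x) : x ∈ normalizer (AA V R i j : Set (HQ (R i))) := by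
  have hx' : ∀ s ∈ TT τ, s * x⁻¹ * s⁻¹ = x⁻¹ := by
    intro s hs
    have h1 := hx s hs
    calc s * x⁻¹ * s⁻¹ = (s * x * s⁻¹)⁻¹ := by group
      _ = x⁻¹ := by rw [h1]
  have h1 := stab_e' m b τ h5 hx
  have h2 := stab_e' m b τ h5 hx'
  rw [mem_normalizer_iff]
  intro a
  refine ⟨fun ha => m.norm_of_stab b τ.ne h1 h2 ha, fun ha => ?_⟩
  have h3 := m.norm_of_stab (x := x⁻¹) b τ.ne h2 (by rw [inv_inv]; exact h1) ha
  have e : x⁻¹ * (x * a * x⁻¹) * x⁻¹⁻¹ = a := by group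
  rwa [e] at h3

end

/-- **#14316 (2')**: `q = 4` -/
theorem centralizes4 [Finite G] [Finite F] [CharP F 2] (b : BTS V R) (c : Coord V R i j vv w1 w2)
    (τ : TorD V R i j vv t) (hidx : Odd ((normalizer (V : Set G)).relIndex (normalizer (R i : Set G))))
    (hF : Nat.card F = 4) {Y : Subgroup (HQ (R i))} (hY : Y ≤ H0 R i)
    (hodd : Odd (Nat.card Y)) (hsol : Group.IsSolvable Y) (hA : AA V R i j ≤ normalizer (Y : Set (HQ (R i))))
    (hT : TT τ ≤ normalizer (Y : Set (HQ (R i)))) :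
    ∀ y ∈ Y, ∀ a ∈ AA V R i j, a * y = y * a := by
  obtain ⟨w, hw0, hw1, hw⟩ := OddQ4BT.exists_omega hF
  obtain ⟨M, B, _, _, _, _, _, p, r, f, m⟩ := exists_modQ b.toBT i
  have hfin := m.finite_M
  have hij := c.ne
  have hne : ∃ a : F, a ≠ 0 ∧ a ≠ 1 := ⟨w, hw0, hw1⟩
  have htT := ModQ.tq_mem τ hw0
  refine OddQ4.centralizes' (M := M) (R := B) (m.two_M b.toBT) (m.two_B b.toBT) ?_ f (m.f_self b.toBT)
    (A := AA V R i j) (Hh := HA V R i j) (Y := Y) (t := ModQ.tq τ hw0)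
    (fun a ha => A_sq b.toBT hij ha) (tq_cube b.toBT τ hw0 hw) ?_ (fun a ha => A_sum b.toBT τ hw0 hw ha) hA
    (hT htT) hodd hsol A_le_HA ?_ (fun x hx u v => m.f_act b.toBT (HA_le_H0 b.toBT j hx) u v)
    m.rad (D1 m) (m.sb V) (fun x hx v hv => m.smul_rad b.toBT (HA_le_H0 b.toBT j hx) hv)
    (fun v R₀ hR₀ h => m.mem_rad_of b.toBT hR₀ h) (fun a ha x => quad4 m b τ hw0 hw ha x)
    ((m.card_e τ).trans hF.le) (fun v hv hr => e_rad m b.toBT hv hr) (fun a ha v hv => A_e m b.toBT ha hv)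
    (fun a ha v hv => A_rad m b hij ha hv) (fun v hv => T_D1 m τ htT hv)
    (fun v hv => ⟨T_mem_e m b.toBT τ htT hv, T_e_sum m b.toBT τ hw0 hw hv⟩)
    (fun a ha ha1 v hv => lemN m b hne c τ hidx ha ha1 hv)
    (fun x hx h y hy => m.norm_of_fix b.toBT hij (HA_le_H0 b.toBT j hx) h hy)
  · -- |R i| = 4
    rw [m.card_B]
    have h1 : Nat.card F ≤ Nat.card (R i) := by
      refine Nat.card_le_card_of_injective (fun β : F => (⟨vv β 0, (τ.Ri _).2 ⟨β, rfl⟩⟩ : R i)) ?_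
      intro β β' h
      exact (c.v_inj (congrArg Subtype.val h)).1
    omega
  · -- t normalises A
    rw [mem_normalizer_iff]
    intro a
    refine ⟨fun ha => TA_mem b.toBT τ htT ha, fun ha => ?_⟩
    have h1 := TA_mem b.toBT τ (inv_mem htT) ha
    have e : (ModQ.tq τ hw0)⁻¹ * (ModQ.tq τ hw0 * a * (ModQ.tq τ hw0)⁻¹) * (ModQ.tq τ hw0)⁻¹⁻¹ = a := by group
    rwa [e] at h1
  · -- conjugates
    intro y hy a ha
    exact conj_mem_HA (hY hy) ha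

/-- **`A` centralises every solvable subgroup of odd order of `H⁰` normalised by `A` and `T`**, `q ≥ 4`. -/
theorem centralizes [Finite G] [Finite F] [CharP F 2] (b : BTS V R) (c : Coord V R i j vv w1 w2)
    (τ : TorD V R i j vv t) (hidx : Odd ((normalizer (V : Set G)).relIndex (normalizer (R i : Set G))))
    (hF : 4 ≤ Nat.card F) {Y : Subgroup (HQ (R i))} (hY : Y ≤ H0 R i)
    (hodd : Odd (Nat.card Y)) (hsol : Group.IsSolvable Y) (hA : AA V R i j ≤ normalizer (Y : Set (HQ (R i))))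
    (hT : TT τ ≤ normalizer (Y : Set (HQ (R i)))) :
    ∀ y ∈ Y, ∀ a ∈ AA V R i j, a * y = y * a := by
  rcases hF.lt_or_eq with h5 | h4
  · obtain ⟨M, B, _, _, _, _, _, p, r, f, m⟩ := exists_modQ b.toBT i
    have hsq : ∀ a ∈ AA V R i j, a * a = 1 := fun a ha => A_sq b.toBT c.ne ha
    have hTA : TT τ ≤ normalizer (AA V R i j : Set (HQ (R i))) := by
      intro s hs
      rw [mem_normalizer_iff]
      intro a
      refine ⟨fun ha => TA_mem b.toBT τ hs ha, fun ha => ?_⟩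
      have h1 := TA_mem b.toBT τ (inv_mem hs) ha
      have e : s⁻¹ * (s * a * s⁻¹) * s⁻¹⁻¹ = a := by group
      rwa [e] at h1
    refine OddPart.centralizes' hsq hTA ?_ hodd hsol hA hT fun x _ hx => cen_T_norm_A' m b.toBT τ h5 hx
    refine OddPart.semi_of_fpf hsq hTA (fun s hs => OddAll.odd_TT τ hs) ?_
    intro s hs hs1 a ha h
    by_contra ha1
    apply hs1
    refine T_reg b.toBT τ c.ne ha ha1 hs ?_
    rw [h, mul_inv_cancel_right]
  · exact centralizes4 b c τ hidx h4.symm hY hodd hsol hA hT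

/-- the hypothesis `OddC` of `LayerPerf.lean` -/
theorem oddC [Finite G] [Finite F] [CharP F 2] (b : BTS V R) (c : Coord V R i j vv w1 w2)
    (τ : TorD V R i j vv t) (hidx : Odd ((normalizer (V : Set G)).relIndex (normalizer (R i : Set G))))
    (hF : 4 ≤ Nat.card F) : Layer.OddC V R i j := by
  intro N hN hN0 hnil hodd x hx a ha
  refine centralizes b c τ hidx hF hN0 hodd ?_ ?_ ?_ x hx a ha
  · have := hnil
    infer_instance
  · rw [normalizer_eq_top_iff.2 hN]; exact le_top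
  · rw [normalizer_eq_top_iff.2 hN]; exact le_top

end Cfsg.Agent.Omega.Lie.OddAllS

end
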