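import Cfsg.Agent.Omega.Lie.PairJOne
import Cfsg.Agent.Mrg.Omega.Lie.PairRee
import Cfsg.Agent.Mrg.Omega.Lie.ExoComp
import Cfsg.Agent.Mrg.Omega.TwoF.SmallSporLB
import Cfsg.Agent.Mrg.Omega.Lie.LQThm
import Cfsg.Agent.Omega.KFactsZS
import Cfsg.Agent.Mrg.Omega.BTwo.Mod
import Cfsg.Agent.Mrg.Omega.Lie.LemmaTComp
import Cfsg.Agent.Mrg.Omega.Lie.LemN
import Cfsg.Agent.SignalizersComponents.OddWeights
import Mathlib

section


/-!
# K-facts (PAIR) and (ORD) for `J₁` and `²G₂(3^(2m+1))`, in the words of helper486 (text #12707)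
-/

set_option autoImplicit false

namespace Cfsg.Agent.Omega.Lie.PairRows

open Cfsg.Agent.Omega.Lie.PairOrd (Pair NotIn)
open Cfsg.Agent.Omega.Lie.Heis (LB)
open scoped commutatorElement

universe u v w

theorem pair_of {K : Type u} [Group K] (h : PairFact.Pair K) : Pair K :=
  fun b b' hb1 hb1' hne hb hb' hc => h b b' hb hb' hb1 hb1' hne hc

/-- From the degree bound for covers to `NotIn`. -/
theorem notIn_of_lb {K : Type u} [Group K] [Finite K] [IsSimpleGroup K] (hK : commutator K = ⊤)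
    {n : ℕ} (h : LB.{u, u, w} K (n + 1)) : NotIn.{w} K n := by
  intro M _ _ h2 hc φ hφ
  have hM : IsPGroup 2 M := fun x => ⟨1, by rw [pow_one]; exact h2 x⟩
  have h1 := h K (MonoidHom.id K) Function.surjective_id (by simp) (by simp) hK M hM φ (by
    rintro rfl
    obtain ⟨x, hx⟩ := exists_ne (1 : K)
    exact hx (hφ (by simp)))
  have h3 : 2 ^ n < 2 ^ (n + 1) := Nat.pow_lt_pow_right (by norm_num) (by omega)
  omega

theorem perfect {K : Type u} [Group K] [IsSimpleGroup K] (h : ¬ IsMulCommutative K) :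
    commutator K = ⊤ := by
  rcases (inferInstance : (commutator K).Normal).eq_bot_or_eq_top with h1 | h1
  · exfalso
    apply h
    refine ⟨⟨fun a b => ?_⟩⟩
    have h2 : ⁅a, b⁆ ∈ commutator K := by
      rw [commutator_def]
      exact Subgroup.commutator_mem_commutator (Subgroup.mem_top a) (Subgroup.mem_top b)
    rw [h1] at h2
    exact commutatorElement_eq_one_iff_mul_comm.1 (Subgroup.mem_bot.1 h2)
  · exact h1

theorem lb_J1 {K : Type u} [Group K] (h : Cfsg.Spor.IsoJ1 K) : LB.{u, v, w} K 18 := by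
  obtain ⟨e⟩ := h
  exact (TwoF.lb_J1 (K := Cfsg.Spor.J1) Cfsg.Agent.SporadicB.J1.Main.isJ1).congr e.symm

/-- **(PAIR) and (ORD) for `J₁`.** -/
theorem J1 {K : Type u} [Group K] (h : Cfsg.Spor.IsoJ1 K) : Pair K ∧ NotIn.{w} K 12 := by
  obtain ⟨e⟩ := h
  refine ⟨pair_of (PairJOne.pair ⟨e⟩), NotIn.equiv e ?_⟩
  have hs : IsSimpleGroup Cfsg.Spor.J1 := Cfsg.Agent.SporadicB.J1.Main.isJ1.1
  have hnc : ¬ IsMulCommutative Cfsg.Spor.J1 := by
    intro hc
    let _ : CommGroup Cfsg.Spor.J1 := { (inferInstance : Group Cfsg.Spor.J1) with mul_comm := hc.is_comm.comm }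
    have hp : (Nat.card Cfsg.Spor.J1).Prime := IsSimpleGroup.prime_card
    rw [PairJOne.card_J1] at hp
    norm_num at hp
  refine notIn_of_lb (perfect hnc) ?_
  exact (TwoF.lb_J1 (K := Cfsg.Spor.J1) Cfsg.Agent.SporadicB.J1.Main.isJ1).mono (by norm_num)

/-- **(PAIR) and (ORD) for `²G₂(3^(2m+1))`, `m ≥ 1`.** -/
theorem ree {K : Type u} [Group K] (h : Cfsg.Lie.IsoRee K) : Pair K ∧ NotIn.{w} K 12 := by
  refine ⟨pair_of (PairRee.pair h), ?_⟩
  obtain ⟨F, _, _, m, hm, hF, ⟨e⟩⟩ := h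
  obtain ⟨hs, hnc⟩ := Cfsg.Agent.S1073.result hm hF
  have hfin := PairRee.finite_ree hm hF
  exact NotIn.equiv e (notIn_of_lb (perfect hnc) (PairRee.lb ⟨F, _, _, m, hm, hF, ⟨MulEquiv.refl _⟩⟩))

theorem lb_ree {K : Type u} [Group K] (h : Cfsg.Lie.IsoRee K) : LB.{u, v, w} K 13 := PairRee.lb h

end Cfsg.Agent.Omega.Lie.PairRows

end

section


/-!
# K-facts (PAIR) and (ORD) for `J₁` and `²G₂(3^(2m+1))`, in the words of helper460 (`LQ.Pair`, `LQ.Ord`)
-/

set_option autoImplicit false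

namespace Cfsg.Agent.Omega.Lie.PairRowsLQ

open Subgroup

universe u

theorem pair_of {K : Type u} [Group K] (h : PairFact.Pair K) : LQ.Pair K := by
  intro b b' hb1 hb1' hne hb hb' hc
  obtain ⟨x, h1, h2, h3, h4⟩ := h b b' hb hb' hb1 hb1' hne hc
  refine ⟨x, h1, h2, ?_, ?_⟩
  · rw [← h3, inv_mul_cancel_right]
  · conv_lhs => rw [← h4]
    rw [inv_mul_cancel_right]

/-- `19` does not divide `|GL(n, 2)|`, `n ≤ 12`. -/
theorem not_dvd_nineteen (n : ℕ) (hn : n ≤ 12) : ¬ 19 ∣ LQ.gl2 n := by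
  unfold LQ.gl2
  interval_cases n <;> simp [Finset.prod_range_succ]

/-- `3⁹` does not divide `|GL(n, 2)|`, `n ≤ 12`. -/
theorem not_dvd_three (n : ℕ) (hn : n ≤ 12) : ¬ 3 ^ 9 ∣ LQ.gl2 n := by
  unfold LQ.gl2
  interval_cases n <;> simp [Finset.prod_range_succ]

theorem J1 {L : Type u} [Group L] (h : Cfsg.Spor.IsoJ1 L) :
    LQ.Pair L ∧ ∀ n ≤ 12, ¬ Nat.card L ∣ LQ.gl2 n := by
  refine ⟨pair_of (PairJOne.pair h), fun n hn hd => not_dvd_nineteen n hn (dvd_trans ?_ hd)⟩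
  obtain ⟨e⟩ := h
  rw [Nat.card_congr e.toEquiv, PairJOne.card_J1]
  norm_num

theorem ree {L : Type u} [Group L] (h : Cfsg.Lie.IsoRee L) :
    LQ.Pair L ∧ ∀ n ≤ 12, ¬ Nat.card L ∣ LQ.gl2 n := by
  refine ⟨pair_of (PairRee.pair h), fun n hn hd => not_dvd_three n hn (dvd_trans ?_ hd)⟩
  obtain ⟨F, _, _, m, hm, hF, ⟨e⟩⟩ := h
  rw [Nat.card_congr e.toEquiv, Cfsg.Agent.S1069.result hF, ← pow_mul, mul_assoc]
  exact Dvd.dvd.mul_right (pow_dvd_pow 3 (by omega)) _

/-- (ORD) for a quasisimple group `K` with `K / Z(K) = J₁`. -/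
theorem J1_ord {K : Type u} [Group K] (h : Cfsg.Spor.IsoJ1 (K ⧸ center K)) {n : ℕ} (hn : n ≤ 12) :
    LQ.Ord K n := (J1 h).2 n hn

/-- (ORD) for a quasisimple group `K` with `K / Z(K) = ²G₂(3^(2m+1))`. -/
theorem ree_ord {K : Type u} [Group K] (h : Cfsg.Lie.IsoRee (K ⧸ center K)) {n : ℕ} (hn : n ≤ 12) :
    LQ.Ord K n := (ree h).2 n hn

/-- (PAIR) for a quasisimple group `K` with `K / Z(K) = J₁`, `|Z(K)|` odd. -/
theorem J1_pair {K : Type u} [Group K] [Finite K] (hZ : Odd (Nat.card (center K)))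
    (h : Cfsg.Spor.IsoJ1 (K ⧸ center K)) : LQ.Pair K := LQ.Pair.of_quot hZ (J1 h).1

theorem ree_pair {K : Type u} [Group K] [Finite K] (hZ : Odd (Nat.card (center K)))
    (h : Cfsg.Lie.IsoRee (K ⧸ center K)) : LQ.Pair K := LQ.Pair.of_quot hZ (ree h).1

end Cfsg.Agent.Omega.Lie.PairRowsLQ

end

section


/-!
# NODE LIE, TEXT LIE-2 (#12707): components with `K / Z(K) = L₂(r)`, `J₁`, `²G₂(r)` do not exist

`OutZS` of `KFactsZS`: the groups with elementary abelian Sylow 2-subgroups left over by `(ZS)`.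
-/

set_option autoImplicit false

namespace Cfsg.Agent.Omega.Lie.LQRows

open Subgroup Cfsg.Agent.Omega.KFacts Cfsg.Agent.Omega.Lie Cfsg.Agent.Omega.Lie.LQ Cfsg.Agent.Omega.Lie.CompT
open Cfsg.Agent.Omega.BTwo Cfsg.Agent.Omega.Lie.Quot Cfsg.Agent.Omega.Lie.CubQ
open Cfsg.Agent.ClassicalGeometry (PSL2Basic.card_PSL2_odd)

universe u v w

local notation "PSL2" => Matrix.ProjectiveSpecialLinearGroup (Fin 2)

theorem gl2_eight : gl2 8 = 5348063769211699200 := by
  unfold gl2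
  simp [Finset.prod_range_succ]

/-- `|L₂(r)|` does not divide `|GL₈(2)|`, `r ≡ ±3 (mod 8)`, `r ≥ 11` -/
theorem ltwo_not_dvd {F : Type*} [Field F] [Finite F] (h : Nat.card F % 8 = 3 ∨ Nat.card F % 8 = 5)
    (h11 : 11 ≤ Nat.card F) : ¬ Nat.card (PSL2 F) ∣ gl2 8 := by
  let _ := Fintype.ofFinite F
  have hodd : Odd (Fintype.card F) := by
    rw [← Nat.card_eq_fintype_card, Nat.odd_iff]
    omega
  obtain ⟨p, f, hp, -, hpf⟩ := (isPrimePow_nat_iff _).1 (FiniteField.isPrimePow_card F)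
  have h1 := PSL2Basic.card_PSL2_odd F hodd
  intro hd'
  rw [gl2_eight] at hd'
  rw [Nat.card_eq_fintype_card (α := F), ← hpf] at h h11
  rw [← hpf] at h1 hodd
  have hdvd : p ^ f ∣ 5348063769211699200 := by
    have h2 : p ^ f ∣ Nat.card (PSL2 F) * 2 := h1 ▸ Dvd.intro _ rfl
    have h3 : Nat.Coprime (p ^ f) 2 := (Nat.coprime_two_right).2 hodd
    exact (h3.dvd_of_dvd_mul_right h2).trans hd'
  rcases PairOrd.LTwo.prime_pow_cases hp hdvd h h11 with h2 | h2
  · rw [h2] at h1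
    have h3 : Nat.card (PSL2 F) = 9828 := by omega
    rw [h3] at hd'
    norm_num at hd'
  · rw [h2] at h1
    have h3 : Nat.card (PSL2 F) = 7174332 := by omega
    rw [h3] at hd'
    norm_num at hd'

/-- `16` does not divide `|²G₂(3^(2m+1))|` -/
theorem ree_not_dvd {m : ℕ} : ¬ 16 ∣ (3 ^ (2 * m + 1)) ^ 3 * (3 ^ (2 * m + 1) - 1) * ((3 ^ (2 * m + 1)) ^ 3 + 1) := by
  obtain ⟨s, hs⟩ : ∃ s, s = 3 ^ (2 * m + 1) := ⟨_, rfl⟩
  have h16 : s % 16 = 3 ∨ s % 16 = 11 := by
    rw [hs, pow_succ, pow_mul]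
    have : ∀ m : ℕ, (3 ^ 2) ^ m % 16 = 1 ∨ (3 ^ 2) ^ m % 16 = 9 := by
      intro m
      induction m with
      | zero => left; norm_num
      | succ m ih => rw [pow_succ]; omega
    have := this m
    omega
  have hpos : 3 ≤ s := by omega
  rw [← hs]
  obtain ⟨k, hk⟩ : ∃ k, s = 16 * k + 3 ∨ s = 16 * k + 11 := ⟨s / 16, by omega⟩
  rw [Nat.dvd_iff_mod_eq_zero, Nat.mul_mod, Nat.mul_mod (s ^ 3)]
  have h3 : (s - 1) % 16 = 2 ∨ (s - 1) % 16 = 10 := by omega
  have h4 : s ^ 3 % 16 = 11 ∨ s ^ 3 % 16 = 3 := by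
    rcases h16 with h | h <;> rw [Nat.pow_mod, h] <;> norm_num
  have h5 : (s ^ 3 + 1) % 16 = 12 ∨ (s ^ 3 + 1) % 16 = 4 := by omega
  rcases h3 with h3 | h3 <;> rcases h4 with h4 | h4 <;> rcases h5 with h5 | h5 <;> rw [h3, h4, h5] <;> norm_num

/-- the K-facts for `OutZS` -/
theorem data {L : Type u} [Group L] (h : OutZS L) :
    ∃ j ≤ 3, ¬ 2 ^ (j + 1) ∣ Nat.card L ∧ LQ.Pair L ∧ ¬ Nat.card L ∣ gl2 (4 * j) := by
  rcases h with h | h | h
  · obtain ⟨F, _, _, h8, h11, ⟨e⟩⟩ := h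
    rw [← Nat.card_eq_fintype_card] at h8 h11
    refine ⟨2, by norm_num, ?_, ?_, ?_⟩
    · rw [Nat.card_congr e.toEquiv]
      exact PairOrd.LTwo.not_eight_dvd h8
    · exact LQ.Pair.of_pairOrd ((PairOrd.LTwo.pair h8 (by omega)).equiv e)
    · rw [Nat.card_congr e.toEquiv]
      exact ltwo_not_dvd h8 h11
  · refine ⟨3, le_rfl, ?_, (PairRowsLQ.J1 h).1, (PairRowsLQ.J1 h).2 12 le_rfl⟩
    obtain ⟨e⟩ := h
    rw [Nat.card_congr e.toEquiv, PairJOne.card_J1]
    norm_num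
  · refine ⟨3, le_rfl, ?_, (PairRowsLQ.ree h).1, (PairRowsLQ.ree h).2 12 le_rfl⟩
    obtain ⟨F, _, _, m, hm, hF, ⟨e⟩⟩ := h
    rw [Nat.card_congr e.toEquiv, Cfsg.Agent.S1069.result hF]
    exact ree_not_dvd

/-- a 2-subgroup of `K`, `|Z(K)|` odd -/
theorem card_le_of_not_dvd {H : Type*} [Group H] [Finite H] {S K : Subgroup H} (hS : IsPGroup 2 S)
    (hZ : Odd (Nat.card (center K))) {j : ℕ} (h : ¬ 2 ^ (j + 1) ∣ Nat.card (K ⧸ center K)) :
    Nat.card (S ⊓ K : Subgroup H) ≤ 2 ^ j := by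
  have : Fact (Nat.Prime 2) := ⟨Nat.prime_two⟩
  obtain ⟨n, hn⟩ := IsPGroup.iff_card.1 (hS.to_le (inf_le_left : S ⊓ K ≤ S))
  rw [hn]
  refine Nat.pow_le_pow_right (by norm_num) ?_
  by_contra hlt
  apply h
  have h1 : 2 ^ n ∣ Nat.card (K ⧸ center K) * Nat.card (center K) := by
    rw [← Subgroup.card_eq_card_quotient_mul_card_subgroup, ← hn]
    exact card_dvd_of_le inf_le_right
  have h2 : Nat.Coprime (2 ^ n) (Nat.card (center K)) := (Nat.coprime_two_left.2 hZ).pow_left n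
  exact (pow_dvd_pow 2 (by omega)).trans (h2.dvd_of_dvd_mul_right h1)

/-- **TEXT LIE-2**: no component with `[K, A] ≠ 1` and `K / Z(K)` in `OutZS`. -/
theorem false_of_outZS {H : Type u} {M : Type v} [Group H] [CommGroup M] [Finite H] [Finite M]
    {ρ : H →* MulAut M} {A T : Subgroup H} {e : Subgroup M} (c : Cub ρ A T e) (sc : Scal A T)
    (hT : 3 ≤ Nat.card T) {S K : Subgroup H} (h : CompB.Hyp S A T K) (hK : Cfsg.IsQuasisimple K)
    (hne : ∃ a ∈ A, ∃ x ∈ K, a * x ≠ x * a) (hO : OutZS (K ⧸ center K)) : False := by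
  obtain ⟨j, hj, h1, h2, h3⟩ := data hO
  have hZ := odd_card_center h.zodd
  exact c.false_of_pair sc hT h hK hne hj (card_le_of_not_dvd h.S2 hZ h1) (Pair.of_quot hZ h2)
    (NoAct.of_ord hK h3)

/-- the same for the real quotient `H = N(R i)/O₂(N(R i))` -/
theorem false_of_outZS_real {G : Type u} [Group G] [Finite G] {ι : Type w} {V : Subgroup G}
    {R : ι → Subgroup G} {i j : ι} {F : Type v} [Field F] [Finite F] [CharP F 2] {vv : F → F → G} {t : F → G}
    {w1 w2 : F → G} (b : BTC V R) (hq : 4 ≤ Nat.card F) (c : Coord V R i j vv w1 w2)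
    (τ : TorD V R i j vv t) {S K : Subgroup (HQ (R i))} (h : CompB.Hyp S (AA V R i j) (TT τ) K)
    (hK : Cfsg.IsQuasisimple K) (hne : ∃ a ∈ AA V R i j, ∃ x ∈ K, a * x ≠ x * a)
    (hO : OutZS (K ⧸ center K)) : False := by
  have hT := card_T b.toBT τ
  exact false_of_outZS (cub b hq c τ) (scal b.toBT τ c.ne) (by omega) h hK hne hO

end Cfsg.Agent.Omega.Lie.LQRows

end

section


/-!
# NODE LIE: `M = W i / R i` as a module for `H = HQ (R i) = N(R i)/O₂(N(R i))`

* `ModQ`: helper688's `ModFr` together with an action of `HQ (R i)`; `exists_modQ`.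
* `ModQ.f_act`: `H⁰` preserves the form; `ModQ.act_rad`: `HA = ⟨A^{H⁰}⟩` is trivial on `rad = Z(W i)/R i`;
* `ModQ.key`: a vector `v` with `f(M, v)` in a proper subgroup of `R i` is fixed by `HA`;
* `ModQ.norm_A`: an element of `HA` which fixes `[M, a]` pointwise for some `1 ≠ a ∈ A` normalises `A`;
* `ModQ.quad`: `(1 + a)(1 + tat⁻¹) M ≤ e`, `|e| = q`.
-/

set_option autoImplicit false
set_option linter.unusedSectionVars false

namespace Cfsg.Agent.Omega.Lie

open Subgroup Cfsg.Agent.Omega.BTwo Cfsg.Agent.Omega.Lie.Quot Cfsg.Agent.Omega.Lie.LemN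

universe u v w

variable {G : Type u} [Group G] {ι : Type w}

/-- the module `M = W i / R i` with the actions of `N(R i)` and of `H = N(R i)/O₂(N(R i))` -/
structure ModQ (V : Subgroup G) (R : ι → Subgroup G) (i : ι) (M B : Type u) [AddCommGroup M] [AddCommGroup B]
    [DistribMulAction (NR R i) M] [DistribMulAction (NR R i) B] [DistribMulAction (HQ (R i)) M]
    (p : G → M) (r : G → B) (f : M →+ M →+ B) : Prop extends ModFr V R i M B p r f where
  pr_smul : ∀ (g : NR R i) (m : M), pr (R i) g • m = g • m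

/-- the action of a quotient group -/
theorem exists_quot_action {N : Type u} [Group N] {M : Type u} [AddCommGroup M] [DistribMulAction N M]
    (K : Subgroup N) [K.Normal] (h : ∀ k ∈ K, ∀ m : M, k • m = m) :
    ∃ _ : DistribMulAction (N ⧸ K) M, ∀ (g : N) (m : M), (QuotientGroup.mk' K g : N ⧸ K) • m = g • m := by
  let φ : N ⧸ K →* AddMonoid.End M := QuotientGroup.lift K (DistribMulAction.toAddMonoidEnd N M) (by
    intro k hk
    apply AddMonoidHom.ext
    intro m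
    exact h k hk m)
  refine ⟨DistribMulAction.compHom M φ, fun g m => rfl⟩

theorem exists_modQ {V : Subgroup G} {R : ι → Subgroup G} (b : BT V R) (i : ι) :
    ∃ (M B : Type u) (_ : AddCommGroup M) (_ : AddCommGroup B) (_ : DistribMulAction (NR R i) M)
      (_ : DistribMulAction (NR R i) B) (_ : DistribMulAction (HQ (R i)) M) (p : G → M) (r : G → B)
      (f : M →+ M →+ B), ModQ V R i M B p r f := by
  obtain ⟨M, B, _, _, _, _, p, r, f, m⟩ := b.exists_mod i
  obtain ⟨act, h⟩ := exists_quot_action (M := M) (pCore 2 ↥(normalizer (R i : Set G))) (by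
    intro k hk a
    exact m.Q_act b (h := k) ⟨k, hk, rfl⟩ a)
  exact ⟨M, B, _, _, _, _, act, p, r, f, { m with pr_smul := h }⟩

namespace ModQ

variable {V : Subgroup G} {R : ι → Subgroup G} {i : ι} {M B : Type u} [AddCommGroup M] [AddCommGroup B]
  [DistribMulAction (NR R i) M] [DistribMulAction (NR R i) B] [DistribMulAction (HQ (R i)) M] {p : G → M}
  {r : G → B} {f : M →+ M →+ B}

/-- `⟨A^{H⁰}⟩` -/
def HA (V : Subgroup G) (R : ι → Subgroup G) (i j : ι) : Subgroup (HQ (R i)) :=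
  closure {x | ∃ h ∈ H0 R i, ∃ a ∈ AA V R i j, x = h * a * h⁻¹}

theorem conj_mem_HA {j : ι} {h a : HQ (R i)} (hh : h ∈ H0 R i) (ha : a ∈ AA V R i j) : h * a * h⁻¹ ∈ HA V R i j :=
  subset_closure ⟨h, hh, a, ha, rfl⟩

theorem A_le_HA {j : ι} : AA V R i j ≤ HA V R i j := by
  intro a ha
  have := conj_mem_HA (V := V) (i := i) (one_mem (H0 R i)) ha
  rwa [one_mul, inv_one, mul_one] at this

theorem A_le_H0 (b : BT V R) (j : ι) : AA V R i j ≤ H0 R i :=
  im_mono ((UU_le_cen j).trans (centralizer_le (b.R_le i)))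

theorem HA_le_H0 (b : BT V R) (j : ι) : HA V R i j ≤ H0 R i := by
  unfold HA
  rw [closure_le]
  rintro _ ⟨h, hh, a, ha, rfl⟩
  exact mul_mem (mul_mem hh (A_le_H0 b j ha)) (inv_mem hh)

theorem exists_H0 {h : HQ (R i)} (hh : h ∈ H0 R i) :
    ∃ (g : NR R i), (g : G) ∈ centralizer (R i : Set G) ∧ pr (R i) g = h := by
  obtain ⟨g, hg, hc, e⟩ := mem_im.1 hh
  exact ⟨⟨g, hg⟩, hc, e⟩

variable (m : ModQ V R i M B p r f) (b : BT V R)
include m

/-- the action of `pr g` on `p w` -/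
theorem act {g : G} (hg : g ∈ normalizer (R i : Set G)) {w : G} (hw : w ∈ WW V (R i)) :
    pr (R i) ⟨g, hg⟩ • p w = p (g * w * g⁻¹) :=
  (m.pr_smul ⟨g, hg⟩ (p w)).trans (m.p_act ⟨g, hg⟩ w hw)

theorem finite_M [Finite G] : Finite M :=
  Finite.of_surjective (fun x : WW V (R i) => p x) fun a => by
    obtain ⟨x, hx, rfl⟩ := m.p_surj a
    exact ⟨⟨x, hx⟩, rfl⟩

theorem card_B : Nat.card B = Nat.card (R i) := by
  symm
  refine Nat.card_congr (Equiv.ofBijective (fun x : R i => r x) ⟨fun x y h => ?_, fun a => ?_⟩)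
  · exact Subtype.ext (m.r_inj x.2 y.2 h)
  · obtain ⟨x, hx, rfl⟩ := m.r_surj a
    exact ⟨⟨x, hx⟩, rfl⟩

include b

theorem f_act {h : HQ (R i)} (hh : h ∈ H0 R i) (a c : M) : f (h • a) (h • c) = f a c := by
  obtain ⟨g, hg, rfl⟩ := exists_H0 hh
  rw [m.pr_smul, m.pr_smul, m.toModFr.f_act b, m.act_B b hg]

/-- `p(w) + a p(w) = p([w, u])` -/
theorem smul_A {j : ι} {w u : G} (hw : w ∈ WW V (R i)) (hu : u ∈ UU V R j) :
    p w + pr (R i) ⟨u, U_le_N b i j hu⟩ • p w = p (w * u * w⁻¹ * u⁻¹) := by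
  have hN := U_le_N b i j hu
  have h1 : u * w⁻¹ * u⁻¹ ∈ WW V (R i) := conj_mem_of_normalizer (normalizer_le_WW V (R i) hN) (inv_mem hw)
  have h2 : u * w * u⁻¹ ∈ WW V (R i) := conj_mem_of_normalizer (normalizer_le_WW V (R i) hN) hw
  have e : w * u * w⁻¹ * u⁻¹ = w * (u * w⁻¹ * u⁻¹) := by group
  have e2 : u * w⁻¹ * u⁻¹ = (u * w * u⁻¹)⁻¹ := by group
  rw [e, m.p_mul _ hw _ h1, e2, m.p_inv h2, m.act hN hw]
  congr 1
  exact eq_neg_of_add_eq_zero_left (m.two_M b (p (u * w * u⁻¹)))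

/-- the radical -/
def rad (_m : ModQ V R i M B p r f) : AddSubgroup M where
  carrier := {v | ∀ c, f v c = 0}
  zero_mem' := fun c => by rw [map_zero, AddMonoidHom.zero_apply]
  add_mem' := by
    intro x y hx hy c
    rw [map_add, AddMonoidHom.add_apply, hx c, hy c, add_zero]
  neg_mem' := by
    intro x hx c
    rw [map_neg, AddMonoidHom.neg_apply, hx c, neg_zero]

theorem mem_rad {v : M} : v ∈ m.rad ↔ ∃ z ∈ ZZ V R i, p z = v := by
  constructor
  · intro hv
    obtain ⟨z, hz, rfl⟩ := m.p_surj v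
    refine ⟨z, mem_inf.2 ⟨hz, mem_centralizer_iff.2 fun w hw => ?_⟩, rfl⟩
    have h1 := hv (p w)
    rw [m.f_eq z hz w hw, m.r_ker _ (b.WW_comm i hz hw), mul_inv_eq_one, mul_inv_eq_iff_eq_mul] at h1
    exact h1.symm
  · rintro ⟨z, hz, rfl⟩ c
    obtain ⟨w, hw, rfl⟩ := m.p_surj c
    rw [m.f_eq z hz.1 w hw, ZZ_comm hz hw, show w * z * z⁻¹ * w⁻¹ = 1 by group, m.r_one]

theorem smul_rad {h : HQ (R i)} (hh : h ∈ H0 R i) {v : M} (hv : v ∈ m.rad) : h • v ∈ m.rad := by
  intro c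
  have e : c = h • (h⁻¹ • c) := by rw [smul_smul, mul_inv_cancel, one_smul]
  rw [e, m.f_act b hh]
  exact hv _

/-- a vector `v` with `f(M, v)` in a proper subgroup is in the radical -/
theorem mem_rad_of [Finite G] {B₀ : AddSubgroup B} (hB : B₀ ≠ ⊤) {v : M} (h : ∀ u, f u v ∈ B₀) : v ∈ m.rad := by
  obtain ⟨w, hw, rfl⟩ := m.p_surj v
  let R0 : Subgroup G :=
    { carrier := {x | x ∈ R i ∧ r x ∈ B₀}
      one_mem' := ⟨one_mem _, by rw [m.r_one]; exact zero_mem _⟩
      mul_mem' := by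
        rintro x y ⟨hx, hx'⟩ ⟨hy, hy'⟩
        exact ⟨mul_mem hx hy, by rw [m.r_mul x hx y hy]; exact add_mem hx' hy'⟩
      inv_mem' := by
        rintro x ⟨hx, hx'⟩
        exact ⟨inv_mem hx, by rw [m.r_inv hx]; exact neg_mem hx'⟩ }
  have hR0 : ¬ R i ≤ R0 := by
    intro hle
    apply hB
    rw [eq_top_iff]
    intro a _
    obtain ⟨x, hx, rfl⟩ := m.r_surj a
    exact (hle hx).2
  have h1 := b.rad hw hR0 (fun w' hw' => ⟨b.WW_comm i hw hw', by
    rw [← m.f_eq w hw w' hw', m.f_symm b]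
    exact h _⟩)
  exact (m.mem_rad b).2 ⟨w, mem_inf.2 ⟨hw, mem_centralizer_iff.2 fun w' hw' => (h1 w' hw').symm⟩, rfl⟩

omit b

theorem smul_A_rad (b : BTC V R) {j : ι} (hij : i ≠ j) {a : HQ (R i)} (ha : a ∈ AA V R i j) {v : M}
    (hv : v ∈ m.rad) : a • v = v := by
  obtain ⟨u, hu, rfl⟩ := (mem_AA b.toBT).1 ha
  obtain ⟨z, hz, rfl⟩ := (m.mem_rad b.toBT).1 hv
  have h1 := m.smul_A b.toBT hz.1 hu
  have h2 := b.cen_W_U hij hz.2 hu
  rw [(m.p_ker _ (b.R_le_W i i h2)).2 h2] at h1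
  rw [eq_neg_of_add_eq_zero_right h1]
  exact (eq_neg_of_add_eq_zero_left (m.two_M b.toBT (p z))).symm

/-- `⟨A^{H⁰}⟩` is trivial on the radical -/
theorem act_rad (b : BTC V R) {j : ι} (hij : i ≠ j) {x : HQ (R i)} (hx : x ∈ HA V R i j) :
    ∀ v ∈ m.rad, x • v = v := by
  unfold HA at hx
  induction hx using closure_induction with
  | mem x hx =>
    intro v hv
    obtain ⟨h, hh, a, ha, rfl⟩ := hx
    have h1 := m.smul_A_rad b hij ha (m.smul_rad b.toBT (inv_mem hh) hv)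
    rw [mul_smul, mul_smul, h1, smul_smul, mul_inv_cancel, one_smul]
  | one => intro v _; exact one_smul _ v
  | mul x y _ _ hx hy =>
    intro v hv
    rw [mul_smul, hy v hv, hx v hv]
  | inv x _ hx =>
    intro v hv
    rw [inv_smul_eq_iff]
    exact (hx v hv).symm

/-- **(8.2)** in `M` -/
theorem key [Finite G] (b : BTC V R) {j : ι} (hij : i ≠ j) {x : HQ (R i)} (hx : x ∈ HA V R i j)
    {B₀ : AddSubgroup B} (hB : B₀ ≠ ⊤) {v : M} (h : ∀ u, f u v ∈ B₀) : x • v = v :=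
  m.act_rad b hij hx v (m.mem_rad_of b.toBT hB h)

variable {F : Type v} [Field F] {j : ι} {vv : F → F → G} {w1 w2 t : F → G}

/-- an element of `⟨A^{H⁰}⟩` which fixes `[M, a]` pointwise fixes `e` pointwise -/
theorem fix_e [Finite G] [CharP F 2] (b : BTC V R) (hF : ∃ a : F, a ≠ 0 ∧ a ≠ 1) (c : Coord V R i j vv w1 w2)
    (τ : TorD V R i j vv t) {a : HQ (R i)} (ha : a ∈ AA V R i j) (ha1 : a ≠ 1) {x : HQ (R i)}
    (hx : x ∈ HA V R i j) (h : ∀ d : M, x • (d + a • d) = d + a • d) : ∀ d ∈ m.sb V, x • d = d := by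
  obtain ⟨u, hu, rfl⟩ := (mem_AA b.toBT).1 ha
  rintro _ ⟨y, hy, -, rfl⟩
  have hD : u ∉ DD V R := by
    intro hD
    exact ha1 ((pr_eq_one _).2 ((U_inf_Q b.toBT c.ne hu).2 hD))
  obtain ⟨w, hw, ζ, hζ, e⟩ := lemN b hF c τ hu hD hy
  have hW : w * u * w⁻¹ * u⁻¹ ∈ WW V (R i) := cm_mem b.toBT hw (UU_le_cen j hu)
  rw [e, m.p_mul _ hW _ hζ.1, ← m.smul_A b.toBT hw hu, smul_add, h,
    m.act_rad b c.ne hx _ ((m.mem_rad b.toBT).2 ⟨ζ, hζ, rfl⟩)]

omit m in
theorem im_Y (b : BT V R) (hij : i ≠ j) : im (R i) (YY V R) = AA V R i j := by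
  rw [b.Y_eq hij, im_sup (U_le_N b i i) (U_le_N b i j), im_eq_bot ((UU_le_WW i).trans (b.W_le_Q i)), bot_sup_eq]
  rfl

/-- an element of `H⁰` which fixes `e` pointwise normalises `A` -/
theorem norm_of_fix (b : BT V R) (hij : i ≠ j) {x : HQ (R i)} (hx : x ∈ H0 R i) (h : ∀ d ∈ m.sb V, x • d = d)
    {a : HQ (R i)} (ha : a ∈ AA V R i j) : x * a * x⁻¹ ∈ AA V R i j := by
  obtain ⟨g, hg, rfl⟩ := exists_H0 hx
  have key : ∀ g : NR R i, (∀ d ∈ m.sb V, pr (R i) g • d = d) → ∀ y ∈ V, (g : G) * y * (g : G)⁻¹ ∈ V := by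
    intro g hg y hy
    have hyW := V_le_WW V (R i) hy
    have h1 := hg _ (m.p_mem hyW hy)
    rw [m.act g.2 hyW, m.p_eq_iff (conj_mem_of_normalizer (normalizer_le_WW V (R i) g.2) hyW) hyW] at h1
    have e : (g : G) * y * (g : G)⁻¹ = ((g : G) * y * (g : G)⁻¹ * y⁻¹) * y := by group
    rw [e]
    exact mul_mem (b.R_le i h1) hy
  have hV : (g : G) ∈ normalizer (V : Set G) := by
    rw [mem_normalizer_iff]
    refine fun y => ⟨key g h y, fun hy => ?_⟩
    have h2 := key g⁻¹ (fun d hd => by rw [map_inv, inv_smul_eq_iff]; exact (h d hd).symm) _ hy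
    have e : ((g⁻¹ : NR R i) : G) * ((g : G) * y * (g : G)⁻¹) * ((g⁻¹ : NR R i) : G)⁻¹ = y := by
      push_cast
      group
    rwa [e] at h2
  obtain ⟨u, hu, rfl⟩ := (mem_AA b).1 ha
  rw [← im_Y b hij]
  have h3 : (g : G) * u * (g : G)⁻¹ ∈ YY V R := conj_mem_of_normalizer (b.NV_le_NY hV) (UU_le_YY j hu)
  exact pr_mem_im (mul_mem (mul_mem g.2 (U_le_N b i j hu)) (inv_mem g.2)) h3

/-- **LEMMA N** in `M`: an element of `⟨A^{H⁰}⟩` which fixes `[M, a]` pointwise, `1 ≠ a ∈ A`, normalises `A` -/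
theorem norm_A [Finite G] [CharP F 2] (b : BTC V R) (hF : ∃ a : F, a ≠ 0 ∧ a ≠ 1) (c : Coord V R i j vv w1 w2)
    (τ : TorD V R i j vv t) {a : HQ (R i)} (ha : a ∈ AA V R i j) (ha1 : a ≠ 1) {x : HQ (R i)}
    (hx : x ∈ HA V R i j) (h : ∀ d : M, x • (d + a • d) = d + a • d) :
    ∀ y ∈ AA V R i j, x * y * x⁻¹ ∈ AA V R i j := fun _ hy =>
  m.norm_of_fix b.toBT c.ne (HA_le_H0 b.toBT j hx) (m.fix_e b hF c τ ha ha1 hx h) hy

/-- **(N0)** in `M`: `(1 + a)(1 + xax⁻¹) M ≤ e`, `x ∈ T` -/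
theorem quad (b : BTC V R) (τ : TorD V R i j vv t) {a x : HQ (R i)} (ha : a ∈ AA V R i j) (hx : x ∈ TT τ)
    (c : M) : c + a • c + (x * a * x⁻¹) • c + (a * (x * a * x⁻¹)) • c ∈ m.sb V := by
  obtain ⟨u, hu, rfl⟩ := (mem_AA b.toBT).1 ha
  obtain ⟨α, hα, rfl⟩ := (mem_TT τ).1 hx
  obtain ⟨w, hw, rfl⟩ := m.p_surj c
  have hu' := t_norm_U b.toBT τ hα hu
  have hN := U_le_N b.toBT i j hu
  have hN' := U_le_N b.toBT i j hu'
  have ht := τ.normR hα
  have hy := cm_mem b.toBT hw (UU_le_cen j hu)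
  have h1 := m.smul_A b.toBT hw hu
  have h2 := m.smul_A b.toBT hy hu'
  have e1 : pr (R i) ⟨t α, ht⟩ * pr (R i) ⟨u, hN⟩ * (pr (R i) ⟨t α, ht⟩)⁻¹ = pr (R i) ⟨_, hN'⟩ := rfl
  rw [e1]
  have hA' : pr (R i) ⟨_, hN'⟩ ∈ AA V R i j := (mem_AA b.toBT).2 ⟨_, hu', rfl⟩
  have hc : pr (R i) ⟨u, hN⟩ * pr (R i) ⟨_, hN'⟩ = pr (R i) ⟨_, hN'⟩ * pr (R i) ⟨u, hN⟩ := by
    have k1 := A_sq b.toBT τ.ne (mul_mem ha hA')
    have k2 : (pr (R i) ⟨u, hN⟩ * pr (R i) ⟨_, hN'⟩)⁻¹ = pr (R i) ⟨u, hN⟩ * pr (R i) ⟨_, hN'⟩ :=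
      inv_eq_of_mul_eq_one_left k1
    rw [mul_inv_rev, inv_eq_of_mul_eq_one_left (A_sq b.toBT τ.ne ha),
      inv_eq_of_mul_eq_one_left (A_sq b.toBT τ.ne hA')] at k2
    exact k2.symm
  rw [hc, mul_smul]
  have e2 : p w + pr (R i) ⟨u, hN⟩ • p w + pr (R i) ⟨_, hN'⟩ • p w +
      pr (R i) ⟨_, hN'⟩ • (pr (R i) ⟨u, hN⟩ • p w) =
      (p w + pr (R i) ⟨u, hN⟩ • p w) + pr (R i) ⟨_, hN'⟩ • (p w + pr (R i) ⟨u, hN⟩ • p w) := by
    rw [smul_add]; abel
  rw [e2, h1, h2]
  have h3 := N0_T b hw hu (τ.memX α hα) (cj_eq_self_iff.2 (τ.normR hα)) (cj_eq_self_iff.2 (τ.normR' hα))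
  exact m.p_mem (V_le_WW V (R i) h3) h3

/-- `|e| ≤ q` -/
theorem card_e [Finite F] (τ : TorD V R i j vv t) : Nat.card (m.sb V) ≤ Nat.card F := by
  have hV : ∀ c, vv 0 c ∈ V := fun c => (τ.v_mem _).2 ⟨_, _, rfl⟩
  refine Nat.card_le_card_of_surjective (fun c : F => (⟨p (vv 0 c), m.p_mem (V_le_WW V (R i) (hV c)) (hV c)⟩ :
    m.sb V)) ?_
  rintro ⟨_, y, hy, hyW, rfl⟩
  obtain ⟨β, c, rfl⟩ := (τ.v_mem y).1 hy
  refine ⟨c, Subtype.ext ?_⟩
  change p (vv 0 c) = p (vv β c)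
  rw [m.p_eq_iff (V_le_WW V (R i) (hV c)) hyW]
  have h1 := τ.v_add β 0 0 c
  rw [add_zero, zero_add] at h1
  have h2 : vv 0 c * (vv β c)⁻¹ = (vv β 0)⁻¹ := by
    rw [h1]; group
  rw [h2]
  exact inv_mem ((τ.Ri _).2 ⟨β, rfl⟩)

end ModQ

end Cfsg.Agent.Omega.Lie

end

section


/-!
# NODE LIE, TEXT 1 (#11541), step (2): `A` centralises `O(H⁰)`

`A` elementary abelian 2-group, `T` normalises `A`, no `1 ≠ t ∈ T` normalises a subgroup of index 2 of `A`,
`R` a solvable group of odd order normalised by `A` and `T` such that `C_R(T)` centralises `A`.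
Then `A` centralises `R`.
-/

set_option autoImplicit false

namespace Cfsg.Agent.Omega.Lie.OddPart

open Subgroup
open scoped commutatorElement

/-! ### Independence of weight elements -/

section Indep

variable {X : Type*} [CommGroup X] {ι α : Type*}

/-- Weight elements of pairwise different weights (non of them trivial) in an abelian group without
involutions: if the product is fixed, then all of them are trivial. -/
theorem indep (hodd : ∀ x : X, x * x = 1 → x = 1) (act : α → X →* X) (σ : ι → α → Prop) :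
    ∀ (n : ℕ) (S : Finset ι) (y : ι → X), S.card ≤ n →
      (∀ i ∈ S, ∀ a, σ i a → act a (y i) = y i) → (∀ i ∈ S, ∀ a, ¬ σ i a → act a (y i) = (y i)⁻¹) →
      (∀ i ∈ S, ∀ j ∈ S, i ≠ j → ∃ a, σ i a ∧ ¬ σ j a) → (∀ i ∈ S, ∃ a, ¬ σ i a) →
      (∀ a, act a (∏ i ∈ S, y i) = ∏ i ∈ S, y i) → ∀ i ∈ S, y i = 1 := by
  classical
  intro n
  induction n with
  | zero =>
    intro S y hS _ _ _ _ _ i hi
    have : S = ∅ := Finset.card_eq_zero.mp (Nat.le_zero.mp hS)
    rw [this] at hi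
    exact absurd hi (Finset.notMem_empty i)
  | succ n ih =>
    intro S y hS h1 h2 hd hn hf i hi
    by_cases hone : ∃ j ∈ S, j ≠ i
    · obtain ⟨j, hj, hji⟩ := hone
      obtain ⟨a, hia, hja⟩ := hd i hi j hj (Ne.symm hji)
      set S' : Finset ι := S.filter (fun k => σ k a) with hS'
      have hS'S : S' ⊆ S := Finset.filter_subset _ _
      have hlt : S'.card < S.card := by
        apply Finset.card_lt_card
        refine ⟨hS'S, fun h => ?_⟩
        exact hja (Finset.mem_filter.mp (h hj)).2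
      have hprod : ∏ k ∈ S', (y k * y k) = (∏ k ∈ S, y k) * (∏ k ∈ S, y k) := by
        have e1 : act a (∏ k ∈ S, y k) = ∏ k ∈ S, (if σ k a then y k else (y k)⁻¹) := by
          rw [map_prod]
          refine Finset.prod_congr rfl fun k hk => ?_
          split_ifs with hka
          · exact h1 k hk a hka
          · exact h2 k hk a hka
        have e2 : (∏ k ∈ S, y k) * (∏ k ∈ S, y k) = (∏ k ∈ S, y k) * act a (∏ k ∈ S, y k) := by
          rw [hf a]
        rw [e2, e1, ← Finset.prod_mul_distrib, hS', Finset.prod_filter]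
        refine Finset.prod_congr rfl fun k _ => ?_
        split_ifs with hka
        · rfl
        · rw [mul_inv_cancel]
      have key := ih S' (fun k => y k * y k) (by omega)
        (fun k hk b hb => by
          rw [map_mul, h1 k (hS'S hk) b hb])
        (fun k hk b hb => by
          rw [map_mul, h2 k (hS'S hk) b hb, mul_inv])
        (fun k hk l hl hkl => hd k (hS'S hk) l (hS'S hl) hkl)
        (fun k hk => hn k (hS'S hk))
        (fun b => by rw [hprod, map_mul, hf b])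
        i (Finset.mem_filter.mpr ⟨hi, hia⟩)
      exact hodd _ key
    · push Not at hone
      have hSi : S = {i} := by
        ext k
        rw [Finset.mem_singleton]
        exact ⟨fun hk => hone k hk, fun hk => hk ▸ hi⟩
      obtain ⟨a, ha⟩ := hn i hi
      have e1 := hf a
      rw [hSi, Finset.prod_singleton, h2 i hi a ha] at e1
      apply hodd
      calc y i * y i = (y i)⁻¹ * y i := by rw [e1]
        _ = 1 := inv_mul_cancel _

end Indep

section main

variable {G : Type*} [Group G]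

/-- an element of odd order inverted by an element of odd order is trivial. -/
theorem eq_one_of_inv {c v : G} (hc : Odd (orderOf c)) (hv : Odd (orderOf v))
    (h : v * c * v⁻¹ = c⁻¹) : c = 1 := by
  have h2 : v ^ 2 * c * (v ^ 2)⁻¹ = c := by
    have : v * (v * c * v⁻¹) * v⁻¹ = c := by
      rw [h]
      calc v * c⁻¹ * v⁻¹ = (v * c * v⁻¹)⁻¹ := by group
        _ = c := by rw [h, inv_inv]
    calc v ^ 2 * c * (v ^ 2)⁻¹ = v * (v * c * v⁻¹) * v⁻¹ := by rw [pow_two]; group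
      _ = c := this
  have h3 : Commute (v ^ 2) c := by
    have := congrArg (· * v ^ 2) h2
    simp only [inv_mul_cancel_right] at this
    exact this
  obtain ⟨k, hk⟩ := hv
  have h4 : (v ^ 2) ^ (k + 1) = v := by
    rw [← pow_mul, show 2 * (k + 1) = orderOf v + 1 by omega, pow_succ, pow_orderOf_eq_one, one_mul]
  have h5 : Commute v c := by
    have := h3.pow_left (k + 1)
    rwa [h4] at this
  have h6 : c = c⁻¹ := by
    rw [← h]
    rw [h5.eq]
    group
  have h7 : c ^ 2 = 1 := by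
    rw [pow_two]
    nth_rewrite 2 [h6]
    exact mul_inv_cancel c
  have h8 : orderOf c ∣ 2 := orderOf_dvd_of_pow_eq_one h7
  rw [← orderOf_eq_one_iff]
  rcases (Nat.dvd_prime Nat.prime_two).mp h8 with h9 | h9
  · exact h9
  · rw [h9] at hc
    exact absurd hc (by decide)

/-- **#11541 (2)**: `A` elementary abelian 2-group, `T ≤ N(A)` semiregular on the hyperplanes of `A`,
`R` solvable of odd order normalised by `A` and `T`, `C_R(T) ≤ C(A)`. Then `R ≤ C(A)`. -/
theorem centralizes [Finite G] {A T : Subgroup G} (hA : ∀ a ∈ A, a * a = 1)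
    (hTA : T ≤ normalizer (A : Set G))
    (hsemi : ∀ t ∈ T, t ≠ 1 → ∀ B : Subgroup G, B ≤ A → B.relIndex A = 2 → ∃ b ∈ B, t * b * t⁻¹ ∉ B) :
    ∀ (n : ℕ) (R : Subgroup G), Nat.card R ≤ n → Odd (Nat.card R) → Group.IsSolvable R →
      A ≤ normalizer (R : Set G) → T ≤ normalizer (R : Set G) →
      (∀ x ∈ R, (∀ t ∈ T, t * x * t⁻¹ = x) → ∀ a ∈ A, a * x = x * a) →
      ∀ x ∈ R, ∀ a ∈ A, a * x = x * a := by
  classical
  intro n
  induction n with
  | zero =>
    intro R hR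
    exact absurd hR (by have := Nat.card_pos (α := R); omega)
  | succ n ih =>
    intro R hRn hRodd hRs hAR hTR hC
    by_cases hRbot : R = ⊥
    · intro x hx a _
      rw [hRbot, mem_bot] at hx
      rw [hx, mul_one, one_mul]
    have hAc : ∀ a ∈ A, ∀ b ∈ A, a * b = b * a := by
      intro a ha b hb
      have e1 : a⁻¹ = a := inv_eq_of_mul_eq_one_right (hA a ha)
      have e2 : b⁻¹ = b := inv_eq_of_mul_eq_one_right (hA b hb)
      have e3 : (a * b)⁻¹ = a * b := inv_eq_of_mul_eq_one_right (hA _ (mul_mem ha hb))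
      rw [← e3, mul_inv_rev, e1, e2]
    -- the derived subgroup is centralised by `A`
    have hlt : ⁅R, R⁆ < R := by
      refine lt_of_le_of_ne (commutator_le_self R) fun h => ?_
      apply hRbot
      have hc : commutator R = ⊤ := by
        rw [eq_top_iff, _root_.commutator_def]
        intro x _
        have hx : (x : G) ∈ ⁅R, R⁆ := by rw [h]; exact x.2
        have e : (⁅(⊤ : Subgroup R), (⊤ : Subgroup R)⁆ : Subgroup R).map R.subtype = ⁅R, R⁆ := by
          rw [map_commutator, ← MonoidHom.range_eq_map, R.range_subtype]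
        rw [← e] at hx
        obtain ⟨y, hy, hyx⟩ := hx
        have : y = x := Subtype.ext hyx
        rwa [← this]
      have htb : (⊤ : Subgroup R) = ⊥ := by
        obtain ⟨m, hm⟩ := hRs
        have hall : ∀ k, derivedSeries R k = ⊤ := by
          intro k
          induction k with
          | zero => rfl
          | succ k ihk => rw [derivedSeries_succ, ihk, ← _root_.commutator_def, hc]
        rw [hall m] at hm
        exact hm
      rw [eq_bot_iff]
      intro x hx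
      have h2 : (⟨x, hx⟩ : R) ∈ (⊥ : Subgroup R) := by
        rw [← htb]
        exact mem_top _
      rw [mem_bot] at h2 ⊢
      exact congrArg Subtype.val h2
    have hnorm : ∀ {K : Subgroup G}, K ≤ normalizer (R : Set G) →
        K ≤ normalizer ((⁅R, R⁆ : Subgroup G) : Set G) := by
      intro K hK g hg
      have hgR : R.map (MulAut.conj g).toMonoidHom = R := by
        apply le_antisymm
        · rintro _ ⟨x, hx, rfl⟩
          exact (mem_normalizer_iff.mp (hK hg) x).mp hx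
        · intro x hx
          refine ⟨g⁻¹ * x * g, ?_, ?_⟩
          · have := (mem_normalizer_iff.mp (inv_mem (hK hg)) x).mp hx
            simpa using this
          · change g * (g⁻¹ * x * g) * g⁻¹ = x
            group
      have hgD : (⁅R, R⁆).map (MulAut.conj g).toMonoidHom = ⁅R, R⁆ := by
        rw [map_commutator, hgR]
      rw [mem_normalizer_iff]
      intro x
      constructor
      · intro hx
        rw [← hgD]
        exact ⟨x, hx, rfl⟩
      · intro hx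
        rw [← hgD] at hx
        obtain ⟨y, hy, hyx⟩ := hx
        have : y = x := by
          have e : g * y * g⁻¹ = g * x * g⁻¹ := hyx
          exact mul_left_cancel (mul_right_cancel e)
        rwa [← this]
    have hcardlt : Nat.card (⁅R, R⁆ : Subgroup G) < Nat.card R := by
      have h1 : Nat.card (⁅R, R⁆ : Subgroup G) ∣ Nat.card R := card_dvd_of_le hlt.le
      refine lt_of_le_of_ne (Nat.le_of_dvd Nat.card_pos h1) fun h => ?_
      exact hlt.ne (eq_of_le_of_card_ge hlt.le h.ge)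
    have hDsolv : Group.IsSolvable (⁅R, R⁆ : Subgroup G) := by
      have := hRs
      exact Group.isSolvable_of_isSolvable_injective (inclusion_injective hlt.le)
    have hD : ∀ x ∈ (⁅R, R⁆ : Subgroup G), ∀ a ∈ A, a * x = x * a :=
      ih ⁅R, R⁆ (by omega) (Odd.of_dvd_nat hRodd (card_dvd_of_le hlt.le)) hDsolv (hnorm hAR)
        (hnorm hTR) (fun x hx => hC x (hlt.le hx))
    have hordR : ∀ x ∈ R, Odd (orderOf x) := by
      intro x hx
      refine Odd.of_dvd_nat hRodd ?_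
      have : orderOf (⟨x, hx⟩ : R) ∣ Nat.card R := orderOf_dvd_natCard _
      rwa [← Subgroup.orderOf_coe] at this
    -- reduce to weight elements
    have hgen := SignalizersComponents.OddWeights.closure_weights R A hRodd hAc hA
      (fun a ha x hx => (mem_normalizer_iff.mp (hAR ha) x).mp hx)
    suffices hw : ∀ x ∈ R, (∀ a ∈ A, a * x * a⁻¹ = x ∨ a * x * a⁻¹ = x⁻¹) →
        ∀ a ∈ A, a * x = x * a by
      intro x hx a ha
      have hle : R ≤ centralizer ({a} : Set G) := by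
        rw [← hgen, closure_le]
        rintro y ⟨hy, hyw⟩
        rw [SetLike.mem_coe, mem_centralizer_singleton_iff]
        exact (hw y hy hyw a ha).symm
      exact (mem_centralizer_singleton_iff.mp (hle hx)).symm
    intro x hx hxw
    by_contra hcon
    push Not at hcon
    obtain ⟨a₀, ha₀, hxa₀⟩ := hcon
    have hcomm_iff : ∀ a y : G, a * y * a⁻¹ = y ↔ a * y = y * a := by
      intro a y
      rw [mul_inv_eq_iff_eq_mul]
    -- the hyperplane
    let B : Subgroup G := A ⊓ centralizer ({x} : Set G)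
    have hBmem : ∀ a, a ∈ B ↔ a ∈ A ∧ a * x * a⁻¹ = x := by
      intro a
      change a ∈ A ∧ a ∈ centralizer ({x} : Set G) ↔ _
      rw [mem_centralizer_singleton_iff, hcomm_iff]
    have hinv : ∀ a ∈ A, a ∉ B → a * x * a⁻¹ = x⁻¹ := by
      intro a ha haB
      rcases hxw a ha with h | h
      · exact absurd ((hBmem a).mpr ⟨ha, h⟩) haB
      · exact h
    have hBA : B ≤ A := inf_le_left
    have ha₀B : a₀ ∉ B := by
      intro h
      exact hxa₀ ((hcomm_iff a₀ x).mp ((hBmem a₀).mp h).2)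
    have hmulB : ∀ a ∈ A, ∀ b ∈ A, a ∉ B → b ∉ B → a * b ∈ B := by
      intro a ha b hb haB hbB
      rw [hBmem]
      refine ⟨mul_mem ha hb, ?_⟩
      calc a * b * x * (a * b)⁻¹ = a * (b * x * b⁻¹) * a⁻¹ := by group
        _ = (a * x * a⁻¹)⁻¹ := by rw [hinv b hb hbB]; group
        _ = x := by rw [hinv a ha haB, inv_inv]
    have hBidx : B.relIndex A = 2 := by
      have h1 : (B.subgroupOf A).index = 2 := by
        rw [index_eq_two_iff]
        refine ⟨⟨a₀, ha₀⟩, fun b => ?_⟩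
        rw [mem_subgroupOf, mem_subgroupOf]
        change Xor (((b : G) * a₀) ∈ B) ((b : G) ∈ B)
        by_cases hb : (b : G) ∈ B
        · right
          refine ⟨hb, fun h => ha₀B ?_⟩
          have := mul_mem (inv_mem hb) h
          simpa using this
        · left
          exact ⟨hmulB _ b.2 _ ha₀ hb ha₀B, hb⟩
      exact h1
    -- the family
    let y : T → G := fun t => (t : G) * x * (t : G)⁻¹
    have hyR : ∀ t : T, y t ∈ R := fun t => (mem_normalizer_iff.mp (hTR t.2) x).mp hx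
    let σ : T → A → Prop := fun t a => (t : G)⁻¹ * (a : G) * (t : G) ∈ B
    have hTAm : ∀ (t : T) (a : A), (t : G)⁻¹ * (a : G) * (t : G) ∈ A := by
      intro t a
      have := (mem_normalizer_iff.mp (hTA (inv_mem t.2)) (a : G)).mp a.2
      simpa using this
    have hfix : ∀ (t : T) (a : A), σ t a → (a : G) * y t * (a : G)⁻¹ = y t := by
      intro t a h
      have h1 := ((hBmem _).mp h).2
      calc (a : G) * y t * (a : G)⁻¹
          = (t : G) * (((t : G)⁻¹ * (a : G) * (t : G)) * x * ((t : G)⁻¹ * (a : G) * (t : G))⁻¹) *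
            (t : G)⁻¹ := by
            change (a : G) * ((t : G) * x * (t : G)⁻¹) * (a : G)⁻¹ = _
            group
        _ = y t := by rw [h1]
    have hneg : ∀ (t : T) (a : A), ¬ σ t a → (a : G) * y t * (a : G)⁻¹ = (y t)⁻¹ := by
      intro t a h
      have h1 := hinv _ (hTAm t a) h
      calc (a : G) * y t * (a : G)⁻¹
          = (t : G) * (((t : G)⁻¹ * (a : G) * (t : G)) * x * ((t : G)⁻¹ * (a : G) * (t : G))⁻¹) *
            (t : G)⁻¹ := by
            change (a : G) * ((t : G) * x * (t : G)⁻¹) * (a : G)⁻¹ = _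
            group
        _ = (y t)⁻¹ := by
            rw [h1]
            change (t : G) * x⁻¹ * (t : G)⁻¹ = ((t : G) * x * (t : G)⁻¹)⁻¹
            group
    -- different weights
    have hdist : ∀ s t : T, s ≠ t → ∃ a : A, σ s a ∧ ¬ σ t a := by
      intro s t hst
      have hne : (t : G)⁻¹ * (s : G) ≠ 1 := by
        intro h
        exact hst (Subtype.ext (by
          have := congrArg ((t : G) * ·) h
          simpa using this))
      obtain ⟨b, hb, hbn⟩ := hsemi _ (mul_mem (inv_mem t.2) s.2) hne B hBA hBidx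
      refine ⟨⟨(s : G) * b * (s : G)⁻¹, (mem_normalizer_iff.mp (hTA s.2) b).mp (hBA hb)⟩, ?_, ?_⟩
      · change (s : G)⁻¹ * ((s : G) * b * (s : G)⁻¹) * (s : G) ∈ B
        have : (s : G)⁻¹ * ((s : G) * b * (s : G)⁻¹) * (s : G) = b := by group
        rwa [this]
      · intro h
        apply hbn
        change (t : G)⁻¹ * ((s : G) * b * (s : G)⁻¹) * (t : G) ∈ B at h
        have : (t : G)⁻¹ * ((s : G) * b * (s : G)⁻¹) * (t : G)
            = (t : G)⁻¹ * (s : G) * b * ((t : G)⁻¹ * (s : G))⁻¹ := by group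
        rwa [this] at h
    -- the conjugates commute
    have hycomm : ∀ s t : T, y s * y t = y t * y s := by
      intro s t
      by_cases hst : s = t
      · rw [hst]
      obtain ⟨a, hsa, hta⟩ := hdist s t hst
      set c : G := ⁅y s, y t⁆ with hc
      have hcD : c ∈ (⁅R, R⁆ : Subgroup G) := commutator_mem_commutator (hyR s) (hyR t)
      have h1 : (a : G) * c * (a : G)⁻¹ = c := by
        rw [hcomm_iff]
        exact hD c hcD a a.2
      have h2 : (a : G) * c * (a : G)⁻¹ = ⁅y s, (y t)⁻¹⁆ := by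
        rw [hc, commutatorElement_def, commutatorElement_def]
        calc (a : G) * (y s * y t * (y s)⁻¹ * (y t)⁻¹) * (a : G)⁻¹
            = ((a : G) * y s * (a : G)⁻¹) * ((a : G) * y t * (a : G)⁻¹) *
              ((a : G) * y s * (a : G)⁻¹)⁻¹ * ((a : G) * y t * (a : G)⁻¹)⁻¹ := by group
          _ = _ := by rw [hfix s a hsa, hneg t a hta]
      have h3 : y t * c * (y t)⁻¹ = c⁻¹ := by
        have h4 : c = ⁅y s, (y t)⁻¹⁆ := by rw [← h2, h1]
        calc y t * c * (y t)⁻¹ = y t * ⁅y s, (y t)⁻¹⁆ * (y t)⁻¹ := by rw [← h4]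
          _ = c⁻¹ := by
            rw [hc, commutatorElement_def, commutatorElement_def]
            group
      have h5 : c = 1 := eq_one_of_inv (hordR c (hlt.le hcD)) (hordR _ (hyR t)) h3
      rw [hc, commutatorElement_eq_one_iff_mul_comm] at h5
      exact h5
    -- the abelian group generated by the conjugates
    let X : Subgroup G := closure (Set.range y)
    have hXR : X ≤ R := by
      rw [closure_le]
      rintro _ ⟨t, rfl⟩
      exact hyR t
    have hXc : ∀ u ∈ X, ∀ v ∈ X, u * v = v * u := by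
      have hXc' : X ≤ centralizer (X : Set G) := by
        rw [closure_le]
        rintro _ ⟨s, rfl⟩
        rw [SetLike.mem_coe, mem_centralizer_iff]
        intro u hu
        have : X ≤ centralizer ({y s} : Set G) := by
          rw [closure_le]
          rintro _ ⟨t, rfl⟩
          rw [SetLike.mem_coe, mem_centralizer_singleton_iff]
          exact hycomm t s
        exact mem_centralizer_singleton_iff.mp (this hu)
      intro u hu v hv
      exact mem_centralizer_iff.mp (hXc' hv) u hu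
    let _ : CommGroup X := { (inferInstance : Group X) with
      mul_comm := fun u v => Subtype.ext (hXc u u.2 v v.2) }
    have hXA : ∀ (a : A), ∀ u ∈ X, (a : G) * u * (a : G)⁻¹ ∈ X := by
      intro a u hu
      have hle : X ≤ X.comap (MulAut.conj (a : G)).toMonoidHom := by
        rw [closure_le]
        rintro _ ⟨t, rfl⟩
        change (a : G) * y t * (a : G)⁻¹ ∈ X
        have hyX : y t ∈ X := subset_closure ⟨t, rfl⟩
        by_cases h : σ t a
        · rw [hfix t a h]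
          exact hyX
        · rw [hneg t a h]
          exact inv_mem hyX
      exact hle hu
    let act : A → X →* X := fun a =>
      { toFun := fun u => ⟨(a : G) * u * (a : G)⁻¹, hXA a u u.2⟩
        map_one' := Subtype.ext (by simp)
        map_mul' := fun u v => Subtype.ext (by
          change (a : G) * ((u : G) * (v : G)) * (a : G)⁻¹ = ((a : G) * u * (a : G)⁻¹) * ((a : G) * v * (a : G)⁻¹)
          group) }
    let yX : T → X := fun t => ⟨y t, subset_closure ⟨t, rfl⟩⟩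
    have hXodd : ∀ u : X, u * u = 1 → u = 1 := by
      intro u hu
      have h1 : (u : G) ^ 2 = 1 := by
        rw [pow_two]
        exact congrArg Subtype.val hu
      have h2 := hordR u (hXR u.2)
      have h3 : orderOf (u : G) ∣ 2 := orderOf_dvd_of_pow_eq_one h1
      apply Subtype.ext
      change (u : G) = 1
      rw [← orderOf_eq_one_iff]
      rcases (Nat.dvd_prime Nat.prime_two).mp h3 with h4 | h4
      · exact h4
      · rw [h4] at h2
        exact absurd h2 (by decide)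
    have : Fintype T := Fintype.ofFinite T
    -- the product is fixed by `T`
    have hprodT : ∀ s ∈ T, s * ((∏ t : T, yX t : X) : G) * s⁻¹ = ((∏ t : T, yX t : X) : G) := by
      intro s hs
      have hXs : ∀ u ∈ X, s * u * s⁻¹ ∈ X := by
        intro u hu
        have hle : X ≤ X.comap (MulAut.conj s).toMonoidHom := by
          rw [closure_le]
          rintro _ ⟨t, rfl⟩
          change s * ((t : G) * x * (t : G)⁻¹) * s⁻¹ ∈ X
          refine subset_closure ⟨⟨s, hs⟩ * t, ?_⟩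
          change s * (t : G) * x * (s * (t : G))⁻¹ = _
          group
        exact hle hu
      let cs : X →* X :=
        { toFun := fun u => ⟨s * u * s⁻¹, hXs u u.2⟩
          map_one' := Subtype.ext (by simp)
          map_mul' := fun u v => Subtype.ext (by
            change s * ((u : G) * (v : G)) * s⁻¹ = (s * u * s⁻¹) * (s * v * s⁻¹)
            group) }
      have e1 : cs (∏ t : T, yX t) = ∏ t : T, yX t := by
        rw [map_prod]
        have e2 : ∀ t : T, cs (yX t) = yX (⟨s, hs⟩ * t) := by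
          intro t
          apply Subtype.ext
          change s * ((t : G) * x * (t : G)⁻¹) * s⁻¹ = s * (t : G) * x * (s * (t : G))⁻¹
          group
        rw [Finset.prod_congr rfl fun t _ => e2 t]
        exact Fintype.prod_equiv (Equiv.mulLeft (⟨s, hs⟩ : T)) _ _ fun t => rfl
      exact congrArg Subtype.val e1
    have hfixA := hC _ (hXR (∏ t : T, yX t : X).2) hprodT
    have hone := indep (X := X) hXodd act σ (Finset.univ : Finset T).card Finset.univ yX le_rfl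
      (fun t _ a h => Subtype.ext (hfix t a h))
      (fun t _ a h => Subtype.ext (hneg t a h))
      (fun s _ t _ hst => hdist s t hst)
      (fun t _ => by
        refine ⟨⟨(t : G) * a₀ * (t : G)⁻¹, (mem_normalizer_iff.mp (hTA t.2) a₀).mp ha₀⟩, ?_⟩
        intro h
        change (t : G)⁻¹ * ((t : G) * a₀ * (t : G)⁻¹) * (t : G) ∈ B at h
        have e : (t : G)⁻¹ * ((t : G) * a₀ * (t : G)⁻¹) * (t : G) = a₀ := by group
        rw [e] at h
        exact ha₀B h)
      (fun a => Subtype.ext (by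
        change (a : G) * ((∏ t : T, yX t : X) : G) * (a : G)⁻¹ = _
        rw [hcomm_iff]
        exact hfixA a a.2))
      1 (Finset.mem_univ _)
    have hx1 : x = 1 := by
      have := congrArg Subtype.val hone
      change ((1 : T) : G) * x * ((1 : T) : G)⁻¹ = 1 at this
      simpa using this
    apply hxa₀
    rw [hx1, mul_one, one_mul]

/-- If `T` has odd order, normalises the elementary abelian 2-group `A` and acts fixed-point-freely on it,
then no `1 ≠ t ∈ T` normalises a subgroup of index 2 of `A`. -/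
theorem semi_of_fpf {A T : Subgroup G} (hA : ∀ a ∈ A, a * a = 1)
    (hTA : T ≤ normalizer (A : Set G)) (hTo : ∀ t ∈ T, Odd (orderOf t))
    (hfpf : ∀ t ∈ T, t ≠ 1 → ∀ a ∈ A, t * a = a * t → a = 1) :
    ∀ t ∈ T, t ≠ 1 → ∀ B : Subgroup G, B ≤ A → B.relIndex A = 2 → ∃ b ∈ B, t * b * t⁻¹ ∉ B := by
  classical
  intro t ht ht1 B hBA hB2
  by_contra hcon
  push Not at hcon
  have hAc : ∀ a ∈ A, ∀ b ∈ A, a * b = b * a := by
    intro a ha b hb
    have e1 : a⁻¹ = a := inv_eq_of_mul_eq_one_right (hA a ha)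
    have e2 : b⁻¹ = b := inv_eq_of_mul_eq_one_right (hA b hb)
    have e3 : (a * b)⁻¹ = a * b := inv_eq_of_mul_eq_one_right (hA _ (mul_mem ha hb))
    rw [← e3, mul_inv_rev, e1, e2]
  let _ : CommGroup A := { (inferInstance : Group A) with
    mul_comm := fun u v => Subtype.ext (hAc u u.2 v v.2) }
  set BA : Subgroup A := B.subgroupOf A with hBAdef
  have hidx : BA.index = 2 := hB2
  obtain ⟨n, hn⟩ := hTo t ht
  -- powers of `t` preserve `B`
  have hpow : ∀ k : ℕ, ∀ b ∈ B, t ^ k * b * (t ^ k)⁻¹ ∈ B := by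
    intro k
    induction k with
    | zero => intro b hb; simpa using hb
    | succ k ih =>
      intro b hb
      have := hcon _ (ih b hb)
      rwa [show t * (t ^ k * b * (t ^ k)⁻¹) * t⁻¹ = t ^ (k + 1) * b * (t ^ (k + 1))⁻¹ by
        rw [pow_succ']; group] at this
  have hpow' : ∀ k : ℕ, ∀ b : G, t ^ k * b * (t ^ k)⁻¹ ∈ B → b ∈ B := by
    intro k b hb
    have h1 := hpow (2 * k * n) _ hb
    have h2 : t ^ (2 * k * n) * t ^ k = 1 := by
      rw [← pow_add, show 2 * k * n + k = orderOf t * k by rw [hn]; ring, pow_mul,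
        pow_orderOf_eq_one, one_pow]
    have h3 : t ^ (2 * k * n) * (t ^ k * b * (t ^ k)⁻¹) * (t ^ (2 * k * n))⁻¹ = b := by
      calc t ^ (2 * k * n) * (t ^ k * b * (t ^ k)⁻¹) * (t ^ (2 * k * n))⁻¹
          = (t ^ (2 * k * n) * t ^ k) * b * (t ^ (2 * k * n) * t ^ k)⁻¹ := by group
        _ = b := by rw [h2]; group
    rwa [h3] at h1
  have hTAp : ∀ k : ℕ, ∀ a ∈ A, t ^ k * a * (t ^ k)⁻¹ ∈ A := fun k a ha =>
    (mem_normalizer_iff.mp (pow_mem (hTA ht) k) a).mp ha
  -- an element outside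
  obtain ⟨a, ha⟩ : ∃ a : A, a ∉ BA := by
    by_contra h
    push Not at h
    have : BA = ⊤ := eq_top_iff.mpr fun x _ => h x
    rw [this, index_top] at hidx
    exact absurd hidx (by norm_num)
  let f : ℕ → A := fun k => ⟨t ^ k * a * (t ^ k)⁻¹, hTAp k a a.2⟩
  have hf : ∀ k, f k ∉ BA := by
    intro k h
    apply ha
    rw [mem_subgroupOf] at h ⊢
    exact hpow' k a h
  have hprod : ∀ k, (∏ i ∈ Finset.range k, f i) ∈ BA ↔ Even k := by
    intro k
    induction k with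
    | zero => simp
    | succ k ih =>
      rw [Finset.prod_range_succ, mul_mem_iff_of_index_two hidx, ih]
      constructor
      · intro h
        rw [Nat.even_add_one]
        exact fun h1 => hf k (h.mp h1)
      · intro h
        rw [Nat.even_add_one] at h
        exact ⟨fun h1 => absurd h1 h, fun h1 => absurd h1 (hf k)⟩
  set w : A := ∏ i ∈ Finset.range (orderOf t), f i with hw
  have hwB : w ∉ BA := by
    rw [hw, hprod, hn]
    intro h
    rw [Nat.even_add_one] at h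
    exact h (even_two_mul n)
  let c : A →* A :=
    { toFun := fun u => ⟨t * u * t⁻¹, (mem_normalizer_iff.mp (hTA ht) u).mp u.2⟩
      map_one' := Subtype.ext (by simp)
      map_mul' := fun u v => Subtype.ext (by
        change t * ((u : G) * (v : G)) * t⁻¹ = (t * u * t⁻¹) * (t * v * t⁻¹)
        group) }
  have hcf : ∀ k, c (f k) = f (k + 1) := by
    intro k
    apply Subtype.ext
    change t * (t ^ k * (a : G) * (t ^ k)⁻¹) * t⁻¹ = t ^ (k + 1) * (a : G) * (t ^ (k + 1))⁻¹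
    rw [pow_succ']
    group
  have hlast : f (orderOf t) = f 0 := by
    apply Subtype.ext
    change t ^ orderOf t * (a : G) * (t ^ orderOf t)⁻¹ = t ^ 0 * (a : G) * (t ^ 0)⁻¹
    rw [pow_orderOf_eq_one, pow_zero]
  have hcw : c w = w := by
    rw [hw, map_prod, Finset.prod_congr rfl fun k _ => hcf k]
    have e1 := Finset.prod_range_succ f (orderOf t)
    have e2 := Finset.prod_range_succ' f (orderOf t)
    rw [e2, hlast] at e1
    exact mul_right_cancel e1
  have hw1 : (w : G) = 1 := by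
    refine hfpf t ht ht1 w w.2 ?_
    have := congrArg Subtype.val hcw
    change t * (w : G) * t⁻¹ = w at this
    exact mul_inv_eq_iff_eq_mul.mp this
  apply hwB
  have : w = 1 := Subtype.ext hw1
  rw [this]
  exact one_mem _

/-- **#11541 (2)**, final form: `C_R(T)` only normalises `A` (and `A ∩ R = 1`, `R` of odd order). -/
theorem centralizes' [Finite G] {A T R : Subgroup G} (hA : ∀ a ∈ A, a * a = 1)
    (hTA : T ≤ normalizer (A : Set G))
    (hsemi : ∀ t ∈ T, t ≠ 1 → ∀ B : Subgroup G, B ≤ A → B.relIndex A = 2 → ∃ b ∈ B, t * b * t⁻¹ ∉ B)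
    (hRodd : Odd (Nat.card R)) (hRs : Group.IsSolvable R) (hAR : A ≤ normalizer (R : Set G))
    (hTR : T ≤ normalizer (R : Set G))
    (hC : ∀ x ∈ R, (∀ t ∈ T, t * x * t⁻¹ = x) → x ∈ normalizer (A : Set G)) :
    ∀ x ∈ R, ∀ a ∈ A, a * x = x * a := by
  refine centralizes hA hTA hsemi (Nat.card R) R le_rfl hRodd hRs hAR hTR fun x hx hxT a ha => ?_
  have hn := hC x hx hxT
  -- `[x, a] ∈ R ∩ A`
  set c : G := a * x * a⁻¹ * x⁻¹ with hc
  have h1 : c ∈ R := mul_mem ((mem_normalizer_iff.mp (hAR ha) x).mp hx) (inv_mem hx)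
  have h2 : c ∈ A := by
    have : c = a * (x * a * x⁻¹)⁻¹ := by rw [hc]; group
    rw [this]
    exact mul_mem ha (inv_mem ((mem_normalizer_iff.mp hn a).mp ha))
  have h3 : orderOf c ∣ 2 := orderOf_dvd_of_pow_eq_one (by rw [pow_two]; exact hA c h2)
  have h4 : Odd (orderOf c) := by
    refine Odd.of_dvd_nat hRodd ?_
    have : orderOf (⟨c, h1⟩ : R) ∣ Nat.card R := orderOf_dvd_natCard _
    rwa [← Subgroup.orderOf_coe] at this
  have h5 : c = 1 := by
    rw [← orderOf_eq_one_iff]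
    rcases (Nat.dvd_prime Nat.prime_two).mp h3 with h | h
    · exact h
    · rw [h] at h4
      exact absurd h4 (by decide)
  have h6 : a * x * a⁻¹ * x⁻¹ = 1 := h5
  calc a * x = (a * x * a⁻¹ * x⁻¹) * (x * a) := by group
    _ = x * a := by rw [h6, one_mul]

end main

end Cfsg.Agent.Omega.Lie.OddPart

end

section


/-!
# NODE LIE, `q = 4` (#12397, helper844; referee #12569): the linear algebra

`x₁, x₂, x₃` commuting elements of prime order `r ≠ 2`, permuted by `t`, acting on a finite elementary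
abelian 2-group `M`; `a₁, a₂, a₁ a₂` a four-group, `aᵢ` centralises `xᵢ` and inverts the two others;
`θ = (1 + a₁)(1 + a₂)` has image of order at most `4`; `f` an alternating form with values in `R`, `|R| > 2`,
such that no nonzero vector moved by `x₁` has `f(M, v)` inside a proper subgroup of `R`.
Then `x₁` centralises `[M, a₁]`.
-/

set_option autoImplicit false

namespace Cfsg.Agent.Omega.Lie.OddQ4

section Sums

variable {H M : Type*} [Group H] [AddCommGroup M] [DistribMulAction H M]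

/-- the sum over the powers of `x` -/
def sg (r : ℕ) [NeZero r] (x : H) (m : M) : M := ∑ k : ZMod r, (x ^ k.val) • m

variable {r : ℕ} [NeZero r]

omit [NeZero r] in
theorem pow_val {x : H} (hx : x ^ r = 1) (n : ℕ) : x ^ ((n : ZMod r).val) = x ^ n := by
  rw [ZMod.val_natCast]
  conv_rhs => rw [← Nat.div_add_mod n r, pow_add, pow_mul, hx, one_pow, one_mul]

theorem pow_add_val {x : H} (hx : x ^ r = 1) (j k : ZMod r) :
    x ^ (j + k).val = x ^ j.val * x ^ k.val := by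
  have h : ((j.val + k.val : ℕ) : ZMod r) = j + k := by
    rw [Nat.cast_add, ZMod.natCast_zmod_val, ZMod.natCast_zmod_val]
  rw [← h, pow_val hx, pow_add]

theorem sg_add (x : H) (m n : M) : sg r x (m + n) = sg r x m + sg r x n := by
  unfold sg
  rw [← Finset.sum_add_distrib]
  exact Finset.sum_congr rfl fun k _ => smul_add _ _ _

theorem sg_zero (x : H) : sg r x (0 : M) = 0 := by
  unfold sg
  exact Finset.sum_eq_zero fun k _ => smul_zero _

theorem sg_pow {x : H} (hx : x ^ r = 1) {j : ℕ} (hj : IsUnit (j : ZMod r)) (m : M) :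
    sg r (x ^ j) m = sg r x m := by
  unfold sg
  obtain ⟨u, hu⟩ := hj
  refine Fintype.sum_equiv (Units.mulLeft u) _ _ fun k => ?_
  have h : ((j * k.val : ℕ) : ZMod r) = (j : ZMod r) * k := by
    rw [Nat.cast_mul, ZMod.natCast_zmod_val]
  change (x ^ j) ^ k.val • m = x ^ ((u : ZMod r) * k).val • m
  rw [← pow_mul, hu, ← h, pow_val hx]

theorem sg_inv {x : H} (hx : x ^ r = 1) (m : M) : sg r x⁻¹ m = sg r x m := by
  unfold sg
  refine Fintype.sum_equiv (Equiv.neg (ZMod r)) _ _ fun k => ?_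
  congr 1
  have h := pow_add_val hx k (-k)
  rw [add_neg_cancel, ZMod.val_zero, pow_zero] at h
  rw [Equiv.neg_apply, inv_pow]
  exact inv_eq_of_mul_eq_one_right h.symm

theorem smul_sg {x : H} (hx : x ^ r = 1) (m : M) : x • sg r x m = sg r x m := by
  unfold sg
  rw [Finset.smul_sum]
  refine Fintype.sum_equiv (Equiv.addLeft (1 : ZMod r)) _ _ fun k => ?_
  rw [Equiv.coe_addLeft, pow_add_val hx, ← smul_smul]
  congr 2
  have h := pow_val hx 1
  rw [Nat.cast_one, pow_one] at h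
  rw [h]

theorem sg_of_fix {x : H} {m : M} (h2 : ∀ m : M, m + m = 0) (hr : Odd r) (h : x • m = m) :
    sg r x m = m := by
  unfold sg
  have h1 : ∀ n : ℕ, x ^ n • m = m := by
    intro n
    induction n with
    | zero => rw [pow_zero, one_smul]
    | succ n ih => rw [pow_succ, ← smul_smul, h, ih]
  rw [Finset.sum_congr rfl fun k _ => h1 _, Finset.sum_const, Finset.card_univ, ZMod.card]
  obtain ⟨k, hk⟩ := hr
  rw [hk, add_smul, mul_comm, mul_smul, two_nsmul, h2, smul_zero, zero_add, one_smul]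

/-- conjugation -/
theorem smul_sg_of {a x y : H} (h : a * x * a⁻¹ = y) (m : M) : a • sg r x m = sg r y (a • m) := by
  unfold sg
  rw [Finset.smul_sum]
  refine Finset.sum_congr rfl fun k _ => ?_
  rw [smul_smul, smul_smul, ← h, conj_pow]
  congr 1
  group

theorem sg_comm {x y : H} (h : x * y = y * x) (m : M) : sg r x (sg r y m) = sg r y (sg r x m) := by
  have h1 : ∀ k : ℕ, x ^ k • sg r y m = sg r y (x ^ k • m) := by
    intro k
    refine smul_sg_of ?_ m
    have h2 : Commute (x ^ k) y := (show Commute x y from h).pow_left k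
    rw [h2.eq, mul_assoc, mul_inv_cancel, mul_one]
  have h0 : sg r x (sg r y m) = ∑ k : ZMod r, sg r y (x ^ k.val • m) :=
    Finset.sum_congr rfl fun k _ => h1 _
  rw [h0]
  have h3 : ∀ s : Finset (ZMod r), ∑ k ∈ s, sg r y (x ^ k.val • m) = sg r y (∑ k ∈ s, x ^ k.val • m) := by
    intro s
    classical
    induction s using Finset.induction_on with
    | empty => rw [Finset.sum_empty, Finset.sum_empty, sg_zero]
    | insert k s hk ih => rw [Finset.sum_insert hk, Finset.sum_insert hk, sg_add, ih]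
  rw [h3]
  rfl

/-- **the grid identity**: if `x` and `y` have no fixed component on `m`, some `y x^{-c}` has one. -/
theorem exists_grid [hp : Fact r.Prime] (h2 : ∀ m : M, m + m = 0) (hr : Odd r) {x y : H} (hx : x ^ r = 1)
    (hxy : x * y = y * x) {m : M} (hm : m ≠ 0) (hxm : sg r x m = 0) (hym : sg r y m = 0) :
    ∃ c : ℕ, (c : ZMod r) ≠ 0 ∧ sg r (y * (x ^ c)⁻¹) m ≠ 0 := by
  by_contra hcon
  push Not at hcon
  have hall : ∀ c : ZMod r, sg r (y * (x ^ c.val)⁻¹) m = 0 := by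
    intro c
    by_cases hc : c = 0
    · rw [hc, ZMod.val_zero, pow_zero, inv_one, mul_one, hym]
    · exact hcon c.val (by rwa [ZMod.natCast_zmod_val])
  have hsum : ∑ c : ZMod r, sg r (y * (x ^ c.val)⁻¹) m = 0 := Finset.sum_eq_zero fun c _ => hall c
  have hC : ∀ n : ℕ, Commute y (x ^ n)⁻¹ := fun n =>
    ((show Commute y x from hxy.symm).pow_right n).inv_right
  have e1 : ∑ c : ZMod r, sg r (y * (x ^ c.val)⁻¹) m
      = ∑ k : ZMod r, (y ^ k.val) • ∑ c : ZMod r, ((x ^ c.val)⁻¹ ^ k.val) • m := by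
    unfold sg
    rw [Finset.sum_comm]
    refine Finset.sum_congr rfl fun k _ => ?_
    rw [Finset.smul_sum]
    refine Finset.sum_congr rfl fun c _ => ?_
    rw [(hC _).mul_pow, smul_smul]
  have e2 : ∀ k : ZMod r, k ≠ 0 → ∑ c : ZMod r, ((x ^ c.val)⁻¹ ^ k.val) • m = 0 := by
    intro k hk
    have hu : IsUnit ((k.val : ℕ) : ZMod r) := by
      rw [ZMod.natCast_zmod_val]
      exact isUnit_iff_ne_zero.mpr hk
    have h1 := sg_pow (M := M) (x := x⁻¹) (by rw [inv_pow, hx, inv_one]) hu m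
    rw [sg_inv hx, hxm] at h1
    rw [← h1]
    unfold sg
    refine Finset.sum_congr rfl fun c _ => ?_
    congr 1
    rw [inv_pow, inv_pow, inv_pow, ← pow_mul, ← pow_mul, mul_comm]
  have e3 : ∑ k : ZMod r, (y ^ k.val) • ∑ c : ZMod r, ((x ^ c.val)⁻¹ ^ k.val) • m
      = ∑ c : ZMod r, ((x ^ c.val)⁻¹ ^ (0 : ZMod r).val) • m := by
    rw [Finset.sum_eq_single (0 : ZMod r)]
    · rw [ZMod.val_zero, pow_zero, one_smul]
    · intro k _ hk
      rw [e2 k hk, smul_zero]
    · intro h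
      exact absurd (Finset.mem_univ _) h
  have e4 : ∑ c : ZMod r, ((x ^ c.val)⁻¹ ^ (0 : ZMod r).val) • m = m := by
    rw [ZMod.val_zero]
    simp only [pow_zero, one_smul]
    rw [Finset.sum_const, Finset.card_univ, ZMod.card]
    obtain ⟨k, hk⟩ := hr
    rw [hk, add_smul, mul_comm, mul_smul, two_nsmul, h2, smul_zero, zero_add, one_smul]
  rw [e1, e3, e4] at hsum
  exact hm hsum

end Sums

section Core

variable {H M R : Type*} [Group H] [AddCommGroup M] [DistribMulAction H M] [AddCommGroup R]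

theorem sg_congr {r : ℕ} [NeZero r] {z y : H} (hzy : z * y = y * z) {w : M} (h : z • w = y • w) :
    sg r z w = sg r y w := by
  have h1 : ∀ n : ℕ, z ^ n • w = y ^ n • w := by
    intro n
    induction n with
    | zero => rw [pow_zero, pow_zero]
    | succ n ih =>
      have h2 : z ^ n * y = y * z ^ n := ((show Commute z y from hzy).pow_left n).eq
      rw [pow_succ, ← smul_smul, h, smul_smul, h2, ← smul_smul, ih, smul_smul, ← pow_succ']
  unfold sg
  exact Finset.sum_congr rfl fun k _ => h1 _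

theorem five {S : Set M} [Finite M] (hS : Nat.card S ≤ 4) {u₁ u₂ u₃ : M} (h0 : (0 : M) ∈ S)
    (h1 : u₁ ∈ S) (h2 : u₂ ∈ S) (h3 : u₃ ∈ S) (h12 : u₁ + u₂ ∈ S) (n1 : u₁ ≠ 0) (n2 : u₂ ≠ 0)
    (n3 : u₃ ≠ 0) (n12 : u₁ ≠ u₂) (n13 : u₁ ≠ u₃) (n23 : u₂ ≠ u₃) (n0 : u₁ + u₂ ≠ 0)
    (ns : u₁ + u₂ ≠ u₃) : False := by
  classical
  have hsub : (({0, u₁, u₂, u₃, u₁ + u₂} : Finset M) : Set M) ⊆ S := by
    intro x hx
    simp only [Finset.coe_insert, Finset.coe_singleton, Set.mem_insert_iff, Set.mem_singleton_iff] at hx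
    rcases hx with rfl | rfl | rfl | rfl | rfl <;> assumption
  have hcard : ({0, u₁, u₂, u₃, u₁ + u₂} : Finset M).card = 5 := by
    rw [Finset.card_insert_of_notMem, Finset.card_insert_of_notMem, Finset.card_insert_of_notMem,
      Finset.card_insert_of_notMem, Finset.card_singleton]
    · simp only [Finset.mem_singleton]
      exact ns.symm
    · simp only [Finset.mem_insert, Finset.mem_singleton, not_or]
      refine ⟨n23, fun h => n1 ?_⟩
      have : (0 : M) + u₂ = u₁ + u₂ := by rw [zero_add]; exact h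
      exact (add_right_cancel this).symm
    · simp only [Finset.mem_insert, Finset.mem_singleton, not_or]
      refine ⟨n12, n13, fun h => n2 ?_⟩
      have : u₁ + 0 = u₁ + u₂ := by rw [add_zero]; exact h
      exact (add_left_cancel this).symm
    · simp only [Finset.mem_insert, Finset.mem_singleton, not_or]
      exact ⟨n1.symm, n2.symm, n3.symm, n0.symm⟩
  have h5 := Set.ncard_le_ncard hsub (Set.toFinite S)
  rw [Set.ncard_coe_finset, hcard] at h5
  have h6 : S.ncard = Nat.card S := rfl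
  omega

/-- **#12397, (3)**: there is no nonzero vector without fixed component. -/
theorem no_three [Finite M] {r : ℕ} [hp : Fact r.Prime] (hr2 : r ≠ 2) (h2 : ∀ m : M, m + m = 0)
    (hR2 : ∀ s : R, s + s = 0) (hR : 2 < Nat.card R) {x₁ x₂ x₃ a₁ a₂ : H} (hx₁ : x₁ ^ r = 1)
    (hx₂ : x₂ ^ r = 1) (hx₃ : x₃ ^ r = 1)
    (h12 : x₁ * x₂ = x₂ * x₁) (h13 : x₁ * x₃ = x₃ * x₁) (h23 : x₂ * x₃ = x₃ * x₂)
    (a11 : a₁ * x₁ * a₁⁻¹ = x₁) (a12 : a₁ * x₂ * a₁⁻¹ = x₂⁻¹) (a13 : a₁ * x₃ * a₁⁻¹ = x₃⁻¹)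
    (a21 : a₂ * x₁ * a₂⁻¹ = x₁⁻¹) (a22 : a₂ * x₂ * a₂⁻¹ = x₂) (a23 : a₂ * x₃ * a₂⁻¹ = x₃⁻¹)
    (hθ : Nat.card (Set.range fun m : M => m + a₁ • m + a₂ • m + (a₁ * a₂) • m) ≤ 4)
    (f : M →+ M →+ R) (halt : ∀ m, f m m = 0)
    (hinv : ∀ u v, f (x₁ • u) (x₁ • v) = f u v ∧ f (x₂ • u) (x₂ • v) = f u v ∧
      f (x₃ • u) (x₃ • v) = f u v)
    (hkey : ∀ v : M, ∀ R₀ : AddSubgroup R, R₀ ≠ ⊤ → (∀ u, f u v ∈ R₀) → x₁ • v = v) (v₀ : M)
    (hv1 : sg r x₁ v₀ = 0) (hv2 : sg r x₂ v₀ = 0) (hv3 : sg r x₃ v₀ = 0) : v₀ = 0 := by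
  classical
  by_contra hv0
  have hrodd : Odd r := hp.out.odd_of_ne_two hr2
  obtain ⟨c, hc, hv'⟩ := exists_grid h2 hrodd hx₁ h12 hv0 hv1 hv2
  set z : H := x₂ * (x₁ ^ c)⁻¹ with hz
  have cz1 : z * x₁ = x₁ * z := by
    have e : Commute x₂ x₁ := h12.symm
    exact (e.mul_left (((Commute.refl x₁).pow_left c).inv_left)).eq
  have cz3 : z * x₃ = x₃ * z := by
    have e : Commute x₂ x₃ := h23
    have e' : Commute x₁ x₃ := h13
    exact (e.mul_left ((e'.pow_left c).inv_left)).eq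
  have hv'1 : sg r x₁ (sg r z v₀) = 0 := by rw [sg_comm cz1.symm, hv1, sg_zero]
  have hv'3 : sg r x₃ (sg r z v₀) = 0 := by rw [sg_comm cz3.symm, hv3, sg_zero]
  obtain ⟨d, hd, hv''⟩ := exists_grid h2 hrodd hx₁ h13 hv' hv'1 hv'3
  set z' : H := x₃ * (x₁ ^ d)⁻¹ with hz'
  have cz'1 : z' * x₁ = x₁ * z' := by
    have e : Commute x₃ x₁ := h13.symm
    exact (e.mul_left (((Commute.refl x₁).pow_left d).inv_left)).eq
  have czz' : z * z' = z' * z := by
    have e1 : Commute z x₃ := cz3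
    have e2 : Commute z x₁ := cz1
    exact (e1.mul_right ((e2.pow_right d).inv_right)).eq
  have hzr : z ^ r = 1 := by
    have e : Commute x₂ (x₁ ^ c)⁻¹ := ((show Commute x₂ x₁ from h12.symm).pow_right c).inv_right
    rw [hz, e.mul_pow, hx₂, inv_pow, ← pow_mul, mul_comm c, pow_mul, hx₁, one_pow, inv_one, mul_one]
  have hz'r : z' ^ r = 1 := by
    have e : Commute x₃ (x₁ ^ d)⁻¹ := ((show Commute x₃ x₁ from h13.symm).pow_right d).inv_right
    rw [hz', e.mul_pow, hx₃, inv_pow, ← pow_mul, mul_comm d, pow_mul, hx₁, one_pow, inv_one, mul_one]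
  -- the piece `E`
  let E : Set M := {v | z • v = v ∧ z' • v = v ∧ sg r x₁ v = 0}
  have hπ : ∀ u : M, sg r x₁ u = 0 → sg r z' (sg r z u) ∈ E := by
    intro u hu
    refine ⟨?_, smul_sg hz'r _, ?_⟩
    · rw [smul_sg_of (a := z) (x := z') (y := z') (by rw [czz']; group), smul_sg hzr]
    · rw [sg_comm cz'1.symm, sg_comm cz1.symm, hu, sg_zero, sg_zero]
  set v : M := sg r z' (sg r z v₀) with hv
  have hvE : v ∈ E := hπ v₀ hv1
  have hfix2 : ∀ {y w : M} {g : H}, g • w = w → g⁻¹ • w = w := by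
    intro y w g h
    rw [inv_smul_eq_iff, h]
  -- the units `2c`, `2d`
  have hu2 : ∀ n : ℕ, (n : ZMod r) ≠ 0 → IsUnit (((2 * n : ℕ)) : ZMod r) := by
    intro n hn
    rw [isUnit_iff_ne_zero, Nat.cast_mul]
    refine mul_ne_zero ?_ hn
    intro h
    have h' : ((2 : ℕ) : ZMod r) = 0 := h
    rw [ZMod.natCast_eq_zero_iff] at h'
    exact hr2 ((Nat.prime_dvd_prime_iff_eq hp.out Nat.prime_two).mp h')
  -- `w` with `y x₁ⁿ w = w`, `S₁ w = 0`: `S_{y x₁^{-n}} w = 0`
  have hkill : ∀ (y : H) (n : ℕ) (w : M), y * x₁ = x₁ * y → (n : ZMod r) ≠ 0 →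
      (y * x₁ ^ n) • w = w → sg r x₁ w = 0 → sg r (y * (x₁ ^ n)⁻¹) w = 0 := by
    intro y n w hy hn hw hs
    have cy : Commute y x₁ := hy
    have e1 : (y * (x₁ ^ n)⁻¹) • w = (x₁ ^ (2 * n))⁻¹ • w := by
      have e2 : y * (x₁ ^ n)⁻¹ = (x₁ ^ (2 * n))⁻¹ * (y * x₁ ^ n) := by
        have c1 : Commute y (x₁ ^ (2 * n))⁻¹ := (cy.pow_right _).inv_right
        rw [← mul_assoc, ← c1.eq, mul_assoc]
        congr 1
        rw [two_mul, pow_add]
        group
      rw [e2, ← smul_smul, hw]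
    have c2 : (y * (x₁ ^ n)⁻¹) * (x₁ ^ (2 * n))⁻¹ = (x₁ ^ (2 * n))⁻¹ * (y * (x₁ ^ n)⁻¹) := by
      have c1 : Commute y (x₁ ^ (2 * n))⁻¹ := (cy.pow_right _).inv_right
      have c3 : Commute (x₁ ^ n)⁻¹ (x₁ ^ (2 * n))⁻¹ :=
        (((Commute.refl x₁).pow_left n).pow_right (2 * n)).inv_left.inv_right
      exact (c1.mul_left c3).eq
    rw [sg_congr c2 e1, sg_inv (by rw [← pow_mul, mul_comm, pow_mul, hx₁, one_pow]), sg_pow hx₁ (hu2 n hn), hs]
  have hsa : ∀ (a x : H), a * x * a⁻¹ = x ∨ a * x * a⁻¹ = x⁻¹ → x ^ r = 1 → ∀ w : M,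
      sg r x (a • w) = a • sg r x w := by
    intro a x h hx w
    rcases h with h | h
    · exact (smul_sg_of h w).symm
    · rw [smul_sg_of h w, sg_inv hx]
  have hcj : ∀ (a y : H) (w : M), y • w = w → (a * y * a⁻¹) • (a • w) = a • w := by
    intro a y w h
    rw [smul_smul, inv_mul_cancel_right, ← smul_smul, h]
  have ci : ∀ (a y y' : H) (n : ℕ), a * (y * (y' ^ n)⁻¹) * a⁻¹
      = (a * y * a⁻¹) * ((a * y' * a⁻¹) ^ n)⁻¹ := by
    intro a y y' n
    rw [conj_pow]
    group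
  -- `θ` is injective on `E`
  have hθE : ∀ w ∈ E, sg r z' (sg r z (w + a₁ • w + a₂ • w + (a₁ * a₂) • w)) = w := by
    intro w hw
    obtain ⟨w1, w2, w3⟩ := hw
    have e0 : sg r z w = w := sg_of_fix h2 hrodd w1
    have k1 : sg r x₁ (a₁ • w) = 0 := by rw [hsa a₁ x₁ (Or.inl a11) hx₁, w3, smul_zero]
    have k2 : sg r x₁ (a₂ • w) = 0 := by rw [hsa a₂ x₁ (Or.inr a21) hx₁, w3, smul_zero]
    have k3 : sg r x₁ ((a₁ * a₂) • w) = 0 := by
      rw [← smul_smul, hsa a₁ x₁ (Or.inl a11) hx₁, k2, smul_zero]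
    -- `a₁ w`
    have e1 : sg r z (a₁ • w) = 0 := by
      refine hkill x₂ c _ h12.symm hc ?_ k1
      have h := hcj a₁ z w w1
      rw [hz, ci, a12, a11] at h
      have h' := hfix2 (y := w) h
      rw [mul_inv_rev, inv_inv, inv_inv] at h'
      have e : Commute (x₁ ^ c) x₂ := (show Commute x₁ x₂ from h12).pow_left c
      rwa [e.eq] at h'
    have e2 : sg r z (a₂ • w) = 0 := by
      refine hkill x₂ c _ h12.symm hc ?_ k2
      have h := hcj a₂ z w w1
      rw [hz, ci, a22, a21, inv_pow, inv_inv] at h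
      exact h
    have h3 : (a₁ * a₂) • w = a₁ • (a₂ • w) := (smul_smul _ _ _).symm
    have e3 : sg r z ((a₁ * a₂) • w) = (a₁ * a₂) • w := by
      refine sg_of_fix h2 hrodd ?_
      have h := hcj a₂ z w w1
      rw [hz, ci, a22, a21, inv_pow, inv_inv] at h
      have h' := hcj a₁ _ _ h
      have e : a₁ * (x₂ * x₁ ^ c) * a₁⁻¹ = z⁻¹ := by
        have e5 : a₁ * (x₂ * x₁ ^ c) * a₁⁻¹ = (a₁ * x₂ * a₁⁻¹) * (a₁ * x₁ * a₁⁻¹) ^ c := by
          rw [conj_pow]
          group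
        rw [e5, a12, a11, hz, mul_inv_rev, inv_inv]
        exact ((show Commute x₂ x₁ from h12.symm).inv_left.pow_right c).eq
      rw [e] at h'
      have h'' := hfix2 (y := w) h'
      rw [inv_inv] at h''
      rw [h3]
      exact h''
    have e4 : sg r z' ((a₁ * a₂) • w) = 0 := by
      refine hkill x₃ d _ h13.symm hd ?_ k3
      have h := hcj a₂ z' w w2
      rw [hz', ci, a23, a21, inv_pow, inv_inv] at h
      have h' := hcj a₁ _ _ h
      have e : a₁ * (x₃⁻¹ * x₁ ^ d) * a₁⁻¹ = x₃ * x₁ ^ d := by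
        have e5 : a₁ * (x₃⁻¹ * x₁ ^ d) * a₁⁻¹ = (a₁ * x₃ * a₁⁻¹)⁻¹ * (a₁ * x₁ * a₁⁻¹) ^ d := by
          rw [conj_pow]
          group
        rw [e5, a13, a11, inv_inv]
      rw [e] at h'
      rw [h3]
      exact h'
    have e5 : sg r z (w + a₁ • w + a₂ • w + (a₁ * a₂) • w) = w + (a₁ * a₂) • w := by
      rw [sg_add, sg_add, sg_add, e0, e1, e2, e3, add_zero, add_zero]
    rw [e5, sg_add, e4, sg_of_fix h2 hrodd w2, add_zero]
  have hEcard : Nat.card E ≤ 4 := by
    refine le_trans (Nat.card_le_card_of_injective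
      (fun w : E => (⟨(w : M) + a₁ • (w : M) + a₂ • (w : M) + (a₁ * a₂) • (w : M), ⟨w, rfl⟩⟩ :
        Set.range fun m : M => m + a₁ • m + a₂ • m + (a₁ * a₂) • m)) ?_) hθ
    intro w w' h
    have h' := congrArg Subtype.val h
    dsimp only at h'
    apply Subtype.ext
    rw [← hθE w w.2, ← hθE w' w'.2, h']
  -- the form
  have hodd2 : ∀ s : R, (r : ℕ) • s = s := by
    intro s
    obtain ⟨k, hk⟩ := hrodd
    rw [hk, add_smul, mul_comm, mul_smul, two_nsmul, hR2, smul_zero, zero_add, one_smul]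
  have hinvp : ∀ {g : H}, (∀ u w, f (g • u) (g • w) = f u w) → ∀ (n : ℕ) (u w : M),
      f (g ^ n • u) (g ^ n • w) = f u w := by
    intro g hg n
    induction n with
    | zero => intro u w; rw [pow_zero, one_smul, one_smul]
    | succ n ih => intro u w; rw [pow_succ', ← smul_smul, ← smul_smul, hg, ih]
  have hinvi : ∀ {g : H}, (∀ u w, f (g • u) (g • w) = f u w) → ∀ (u w : M),
      f (g⁻¹ • u) (g⁻¹ • w) = f u w := by
    intro g hg u w
    rw [← hg (g⁻¹ • u) (g⁻¹ • w), smul_inv_smul, smul_inv_smul]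
  have hi1 : ∀ u w, f (x₁ • u) (x₁ • w) = f u w := fun u w => (hinv u w).1
  have hi2 : ∀ u w, f (x₂ • u) (x₂ • w) = f u w := fun u w => (hinv u w).2.1
  have hi3 : ∀ u w, f (x₃ • u) (x₃ • w) = f u w := fun u w => (hinv u w).2.2
  have hiz : ∀ u w, f (z • u) (z • w) = f u w := by
    intro u w
    rw [hz, ← smul_smul, ← smul_smul, hi2, hinvi (hinvp hi1 c)]
  have hiz' : ∀ u w, f (z' • u) (z' • w) = f u w := by
    intro u w
    rw [hz', ← smul_smul, ← smul_smul, hi3, hinvi (hinvp hi1 d)]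
  have hpowfix : ∀ {g : H} {w : M}, g • w = w → ∀ n : ℕ, g ^ n • w = w := by
    intro g w h n
    induction n with
    | zero => rw [pow_zero, one_smul]
    | succ n ih => rw [pow_succ, ← smul_smul, h, ih]
  have hsf : ∀ {g : H}, (∀ u w, f (g • u) (g • w) = f u w) → ∀ u w : M, g • w = w →
      f (sg r g u) w = f u w := by
    intro g hg u w hw
    have e1 : f (sg r g u) w = ∑ k : ZMod r, f (g ^ k.val • u) w := by
      unfold sg
      rw [map_sum, AddMonoidHom.finsetSum_apply]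
    have e2 : ∀ k : ZMod r, f (g ^ k.val • u) w = f u w := by
      intro k
      conv_lhs => rw [← hpowfix hw k.val]
      exact hinvp hg _ _ _
    rw [e1, Finset.sum_congr rfl fun k _ => e2 k, Finset.sum_const, Finset.card_univ, ZMod.card]
    exact hodd2 _
  have hperp : ∀ u w : M, sg r x₁ w = 0 → f (sg r x₁ u) w = 0 := by
    intro u w hw
    have e0 : x₁ • sg r x₁ u = sg r x₁ u := smul_sg hx₁ u
    have e1 : ∀ k : ZMod r, f (sg r x₁ u) w = f (sg r x₁ u) (x₁ ^ k.val • w) := by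
      intro k
      rw [← hinvp hi1 k.val (sg r x₁ u) w, hpowfix e0]
    have e2 : ∑ k : ZMod r, f (sg r x₁ u) (x₁ ^ k.val • w) = f (sg r x₁ u) (sg r x₁ w) := by
      unfold sg
      rw [← map_sum]
    rw [hw, map_zero, ← Finset.sum_congr rfl fun k _ => e1 k, Finset.sum_const, Finset.card_univ,
      ZMod.card] at e2
    exact (hodd2 _).symm.trans e2
  have hE : ∀ u : M, ∃ e ∈ E, f u v = f e v := by
    intro u
    have h0 : sg r x₁ (u + sg r x₁ u) = 0 := by
      rw [sg_add, sg_of_fix h2 hrodd (smul_sg hx₁ u), h2]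
    refine ⟨_, hπ _ h0, ?_⟩
    rw [hsf hiz' _ _ hvE.2.1, hsf hiz _ _ hvE.1, map_add, AddMonoidHom.add_apply,
      hperp u v hvE.2.2, add_zero]
  have hEadd : ∀ a ∈ E, ∀ b ∈ E, a + b ∈ E := by
    rintro a ⟨p1, p2, p3⟩ b ⟨q1, q2, q3⟩
    exact ⟨by rw [smul_add, p1, q1], by rw [smul_add, p2, q2], by rw [sg_add, p3, q3, add_zero]⟩
  have hE0 : (0 : M) ∈ E := ⟨smul_zero _, smul_zero _, sg_zero _⟩
  have hfix : x₁ • v = v := by
    by_cases hall : ∀ e ∈ E, f e v = 0
    · refine hkey v ⊥ ?_ ?_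
      · intro h
        have h1 : Nat.card (⊥ : AddSubgroup R) = Nat.card R := by rw [h, AddSubgroup.card_top]
        rw [AddSubgroup.card_bot] at h1
        omega
      · intro u
        obtain ⟨e, he, heq⟩ := hE u
        rw [heq, hall e he]
        exact zero_mem _
    · push Not at hall
      obtain ⟨e₁, he₁, hne⟩ := hall
      refine hkey v (AddSubgroup.zmultiples (f e₁ v)) ?_ ?_
      · intro h
        have h1 : Nat.card (AddSubgroup.zmultiples (f e₁ v)) = Nat.card R := by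
          rw [h, AddSubgroup.card_top]
        rw [Nat.card_zmultiples] at h1
        have h3 : addOrderOf (f e₁ v) ∣ 2 :=
          addOrderOf_dvd_of_nsmul_eq_zero (by rw [two_nsmul]; exact hR2 _)
        have h4 := Nat.le_of_dvd (by norm_num) h3
        omega
      · intro u
        obtain ⟨e, he, heq⟩ := hE u
        rw [heq]
        by_cases h0 : e = 0
        · rw [h0, map_zero, AddMonoidHom.zero_apply]
          exact zero_mem _
        by_cases h1 : e = v
        · rw [h1, halt]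
          exact zero_mem _
        by_cases h3 : e = e₁
        · rw [h3]
          exact AddSubgroup.mem_zmultiples _
        by_cases h4 : e = e₁ + v
        · rw [h4, map_add, AddMonoidHom.add_apply, halt, add_zero]
          exact AddSubgroup.mem_zmultiples _
        exfalso
        have e10 : e₁ ≠ 0 := by
          rintro rfl
          exact hne (by rw [map_zero, AddMonoidHom.zero_apply])
        have e1v : e₁ ≠ v := by
          rintro rfl
          exact hne (halt _)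
        refine five (S := E) hEcard (u₁ := e₁) (u₂ := v) (u₃ := e) hE0 he₁ hvE he (hEadd _ he₁ _ hvE)
          e10 hv'' h0 e1v (fun h => h3 h.symm) (fun h => h1 h.symm) ?_ (fun h => h4 h.symm)
        intro h
        apply e1v
        calc e₁ = e₁ + (v + v) := by rw [h2, add_zero]
          _ = (e₁ + v) + v := by rw [add_assoc]
          _ = v := by rw [h, zero_add]
  have h1 := sg_of_fix (r := r) h2 hrodd hfix
  rw [hvE.2.2] at h1
  exact hv'' h1.symm

/-- **#12397, core.** `x₁` centralises `[M, a₁]`. -/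
theorem core [Finite M] {r : ℕ} [hp : Fact r.Prime] (hr2 : r ≠ 2) (h2 : ∀ m : M, m + m = 0)
    (hR2 : ∀ s : R, s + s = 0) (hR : 2 < Nat.card R) {x₁ x₂ x₃ a₁ a₂ t : H} (hx₁ : x₁ ^ r = 1)
    (h12 : x₁ * x₂ = x₂ * x₁) (h13 : x₁ * x₃ = x₃ * x₁) (h23 : x₂ * x₃ = x₃ * x₂)
    (a11 : a₁ * x₁ * a₁⁻¹ = x₁) (a12 : a₁ * x₂ * a₁⁻¹ = x₂⁻¹) (a13 : a₁ * x₃ * a₁⁻¹ = x₃⁻¹)
    (a21 : a₂ * x₁ * a₂⁻¹ = x₁⁻¹) (a22 : a₂ * x₂ * a₂⁻¹ = x₂) (a23 : a₂ * x₃ * a₂⁻¹ = x₃⁻¹)
    (hA2 : a₂ * a₂ = 1) (hA12 : a₁ * a₂ = a₂ * a₁)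
    (t1 : t * x₁ * t⁻¹ = x₂) (t2 : t * x₂ * t⁻¹ = x₃) (t3 : t * x₃ * t⁻¹ = x₁)
    (ta1 : t * a₁ * t⁻¹ = a₂) (ta2 : t * a₂ * t⁻¹ = a₁ * a₂)
    (hθ : Nat.card (Set.range fun m : M => m + a₁ • m + a₂ • m + (a₁ * a₂) • m) ≤ 4)
    (f : M →+ M →+ R) (halt : ∀ m, f m m = 0)
    (hinv : ∀ u v, f (x₁ • u) (x₁ • v) = f u v ∧ f (x₂ • u) (x₂ • v) = f u v ∧
      f (x₃ • u) (x₃ • v) = f u v)
    (hkey : ∀ v : M, ∀ R₀ : AddSubgroup R, R₀ ≠ ⊤ → (∀ u, f u v ∈ R₀) → x₁ • v = v) (m : M) :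
    x₁ • (m + a₁ • m) = m + a₁ • m := by
  classical
  have hrodd : Odd r := hp.out.odd_of_ne_two hr2
  have hx₂ : x₂ ^ r = 1 := by rw [← t1, conj_pow, hx₁]; group
  have hx₃ : x₃ ^ r = 1 := by rw [← t2, conj_pow, hx₂]; group
  have hsa : ∀ (a x : H), a * x * a⁻¹ = x ∨ a * x * a⁻¹ = x⁻¹ → x ^ r = 1 → ∀ w : M,
      sg r x (a • w) = a • sg r x w := by
    intro a x h hx w
    rcases h with h | h
    · exact (smul_sg_of h w).symm
    · rw [smul_sg_of h w, sg_inv hx]
  have hss : ∀ {x : H}, x ^ r = 1 → ∀ w : M, sg r x (sg r x w) = sg r x w := fun hx w =>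
    sg_of_fix h2 hrodd (smul_sg hx w)
  have h0 := no_three hr2 h2 hR2 hR hx₁ hx₂ hx₃ h12 h13 h23 a11 a12 a13 a21 a22 a23 hθ f halt hinv hkey
  -- the image of `θ`
  set θ : M → M := fun m => m + a₁ • m + a₂ • m + (a₁ * a₂) • m with hθdef
  have hθx : ∀ (x : H), (a₁ * x * a₁⁻¹ = x ∨ a₁ * x * a₁⁻¹ = x⁻¹) →
      (a₂ * x * a₂⁻¹ = x ∨ a₂ * x * a₂⁻¹ = x⁻¹) → x ^ r = 1 → ∀ w, sg r x (θ w) = θ (sg r x w) := by
    intro x ha hb hx w
    rw [hθdef]
    dsimp only
    rw [sg_add, sg_add, sg_add, hsa a₁ x ha hx, hsa a₂ x hb hx, ← smul_smul, hsa a₁ x ha hx,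
      hsa a₂ x hb hx, smul_smul]
  have hθ1 : ∀ w, sg r x₁ (θ w) = θ (sg r x₁ w) := hθx x₁ (Or.inl a11) (Or.inr a21) hx₁
  have hθ2 : ∀ w, sg r x₂ (θ w) = θ (sg r x₂ w) := hθx x₂ (Or.inr a12) (Or.inl a22) hx₂
  have hθ3 : ∀ w, sg r x₃ (θ w) = θ (sg r x₃ w) := hθx x₃ (Or.inr a13) (Or.inr a23) hx₃
  have hta3 : t * (a₁ * a₂) * t⁻¹ = a₁ := by
    calc t * (a₁ * a₂) * t⁻¹ = (t * a₁ * t⁻¹) * (t * a₂ * t⁻¹) := by group
      _ = a₂ * (a₁ * a₂) := by rw [ta1, ta2]
      _ = a₁ := by rw [hA12, ← mul_assoc, hA2, one_mul]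
  have hcs : ∀ {a b : H}, t * a * t⁻¹ = b → ∀ w : M, t • (a • w) = b • (t • w) := by
    intro a b h w
    rw [smul_smul, smul_smul, ← h, inv_mul_cancel_right]
  have hθt : ∀ w, t • θ w = θ (t • w) := by
    intro w
    rw [hθdef]
    dsimp only
    rw [smul_add, smul_add, smul_add, hcs ta1, hcs ta2, hcs hta3]
    abel
  have hθadd : ∀ u w, θ (u + w) = θ u + θ w := by
    intro u w
    rw [hθdef]
    dsimp only
    rw [smul_add, smul_add, smul_add]
    abel
  have hθzero : θ 0 = 0 := by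
    rw [hθdef]
    dsimp only
    rw [smul_zero, smul_zero, smul_zero, add_zero, add_zero, add_zero]
  set Θ : Set M := Set.range θ with hΘ
  have Θ0 : (0 : M) ∈ Θ := ⟨0, hθzero⟩
  have Θadd : ∀ u ∈ Θ, ∀ w ∈ Θ, u + w ∈ Θ := by
    rintro _ ⟨u, rfl⟩ _ ⟨w, rfl⟩
    exact ⟨u + w, hθadd u w⟩
  have Θ1 : ∀ u ∈ Θ, sg r x₁ u ∈ Θ := by
    rintro _ ⟨u, rfl⟩
    exact ⟨_, (hθ1 u).symm⟩
  have Θ2 : ∀ u ∈ Θ, sg r x₂ u ∈ Θ := by
    rintro _ ⟨u, rfl⟩
    exact ⟨_, (hθ2 u).symm⟩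
  have Θ3 : ∀ u ∈ Θ, sg r x₃ u ∈ Θ := by
    rintro _ ⟨u, rfl⟩
    exact ⟨_, (hθ3 u).symm⟩
  have Θt : ∀ u ∈ Θ, t • u ∈ Θ := by
    rintro _ ⟨u, rfl⟩
    exact ⟨_, (hθt u).symm⟩
  -- transport by `t`
  have st1 : ∀ w : M, t • sg r x₁ w = sg r x₂ (t • w) := fun w => smul_sg_of t1 w
  have st2 : ∀ w : M, t • sg r x₂ w = sg r x₃ (t • w) := fun w => smul_sg_of t2 w
  have st3 : ∀ w : M, t • sg r x₃ w = sg r x₁ (t • w) := fun w => smul_sg_of t3 w
  have htne : ∀ {w : M}, w ≠ 0 → t • w ≠ 0 := by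
    intro w hw h
    exact hw ((smul_eq_zero_iff_eq t).mp h)
  have hdd : ∀ {u w : M}, u + w = 0 → u = w := by
    intro u w h
    calc u = u + (w + w) := by rw [h2, add_zero]
      _ = (u + w) + w := by rw [add_assoc]
      _ = w := by rw [h, zero_add]
  -- pieces with one support
  have hone : ∀ u ∈ Θ, sg r x₁ u = 0 → sg r x₂ u = u → sg r x₃ u = u → u = 0 := by
    intro u hu s1 s2 s3
    by_contra hu0
    have e21 : sg r x₂ (t • u) = 0 := by rw [← st1, s1, smul_zero]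
    have e23 : sg r x₃ (t • u) = t • u := by rw [← st2, s2]
    have e22 : sg r x₁ (t • u) = t • u := by rw [← st3, s3]
    have e31 : sg r x₃ (t • t • u) = 0 := by rw [← st2, e21, smul_zero]
    refine five (S := Θ) hθ Θ0 hu (Θt _ hu) (Θt _ (Θt _ hu)) (Θadd _ hu _ (Θt _ hu)) hu0 (htne hu0)
      (htne (htne hu0)) ?_ ?_ ?_ ?_ ?_
    · intro h
      apply htne hu0
      rw [← e22, ← h, s1]
    · intro h
      apply hu0
      rw [← s3, h, e31]
    · intro h
      apply htne hu0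
      rw [← e23, h, e31]
    · intro h
      apply htne hu0
      rw [← e22, ← hdd h, s1]
    · intro h
      have h' : u + t • u = 0 := by
        have := congrArg (sg r x₃) h
        rwa [sg_add, s3, e23, e31] at this
      apply htne hu0
      rw [← e22, ← hdd h', s1]
  have htwo : ∀ u ∈ Θ, sg r x₁ u = u → sg r x₂ u = 0 → sg r x₃ u = 0 → u = 0 := by
    intro u hu s1 s2 s3
    by_contra hu0
    have e22 : sg r x₂ (t • u) = t • u := by rw [← st1, s1]
    have e23 : sg r x₃ (t • u) = 0 := by rw [← st2, s2, smul_zero]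
    have e21 : sg r x₁ (t • u) = 0 := by rw [← st3, s3, smul_zero]
    have e33 : sg r x₃ (t • t • u) = t • t • u := by rw [← st2, e22]
    refine five (S := Θ) hθ Θ0 hu (Θt _ hu) (Θt _ (Θt _ hu)) (Θadd _ hu _ (Θt _ hu)) hu0 (htne hu0)
      (htne (htne hu0)) ?_ ?_ ?_ ?_ ?_
    · intro h
      apply hu0
      rw [← s1, h, e21]
    · intro h
      apply htne (htne hu0)
      rw [← e33, ← h, s3]
    · intro h
      apply htne (htne hu0)
      rw [← e33, ← h, e23]
    · intro h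
      apply hu0
      rw [← s1, hdd h, e21]
    · intro h
      apply htne (htne hu0)
      rw [← e33, ← h, sg_add, s3, e23, add_zero]
  have c12 : ∀ w : M, sg r x₁ (sg r x₂ w) = sg r x₂ (sg r x₁ w) := sg_comm h12
  have c13 : ∀ w : M, sg r x₁ (sg r x₃ w) = sg r x₃ (sg r x₁ w) := sg_comm h13
  have c23 : ∀ w : M, sg r x₂ (sg r x₃ w) = sg r x₃ (sg r x₂ w) := sg_comm h23
  -- the same for the other positions
  have hone' : ∀ u ∈ Θ, sg r x₂ u = 0 → sg r x₁ u = u → sg r x₃ u = u → u = 0 := by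
    intro u hu s2 s1 s3
    have e1 := Θt _ (Θt _ hu)
    have e := hone (t • t • u) e1 (by rw [← st3, ← st2, s2, smul_zero, smul_zero])
      (by rw [← st1, ← st3, s3]) (by rw [← st2, ← st1, s1])
    by_contra hu0
    exact htne (htne hu0) e
  have htwo2 : ∀ u ∈ Θ, sg r x₂ u = u → sg r x₁ u = 0 → sg r x₃ u = 0 → u = 0 := by
    intro u hu s2 s1 s3
    have e1 := Θt _ (Θt _ hu)
    have e := htwo (t • t • u) e1 (by rw [← st3, ← st2, s2])
      (by rw [← st1, ← st3, s3, smul_zero, smul_zero]) (by rw [← st2, ← st1, s1, smul_zero, smul_zero])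
    by_contra hu0
    exact htne (htne hu0) e
  have htwo3 : ∀ u ∈ Θ, sg r x₃ u = u → sg r x₁ u = 0 → sg r x₂ u = 0 → u = 0 := by
    intro u hu s3 s1 s2
    have e := htwo (t • u) (Θt _ hu) (by rw [← st3, s3])
      (by rw [← st1, s1, smul_zero]) (by rw [← st2, s2, smul_zero])
    by_contra hu0
    exact htne hu0 e
  -- `(1 + S₁) θ = 0`
  have hp1 : ∀ u ∈ Θ, sg r x₁ u = u := by
    intro u hu
    have hd : ∀ {x : H}, x ^ r = 1 → ∀ w : M, sg r x (w + sg r x w) = 0 := by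
      intro x hx w
      rw [sg_add, hss hx, h2]
    have hu1 : u + sg r x₁ u ∈ Θ := Θadd _ hu _ (Θ1 _ hu)
    set w := u + sg r x₁ u with hw
    have w1 : sg r x₁ w = 0 := hd hx₁ u
    -- `S₂ S₃ w = 0`
    have e23 : sg r x₂ (sg r x₃ w) = 0 := hone _ (Θ2 _ (Θ3 _ hu1))
      (by rw [c12, c13, w1, sg_zero, sg_zero]) (hss hx₂ _) (by rw [← c23, hss hx₃])
    -- `S₂ w = 0`
    have e2 : sg r x₂ w = 0 := htwo2 _ (Θ2 _ hu1) (hss hx₂ _) (by rw [c12, w1, sg_zero])
      (by rw [← c23, e23])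
    have e3 : sg r x₃ w = 0 := htwo3 _ (Θ3 _ hu1) (hss hx₃ _) (by rw [c13, w1, sg_zero]) e23
    have e := h0 w w1 e2 e3
    exact (hdd (hw ▸ e)).symm
  -- the vector `k`
  have hKK : ∀ w : M, a₂ • ((w + a₁ • w) + sg r x₁ (w + a₁ • w)) = (w + a₁ • w) + sg r x₁ (w + a₁ • w) := by
    intro w
    have e1 : θ w = (w + a₁ • w) + a₂ • (w + a₁ • w) := by
      rw [hθdef]
      dsimp only
      rw [smul_add, smul_smul, hA12]
      abel
    have e2 := hp1 (θ w) ⟨w, rfl⟩
    rw [e1, sg_add, hsa a₂ x₁ (Or.inr a21) hx₁] at e2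
    have e3 : (w + a₁ • w) + sg r x₁ (w + a₁ • w) = a₂ • (w + a₁ • w) + a₂ • sg r x₁ (w + a₁ • w) := by
      apply hdd
      have : (w + a₁ • w) + sg r x₁ (w + a₁ • w) + (a₂ • (w + a₁ • w) + a₂ • sg r x₁ (w + a₁ • w))
          = ((w + a₁ • w) + a₂ • (w + a₁ • w)) + (sg r x₁ (w + a₁ • w) + a₂ • sg r x₁ (w + a₁ • w)) := by
        abel
      rw [this, e2, h2]
    rw [smul_add, ← e3]
  set k : M := (m + a₁ • m) + sg r x₁ (m + a₁ • m) with hk
  have hk1 : a₂ • k = k := hKK m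
  have hxk : x₁ • k = (x₁ • m + a₁ • (x₁ • m)) + sg r x₁ (x₁ • m + a₁ • (x₁ • m)) := by
    have e1 : ∀ w : M, x₁ • sg r x₁ w = sg r x₁ (x₁ • w) := fun w => smul_sg_of (by group) w
    have e2 : x₁ • (a₁ • m) = a₁ • (x₁ • m) := by
      rw [smul_smul, smul_smul]
      congr 1
      have := a11
      rw [mul_inv_eq_iff_eq_mul] at this
      exact this.symm
    rw [hk, smul_add, smul_add, e1, smul_add, e2]
  have hk2 : a₂ • (x₁ • k) = x₁ • k := by rw [hxk]; exact hKK _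
  have hk3 : x₁⁻¹ • k = x₁ • k := by
    rw [← hk2, smul_smul]
    have e : a₂ * x₁ = x₁⁻¹ * a₂ := by
      rw [← a21, inv_mul_cancel_right]
    rw [e, ← smul_smul, hk1]
  have hk4 : x₁ • (x₁ • k) = k := by rw [← hk3, smul_inv_smul]
  have hk5 : x₁ • k = k := by
    obtain ⟨j, hj⟩ := hrodd
    have h1 : ∀ n : ℕ, x₁ ^ (2 * n) • k = k := by
      intro n
      induction n with
      | zero => rw [mul_zero, pow_zero, one_smul]
      | succ n ih => rw [mul_add, mul_one, pow_add, ← smul_smul, pow_two, ← smul_smul, hk4, ih]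
    have h3 : x₁ ^ (2 * j + 1) • k = k := by rw [← hj, hx₁, one_smul]
    rwa [pow_succ', ← smul_smul, h1] at h3
  have hk6 : sg r x₁ k = 0 := by rw [hk, sg_add, hss hx₁, h2]
  have hk7 : k = 0 := by rw [← hk6]; exact (sg_of_fix h2 hrodd hk5).symm
  have hk8 : m + a₁ • m = sg r x₁ (m + a₁ • m) := hdd (hk ▸ hk7)
  rw [hk8]
  exact smul_sg hx₁ _

end Core

end Cfsg.Agent.Omega.Lie.OddQ4

end

section


/-!
# NODE LIE, `q = 4` (#12397, helper844; referee #12569): `A` centralises `O(H⁰)`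
-/

set_option autoImplicit false

namespace Cfsg.Agent.Omega.Lie.OddQ4

open Subgroup
open scoped commutatorElement
open OddPart (eq_one_of_inv)

section main

variable {G : Type*} [Group G]

/-- Reduction to weight elements with commuting conjugates (the first half of `OddPart.centralizes`,
helper843): `A` elementary abelian 2-group, `T ≤ N(A)` semiregular on the hyperplanes of `A`, `R` solvable
of odd order normalised by `A` and `T`. If `A` centralises every `x ∈ R` which is centralised or inverted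
by every element of `A` and whose `T`-conjugates commute, then `A` centralises `R`. -/
theorem reduce [Finite G] {A T : Subgroup G} (hA : ∀ a ∈ A, a * a = 1)
    (hTA : T ≤ normalizer (A : Set G))
    (hsemi : ∀ t ∈ T, t ≠ 1 → ∀ B : Subgroup G, B ≤ A → B.relIndex A = 2 → ∃ b ∈ B, t * b * t⁻¹ ∉ B) :
    ∀ (n : ℕ) (R : Subgroup G), Nat.card R ≤ n → Odd (Nat.card R) → Group.IsSolvable R →
      A ≤ normalizer (R : Set G) → T ≤ normalizer (R : Set G) →
      (∀ x ∈ R, (∀ a ∈ A, a * x * a⁻¹ = x ∨ a * x * a⁻¹ = x⁻¹) →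
        (∀ s ∈ T, ∀ t ∈ T, (s * x * s⁻¹) * (t * x * t⁻¹) = (t * x * t⁻¹) * (s * x * s⁻¹)) →
        ∀ a ∈ A, a * x = x * a) →
      ∀ x ∈ R, ∀ a ∈ A, a * x = x * a := by
  classical
  intro n
  induction n with
  | zero =>
    intro R hR
    exact absurd hR (by have := Nat.card_pos (α := R); omega)
  | succ n ih =>
    intro R hRn hRodd hRs hAR hTR hC
    by_cases hRbot : R = ⊥
    · intro x hx a _
      rw [hRbot, mem_bot] at hx
      rw [hx, mul_one, one_mul]
    have hAc : ∀ a ∈ A, ∀ b ∈ A, a * b = b * a := by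
      intro a ha b hb
      have e1 : a⁻¹ = a := inv_eq_of_mul_eq_one_right (hA a ha)
      have e2 : b⁻¹ = b := inv_eq_of_mul_eq_one_right (hA b hb)
      have e3 : (a * b)⁻¹ = a * b := inv_eq_of_mul_eq_one_right (hA _ (mul_mem ha hb))
      rw [← e3, mul_inv_rev, e1, e2]
    -- the derived subgroup is centralised by `A`
    have hlt : ⁅R, R⁆ < R := by
      refine lt_of_le_of_ne (commutator_le_self R) fun h => ?_
      apply hRbot
      have hc : commutator R = ⊤ := by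
        rw [eq_top_iff, _root_.commutator_def]
        intro x _
        have hx : (x : G) ∈ ⁅R, R⁆ := by rw [h]; exact x.2
        have e : (⁅(⊤ : Subgroup R), (⊤ : Subgroup R)⁆ : Subgroup R).map R.subtype = ⁅R, R⁆ := by
          rw [map_commutator, ← MonoidHom.range_eq_map, R.range_subtype]
        rw [← e] at hx
        obtain ⟨y, hy, hyx⟩ := hx
        have : y = x := Subtype.ext hyx
        rwa [← this]
      have htb : (⊤ : Subgroup R) = ⊥ := by
        obtain ⟨m, hm⟩ := hRs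
        have hall : ∀ k, derivedSeries R k = ⊤ := by
          intro k
          induction k with
          | zero => rfl
          | succ k ihk => rw [derivedSeries_succ, ihk, ← _root_.commutator_def, hc]
        rw [hall m] at hm
        exact hm
      rw [eq_bot_iff]
      intro x hx
      have h2 : (⟨x, hx⟩ : R) ∈ (⊥ : Subgroup R) := by
        rw [← htb]
        exact mem_top _
      rw [mem_bot] at h2 ⊢
      exact congrArg Subtype.val h2
    have hnorm : ∀ {K : Subgroup G}, K ≤ normalizer (R : Set G) →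
        K ≤ normalizer ((⁅R, R⁆ : Subgroup G) : Set G) := by
      intro K hK g hg
      have hgR : R.map (MulAut.conj g).toMonoidHom = R := by
        apply le_antisymm
        · rintro _ ⟨x, hx, rfl⟩
          exact (mem_normalizer_iff.mp (hK hg) x).mp hx
        · intro x hx
          refine ⟨g⁻¹ * x * g, ?_, ?_⟩
          · have := (mem_normalizer_iff.mp (inv_mem (hK hg)) x).mp hx
            simpa using this
          · change g * (g⁻¹ * x * g) * g⁻¹ = x
            group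
      have hgD : (⁅R, R⁆).map (MulAut.conj g).toMonoidHom = ⁅R, R⁆ := by
        rw [map_commutator, hgR]
      rw [mem_normalizer_iff]
      intro x
      constructor
      · intro hx
        rw [← hgD]
        exact ⟨x, hx, rfl⟩
      · intro hx
        rw [← hgD] at hx
        obtain ⟨y, hy, hyx⟩ := hx
        have : y = x := by
          have e : g * y * g⁻¹ = g * x * g⁻¹ := hyx
          exact mul_left_cancel (mul_right_cancel e)
        rwa [← this]
    have hcardlt : Nat.card (⁅R, R⁆ : Subgroup G) < Nat.card R := by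
      have h1 : Nat.card (⁅R, R⁆ : Subgroup G) ∣ Nat.card R := card_dvd_of_le hlt.le
      refine lt_of_le_of_ne (Nat.le_of_dvd Nat.card_pos h1) fun h => ?_
      exact hlt.ne (eq_of_le_of_card_ge hlt.le h.ge)
    have hDsolv : Group.IsSolvable (⁅R, R⁆ : Subgroup G) := by
      have := hRs
      exact Group.isSolvable_of_isSolvable_injective (inclusion_injective hlt.le)
    have hD : ∀ x ∈ (⁅R, R⁆ : Subgroup G), ∀ a ∈ A, a * x = x * a :=
      ih ⁅R, R⁆ (by omega) (Odd.of_dvd_nat hRodd (card_dvd_of_le hlt.le)) hDsolv (hnorm hAR)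
        (hnorm hTR) (fun x hx => hC x (hlt.le hx))
    have hordR : ∀ x ∈ R, Odd (orderOf x) := by
      intro x hx
      refine Odd.of_dvd_nat hRodd ?_
      have : orderOf (⟨x, hx⟩ : R) ∣ Nat.card R := orderOf_dvd_natCard _
      rwa [← Subgroup.orderOf_coe] at this
    -- reduce to weight elements
    have hgen := SignalizersComponents.OddWeights.closure_weights R A hRodd hAc hA
      (fun a ha x hx => (mem_normalizer_iff.mp (hAR ha) x).mp hx)
    suffices hw : ∀ x ∈ R, (∀ a ∈ A, a * x * a⁻¹ = x ∨ a * x * a⁻¹ = x⁻¹) →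
        ∀ a ∈ A, a * x = x * a by
      intro x hx a ha
      have hle : R ≤ centralizer ({a} : Set G) := by
        rw [← hgen, closure_le]
        rintro y ⟨hy, hyw⟩
        rw [SetLike.mem_coe, mem_centralizer_singleton_iff]
        exact (hw y hy hyw a ha).symm
      exact (mem_centralizer_singleton_iff.mp (hle hx)).symm
    intro x hx hxw
    by_contra hcon
    push Not at hcon
    obtain ⟨a₀, ha₀, hxa₀⟩ := hcon
    have hcomm_iff : ∀ a y : G, a * y * a⁻¹ = y ↔ a * y = y * a := by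
      intro a y
      rw [mul_inv_eq_iff_eq_mul]
    -- the hyperplane
    let B : Subgroup G := A ⊓ centralizer ({x} : Set G)
    have hBmem : ∀ a, a ∈ B ↔ a ∈ A ∧ a * x * a⁻¹ = x := by
      intro a
      change a ∈ A ∧ a ∈ centralizer ({x} : Set G) ↔ _
      rw [mem_centralizer_singleton_iff, hcomm_iff]
    have hinv : ∀ a ∈ A, a ∉ B → a * x * a⁻¹ = x⁻¹ := by
      intro a ha haB
      rcases hxw a ha with h | h
      · exact absurd ((hBmem a).mpr ⟨ha, h⟩) haB
      · exact h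
    have hBA : B ≤ A := inf_le_left
    have ha₀B : a₀ ∉ B := by
      intro h
      exact hxa₀ ((hcomm_iff a₀ x).mp ((hBmem a₀).mp h).2)
    have hmulB : ∀ a ∈ A, ∀ b ∈ A, a ∉ B → b ∉ B → a * b ∈ B := by
      intro a ha b hb haB hbB
      rw [hBmem]
      refine ⟨mul_mem ha hb, ?_⟩
      calc a * b * x * (a * b)⁻¹ = a * (b * x * b⁻¹) * a⁻¹ := by group
        _ = (a * x * a⁻¹)⁻¹ := by rw [hinv b hb hbB]; group
        _ = x := by rw [hinv a ha haB, inv_inv]
    have hBidx : B.relIndex A = 2 := by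
      have h1 : (B.subgroupOf A).index = 2 := by
        rw [index_eq_two_iff]
        refine ⟨⟨a₀, ha₀⟩, fun b => ?_⟩
        rw [mem_subgroupOf, mem_subgroupOf]
        change Xor (((b : G) * a₀) ∈ B) ((b : G) ∈ B)
        by_cases hb : (b : G) ∈ B
        · right
          refine ⟨hb, fun h => ha₀B ?_⟩
          have := mul_mem (inv_mem hb) h
          simpa using this
        · left
          exact ⟨hmulB _ b.2 _ ha₀ hb ha₀B, hb⟩
      exact h1
    -- the family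
    let y : T → G := fun t => (t : G) * x * (t : G)⁻¹
    have hyR : ∀ t : T, y t ∈ R := fun t => (mem_normalizer_iff.mp (hTR t.2) x).mp hx
    let σ : T → A → Prop := fun t a => (t : G)⁻¹ * (a : G) * (t : G) ∈ B
    have hTAm : ∀ (t : T) (a : A), (t : G)⁻¹ * (a : G) * (t : G) ∈ A := by
      intro t a
      have := (mem_normalizer_iff.mp (hTA (inv_mem t.2)) (a : G)).mp a.2
      simpa using this
    have hfix : ∀ (t : T) (a : A), σ t a → (a : G) * y t * (a : G)⁻¹ = y t := by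
      intro t a h
      have h1 := ((hBmem _).mp h).2
      calc (a : G) * y t * (a : G)⁻¹
          = (t : G) * (((t : G)⁻¹ * (a : G) * (t : G)) * x * ((t : G)⁻¹ * (a : G) * (t : G))⁻¹) *
            (t : G)⁻¹ := by
            change (a : G) * ((t : G) * x * (t : G)⁻¹) * (a : G)⁻¹ = _
            group
        _ = y t := by rw [h1]
    have hneg : ∀ (t : T) (a : A), ¬ σ t a → (a : G) * y t * (a : G)⁻¹ = (y t)⁻¹ := by
      intro t a h
      have h1 := hinv _ (hTAm t a) h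
      calc (a : G) * y t * (a : G)⁻¹
          = (t : G) * (((t : G)⁻¹ * (a : G) * (t : G)) * x * ((t : G)⁻¹ * (a : G) * (t : G))⁻¹) *
            (t : G)⁻¹ := by
            change (a : G) * ((t : G) * x * (t : G)⁻¹) * (a : G)⁻¹ = _
            group
        _ = (y t)⁻¹ := by
            rw [h1]
            change (t : G) * x⁻¹ * (t : G)⁻¹ = ((t : G) * x * (t : G)⁻¹)⁻¹
            group
    -- different weights
    have hdist : ∀ s t : T, s ≠ t → ∃ a : A, σ s a ∧ ¬ σ t a := by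
      intro s t hst
      have hne : (t : G)⁻¹ * (s : G) ≠ 1 := by
        intro h
        exact hst (Subtype.ext (by
          have := congrArg ((t : G) * ·) h
          simpa using this))
      obtain ⟨b, hb, hbn⟩ := hsemi _ (mul_mem (inv_mem t.2) s.2) hne B hBA hBidx
      refine ⟨⟨(s : G) * b * (s : G)⁻¹, (mem_normalizer_iff.mp (hTA s.2) b).mp (hBA hb)⟩, ?_, ?_⟩
      · change (s : G)⁻¹ * ((s : G) * b * (s : G)⁻¹) * (s : G) ∈ B
        have : (s : G)⁻¹ * ((s : G) * b * (s : G)⁻¹) * (s : G) = b := by group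
        rwa [this]
      · intro h
        apply hbn
        change (t : G)⁻¹ * ((s : G) * b * (s : G)⁻¹) * (t : G) ∈ B at h
        have : (t : G)⁻¹ * ((s : G) * b * (s : G)⁻¹) * (t : G)
            = (t : G)⁻¹ * (s : G) * b * ((t : G)⁻¹ * (s : G))⁻¹ := by group
        rwa [this] at h
    -- the conjugates commute
    have hycomm : ∀ s t : T, y s * y t = y t * y s := by
      intro s t
      by_cases hst : s = t
      · rw [hst]
      obtain ⟨a, hsa, hta⟩ := hdist s t hst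
      set c : G := ⁅y s, y t⁆ with hc
      have hcD : c ∈ (⁅R, R⁆ : Subgroup G) := commutator_mem_commutator (hyR s) (hyR t)
      have h1 : (a : G) * c * (a : G)⁻¹ = c := by
        rw [hcomm_iff]
        exact hD c hcD a a.2
      have h2 : (a : G) * c * (a : G)⁻¹ = ⁅y s, (y t)⁻¹⁆ := by
        rw [hc, commutatorElement_def, commutatorElement_def]
        calc (a : G) * (y s * y t * (y s)⁻¹ * (y t)⁻¹) * (a : G)⁻¹
            = ((a : G) * y s * (a : G)⁻¹) * ((a : G) * y t * (a : G)⁻¹) *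
              ((a : G) * y s * (a : G)⁻¹)⁻¹ * ((a : G) * y t * (a : G)⁻¹)⁻¹ := by group
          _ = _ := by rw [hfix s a hsa, hneg t a hta]
      have h3 : y t * c * (y t)⁻¹ = c⁻¹ := by
        have h4 : c = ⁅y s, (y t)⁻¹⁆ := by rw [← h2, h1]
        calc y t * c * (y t)⁻¹ = y t * ⁅y s, (y t)⁻¹⁆ * (y t)⁻¹ := by rw [← h4]
          _ = c⁻¹ := by
            rw [hc, commutatorElement_def, commutatorElement_def]
            group
      have h5 : c = 1 := eq_one_of_inv (hordR c (hlt.le hcD)) (hordR _ (hyR t)) h3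
      rw [hc, commutatorElement_eq_one_iff_mul_comm] at h5
      exact h5
    exact hxa₀ (hC x hx hxw (fun s hs t ht => hycomm ⟨s, hs⟩ ⟨t, ht⟩) a₀ ha₀)

/-- **#12397**: `q = 4`, `A` centralises every solvable subgroup of odd order normalised by `A` and `t`.
`A` elementary abelian 2-group, `t` of order `3` acting on `A` by scalars of order `3`
(`a · aᵗ · aᵗᵗ = 1`); `Hh ≥ A` normalised by `Y`; `M` the module `W₁/R₁`, `f` the commutator form with
values in `R` (`|R| = 4`); `hkey` = (8.1) and (8.2) of #11043, `hN0` = (N0), `hLN` = LEMMA N of #12098. -/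
theorem centralizes {M R : Type*} [Finite G] [AddCommGroup M] [Finite M] [DistribMulAction G M]
    [AddCommGroup R] (h2 : ∀ m : M, m + m = 0) (hR2 : ∀ s : R, s + s = 0) (hR : 2 < Nat.card R)
    (f : M →+ M →+ R) (halt : ∀ m, f m m = 0) {A Hh Y : Subgroup G} {t : G}
    (hA : ∀ a ∈ A, a * a = 1) (ht3 : t * t * t = 1) (htA : t ∈ normalizer (A : Set G))
    (hfpf : ∀ a ∈ A, a * (t * a * t⁻¹) * (t * t * a * (t * t)⁻¹) = 1)
    (hAY : A ≤ normalizer (Y : Set G)) (htY : t ∈ normalizer (Y : Set G))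
    (hYodd : Odd (Nat.card Y)) (hYs : Group.IsSolvable Y)
    (hAH : A ≤ Hh) (hYH : ∀ y ∈ Y, ∀ a ∈ A, y * a * y⁻¹ ∈ Hh)
    (hinv : ∀ x ∈ Hh, ∀ u v, f (x • u) (x • v) = f u v)
    (hkey : ∀ x ∈ Hh, ∀ v : M, ∀ R₀ : AddSubgroup R, R₀ ≠ ⊤ → (∀ u, f u v ∈ R₀) → x • v = v)
    (hN0 : ∀ a ∈ A, Nat.card
      (Set.range fun m : M => m + a • m + (t * a * t⁻¹) • m + (a * (t * a * t⁻¹)) • m) ≤ 4)
    (hLN : ∀ a ∈ A, a ≠ 1 → ∀ x ∈ Hh, (∀ m : M, x • (m + a • m) = m + a • m) →
      ∀ b ∈ A, x * b * x⁻¹ ∈ A) :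
    ∀ y ∈ Y, ∀ a ∈ A, a * y = y * a := by
  classical
  have hAc : ∀ a ∈ A, ∀ b ∈ A, a * b = b * a := by
    intro a ha b hb
    have e1 : a⁻¹ = a := inv_eq_of_mul_eq_one_right (hA a ha)
    have e2 : b⁻¹ = b := inv_eq_of_mul_eq_one_right (hA b hb)
    have e3 : (a * b)⁻¹ = a * b := inv_eq_of_mul_eq_one_right (hA _ (mul_mem ha hb))
    rw [← e3, mul_inv_rev, e1, e2]
  have htAm : ∀ a ∈ A, t * a * t⁻¹ ∈ A := fun a ha => (mem_normalizer_iff.mp htA a).mp ha
  have htAi : ∀ a ∈ A, t⁻¹ * a * t ∈ A := by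
    intro a ha
    have := (mem_normalizer_iff.mp (inv_mem htA) a).mp ha
    simpa using this
  have ht2 : t * t = t⁻¹ := by rw [eq_inv_iff_mul_eq_one]; exact ht3
  have hordY : ∀ x ∈ Y, Odd (orderOf x) := by
    intro x hx
    refine Odd.of_dvd_nat hYodd ?_
    have : orderOf (⟨x, hx⟩ : Y) ∣ Nat.card Y := orderOf_dvd_natCard _
    rwa [← Subgroup.orderOf_coe] at this
  -- `T = ⟨t⟩`
  have hT : ∀ s ∈ zpowers t, s = 1 ∨ s = t ∨ s = t⁻¹ := by
    intro s hs
    obtain ⟨n, rfl⟩ := mem_zpowers_iff.mp hs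
    have h3 : t ^ (3 : ℤ) = 1 := by
      rw [show (3 : ℤ) = 1 + 1 + 1 by norm_num, zpow_add, zpow_add, zpow_one]
      exact ht3
    have e : n = 3 * (n / 3) + n % 3 := (Int.mul_ediv_add_emod n 3).symm
    have h : n % 3 = 0 ∨ n % 3 = 1 ∨ n % 3 = 2 := by omega
    rw [e, zpow_add, zpow_mul, h3, one_zpow, one_mul]
    rcases h with h | h | h
    · left; rw [h, zpow_zero]
    · right; left; rw [h, zpow_one]
    · right; right
      rw [h, show (2 : ℤ) = 1 + 1 by norm_num, zpow_add, zpow_one]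
      exact ht2
  have hTo : ∀ s ∈ zpowers t, Odd (orderOf s) := by
    intro s hs
    have h3 : s ^ 3 = 1 := by
      have ht : t ^ 3 = 1 := by rw [pow_succ, pow_two]; exact ht3
      rcases hT s hs with rfl | rfl | rfl
      · exact one_pow 3
      · exact ht
      · rw [inv_pow, ht, inv_one]
    exact Odd.of_dvd_nat (by decide) (orderOf_dvd_of_pow_eq_one h3)
  have hTf : ∀ s ∈ zpowers t, s ≠ 1 → ∀ a ∈ A, s * a = a * s → a = 1 := by
    intro s hs hs1 a ha h
    have hta : t * a * t⁻¹ = a := by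
      rcases hT s hs with rfl | rfl | rfl
      · exact absurd rfl hs1
      · rw [h, mul_inv_cancel_right]
      · have h' : a * t = t * a := by
          calc a * t = t * (t⁻¹ * a) * t := by group
            _ = t * (a * t⁻¹) * t := by rw [h]
            _ = t * a := by group
        rw [← h', mul_inv_cancel_right]
    have h1 := hfpf a ha
    have e : t * t * a * (t * t)⁻¹ = t * (t * a * t⁻¹) * t⁻¹ := by group
    rw [e, hta, hta, hA a ha, one_mul] at h1
    exact h1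
  have hsemi := OddPart.semi_of_fpf hA (zpowers_le.mpr htA) hTo hTf
  refine reduce hA (zpowers_le.mpr htA) hsemi (Nat.card Y) Y le_rfl hYodd hYs hAY
    (zpowers_le.mpr htY) ?_
  intro x hx hxw hxc
  by_contra hcon
  push Not at hcon
  obtain ⟨a₀, ha₀, hne⟩ := hcon
  -- an element of prime order
  have hxodd := hordY x hx
  have hx1 : x ≠ 1 := by
    rintro rfl
    exact hne (by rw [mul_one, one_mul])
  have hn1 : orderOf x ≠ 1 := by rwa [Ne, orderOf_eq_one_iff]
  set r : ℕ := (orderOf x).minFac with hr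
  have hrp : r.Prime := Nat.minFac_prime hn1
  have hp : Fact r.Prime := ⟨hrp⟩
  have hrn : r ∣ orderOf x := Nat.minFac_dvd _
  have hrodd : Odd r := Odd.of_dvd_nat hxodd hrn
  have hr2 : r ≠ 2 := by
    rintro h
    rw [h] at hrodd
    exact absurd hrodd (by decide)
  have hpos : 0 < orderOf x := orderOf_pos x
  set w : G := x ^ (orderOf x / r) with hw
  have hwr : w ^ r = 1 := by
    rw [hw, ← pow_mul, Nat.div_mul_cancel hrn, pow_orderOf_eq_one]
  have hw1 : w ≠ 1 := by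
    intro h
    have h1 : orderOf x ∣ orderOf x / r := orderOf_dvd_of_pow_eq_one h
    have h3 : orderOf x / r < orderOf x := Nat.div_lt_self hpos hrp.one_lt
    have h4 : 0 < orderOf x / r := Nat.div_pos (Nat.le_of_dvd hpos hrn) hrp.pos
    exact absurd (Nat.le_of_dvd h4 h1) (by omega)
  have hwY : w ∈ Y := pow_mem hx _
  have hww : ∀ a ∈ A, a * w * a⁻¹ = w ∨ a * w * a⁻¹ = w⁻¹ := by
    intro a ha
    rcases hxw a ha with h | h
    · left
      rw [hw, ← conj_pow, h]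
    · right
      rw [hw, ← conj_pow, h, inv_pow]
  -- nontrivial elements of exponent `r` are not inverted and centralised
  have hnr : ∀ y : G, y ^ r = 1 → y * y = 1 → y = 1 := by
    intro y hy hyy
    obtain ⟨k, hk⟩ := hrodd
    rw [hk, pow_succ, pow_mul, pow_two, hyy, one_pow, one_mul] at hy
    exact hy
  have hnot : ∀ y : G, y ^ r = 1 → y ≠ 1 → y ≠ y⁻¹ := by
    intro y hy hy1 h
    apply hy1
    apply hnr y hy
    nth_rewrite 2 [h]
    exact mul_inv_cancel y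
  have ha₀w : a₀ * w * a₀⁻¹ = w⁻¹ := by
    rcases hxw a₀ ha₀ with h | h
    · exact absurd (mul_inv_eq_iff_eq_mul.mp h) hne
    · rw [hw, ← conj_pow, h, inv_pow]
  -- parity
  have hfi : ∀ a ∈ A, ∀ b ∈ A, a * w * a⁻¹ = w⁻¹ → b * w * b⁻¹ = w⁻¹ → (a * b) * w * (a * b)⁻¹ = w := by
    intro a _ b _ ha hb
    calc (a * b) * w * (a * b)⁻¹ = a * (b * w * b⁻¹) * a⁻¹ := by group
      _ = (a * w * a⁻¹)⁻¹ := by rw [hb]; group
      _ = w := by rw [ha, inv_inv]
  have hff : ∀ a ∈ A, ∀ b ∈ A, a * w * a⁻¹ = w → b * w * b⁻¹ = w → (a * b) * w * (a * b)⁻¹ = w := by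
    intro a _ b _ ha hb
    calc (a * b) * w * (a * b)⁻¹ = a * (b * w * b⁻¹) * a⁻¹ := by group
      _ = w := by rw [hb, ha]
  -- `a₁`
  obtain ⟨a₁, ha₁, p1, p2, p3⟩ : ∃ a₁ ∈ A, a₁ * w * a₁⁻¹ = w ∧
      (t⁻¹ * a₁ * t) * w * (t⁻¹ * a₁ * t)⁻¹ = w⁻¹ ∧ (t * a₁ * t⁻¹) * w * (t * a₁ * t⁻¹)⁻¹ = w⁻¹ := by
    have hb := htAi a₀ ha₀
    have hc := htAm a₀ ha₀
    have hprod : a₀ * ((t⁻¹ * a₀ * t) * (t * a₀ * t⁻¹)) = 1 := by
      have h := hfpf a₀ ha₀
      rw [ht2, inv_inv, mul_assoc] at h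
      rwa [hAc _ hb _ hc]
    have hexp : a₀ = (t⁻¹ * a₀ * t) * (t * a₀ * t⁻¹) := by
      have h := hA a₀ ha₀
      exact mul_left_cancel (h.trans hprod.symm)
    rcases hww _ hb with h | h
    · -- `t⁻¹ a₀ t` centralises
      have hc' : (t * a₀ * t⁻¹) * w * (t * a₀ * t⁻¹)⁻¹ = w⁻¹ := by
        rcases hww _ hc with h' | h'
        · exfalso
          apply hnot w hwr hw1
          have h3 := hff _ hb _ hc h h'
          rw [← hexp] at h3
          rw [← ha₀w, h3]
        · exact h'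
      refine ⟨t⁻¹ * a₀ * t, hb, h, ?_, ?_⟩
      · have e : t⁻¹ * (t⁻¹ * a₀ * t) * t = t * a₀ * t⁻¹ := by
          calc t⁻¹ * (t⁻¹ * a₀ * t) * t = (t⁻¹ * t⁻¹) * a₀ * (t * t) := by group
            _ = t * a₀ * t⁻¹ := by
              have e1 : t⁻¹ * t⁻¹ = t := by
                rw [← mul_inv_rev, ht2, inv_inv]
              rw [e1, ht2]
        rw [e]
        exact hc'
      · have e : t * (t⁻¹ * a₀ * t) * t⁻¹ = a₀ := by group
        rw [e]
        exact ha₀w
    · -- `t⁻¹ a₀ t` inverts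
      have hc' : (t * a₀ * t⁻¹) * w * (t * a₀ * t⁻¹)⁻¹ = w := by
        rcases hww _ hc with h' | h'
        · exact h'
        · exfalso
          apply hnot w hwr hw1
          have h3 := hfi _ hb _ hc h h'
          rw [← hexp] at h3
          rw [← ha₀w, h3]
      refine ⟨t * a₀ * t⁻¹, hc, hc', ?_, ?_⟩
      · have e : t⁻¹ * (t * a₀ * t⁻¹) * t = a₀ := by group
        rw [e]
        exact ha₀w
      · have e : t * (t * a₀ * t⁻¹) * t⁻¹ = t⁻¹ * a₀ * t := by
          calc t * (t * a₀ * t⁻¹) * t⁻¹ = (t * t) * a₀ * (t * t)⁻¹ := by group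
            _ = t⁻¹ * a₀ * t := by rw [ht2, inv_inv]
        rw [e]
        exact h
  -- the data of `core`
  have ha₂ : t * a₁ * t⁻¹ ∈ A := htAm a₁ ha₁
  set a₂ : G := t * a₁ * t⁻¹ with ha₂def
  set x₂ : G := t * w * t⁻¹ with hx₂def
  set x₃ : G := t⁻¹ * w * t with hx₃def
  have hx₂ : x₂ ^ r = 1 := by rw [hx₂def, conj_pow, hwr]; group
  have hx₃ : x₃ ^ r = 1 := by
    have e : x₃ = t⁻¹ * w * (t⁻¹)⁻¹ := by rw [hx₃def, inv_inv]
    rw [e, conj_pow, hwr]
    group
  have hx₂1 : x₂ ≠ 1 := by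
    intro h
    apply hw1
    calc w = t⁻¹ * x₂ * t := by rw [hx₂def]; group
      _ = 1 := by rw [h]; group
  have hx₃1 : x₃ ≠ 1 := by
    intro h
    apply hw1
    calc w = t * x₃ * t⁻¹ := by rw [hx₃def]; group
      _ = 1 := by rw [h]; group
  have hx₂Y : x₂ ∈ Y := (mem_normalizer_iff.mp htY w).mp hwY
  have hx₃Y : x₃ ∈ Y := by
    have := (mem_normalizer_iff.mp (inv_mem htY) w).mp hwY
    rw [inv_inv] at this
    exact this
  have a12 : a₁ * x₂ * a₁⁻¹ = x₂⁻¹ := by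
    calc a₁ * x₂ * a₁⁻¹ = t * ((t⁻¹ * a₁ * t) * w * (t⁻¹ * a₁ * t)⁻¹) * t⁻¹ := by
          rw [hx₂def]; group
      _ = x₂⁻¹ := by rw [p2, hx₂def]; group
  have a13 : a₁ * x₃ * a₁⁻¹ = x₃⁻¹ := by
    calc a₁ * x₃ * a₁⁻¹ = t⁻¹ * ((t * a₁ * t⁻¹) * w * (t * a₁ * t⁻¹)⁻¹) * t := by
          rw [hx₃def]; group
      _ = x₃⁻¹ := by
        change t⁻¹ * (a₂ * w * a₂⁻¹) * t = x₃⁻¹
        rw [p3, hx₃def]; group
  have a22 : a₂ * x₂ * a₂⁻¹ = x₂ := by
    calc a₂ * x₂ * a₂⁻¹ = t * (a₁ * w * a₁⁻¹) * t⁻¹ := by rw [ha₂def, hx₂def]; group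
      _ = x₂ := by rw [p1]
  have htt : t⁻¹ * t⁻¹ = t := by rw [← mul_inv_rev, ht2, inv_inv]
  have a23 : a₂ * x₃ * a₂⁻¹ = x₃⁻¹ := by
    have e : t⁻¹ * (t⁻¹ * a₁ * t) * t = a₂ := by
      calc t⁻¹ * (t⁻¹ * a₁ * t) * t = (t⁻¹ * t⁻¹) * a₁ * (t * t) := by group
        _ = a₂ := by rw [htt, ht2]
    have e' : a₂ * x₃ * a₂⁻¹ = t⁻¹ * ((t⁻¹ * a₁ * t) * w * (t⁻¹ * a₁ * t)⁻¹) * t := by
      rw [← e, hx₃def]
      simp only [mul_inv_rev, inv_inv, mul_assoc, mul_inv_cancel_left]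
    rw [e', p2, hx₃def]
    group
  have hcomm1 : w * x₂ = x₂ * w := by
    have h : Commute x (t * x * t⁻¹) := by
      have h' := hxc 1 (one_mem _) t (mem_zpowers t)
      rw [one_mul, inv_one, mul_one] at h'
      exact h'
    have h' : Commute w ((t * x * t⁻¹) ^ (orderOf x / r)) := h.pow_pow _ _
    rw [conj_pow] at h'
    exact h'.eq
  have hcomm3 : w * x₃ = x₃ * w := by
    have h : Commute x (t⁻¹ * x * (t⁻¹)⁻¹) := by
      have h' := hxc 1 (one_mem _) t⁻¹ (inv_mem (mem_zpowers t))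
      rw [one_mul, inv_one, mul_one] at h'
      exact h'
    have h' : Commute w ((t⁻¹ * x * (t⁻¹)⁻¹) ^ (orderOf x / r)) := h.pow_pow _ _
    rw [conj_pow, inv_inv] at h'
    exact h'.eq
  have hcomm23 : x₂ * x₃ = x₃ * x₂ := by
    have h : Commute (t * x * t⁻¹) (t⁻¹ * x * (t⁻¹)⁻¹) :=
      hxc t (mem_zpowers t) t⁻¹ (inv_mem (mem_zpowers t))
    have h' := h.pow_pow (orderOf x / r) (orderOf x / r)
    rw [conj_pow, conj_pow, inv_inv] at h'
    exact h'.eq
  have t2 : t * x₂ * t⁻¹ = x₃ := by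
    calc t * x₂ * t⁻¹ = (t * t) * w * (t * t)⁻¹ := by rw [hx₂def]; group
      _ = x₃ := by rw [ht2, inv_inv]
  have t3 : t * x₃ * t⁻¹ = w := by rw [hx₃def]; group
  have ta2 : t * a₂ * t⁻¹ = a₁ * a₂ := by
    have h := hfpf a₁ ha₁
    have e : t * t * a₁ * (t * t)⁻¹ = t * a₂ * t⁻¹ := by rw [ha₂def]; group
    rw [e] at h
    have h' := eq_inv_of_mul_eq_one_right h
    rw [h']
    exact inv_eq_of_mul_eq_one_right (hA _ (mul_mem ha₁ ha₂))
  -- membership in `Hh`
  have hmem : ∀ y ∈ Y, y ^ r = 1 → ∀ a ∈ A, a * y * a⁻¹ = y⁻¹ → y ∈ Hh := by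
    intro y hy hyr a ha h
    have h1 : y⁻¹ * y⁻¹ ∈ Hh := by
      have e : y⁻¹ * y⁻¹ = a * (y * a⁻¹ * y⁻¹) := by
        nth_rewrite 1 [← h]
        group
      rw [e]
      exact mul_mem (hAH ha) (hYH y hy _ (inv_mem ha))
    have h3 : y * y ∈ Hh := by
      have := inv_mem h1
      rwa [mul_inv_rev, inv_inv] at this
    obtain ⟨k, hk⟩ := hrodd
    have e : y = (y * y) ^ (k + 1) := by
      rw [← pow_two, ← pow_mul, mul_add, mul_one, show 2 * k + 2 = (2 * k + 1) + 1 by ring, pow_succ,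
        ← hk, hyr, one_mul]
    rw [e]
    exact pow_mem h3 _
  have hwH : w ∈ Hh := hmem w hwY hwr a₂ ha₂ p3
  have hx₂H : x₂ ∈ Hh := hmem x₂ hx₂Y hx₂ a₁ ha₁ a12
  have hx₃H : x₃ ∈ Hh := hmem x₃ hx₃Y hx₃ a₁ ha₁ a13
  have ha₁1 : a₁ ≠ 1 := by
    rintro h
    rw [h, one_mul, inv_one, mul_one] at a12
    exact hnot x₂ hx₂ hx₂1 a12
  have hcore : ∀ m : M, w • (m + a₁ • m) = m + a₁ • m :=
    core hr2 h2 hR2 hR hwr hcomm1 hcomm3 hcomm23 p1 a12 a13 p3 a22 a23 (hA a₂ ha₂)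
      (hAc a₁ ha₁ a₂ ha₂) rfl t2 t3 rfl ta2 (hN0 a₁ ha₁) f halt
      (fun u v => ⟨hinv w hwH u v, hinv x₂ hx₂H u v, hinv x₃ hx₃H u v⟩) (hkey w hwH)
  have h1 := hLN a₁ ha₁ ha₁1 w hwH hcore a₂ ha₂
  have h3 : w * w ∈ A := by
    have e : w * w = (w * a₂ * w⁻¹) * a₂⁻¹ := by
      have e1 : w = (a₂ * w * a₂⁻¹)⁻¹ := by rw [p3, inv_inv]
      nth_rewrite 2 [e1]
      group
    rw [e]
    exact mul_mem h1 (inv_mem ha₂)
  have h4 : (w * w) * (w * w) = 1 := hA _ h3
  have h5 : w * w = 1 := by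
    refine hnr (w * w) ?_ h4
    rw [(Commute.refl w).mul_pow, hwr, one_mul]
  exact hw1 (hnr w hwr h5)

end main

end Cfsg.Agent.Omega.Lie.OddQ4

end

section


/-!
# NODE LIE, `q = 4`: `A` centralises every solvable odd order subgroup of `H⁰` normalised by `A` and `T`

The instance of `OddQ4.centralizes` (#12397) for the real group `H = HQ (R i)`.
-/

set_option autoImplicit false
set_option linter.unusedSectionVars false

namespace Cfsg.Agent.Omega.Lie.OddQ4BT

open Subgroup Cfsg.Agent.Omega.BTwo Cfsg.Agent.Omega.Lie Cfsg.Agent.Omega.Lie.Quot Cfsg.Agent.Omega.Lie.ModQ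

universe u v w

variable {G : Type u} [Group G] {ι : Type w} {V : Subgroup G} {R : ι → Subgroup G} {F : Type v} [Field F]
  {i j : ι} {vv : F → F → G} {w1 w2 t : F → G}

/-- a field of order 4 has an element `w` with `w² + w + 1 = 0` -/
theorem exists_omega [Finite F] (hF : Nat.card F = 4) : ∃ w : F, w ≠ 0 ∧ w ≠ 1 ∧ w * w + w + 1 = 0 := by
  classical
  have := Fintype.ofFinite F
  have h4 : Fintype.card F = 4 := by rw [← Nat.card_eq_fintype_card]; exact hF
  have hlt : ({0, 1} : Finset F).card < Fintype.card F := by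
    refine lt_of_le_of_lt (Finset.card_le_two) ?_
    omega
  obtain ⟨w, hw⟩ : ∃ w, w ∉ ({0, 1} : Finset F) := by
    by_contra hcon
    push Not at hcon
    have h1 : ({0, 1} : Finset F) = Finset.univ := Finset.eq_univ_of_forall hcon
    rw [h1, Finset.card_univ] at hlt
    exact lt_irrefl _ hlt
  rw [Finset.mem_insert, Finset.mem_singleton, not_or] at hw
  refine ⟨w, hw.1, hw.2, ?_⟩
  have h3 : w ^ 3 = 1 := by
    have := FiniteField.pow_card_sub_one_eq_one w hw.1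
    rwa [h4] at this
  have h5 : (w - 1) * (w * w + w + 1) = 0 := by
    have : (w - 1) * (w * w + w + 1) = w ^ 3 - 1 := by ring
    rw [this, h3, sub_self]
  exact (mul_eq_zero.1 h5).resolve_left (sub_ne_zero.2 hw.2)

/-- **#12397**: for `q = 4`, `A` centralises every solvable subgroup of odd order of `H⁰` normalised by `A` and
`T`. -/
theorem centralizes [Finite G] [Finite F] [CharP F 2] (b : BTC V R) (c : Coord V R i j vv w1 w2)
    (τ : TorD V R i j vv t) (hF : Nat.card F = 4) {Y : Subgroup (HQ (R i))} (hY : Y ≤ H0 R i)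
    (hodd : Odd (Nat.card Y)) (hsol : Group.IsSolvable Y) (hA : AA V R i j ≤ normalizer (Y : Set (HQ (R i))))
    (hT : TT τ ≤ normalizer (Y : Set (HQ (R i)))) :
    ∀ y ∈ Y, ∀ a ∈ AA V R i j, a * y = y * a := by
  obtain ⟨w, hw0, hw1, hw⟩ := exists_omega hF
  have h2 : (2 : F) = 0 := CharTwo.two_eq_zero
  have hww : w * w ≠ 0 := mul_ne_zero hw0 hw0
  have hw3 : w * w * w = 1 := by linear_combination (w - 1) * hw
  have hww1 : 1 + w = w * w := by linear_combination hw - (w * w) * h2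
  obtain ⟨M, B, _, _, _, _, _, p, r, f, m⟩ := exists_modQ b.toBT i
  have hfin := m.finite_M
  have hij := c.ne
  have hne : ∃ a : F, a ≠ 0 ∧ a ≠ 1 := ⟨w, hw0, hw1⟩
  have htN := τ.normR hw0
  have htT : pr (R i) ⟨t w, htN⟩ ∈ TT τ := (mem_TT τ).2 ⟨w, hw0, rfl⟩
  have ht2 : t w * t w = t (w * w) := (τ.mul w w hw0 hw0).symm
  have ht3 : t w * t w * t w = 1 := by
    rw [ht2, ← τ.mul _ _ hww hw0, hw3, τ.one]
  refine OddQ4.centralizes (M := M) (R := B) (m.two_M b.toBT) (m.two_B b.toBT) ?_ f (m.f_self b.toBT)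
    (A := AA V R i j) (Hh := HA V R i j) (Y := Y) (t := pr (R i) ⟨t w, htN⟩)
    (fun a ha => A_sq b.toBT hij ha) ?_ ?_ ?_ hA (hT htT) hodd hsol A_le_HA ?_ ?_ ?_ ?_ ?_
  · -- |R i| = 4
    rw [m.card_B]
    have h1 : Nat.card F ≤ Nat.card (R i) := by
      refine Nat.card_le_card_of_injective (fun β : F => (⟨vv β 0, (τ.Ri _).2 ⟨β, rfl⟩⟩ : R i)) ?_
      intro β β' h
      exact (c.v_inj (congrArg Subtype.val h)).1
    omega
  · -- t³ = 1
    rw [← map_mul, ← map_mul]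
    have e : (⟨t w, htN⟩ * ⟨t w, htN⟩ * ⟨t w, htN⟩ : ↥(normalizer (R i : Set G))) = 1 := Subtype.ext ht3
    rw [e, map_one]
  · -- t normalises A
    rw [mem_normalizer_iff]
    intro a
    refine ⟨fun ha => TA_mem b.toBT τ htT ha, fun ha => ?_⟩
    have h1 := TA_mem b.toBT τ (inv_mem htT) ha
    have e : (pr (R i) ⟨t w, htN⟩)⁻¹ * (pr (R i) ⟨t w, htN⟩ * a * (pr (R i) ⟨t w, htN⟩)⁻¹) *
        (pr (R i) ⟨t w, htN⟩)⁻¹⁻¹ = a := by group
    rwa [e] at h1
  · -- 1 + t + t² = 0 on A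
    intro a ha
    obtain ⟨u, hu, rfl⟩ := (mem_AA b.toBT).1 ha
    have h1 := τ.wU' 1 w one_ne_zero hw0 (by rw [hww1]; exact hww) u hu
    have hi1 : (t (w * w))⁻¹ = t w := inv_eq_of_mul_eq_one_left (by rw [← τ.mul _ _ hw0 hww, ← mul_assoc, hw3, τ.one])
    have hi2 : (t w)⁻¹ = t w * t w := inv_eq_of_mul_eq_one_left ht3
    rw [hww1, hi1, τ.one, inv_one, one_mul, mul_one, hi2] at h1
    have hi3 : t (w * w) = (t w)⁻¹ := by rw [← hi1, inv_inv]
    have hi4 : t w = (t w * t w)⁻¹ := by rw [← hi2, inv_inv]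
    have hN := U_le_N b.toBT i j hu
    have h3 : u * (t w * u * (t w)⁻¹) * (t w * t w * u * (t w * t w)⁻¹) ∈ DD V R := by
      have k1 := t_norm_U b.toBT τ hw0 hu
      have hx : (t w * u * (t w)⁻¹) * (u * (t w * t w * u * (t w * t w)⁻¹))⁻¹ ∈ DD V R := by
        have e : t w * u * (t w)⁻¹ * (u * (t w * t w * u * (t w * t w)⁻¹))⁻¹ =
          t w * u * t (w * w) * (u * (t w * t w * u * t w))⁻¹ := by rw [hi3, ← hi4]
        rw [e]; exact h1
      -- `x = t w u (t w)⁻¹`, `y = u u^{t²}`; `x y⁻¹ ∈ D`, want `u x u^{t²} ∈ D`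
      set x := t w * u * (t w)⁻¹ with hxdef
      set z := t w * t w * u * (t w * t w)⁻¹ with hz
      have hxU : x ∈ UU V R j := k1
      have hzU : z ∈ UU V R j := by
        have k2 := t_norm_U b.toBT τ hww hu
        rwa [← ht2] at k2
      have hY : ∀ {y : G}, y ∈ UU V R j → y ∈ YY V R := fun h => UU_le_YY j h
      have hND : ∀ {y : G}, y ∈ UU V R j → y ∈ normalizer (DD V R : Set G) :=
        fun h => b.toBT.NV_le_ND (cen_le_NV V (UU_le_cen j h))
      -- `u x z = [u, x] x u z`, `x (u z)⁻¹ ∈ D`, `(u z)² ∈ D`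
      have k3 := b.toBT.Y_comm (hY hu) (hY hxU)
      have k4 := b.toBT.Y_sq (hY (mul_mem hu hzU))
      have e : u * x * z = (u * x * u⁻¹ * x⁻¹) * (x * (u * z)⁻¹) * ((u * z) * (u * z)) := by group
      rw [e]
      exact mul_mem (mul_mem k3 hx) k4
    have e : pr (R i) ⟨u, hN⟩ * (pr (R i) ⟨t w, htN⟩ * pr (R i) ⟨u, hN⟩ * (pr (R i) ⟨t w, htN⟩)⁻¹) *
        (pr (R i) ⟨t w, htN⟩ * pr (R i) ⟨t w, htN⟩ * pr (R i) ⟨u, hN⟩ *
          (pr (R i) ⟨t w, htN⟩ * pr (R i) ⟨t w, htN⟩)⁻¹) =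
        pr (R i) ⟨u * (t w * u * (t w)⁻¹) * (t w * t w * u * (t w * t w)⁻¹),
          b.toBT.cen_le_N i (b.toBT.D_le_cen h3)⟩ := rfl
    rw [e, pr_eq_one]
    exact b.toBT.W_le_Q i (mem_DD.1 h3 i)
  · -- conjugates
    intro y hy a ha
    exact conj_mem_HA (hY hy) ha
  · intro x hx u v
    exact m.f_act b.toBT (HA_le_H0 b.toBT j hx) u v
  · intro x hx v B₀ hB h
    exact m.key b hij hx hB h
  · intro a ha
    refine le_trans ?_ ((m.card_e τ).trans hF.le)
    have := Finite.of_injective (Subtype.val : m.sb V → M) Subtype.val_injective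
    refine Nat.card_le_card_of_injective (β := m.sb V) (Set.inclusion ?_) (Set.inclusion_injective _)
    rintro _ ⟨c, rfl⟩
    exact m.quad b τ ha htT c
  · intro a ha ha1 x hx h
    exact m.norm_A b hne c τ ha ha1 hx h

end Cfsg.Agent.Omega.Lie.OddQ4BT

end

section


/-!
# NODE LIE, `q ≥ 4`: `A` centralises every solvable odd order subgroup of `H⁰` normalised by `A` and `T`

`q = 4`: `OddQ4BT`. `q ≥ 8`: instance of helper843's `OddPart.centralizes'` (#11541 (2)); `C_H(T)` stabilises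
`e = V / R i`, because `e = Φ(M)`, `Φ = (t_β - 1)(t_{1+β} - 1 - t_β)²` for `β ∉ F_4`.
-/

set_option autoImplicit false
set_option linter.unusedSectionVars false

namespace Cfsg.Agent.Omega.Lie

open Subgroup Cfsg.Agent.Omega.BTwo Cfsg.Agent.Omega.Lie Cfsg.Agent.Omega.Lie.Quot

universe u v w

variable {G : Type u} [Group G] {ι : Type w} {V : Subgroup G} {R : ι → Subgroup G} {F : Type v} [Field F]
  {i j : ι} {vv : F → F → G} {w1 w2 t : F → G}

namespace ModQ

variable {M B : Type u} [AddCommGroup M] [AddCommGroup B]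
  [DistribMulAction (NR R i) M] [DistribMulAction (NR R i) B] [DistribMulAction (HQ (R i)) M] {p : G → M}
  {r : G → B} {f : M →+ M →+ B} (m : ModQ V R i M B p r f)
include m

/-- an element of `H` which stabilises `e` normalises `A` -/
theorem norm_of_stab (b : BT V R) (hij : i ≠ j) {x : HQ (R i)} (h : ∀ d ∈ m.sb V, x • d ∈ m.sb V)
    (h' : ∀ d ∈ m.sb V, x⁻¹ • d ∈ m.sb V) {a : HQ (R i)} (ha : a ∈ AA V R i j) : x * a * x⁻¹ ∈ AA V R i j := by
  obtain ⟨g, hgN, rfl⟩ := exists_pr x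
  have key : ∀ g : NR R i, (∀ d ∈ m.sb V, pr (R i) g • d ∈ m.sb V) → ∀ y ∈ V, (g : G) * y * (g : G)⁻¹ ∈ V := by
    intro g hg y hy
    have hyW := V_le_WW V (R i) hy
    have h1 := hg _ (m.p_mem hyW hy)
    rw [m.act g.2 hyW] at h1
    exact (m.p_mem_iff (conj_mem_of_normalizer (normalizer_le_WW V (R i) g.2) hyW) (b.R_le i)).1 h1
  have hV : g ∈ normalizer (V : Set G) := by
    rw [mem_normalizer_iff]
    refine fun y => ⟨key ⟨g, hgN⟩ h y, fun hy => ?_⟩
    have h2 := key ⟨g, hgN⟩⁻¹ (fun d hd => by rw [map_inv]; exact h' d hd) _ hy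
    have e : (((⟨g, hgN⟩ : NR R i)⁻¹ : NR R i) : G) * (g * y * g⁻¹) *
        (((⟨g, hgN⟩ : NR R i)⁻¹ : NR R i) : G)⁻¹ = y := by
      change g⁻¹ * (g * y * g⁻¹) * g⁻¹⁻¹ = y
      group
    rwa [e] at h2
  obtain ⟨u, hu, rfl⟩ := (mem_AA b).1 ha
  rw [← im_Y b hij]
  have h3 : g * u * g⁻¹ ∈ YY V R := conj_mem_of_normalizer (b.NV_le_NY hV) (UU_le_YY j hu)
  exact pr_mem_im (mul_mem (mul_mem hgN (U_le_N b i j hu)) (inv_mem hgN)) h3

/-- the torus elements in `H` -/
def tq (τ : TorD V R i j vv t) {a : F} (ha : a ≠ 0) : HQ (R i) := pr (R i) ⟨t a, τ.normR ha⟩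

omit m in
theorem tq_mem (τ : TorD V R i j vv t) {a : F} (ha : a ≠ 0) : tq τ ha ∈ TT τ := (mem_TT τ).2 ⟨a, ha, rfl⟩

theorem tq_act (τ : TorD V R i j vv t) {a : F} (ha : a ≠ 0) {x : G} (hx : x ∈ WW V (R i)) :
    tq τ ha • p x = p (t a * x * (t a)⁻¹) := m.act (τ.normR ha) hx

/-- `W i / U i` has weight 2, `U i / D` weight 1 -/
theorem drop (τ : TorD V R i j vv t) {β : F} (hβ : β ≠ 0) (hβ1 : 1 + β ≠ 0) {x : G}
    (hx : x ∈ WW V (R i)) {X : Subgroup G}
    (h : t (1 + β) * x * (t (1 + β))⁻¹ * (t 1 * x * (t 1)⁻¹ * (t β * x * (t β)⁻¹))⁻¹ ∈ X) :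
    tq τ hβ1 • p x - (p x + tq τ hβ • p x) ∈ m.sb X := by
  have hn : ∀ {a : F}, a ≠ 0 → t a * x * (t a)⁻¹ ∈ WW V (R i) := fun ha =>
    conj_mem_of_normalizer (normalizer_le_WW V (R i) (τ.normR ha)) hx
  have h1 : t 1 * x * (t 1)⁻¹ = x := by rw [τ.one]; group
  rw [h1] at h
  rw [m.tq_act τ hβ1 hx, m.tq_act τ hβ hx, ← m.p_mul _ hx _ (hn hβ), sub_eq_add_neg,
    ← m.p_inv (mul_mem hx (hn hβ)), ← m.p_mul _ (hn hβ1) _ (inv_mem (mul_mem hx (hn hβ)))]
  exact m.p_mem (mul_mem (hn hβ1) (inv_mem (mul_mem hx (hn hβ)))) h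

/-- `C_H(T)` stabilises `e`, `q ≥ 8` -/
theorem stab_e [Finite F] (b : BTC V R) (τ : TorD V R i j vv t) (h5 : 5 ≤ Nat.card F) {x : HQ (R i)}
    (hx : ∀ s ∈ TT τ, s * x * s⁻¹ = x) : ∀ d ∈ m.sb V, x • d ∈ m.sb V := by
  obtain ⟨β, hβ, hβ1, hβ3⟩ := exists_outside h5
  have htwo : ∀ a : F, a + a = 0 := fun a => τ.two b.toBT a
  have hneg : ∀ a : F, -a = a := fun a => (eq_neg_of_add_eq_zero_left (htwo a)).symm
  have hβ2 : 1 + β ≠ 0 := by
    intro h
    apply hβ1
    have h1 := eq_neg_of_add_eq_zero_right h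
    rw [h1, hneg]
  set s2 := tq τ hβ2 with hs2
  set s := tq τ hβ with hs
  -- the operators
  let Dp : M → M := fun a => s2 • a - (a + s • a)
  let Φ : M → M := fun a => s • Dp (Dp a) - Dp (Dp a)
  have hcomm : ∀ {z : HQ (R i)}, z ∈ TT τ → ∀ a : M, z • x • a = x • z • a := by
    intro z hz a
    have h1 := hx z hz
    rw [mul_inv_eq_iff_eq_mul] at h1
    rw [smul_smul, smul_smul, h1]
  have hD : ∀ a : M, Dp (x • a) = x • Dp a := by
    intro a
    change s2 • x • a - (x • a + s • x • a) = x • (s2 • a - (a + s • a))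
    rw [hcomm (tq_mem τ hβ2), hcomm (tq_mem τ hβ), smul_sub, smul_add]
  have hΦx : ∀ a : M, Φ (x • a) = x • Φ a := by
    intro a
    change s • Dp (Dp (x • a)) - Dp (Dp (x • a)) = x • (s • Dp (Dp a) - Dp (Dp a))
    rw [hD, hD, hcomm (tq_mem τ hβ)]
    exact (smul_sub x _ _).symm
  have hDU : ∀ a : M, Dp a ∈ m.sb (UU V R i) := by
    intro a
    obtain ⟨w, hw, rfl⟩ := m.p_surj a
    exact m.drop τ hβ hβ2 hw (τ.wW 1 β one_ne_zero hβ hβ2 w hw)
  have hDD : ∀ a ∈ m.sb (UU V R i), Dp a ∈ m.sb (DD V R) := by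
    rintro _ ⟨w, hw, hwW, rfl⟩
    exact m.drop τ hβ hβ2 hwW (τ.wU 1 β one_ne_zero hβ hβ2 w hw)
  have hΦe : ∀ a : M, Φ a ∈ m.sb V := by
    intro a
    obtain ⟨d, hd, hdW, e⟩ := hDD _ (hDU a)
    change s • Dp (Dp a) - Dp (Dp a) ∈ m.sb V
    have hn : t β * d * (t β)⁻¹ ∈ WW V (R i) :=
      conj_mem_of_normalizer (normalizer_le_WW V (R i) (τ.normR hβ)) hdW
    rw [← e, m.tq_act τ hβ hdW, sub_eq_add_neg, ← m.p_inv hdW, ← m.p_mul _ hn _ (inv_mem hdW)]
    exact m.p_mem (mul_mem hn (inv_mem hdW)) (b.XD (τ.memX β hβ) hd)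
  -- `Φ` on `e`
  have hv : ∀ y z, vv y z ∈ V := fun y z => (τ.v_mem _).2 ⟨_, _, rfl⟩
  have hvW : ∀ y z, vv y z ∈ WW V (R i) := fun y z => V_le_WW V (R i) (hv y z)
  have hp0 : ∀ y z, p (vv y z) = p (vv 0 z) := by
    intro y z
    rw [m.p_eq_iff (hvW _ _) (hvW _ _)]
    have h1 := τ.v_add y 0 0 z
    rw [add_zero, zero_add] at h1
    rw [h1, mul_inv_cancel_right]
    exact (τ.Ri _).2 ⟨y, rfl⟩
  have hpa : ∀ z z', p (vv 0 z) + p (vv 0 z') = p (vv 0 (z + z')) := by
    intro z z'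
    rw [← m.p_mul _ (hvW _ _) _ (hvW _ _), ← τ.v_add, add_zero]
  have hpn : ∀ z, - p (vv 0 z) = p (vv 0 z) := fun z =>
    (eq_neg_of_add_eq_zero_left (m.two_M b.toBT _)).symm
  have hts : ∀ {a : F} (ha : a ≠ 0) (z : F), tq τ ha • p (vv 0 z) = p (vv 0 (a⁻¹ * z)) := by
    intro a ha z
    rw [m.tq_act τ ha (hvW _ _), τ.act a 0 z ha, mul_zero]
  have hDe : ∀ z, Dp (p (vv 0 z)) = p (vv 0 (((1 + β)⁻¹ + (1 + β⁻¹)) * z)) := by
    intro z
    change s2 • p (vv 0 z) - (p (vv 0 z) + s • p (vv 0 z)) = _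
    rw [hts, hts, hpa, sub_eq_add_neg, hpn, hpa]
    congr 2
    ring
  have hΦv : ∀ z, Φ (p (vv 0 z)) = p (vv 0 ((β⁻¹ + 1) * (((1 + β)⁻¹ + (1 + β⁻¹)) *
      (((1 + β)⁻¹ + (1 + β⁻¹)) * z)))) := by
    intro z
    change s • Dp (Dp (p (vv 0 z))) - Dp (Dp (p (vv 0 z))) = _
    rw [hDe, hDe, hts, sub_eq_add_neg, hpn, hpa]
    congr 2
    ring
  have hκ : (1 + β)⁻¹ + (1 + β⁻¹) ≠ 0 := by
    intro h
    apply hβ3
    have h1 : β + ((1 + β) * β + (1 + β)) = 0 := by
      have h2 : (1 + β) * β * ((1 + β)⁻¹ + (1 + β⁻¹)) = β + ((1 + β) * β + (1 + β)) := by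
        field_simp
      rw [← h2, h, mul_zero]
    have h3 : β + β = 0 := htwo β
    linear_combination h1 - h3
  have hκ' : β⁻¹ + 1 ≠ 0 := by
    intro h
    apply hβ1
    have h1 := eq_neg_of_add_eq_zero_left h
    rw [hneg] at h1
    rw [← inv_inv β, h1, inv_one]
  generalize (1 + β)⁻¹ + (1 + β⁻¹) = κ at hκ hΦv
  generalize β⁻¹ + 1 = κ' at hκ' hΦv
  intro d hd
  obtain ⟨y, hy, -, rfl⟩ := hd
  obtain ⟨y1, z, rfl⟩ := (τ.v_mem y).1 hy
  have h1 : p (vv y1 z) = Φ (p (vv 0 (κ⁻¹ * (κ⁻¹ * (κ'⁻¹ * z))))) := by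
    rw [hΦv, hp0]
    congr 2
    field_simp
  rw [h1, ← hΦx]
  exact hΦe _

/-- `C_H(T)` normalises `A`, `q ≥ 8` -/
theorem cen_T_norm_A [Finite F] (b : BTC V R) (τ : TorD V R i j vv t) (h5 : 5 ≤ Nat.card F) {x : HQ (R i)}
    (hx : ∀ s ∈ TT τ, s * x * s⁻¹ = x) : x ∈ normalizer (AA V R i j : Set (HQ (R i))) := by
  have hx' : ∀ s ∈ TT τ, s * x⁻¹ * s⁻¹ = x⁻¹ := by
    intro s hs
    have h1 := hx s hs
    calc s * x⁻¹ * s⁻¹ = (s * x * s⁻¹)⁻¹ := by group
      _ = x⁻¹ := by rw [h1]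
  have h1 := m.stab_e b τ h5 hx
  have h2 := m.stab_e b τ h5 hx'
  rw [mem_normalizer_iff]
  intro a
  refine ⟨fun ha => m.norm_of_stab b.toBT τ.ne h1 h2 ha, fun ha => ?_⟩
  have h3 := m.norm_of_stab (x := x⁻¹) b.toBT τ.ne h2 (by rw [inv_inv]; exact h1) ha
  have e : x⁻¹ * (x * a * x⁻¹) * x⁻¹⁻¹ = a := by group
  rwa [e] at h3

end ModQ

namespace OddAll

theorem odd_TT (τ : TorD V R i j vv t) {s : HQ (R i)} (hs : s ∈ TT τ) : Odd (orderOf s) := by
  obtain ⟨a, ha, rfl⟩ := (mem_TT τ).1 hs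
  have h1 : orderOf (pr (R i) ⟨t a, τ.normR ha⟩) ∣ orderOf (⟨t a, τ.normR ha⟩ : ↥(normalizer (R i : Set G))) :=
    orderOf_map_dvd _ _
  rw [← Subgroup.orderOf_coe] at h1
  exact (τ.odd a ha).of_dvd_nat h1

/-- **#11541 (2), #12397**: `A` centralises every solvable subgroup of odd order of `H⁰` normalised by `A`
and `T`. -/
theorem centralizes [Finite G] [Finite F] [CharP F 2] (b : BTC V R) (c : Coord V R i j vv w1 w2)
    (τ : TorD V R i j vv t) (hF : 4 ≤ Nat.card F) {Y : Subgroup (HQ (R i))} (hY : Y ≤ H0 R i)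
    (hodd : Odd (Nat.card Y)) (hsol : Group.IsSolvable Y) (hA : AA V R i j ≤ normalizer (Y : Set (HQ (R i))))
    (hT : TT τ ≤ normalizer (Y : Set (HQ (R i)))) :
    ∀ y ∈ Y, ∀ a ∈ AA V R i j, a * y = y * a := by
  rcases hF.lt_or_eq with h5 | h4
  · obtain ⟨M, B, _, _, _, _, _, p, r, f, m⟩ := exists_modQ b.toBT i
    have hsq : ∀ a ∈ AA V R i j, a * a = 1 := fun a ha => A_sq b.toBT c.ne ha
    have hTA : TT τ ≤ normalizer (AA V R i j : Set (HQ (R i))) := by
      intro s hs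
      rw [mem_normalizer_iff]
      intro a
      refine ⟨fun ha => TA_mem b.toBT τ hs ha, fun ha => ?_⟩
      have h1 := TA_mem b.toBT τ (inv_mem hs) ha
      have e : s⁻¹ * (s * a * s⁻¹) * s⁻¹⁻¹ = a := by group
      rwa [e] at h1
    refine OddPart.centralizes' hsq hTA ?_ hodd hsol hA hT fun x _ hx => m.cen_T_norm_A b τ h5 hx
    refine OddPart.semi_of_fpf hsq hTA (fun s hs => odd_TT τ hs) ?_
    intro s hs hs1 a ha h
    by_contra ha1
    apply hs1
    refine T_reg b.toBT τ c.ne ha ha1 hs ?_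
    rw [h, mul_inv_cancel_right]
  · exact OddQ4BT.centralizes b c τ h4.symm hY hodd hsol hA hT

end OddAll

end Cfsg.Agent.Omega.Lie

end
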