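import Cfsg.Agent.Mrg.Omega.Lie.LQThm
import Cfsg.Agent.Omega.Lie.TwoEnd
import Cfsg.Agent.Mrg.Omega.Lie.ExoComp
import Mathlib
import Cfsg.Agent.Omega.Lie.CenTwo

section


/-!
# (T2) of TEXT LIE-1 (bb OMEGA #12098) in the frame `Cub`

`T` normalises every component `K` with `[K, A] ≠ 1` which has (INV5), i.e. the output `Three` of the combinatorics
is impossible.
-/

set_option autoImplicit false

namespace Cfsg.Agent.Omega.Lie.TwoMain

open Subgroup Cfsg.Agent.Omega.Lie.CompT Cfsg.Agent.Omega.Lie.LQ Cfsg.Agent.Omega.Lie.InvFive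

variable {H M : Type*} [Group H] [CommGroup M]

/-- `H` acts on `Additive M`. -/
@[reducible] def act (ρ : H →* MulAut M) : DistribMulAction H (Additive M) where
  smul h m := Additive.ofMul (ρ h m.toMul)
  one_smul m := by
    change Additive.ofMul (ρ 1 m.toMul) = m
    rw [map_one, MulAut.one_apply, ofMul_toMul]
  mul_smul g h m := by
    change Additive.ofMul (ρ (g * h) m.toMul) = Additive.ofMul (ρ g (ρ h m.toMul))
    rw [map_mul, MulAut.mul_apply]
  smul_zero h := by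
    change Additive.ofMul (ρ h 1) = 0
    rw [map_one, ofMul_one]
  smul_add h m n := by
    change Additive.ofMul (ρ h (m.toMul * n.toMul)) = Additive.ofMul (ρ h m.toMul) + Additive.ofMul (ρ h n.toMul)
    rw [map_mul, ofMul_mul]

/-- Every 2-element of `K` is conjugate into the maximal 2-subgroup `P` of `K`. -/
theorem exists_conj [Finite H] {K P : Subgroup H} (hP2 : IsPGroup 2 P) (hPK : P ≤ K)
    (hmax : ∀ Q : Subgroup H, Q ≤ K → IsPGroup 2 Q → P ≤ Q → Q ≤ P) {y : H} (hy : y ∈ K) (hy2 : y * y = 1) :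
    ∃ k ∈ K, k * y * k⁻¹ ∈ P := by
  have : Fact (Nat.Prime 2) := ⟨Nat.prime_two⟩
  -- `P` as a Sylow subgroup of `K`
  have hP2' : IsPGroup 2 (P.subgroupOf K) := hP2.comap_of_injective K.subtype K.subtype_injective
  obtain ⟨P0, hP0⟩ := hP2'.exists_le_sylow
  have hP0' : (P0 : Subgroup K) = P.subgroupOf K := by
    refine le_antisymm ?_ hP0
    have h1 : (P0 : Subgroup K).map K.subtype ≤ P := by
      refine hmax _ (map_subtype_le _) (P0.isPGroup'.map K.subtype) ?_
      intro x hx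
      exact ⟨⟨x, hPK hx⟩, hP0 (mem_subgroupOf.2 hx), rfl⟩
    intro x hx
    exact mem_subgroupOf.2 (h1 ⟨x, hx, rfl⟩)
  -- a Sylow subgroup containing `y`
  have hy2' : IsPGroup 2 (zpowers (⟨y, hy⟩ : K)) := by
    rintro ⟨x, hx⟩
    obtain ⟨m, rfl⟩ := mem_zpowers_iff.1 hx
    refine ⟨1, Subtype.ext ?_⟩
    change ((⟨y, hy⟩ : K) ^ m) ^ 2 ^ 1 = 1
    have h1 : (⟨y, hy⟩ : K) ^ (2 : ℕ) = 1 := by
      rw [pow_two]; exact Subtype.ext hy2
    rw [pow_one, ← zpow_natCast, ← zpow_mul, mul_comm, zpow_mul, zpow_natCast, h1, one_zpow]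
  obtain ⟨Q, hQ⟩ := hy2'.exists_le_sylow
  obtain ⟨k, hk⟩ := MulAction.exists_smul_eq K Q P0
  refine ⟨k, k.2, ?_⟩
  have h1 : k * ⟨y, hy⟩ * k⁻¹ ∈ (k • Q : Sylow 2 K) := ⟨⟨y, hy⟩, hQ (mem_zpowers _), rfl⟩
  rw [hk] at h1
  have h2 : k * ⟨y, hy⟩ * k⁻¹ ∈ P.subgroupOf K := hP0' ▸ h1
  exact mem_subgroupOf.1 h2

/-- **(T2), the end for components with (INV5)**: `T` is regular on three conjugates of `K`. -/
theorem three_false [Finite H] [Finite M] {ρ : H →* MulAut M} {A T : Subgroup H} {e : Subgroup M}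
    (c : Cub ρ A T e) (he : Nat.card e ≤ Nat.card T + 1) (hA : ∀ a ∈ A, a * a = 1) {S K : Subgroup H}
    (hK : Cfsg.IsQuasisimple K) (hZ : ∀ z ∈ K, (∀ y ∈ K, z * y = y * z) → z * z = 1 → z = 1)
    (hAK : ∀ a ∈ A, ∀ x ∈ K, a * x * a⁻¹ ∈ K) (hS2 : IsPGroup 2 S)
    (syl : ∀ Q : Subgroup H, Q ≤ K → IsPGroup 2 Q → S ⊓ K ≤ Q → Q ≤ S)
    (h3 : Three A T K (S ⊓ K)) (hinv : InvFive K) : False := by
  obtain ⟨t, ht, ht1, ht3, htt1, htt, -⟩ := h3.gen
  have htt' : t * t ∈ T := T.mul_mem ht ht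
  have htti : t * t = t⁻¹ := eq_inv_of_mul_eq_one_left ht3
  -- the elements
  obtain ⟨y0, g0, r, q1, q2, q3, q4, q5, q6⟩ := hinv
  obtain ⟨k, hk, hkP⟩ := exists_conj (P := S ⊓ K) (hS2.to_le inf_le_left) inf_le_right
    (fun Q h1 h2 h4 => le_inf (syl Q h1 h2 h4) h1) y0.2 (congrArg Subtype.val q1)
  obtain ⟨y, hy⟩ : ∃ y, y = k * (y0 : H) * k⁻¹ := ⟨_, rfl⟩
  obtain ⟨g, hg⟩ : ∃ g, g = k * (g0 : H) * k⁻¹ := ⟨_, rfl⟩
  have hyP : y ∈ S ⊓ K := hy ▸ hkP
  have hyK : y ∈ K := hyP.2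
  have hgK : g ∈ K := hg ▸ K.mul_mem (K.mul_mem hk g0.2) (K.inv_mem hk)
  have hyy : y * y = 1 := h3.sq y hyP
  have hyg : y * g * y⁻¹ = g⁻¹ := by
    have h1 : (y0 : H) * g0 * (y0 : H)⁻¹ = (g0 : H)⁻¹ := congrArg Subtype.val q2
    rw [hy, hg]
    calc k * (y0 : H) * k⁻¹ * (k * g0 * k⁻¹) * (k * y0 * k⁻¹)⁻¹ = k * ((y0 : H) * g0 * (y0 : H)⁻¹) * k⁻¹ := by group
      _ = (k * (g0 : H) * k⁻¹)⁻¹ := by rw [h1]; group
  have hgr : g ^ r = 1 := by
    have h1 : (g0 : H) ^ r = 1 := congrArg Subtype.val q5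
    rw [hg, conj_pow, h1, mul_one, mul_inv_cancel]
  have hg1 : g ≠ 1 := by
    intro h
    apply q6
    rw [hg] at h
    exact Subtype.ext (conj_eq_one_iff.1 h)
  -- the conjugates commute with `K`
  have hcom : ∀ s ∈ T, s ≠ 1 → ∀ x ∈ K, ∀ z ∈ K, x * (s * z * s⁻¹) = s * z * s⁻¹ * x := by
    intro s hs hs1 x hx z hz
    have := h3.com 1 T.one_mem s hs hs1.symm x hx z hz
    simpa using this
  have hperf : ⁅K, K⁆ = K := by
    have h1 := hK.1.commutator_eq_top
    have h2 : (commutator K).map K.subtype = K := by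
      rw [h1, ← MonoidHom.range_eq_map, range_subtype]
    rw [commutator_def, map_commutator, ← MonoidHom.range_eq_map, range_subtype] at h2
    exact h2
  have d : TwoEnd.Dat K t y g r :=
    { t3 := ht3
      comm := hcom t ht ht1
      qs := by
        intro L hLK hL
        have hn : (L.subgroupOf K).Normal := ⟨fun n hn z => hL z z.2 n hn⟩
        rcases Cub.normal_or hK (L.subgroupOf K) with h | h
        · left
          exact le_antisymm hLK fun x hx => h ⟨x, hx⟩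
        · right
          intro l hl z hz
          exact h ⟨l, hLK hl⟩ hl z hz
      perf := hperf
      yK := hyK
      y2 := hyy
      gK := hgK
      inv := hyg
      pr := q3
      five := q4
      gr := hgr
      g1 := hg1 }
  -- `a`, `b`
  have haA : TwoEnd.Dat.a t y ∈ A := by
    have h1 := h3.mem y hyP t ht _ htt'
    have e1 : TwoEnd.Dat.a t y = t * y * t⁻¹ * (t * t * y * (t * t)⁻¹) := by
      unfold TwoEnd.Dat.a; rw [htti, inv_inv]
    exact e1 ▸ h1
  have hba : TwoEnd.Dat.b t y = t * TwoEnd.Dat.a t y * t⁻¹ := by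
    unfold TwoEnd.Dat.a TwoEnd.Dat.b
    have e2 : t * (t * y * t⁻¹) * t⁻¹ = t⁻¹ * y * t := by
      calc t * (t * y * t⁻¹) * t⁻¹ = (t * t) * y * (t * t)⁻¹ := by group
        _ = t⁻¹ * y * t := by rw [htti, inv_inv]
    calc t⁻¹ * y * t * y = t * (t * y * t⁻¹) * t⁻¹ * y := by rw [e2]
      _ = t * (t * y * t⁻¹ * (t⁻¹ * y * t)) * t⁻¹ := by group
  have haK : ∀ k ∈ K, TwoEnd.Dat.a t y * k = k * TwoEnd.Dat.a t y := fun k hk => (d.comm_a hk).symm
  have hycen : ¬ ∀ k ∈ K, y * k = k * y := fun h => d.g_mul_ne (h g hgK).symm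
  have hy1 : y ≠ 1 := by
    rintro rfl
    exact hycen fun k _ => by rw [one_mul, mul_one]
  have hbA : TwoEnd.Dat.b t y ∈ A := by
    have := h3.mem y hyP _ htt' 1 T.one_mem
    have e1 : TwoEnd.Dat.b t y = t * t * y * (t * t)⁻¹ * (1 * y * 1⁻¹) := by
      unfold TwoEnd.Dat.b; rw [htti, inv_inv]; group
    exact e1 ▸ this
  have hne : ∃ a ∈ A, ∃ x ∈ K, a * x ≠ x * a := by
    push Not at hycen
    obtain ⟨x, hx, hyx⟩ := hycen
    refine ⟨TwoEnd.Dat.b t y, hbA, x, hx, fun h1 => hyx ?_⟩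
    have h4 := d.comm' hx hyK
    have h5 : t⁻¹ * y * t * (y * x) = t⁻¹ * y * t * (x * y) := by
      calc t⁻¹ * y * t * (y * x) = TwoEnd.Dat.b t y * x := by unfold TwoEnd.Dat.b; group
        _ = x * TwoEnd.Dat.b t y := h1
        _ = x * (t⁻¹ * y * t) * y := by unfold TwoEnd.Dat.b; group
        _ = t⁻¹ * y * t * (x * y) := by rw [h4]; group
    exact mul_left_cancel h5
  have ha1 : TwoEnd.Dat.a t y ≠ 1 := by
    intro h1
    rw [hba, h1, mul_one, mul_inv_cancel] at hbA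
    -- `b = 1` centralises `K`
    have hb1 : TwoEnd.Dat.b t y = 1 := by rw [hba, h1, mul_one, mul_inv_cancel]
    apply hycen
    intro x hx
    have h4 := d.comm' hx hyK
    unfold TwoEnd.Dat.b at hb1
    have h5 : y = (t⁻¹ * y * t)⁻¹ := eq_inv_of_mul_eq_one_right hb1
    have h6 : Commute x (t⁻¹ * y * t) := h4
    have h7 := h6.inv_right.eq
    rw [← h5] at h7
    exact h7.symm
  -- `K` acts nontrivially on `[M, a]`
  have hnt : ∃ m, ρ y (br (ρ (TwoEnd.Dat.a t y)) m) ≠ br (ρ (TwoEnd.Dat.a t y)) m := by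
    by_contra hcon
    push Not at hcon
    exact hycen (c.central_of_cen hA hK hZ hAK hne haA ha1 haK hyK hcon)
  let _ := act ρ
  have hD : ∀ (x : H) (m : Additive M), TwoEnd.D x m = Additive.ofMul (br (ρ x) m.toMul) := by
    intro x m
    change Additive.ofMul (ρ x m.toMul) - m = Additive.ofMul (ρ x m.toMul * m.toMul)
    have h1 : -m = m := by
      have := c.sq2 m.toMul
      have h2 : m + m = 0 := this
      exact neg_eq_of_add_eq_zero_left h2
    rw [sub_eq_add_neg, h1]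
    rfl
  refine d.false_of (M := Additive M) (fun m => c.sq2 m.toMul) ?_ ?_
  · -- (N0)
    refine le_trans ?_ (he.trans_eq (by rw [h3.card]))
    have h1 : ∀ v ∈ TwoEnd.cm (TwoEnd.cm (⊤ : AddSubgroup (Additive M)) (TwoEnd.Dat.a t y)) (TwoEnd.Dat.b t y),
        Additive.toMul v ∈ e := by
      rintro v ⟨w, ⟨m, -, rfl⟩, rfl⟩
      rw [hD, hD, hba]
      exact c.line0 _ haA t ht _
    refine Nat.card_le_card_of_injective (fun v => (⟨Additive.toMul v.1, h1 v.1 v.2⟩ : e)) ?_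
    intro v w hvw
    exact Subtype.ext (congrArg (fun z : e => Additive.ofMul (z : M)) hvw)
  · obtain ⟨m, hm⟩ := hnt
    refine ⟨y, hyK, Additive.ofMul (br (ρ (TwoEnd.Dat.a t y)) m), ⟨Additive.ofMul m, AddSubgroup.mem_top _, ?_⟩, ?_⟩
    · rw [hD]; rfl
    · exact fun h => hm h

/-- **(T2)**: `T` normalises every component `K` with `[K, A] ≠ 1` and (INV5). -/
theorem torus_le [Finite H] [Finite M] {ρ : H →* MulAut M} {A T : Subgroup H} {e : Subgroup M}
    (c : Cub ρ A T e) (he : Nat.card e ≤ Nat.card T + 1) (sc : Scal A T) (hT : 3 ≤ Nat.card T) {S K : Subgroup H}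
    (hK : Cfsg.IsComponent K) (hZ : ∀ z ∈ K, (∀ y ∈ K, z * y = y * z) → z * z = 1 → z = 1)
    (hAK : ∀ a ∈ A, ∀ x ∈ K, a * x * a⁻¹ ∈ K) (hS2 : IsPGroup 2 S) (hS1 : S ⊓ K ≠ ⊥)
    (syl : ∀ Q : Subgroup H, Q ≤ K → IsPGroup 2 Q → S ⊓ K ≤ Q → Q ≤ S)
    (hSA : ∀ x ∈ S, ∀ t ∈ T, x⁻¹ * (t * x * t⁻¹) ∈ A)
    (hinv : (∀ x ∈ S ⊓ K, x * x = 1) → InvFive K) : T ≤ Subgroup.normalizer (K : Set H) := by
  have hZ' : ∀ x ∈ S ⊓ K, (∀ y ∈ K, x * y = y * x) → x = 1 := by
    intro x hx hc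
    obtain ⟨n, hn⟩ := hS2 ⟨x, hx.1⟩
    have hn' : x ^ 2 ^ n = 1 := congrArg Subtype.val hn
    induction n with
    | zero => simpa using hn'
    | succ n ih =>
      have h1 : x ^ 2 ^ n = 1 := by
        refine hZ _ (K.pow_mem hx.2 _) (fun y hy => ?_) ?_
        · exact (Commute.pow_left (hc y hy : Commute x y) _).eq
        · rw [← pow_two, ← pow_mul, ← pow_succ]; exact hn'
      exact ih (Subtype.ext h1) h1
  rcases torus_component sc hT hK hS1 hZ' hSA with h | h
  · exact h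
  · exact (three_false c he sc.sq hK.2 hZ hAK hS2 syl h (hinv h.sq)).elim

end Cfsg.Agent.Omega.Lie.TwoMain

end

section


/-!
# (h1), SPLIT: the components of `H⁰` not centralised by `A`, abstract form, in `M' = M / rad = W i / Z(W i)`

`CubS`: the structure `LQ.Cub` without the field `nrm` (it may fail for `M'`), with the flag `e ≤ D`, `P = e^⊥`.

* `false_of_cen`: a component `K` with `[K, A] ≠ 1`, `A ⊓ K` one line, `C_A(K) ≠ 1`, cannot centralise `[M', a]` for all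
  `a ∈ C_A(K)`;
* `three_cen`: the same for the exceptional case `Three` of (T2);
* `false_of_pair`, `three_false`, `three_false_of_pair`, `torus_le`: the results of `LQThm.lean` and `TwoMain.lean` for `CubS`.
-/

set_option autoImplicit false

namespace Cfsg.Agent.Omega.Lie.LQS

open Subgroup Cfsg.Agent.Omega.Lie.CompT Cfsg.Agent.Omega.Lie.LQ Cfsg.Agent.Omega.Lie.InvFive

universe u v

variable {H : Type u} {M : Type v} [Group H] [CommGroup M]

theorem eq_br (sq2 : ∀ m : M, m * m = 1) (g : MulAut M) (m : M) : g m = br g m * m := by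
  rw [br_apply, mul_assoc, sq2, mul_one]

/-- `[m, g h] = [g⁻¹..]`: `br (g h) m = br g (h m) * br h m` -/
theorem br_mul (sq2 : ∀ m : M, m * m = 1) (g h : MulAut M) (m : M) : br (g * h) m = br g (h m) * br h m := by
  rw [br_apply, br_apply, br_apply, MulAut.mul_apply]
  calc g (h m) * m = g (h m) * (h m * h m) * m := by rw [sq2, mul_one]
    _ = g (h m) * h m * (h m * m) := by rw [← mul_assoc, mul_assoc (g (h m) * h m)]

theorem br_conj (g h : MulAut M) (m : M) : br (g * h * g⁻¹) m = g (br h (g⁻¹ m)) := by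
  rw [br_apply, br_apply, map_mul, MulAut.mul_apply, MulAut.mul_apply]
  congr 1
  rw [← MulAut.mul_apply, mul_inv_cancel, MulAut.one_apply]

/-- `K` perfect, trivial on `N₁ / N₂` and on `N₂`: trivial on `N₁` -/
theorem fix_of_perfect (ρ : H →* MulAut M) (sq2 : ∀ m : M, m * m = 1) {K : Subgroup H} (hK : commutator K = ⊤)
    {N₁ N₂ : Subgroup M} (h12 : N₂ ≤ N₁) (h1 : ∀ k ∈ K, ∀ x ∈ N₁, br (ρ k) x ∈ N₂)
    (h2 : ∀ k ∈ K, ∀ x ∈ N₂, ρ k x = x) : ∀ k ∈ K, ∀ x ∈ N₁, ρ k x = x := by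
  have hst : ∀ k ∈ K, ∀ x ∈ N₁, ρ k x ∈ N₁ := by
    intro k hk x hx
    rw [eq_br sq2]
    exact mul_mem (h12 (h1 k hk x hx)) hx
  have hcomm : ∀ k ∈ K, ∀ l ∈ K, ∀ x ∈ N₁, ρ k (ρ l x) = ρ l (ρ k x) := by
    intro k hk l hl x hx
    calc ρ k (ρ l x) = ρ k (br (ρ l) x * x) := by rw [← eq_br sq2]
      _ = br (ρ l) x * (br (ρ k) x * x) := by rw [map_mul, h2 k hk _ (h1 l hl x hx), ← eq_br sq2]
      _ = br (ρ k) x * (br (ρ l) x * x) := mul_left_comm _ _ _
      _ = ρ l (br (ρ k) x * x) := by rw [map_mul, h2 l hl _ (h1 k hk x hx), ← eq_br sq2]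
      _ = ρ l (ρ k x) := by rw [← eq_br sq2]
  let N : Subgroup K :=
    { carrier := {k | ∀ x ∈ N₁, ρ (k : H) x = x}
      one_mem' := fun x _ => by simp
      mul_mem' := by
        intro k l hk hl x hx
        rw [coe_mul, map_mul, MulAut.mul_apply, hl x hx, hk x hx]
      inv_mem' := by
        intro k hk x hx
        have h3 := hk x hx
        rw [coe_inv, map_inv]
        have h4 := congrArg (fun z => (ρ (k : H))⁻¹ z) h3
        have h5 : (ρ (k : H))⁻¹ (ρ (k : H) x) = x := by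
          rw [← MulAut.mul_apply, inv_mul_cancel, MulAut.one_apply]
        exact (h5.symm.trans h4).symm }
  have hN : commutator K ≤ N := by
    rw [commutator_def, commutator_le]
    intro k _ l _ x hx
    have e : ((k * l * k⁻¹ * l⁻¹ : K) : H) = k * l * (k : H)⁻¹ * (l : H)⁻¹ := by
      rw [coe_mul, coe_mul, coe_mul, coe_inv, coe_inv]
    change ρ ((k * l * k⁻¹ * l⁻¹ : K) : H) x = x
    rw [e]
    have hy := hst _ (K.inv_mem l.2) x hx
    have hz := hst _ (K.inv_mem k.2) _ hy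
    have h3 := hcomm k k.2 l l.2 _ hz
    rw [map_mul, map_mul, map_mul, MulAut.mul_apply, MulAut.mul_apply, MulAut.mul_apply, h3]
    have h4 : ∀ (g : H) (z : M), ρ g (ρ g⁻¹ z) = z := by
      intro g z
      rw [← MulAut.mul_apply, ← map_mul, mul_inv_cancel, map_one, MulAut.one_apply]
    rw [h4, h4]
  intro k hk x hx
  have h3 : (⟨k, hk⟩ : K) ∈ N := hN (by rw [hK]; exact mem_top _)
  exact h3 x hx

/-- the fixed points of `K` -/
def fixed (ρ : H →* MulAut M) (K : Subgroup H) : Subgroup M where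
  carrier := {x | ∀ k ∈ K, ρ k x = x}
  one_mem' := fun k _ => map_one _
  mul_mem' := fun {x y} hx hy k hk => by rw [map_mul, hx k hk, hy k hk]
  inv_mem' := fun {x} hx k hk => by rw [map_inv, hx k hk]

/-- a perfect group acting unipotently is trivial -/
theorem triv_of_unip (ρ : H →* MulAut M) (sq2 : ∀ m : M, m * m = 1) {K : Subgroup H} (hK : commutator K = ⊤)
    (h : ∀ k₁ ∈ K, ∀ k₂ ∈ K, ∀ k₃ ∈ K, ∀ m, br (ρ k₃) (br (ρ k₂) (br (ρ k₁) m)) = 1) :
    ∀ k ∈ K, ∀ m, ρ k m = m := by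
  let N₁ : Subgroup M :=
    { carrier := {x | ∀ k ∈ K, br (ρ k) x ∈ fixed ρ K}
      one_mem' := fun k _ => by rw [map_one]; exact one_mem _
      mul_mem' := fun {x y} hx hy k hk => by rw [map_mul]; exact mul_mem (hx k hk) (hy k hk)
      inv_mem' := fun {x} hx k hk => by rw [map_inv]; exact inv_mem (hx k hk) }
  have h12 : fixed ρ K ≤ N₁ := by
    intro x hx k hk
    rw [(br_eq_one sq2).2 (hx k hk)]
    exact one_mem _
  have h1 := fix_of_perfect ρ sq2 hK h12 (fun k hk x hx => hx k hk) (fun k hk x hx => hx k hk)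
  have h2 : ∀ k ∈ K, ∀ m, br (ρ k) m ∈ fixed ρ K := by
    intro k hk m l hl
    refine h1 l hl _ ?_
    intro k₂ hk₂ k₃ hk₃
    exact (br_eq_one sq2).1 (h k hk k₂ hk₂ k₃ hk₃ m)
  intro k hk m
  exact fix_of_perfect ρ sq2 hK (N₁ := ⊤) le_top (fun k hk x _ => h2 k hk x) (fun k hk x hx => hx k hk) k hk m
    (mem_top m)

/-- an element of `K` centralising `[M, a]` is central, if `K` does not centralise `[M, a]` -/
theorem central_of_cen {ρ : H →* MulAut M} {K : Subgroup H} (hK : Cfsg.IsQuasisimple K) {a : H}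
    (haK : ∀ k ∈ K, a * k = k * a) (hn : ¬ ∀ k ∈ K, ∀ m, ρ k (br (ρ a) m) = br (ρ a) m) {x : H} (hx : x ∈ K)
    (h : ∀ m, ρ x (br (ρ a) m) = br (ρ a) m) : ∀ y ∈ K, x * y = y * x := by
  have := Cub.cenBr_normal ρ haK
  rcases Cub.normal_or hK (Cub.cenBr ρ a K) with h2 | h2
  · exact absurd (fun k hk m => h2 ⟨k, hk⟩ m) hn
  · exact h2 ⟨x, hx⟩ h

/-- The cubic module `M' = W i / Z(W i)` for `H = N(R i) / Q i`, `L = H⁰`, `A = U j Q i / Q i`, `T` the torus,
`e = V Z / Z`, `D = D Z / Z`, `P = U i / Z = e^⊥`. -/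
structure CubS (ρ : H →* MulAut M) (L A T : Subgroup H) (e D P : Subgroup M) : Prop where
  sq2 : ∀ m : M, m * m = 1
  Ae : ∀ a ∈ A, ∀ m ∈ e, ρ a m = m
  line0 : ∀ a ∈ A, ∀ t ∈ T, ∀ m, br (ρ (t * a * t⁻¹)) (br (ρ a) m) ∈ e
  line1 : ∀ a ∈ A, ∀ b ∈ A, ∀ t ∈ T, ∀ m,
    ρ (t * b * t⁻¹) (br (ρ b) (br (ρ a) m)) = br (ρ b) (br (ρ a) m)
  full : ∀ a ∈ A, ∀ b ∈ A, (∃ m, br (ρ b) (br (ρ a) m) ≠ 1) → ∀ y ∈ e, ∃ m, y = br (ρ b) (br (ρ a) m)
  same : ∀ a ∈ A, ∀ b ∈ A, ∀ t ∈ T, (∃ m, br (ρ b) (br (ρ a) m) ≠ 1) →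
    (∃ m, br (ρ (t * b * t⁻¹)) (br (ρ a) m) ≠ 1) →
    ∀ m, ∃ m', br (ρ b) (br (ρ a) m) = br (ρ (t * b * t⁻¹)) (br (ρ a) m')
  /-- `e ≤ [M', a]` -/
  sub : ∀ a ∈ A, a ≠ 1 → ∀ x ∈ e, ∃ m, x = br (ρ a) m
  faith : ∀ a ∈ A, (∀ m, ρ a m = m) → a = 1
  brP : ∀ h ∈ L, (∀ x ∈ e, ρ h x = x) → ∀ m, br (ρ h) m ∈ P
  bre : ∀ h ∈ L, (∀ x ∈ P, ρ h x = x) → ∀ m, br (ρ h) m ∈ e
  eP : e ≤ P
  PD : ∀ a ∈ A, ∀ x ∈ P, br (ρ a) x ∈ D
  De : ∀ a ∈ A, ∀ x ∈ D, br (ρ a) x ∈ e
  Te : ∀ t ∈ T, ∀ x ∈ D, br (ρ t) x ∈ e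
  gen : ∀ m, m ∉ P → ∀ x ∈ P, ∃ a ∈ A, ∃ d ∈ D, x = br (ρ a) m * d
  exP : ∃ m, m ∉ P
  card : (∃ a ∈ A, ∀ b ∈ A, b ≠ 1 → ∃ t ∈ T, b = t * a * t⁻¹) → Nat.card M ≤ (Nat.card T + 1) ^ 4

namespace CubS

variable {ρ : H →* MulAut M} {L A T : Subgroup H} {e D P : Subgroup M}

/-- **THEOREM LQ** in `H`. -/
theorem lq (c : CubS ρ L A T e D P) {a b b' x : H} (ha : a ∈ A) (hb : b ∈ A) (hb' : b' ∈ A) (hx : Odd (orderOf x))
    (xa : x * a = a * x) (bx : b * x = x⁻¹ * b) (xb' : x * b' = b' * x)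
    (hor : (∃ t ∈ T, b' = t * b * t⁻¹) ∨ ∃ t ∈ T, b = t * a * t⁻¹)
    (hne : ∃ m, br (ρ b') (br (ρ a) m) ≠ 1) (m : M) : ρ x (br (ρ a) m) = br (ρ a) m := by
  refine LQ.lq c.sq2 (b := ρ b) (b' := ρ b') (hx.of_dvd_nat (orderOf_map_dvd ρ x)) (Cub.rho_comm ρ xa)
    (Cub.rho_comm ρ xb') ?_ ?_ ?_ m
  · rw [← map_inv, ← map_mul, ← map_mul, bx]
  · rcases hor with ⟨t, ht, rfl⟩ | ⟨t, ht, rfl⟩
    · exact c.line1 a ha b hb t ht
    · intro m
      exact c.Ae b' hb' _ (c.line0 a ha t ht m)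
  · rcases hor with ⟨t, ht, rfl⟩ | ⟨t, ht, rfl⟩
    · intro m
      by_cases h : ∃ m, br (ρ b) (br (ρ a) m) ≠ 1
      · exact c.same a ha b hb t ht h hne m
      · push Not at h
        exact ⟨1, by rw [h, map_one, map_one]⟩
    · intro m
      exact c.full a ha b' hb' hne _ (c.line0 a ha t ht m)

/-- **the replacement of `nrm`**: `K` does not centralise all `[M', a]`, `a ∈ C_A(K)`, if `C_A(K) ≠ 1` -/
theorem false_of_cen (c : CubS ρ L A T e D P) (hA : ∀ a ∈ A, a * a = 1) {K B : Subgroup H}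
    (hK : Cfsg.IsQuasisimple K) (hKL : K ≤ L) (hZ : ∀ z ∈ K, (∀ y ∈ K, z * y = y * z) → z * z = 1 → z = 1)
    (hBA : B ≤ A) (hBK : B ≤ K) {b0 : H} (hb0 : b0 ∈ B) (hb01 : b0 ≠ 1)
    (hdec : ∀ a ∈ A, ∃ b ∈ B, ∃ c ∈ A, (∀ x ∈ K, c * x = x * c) ∧ a = b * c)
    (hline : ∀ b ∈ B, ∀ b' ∈ B, ∀ m, br (ρ b) (br (ρ b') m) ∈ e)
    (hcen : ∀ a ∈ A, (∀ k ∈ K, a * k = k * a) → ∀ k ∈ K, ∀ m, ρ k (br (ρ a) m) = br (ρ a) m)
    (hex : ∃ a ∈ A, a ≠ 1 ∧ ∀ k ∈ K, a * k = k * a) : False := by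
  obtain ⟨a, ha, ha1, haK⟩ := hex
  have hperf : commutator K = ⊤ := hK.1.commutator_eq_top
  -- `K` centralises `e`
  have hKe : ∀ k ∈ K, ∀ x ∈ e, ρ k x = x := by
    intro k hk x hx
    obtain ⟨m, rfl⟩ := c.sub a ha ha1 x hx
    exact hcen a ha haK k hk m
  have hKP : ∀ k ∈ K, ∀ m, br (ρ k) m ∈ P := fun k hk => c.brP k (hKL hk) (hKe k hk)
  have hst : ∀ k ∈ K, ∀ x ∈ P, ρ k x ∈ P := by
    intro k hk x hx
    rw [eq_br c.sq2]
    exact mul_mem (hKP k hk x) hx
  -- `[P, B] ≤ e`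
  have hPB : ∀ b ∈ B, ∀ y ∈ P, br (ρ b) y ∈ e := by
    intro b hb y hy
    obtain ⟨m, hm⟩ := c.exP
    obtain ⟨a', ha', d, hd, rfl⟩ := c.gen m hm y hy
    obtain ⟨b', hb', c', hc', hcK, rfl⟩ := hdec a' ha'
    have h1 : br (ρ b) (br (ρ c') m) = 1 := (br_eq_one c.sq2).2 (hcen c' hc' hcK b (hBK hb) m)
    rw [map_mul (br (ρ b)), map_mul ρ, br_mul c.sq2, map_mul (br (ρ b)), h1, mul_one]
    exact mul_mem (hline b hb b' hb' _) (c.De b (hBA hb) d hd)
  -- the normal subgroup `{k : [P, k] ≤ e}` of `K`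
  let N : Subgroup K :=
    { carrier := {k | ∀ y ∈ P, br (ρ (k : H)) y ∈ e}
      one_mem' := fun y _ => by
        rw [coe_one, map_one, br_apply, MulAut.one_apply, c.sq2]
        exact one_mem _
      mul_mem' := by
        intro k l hk hl y hy
        rw [coe_mul, map_mul, br_mul c.sq2]
        exact mul_mem (hk _ (hst l l.2 y hy)) (hl y hy)
      inv_mem' := by
        intro k hk y hy
        have h1 := hk _ (hst _ (K.inv_mem k.2) y hy)
        rw [coe_inv]
        have h2 : br (ρ (k : H)) (ρ (k : H)⁻¹ y) = br (ρ (k : H)⁻¹) y := by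
          rw [br_apply, br_apply, ← MulAut.mul_apply, ← map_mul, mul_inv_cancel, map_one, MulAut.one_apply, mul_comm]
        rw [← h2]
        exact h1 }
  have hNn : N.Normal := by
    refine ⟨fun k hk g y hy => ?_⟩
    rw [coe_mul, coe_mul, coe_inv, map_mul, map_mul, map_inv, br_conj]
    have h1 : (ρ (g : H))⁻¹ y ∈ P := by
      rw [← map_inv]
      exact hst _ (K.inv_mem g.2) y hy
    have h2 := hk _ h1
    rw [hKe _ g.2 _ h2]
    exact h2
  have hN : ∀ k ∈ K, ∀ y ∈ P, br (ρ k) y ∈ e := by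
    rcases Cub.normal_or hK N with h | h
    · exact fun k hk => h ⟨k, hk⟩
    · exfalso
      exact hb01 (hZ b0 (hBK hb0) (h ⟨b0, hBK hb0⟩ (fun y hy => hPB b0 hb0 y hy)) (hA b0 (hBA hb0)))
  have hP := fix_of_perfect ρ c.sq2 hperf c.eP hN hKe
  have hM := fix_of_perfect ρ c.sq2 hperf (N₁ := ⊤) (N₂ := e) le_top
    (fun k hk x _ => c.bre k (hKL hk) (hP k hk) x) hKe
  exact hb01 (c.faith b0 (hBA hb0) fun m => hM b0 (hBK hb0) m (mem_top m))

/-- **(alpha)**: `b`, `b' = b^t` distinct involutions of `A ⊓ K`: `K` centralises `[M', a]`, `a ∈ C_A(K)` -/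
theorem alpha (c : CubS ρ L A T e D P) (hA : ∀ a ∈ A, a * a = 1) {K : Subgroup H}
    (hK : Cfsg.IsQuasisimple K) (hZ : ∀ z ∈ K, (∀ y ∈ K, z * y = y * z) → z * z = 1 → z = 1)
    (hp : Pair K) {b t : H} (hb : b ∈ A) (hbK : b ∈ K) (hb1 : b ≠ 1) (ht : t ∈ T) (hb' : t * b * t⁻¹ ∈ A)
    (hbK' : t * b * t⁻¹ ∈ K) (hbb : t * b * t⁻¹ ≠ b)
    {a : H} (ha : a ∈ A) (haK : ∀ k ∈ K, a * k = k * a) : ∀ k ∈ K, ∀ m, ρ k (br (ρ a) m) = br (ρ a) m := by
  by_contra hn
  have hcomm : b * (t * b * t⁻¹) = t * b * t⁻¹ * b := by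
    have i1 : b⁻¹ = b := inv_eq_of_mul_eq_one_left (hA b hb)
    have i2 : (t * b * t⁻¹)⁻¹ = t * b * t⁻¹ := inv_eq_of_mul_eq_one_left (hA _ hb')
    have i3 : (b * (t * b * t⁻¹))⁻¹ = b * (t * b * t⁻¹) := inv_eq_of_mul_eq_one_left (hA _ (A.mul_mem hb hb'))
    rw [_root_.mul_inv_rev, i1, i2] at i3
    exact i3.symm
  have hb1' : t * b * t⁻¹ ≠ 1 := fun h => hb1 (conj_eq_one_iff.1 h)
  obtain ⟨x, hx1, hxo, hbx, hxb⟩ := hp ⟨b, hbK⟩ ⟨_, hbK'⟩ (fun h => hb1 (congrArg Subtype.val h))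
    (fun h => hb1' (congrArg Subtype.val h)) (fun h => hbb (congrArg Subtype.val h).symm)
    (Subtype.ext (hA b hb)) (Subtype.ext (hA _ hb')) (Subtype.ext hcomm)
  have hxo' : Odd (orderOf (x : H)) := by rwa [Subgroup.orderOf_coe]
  have hbx' : b * (x : H) = (x : H)⁻¹ * b := congrArg Subtype.val hbx
  have hxb' : (x : H) * (t * b * t⁻¹) = t * b * t⁻¹ * x := congrArg Subtype.val hxb
  have hnt : ∃ m, br (ρ (t * b * t⁻¹)) (br (ρ a) m) ≠ 1 := by
    by_contra hcon
    push Not at hcon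
    have h1 := central_of_cen hK haK hn hbK' (fun m => (br_eq_one c.sq2).1 (hcon m))
    exact hb1' (hZ _ hbK' h1 (hA _ hb'))
  have h1 := c.lq ha hb hb' hxo' (haK x x.2).symm hbx' hxb' (Or.inl ⟨t, ht, rfl⟩) hnt
  have h2 := central_of_cen hK haK hn x.2 h1
  exact hx1 (Subtype.ext (Cub.eq_one_of_inv hbK hxo' hbx' h2))

/-- **THEOREM of TEXT LIE-2** for `CubS` -/
theorem false_of_pair [Finite H] [Finite M] (c : CubS ρ L A T e D P) (sc : Scal A T) (hT : 3 ≤ Nat.card T)
    {S K : Subgroup H} (h : CompB.Hyp S A T K) (hK : Cfsg.IsQuasisimple K) (hKL : K ≤ L)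
    (hne : ∃ a ∈ A, ∃ x ∈ K, a * x ≠ x * a) {j : ℕ} (hj : j ≤ 3) (hS : Nat.card (S ⊓ K : Subgroup H) ≤ 2 ^ j)
    (hp : Pair K) (ho : NoAct.{u, v} K (4 * j)) : False := by
  have hA : ∀ a ∈ A, a * a = 1 := h.A2
  have hZ : ∀ z ∈ K, (∀ y ∈ K, z * y = y * z) → z * z = 1 → z = 1 :=
    fun z hz hc h2 => eq_one_of_sq_odd (h.zodd z hz hc) h2
  set B := A ⊓ K with hB
  have hBS : B ≤ S ⊓ K := inf_le_inf_right _ h.AS
  have hBc : Nat.card B ≤ 2 ^ j := (Subgroup.card_le_of_le hBS).trans hS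
  have hB8 : Nat.card B ≤ 8 := hBc.trans (by
    calc 2 ^ j ≤ 2 ^ 3 := Nat.pow_le_pow_right (by norm_num) hj
      _ = 8 := by norm_num)
  have hTB : ∀ t ∈ T, ∀ b ∈ B, t * b * t⁻¹ ∈ B := fun t ht b hb => ⟨h.TA t ht b hb.1, h.TK t ht b hb.2⟩
  have hBne := h.inf_ne_bot hne
  obtain ⟨b, hb, hb1⟩ : ∃ b ∈ B, b ≠ 1 := by
    by_contra hcon
    push Not at hcon
    exact hBne ((Subgroup.eq_bot_iff_forall B).2 hcon)
  obtain ⟨hcB, hline⟩ := Cub.one_line sc hT inf_le_left hTB hB8 hb hb1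
  by_cases hC : ∃ a ∈ A, a ≠ 1 ∧ ∀ k ∈ K, a * k = k * a
  · -- (alpha)
    have hnt : ∃ t ∈ T, t ≠ 1 := by
      by_contra hcon
      push Not at hcon
      have : Nat.card T = 1 := by
        rw [Subgroup.card_eq_one, eq_bot_iff]
        exact fun t ht => mem_bot.2 (hcon t ht)
      omega
    obtain ⟨t, ht, ht1⟩ := hnt
    refine c.false_of_cen hA hK hKL hZ (B := B) inf_le_left inf_le_right hb hb1 (fun a ha => h.decomp ha) ?_ ?_ hC
    · -- one line
      intro b₁ hb₁ b₂ hb₂ m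
      by_cases h1 : b₁ = 1
      · rw [h1, map_one, br_apply, MulAut.one_apply, c.sq2]; exact one_mem _
      by_cases h2 : b₂ = 1
      · have h3 : br (ρ b₂) m = 1 := by rw [h2, map_one, br_apply, MulAut.one_apply, c.sq2]
        rw [h3, map_one]; exact one_mem _
      obtain ⟨t₁, ht₁, e₁⟩ := hline b₁ hb₁ h1
      obtain ⟨t₂, ht₂, e₂⟩ := hline b₂ hb₂ h2
      have h3 : b₁ = (t₁ * t₂⁻¹) * b₂ * (t₁ * t₂⁻¹)⁻¹ := by rw [e₁, e₂]; group
      rw [h3]
      exact c.line0 b₂ hb₂.1 _ (T.mul_mem ht₁ (T.inv_mem ht₂)) m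
    · intro a ha haK
      exact c.alpha hA hK hZ hp hb.1 hb.2 hb1 ht (hTB t ht b hb).1 (hTB t ht b hb).2
        (fun h' => ht1 (sc.reg b hb.1 hb1 t ht h')) ha haK
  · -- (beta)
    push Not at hC
    have hAB : Nat.card A = Nat.card B := by
      rw [h.card_eq]
      have : A ⊓ centralizer (K : Set H) = ⊥ := by
        rw [eq_bot_iff]
        intro a ha
        rw [mem_bot]
        by_contra ha1
        obtain ⟨k, hk, hak⟩ := hC a ha.1 ha1
        exact hak (mem_centralizer_iff.1 ha.2 k hk).symm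
      rw [this, card_bot, mul_one]
    have hBA : B = A := Subgroup.eq_of_le_of_card_ge inf_le_left hAB.le
    have hcM := c.card ⟨b, hb.1, fun b' hb' hb1' => hline b' (hBA.symm.le hb') hb1'⟩
    rw [← hcB] at hcM
    refine hb1 (c.faith b hb.1 fun m => ?_)
    refine ho M c.sq2 (hcM.trans ?_) (ρ.comp K.subtype) ⟨b, hb.2⟩ m
    calc Nat.card B ^ 4 ≤ (2 ^ j) ^ 4 := Nat.pow_le_pow_left hBc _
      _ = 2 ^ (4 * j) := by rw [← pow_mul, mul_comm]

/-- **(T2), the new case**: `K` centralises `[M', y₂ y₃]` -/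
theorem three_cen (c : CubS ρ L A T e D P) {K Q : Subgroup H} (hK : Cfsg.IsQuasisimple K) (hKL : K ≤ L)
    (hZ : ∀ z ∈ K, (∀ y ∈ K, z * y = y * z) → z * z = 1 → z = 1) (h3 : Three A T K Q) {t : H} (ht : t ∈ T)
    (ht1 : t ≠ 1) (htt1 : t * t ≠ 1) (htt : t * t ≠ t) {y : H} (hy : y ∈ Q) (hyK : y ∈ K) (hy1 : y ≠ 1)
    (hcen : ∀ k ∈ K, ∀ m, ρ k (br (ρ (t * y * t⁻¹ * (t * t * y * (t * t)⁻¹))) m) =
      br (ρ (t * y * t⁻¹ * (t * t * y * (t * t)⁻¹))) m) : False := by
  have hperf : commutator K = ⊤ := hK.1.commutator_eq_top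
  have htt' : t * t ∈ T := T.mul_mem ht ht
  obtain ⟨y2, hy2⟩ : ∃ w, w = t * y * t⁻¹ := ⟨_, rfl⟩
  obtain ⟨y3, hy3⟩ : ∃ w, w = t * t * y * (t * t)⁻¹ := ⟨_, rfl⟩
  rw [← hy2, ← hy3] at hcen
  have haA : y2 * y3 ∈ A := by
    rw [hy2, hy3]
    exact h3.mem y hy t ht _ htt'
  -- the conjugates by `t` commute with `K`
  have hcom : ∀ s ∈ T, s ≠ 1 → ∀ z ∈ K, ∀ k ∈ K, s * z * s⁻¹ * k = k * (s * z * s⁻¹) := by
    intro s hs hs1 z hz k hk
    have := h3.com s hs 1 T.one_mem hs1 z hz k hk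
    simpa using this
  -- `y3` commutes with `t K t⁻¹`
  have hy3t : ∀ k ∈ K, y3 * (t * k * t⁻¹) = t * k * t⁻¹ * y3 := by
    intro k hk
    rw [hy3]
    exact h3.com _ htt' t ht htt y hyK k hk
  have hycen : ¬ ∀ k ∈ K, y * k = k * y := fun h => hy1 (hZ y hyK h (h3.sq y hy))
  have ha1 : y2 * y3 ≠ 1 := by
    intro h1
    apply hycen
    intro k hk
    have e1 : y2 = y3⁻¹ := eq_inv_of_mul_eq_one_left h1
    have e3 : Commute y3 (t * k * t⁻¹) := hy3t k hk
    have e4 := e3.inv_left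
    rw [← e1, hy2] at e4
    have e5 : t * y * t⁻¹ * (t * k * t⁻¹) = t * k * t⁻¹ * (t * y * t⁻¹) := e4
    calc y * k = t⁻¹ * (t * y * t⁻¹ * (t * k * t⁻¹)) * t := by group
      _ = t⁻¹ * (t * k * t⁻¹ * (t * y * t⁻¹)) * t := by rw [e5]
      _ = k * y := by group
  -- `K` centralises `e`
  have hKe : ∀ k ∈ K, ∀ x ∈ e, ρ k x = x := by
    intro k hk x hx
    obtain ⟨m, rfl⟩ := c.sub _ haA ha1 x hx
    exact hcen k hk m
  have hKP : ∀ k ∈ K, ∀ m, br (ρ k) m ∈ P := fun k hk => c.brP k (hKL hk) (hKe k hk)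
  -- `a = y2 y3` commutes with `K` and centralises `[M, K]`
  have haK : ∀ k ∈ K, y2 * y3 * k = k * (y2 * y3) := by
    intro k hk
    have h1 := hcom t ht ht1 y hyK k hk
    have h2 := hcom _ htt' htt1 y hyK k hk
    rw [← hy2] at h1
    rw [← hy3] at h2
    rw [mul_assoc, h2, ← mul_assoc, h1, mul_assoc]
  have haN : ∀ k ∈ K, ∀ m, ρ (y2 * y3) (br (ρ k) m) = br (ρ k) m := by
    intro k hk m
    rw [← br_eq_one c.sq2, br_comm (Cub.rho_comm ρ (haK k hk)), br_eq_one c.sq2]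
    exact hcen k hk m
  -- `t K t⁻¹` centralises `[M, K]`
  have conj_br : ∀ g : H, ∀ k ∈ K, (∀ k ∈ K, g * k = k * g) → ∀ m,
      ρ g (br (ρ k) m) = br (ρ k) (ρ g m) := fun g k hk hg m => apply_br (Cub.rho_comm ρ (hg k hk)) m
  let N : Subgroup K :=
    { carrier := {z | ∀ k ∈ K, ∀ m, ρ (t * z * t⁻¹) (br (ρ k) m) = br (ρ k) m}
      one_mem' := fun k _ m => by
        rw [coe_one, mul_one, mul_inv_cancel, map_one, MulAut.one_apply]
      mul_mem' := by
        intro z w hz hw k hk m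
        have e : t * ((z * w : K) : H) * t⁻¹ = (t * z * t⁻¹) * (t * w * t⁻¹) := by rw [coe_mul]; group
        rw [e, map_mul, MulAut.mul_apply, hw k hk, hz k hk]
      inv_mem' := by
        intro z hz k hk m
        have e : t * ((z⁻¹ : K) : H) * t⁻¹ = (t * z * t⁻¹)⁻¹ := by rw [coe_inv]; group
        have h1 : ρ (t * (z : H) * t⁻¹)⁻¹ (ρ (t * z * t⁻¹) (br (ρ k) m)) = br (ρ k) m := by
          rw [← MulAut.mul_apply, ← map_mul, inv_mul_cancel, map_one, MulAut.one_apply]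
        rw [e]
        rw [hz k hk m] at h1
        exact h1 }
  have hNn : N.Normal := by
    refine ⟨fun z hz g k hk m => ?_⟩
    have e : t * ((g * z * g⁻¹ : K) : H) * t⁻¹ = (t * g * t⁻¹) * (t * z * t⁻¹) * (t * (g : H)⁻¹ * t⁻¹) := by
      rw [coe_mul, coe_mul, coe_inv]; group
    have hg : ∀ k ∈ K, t * (g : H) * t⁻¹ * k = k * (t * g * t⁻¹) := hcom t ht ht1 g g.2
    have hg' : ∀ k ∈ K, t * (g : H)⁻¹ * t⁻¹ * k = k * (t * (g : H)⁻¹ * t⁻¹) := hcom t ht ht1 _ (K.inv_mem g.2)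
    rw [e, map_mul, map_mul, MulAut.mul_apply, MulAut.mul_apply, conj_br _ k hk hg', hz k hk, ← conj_br _ k hk hg',
      ← MulAut.mul_apply, ← map_mul]
    have e2 : t * (g : H) * t⁻¹ * (t * (g : H)⁻¹ * t⁻¹) = 1 := by group
    rw [e2, map_one, MulAut.one_apply]
  have hN : ∀ z ∈ K, ∀ k ∈ K, ∀ m, ρ (t * z * t⁻¹) (br (ρ k) m) = br (ρ k) m := by
    rcases Cub.normal_or hK N with h | h
    · exact fun z hz => h ⟨z, hz⟩
    · exfalso
      apply hycen
      refine Cub.comm_of_central hK fun g hg => ?_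
      have hin : y * g * y⁻¹ * g⁻¹ ∈ K := K.mul_mem (K.mul_mem (K.mul_mem hyK hg) (K.inv_mem hyK)) (K.inv_mem hg)
      refine ⟨hin, h ⟨_, hin⟩ fun k hk m => ?_⟩
      have hg3 := hy3t _ hg
      have e1 : t * (y * g * y⁻¹ * g⁻¹) * t⁻¹ = (y2 * y3) * ((t * g * t⁻¹) * (y2 * y3)⁻¹ * (t * g⁻¹ * t⁻¹)) := by
        have h4 : Commute y3 (t * g * t⁻¹) := hg3
        have h5 := h4.inv_right
        have e5 : (t * g * t⁻¹)⁻¹ = t * g⁻¹ * t⁻¹ := by group
        rw [e5] at h5
        have h6 : y3 * (t * g * t⁻¹) * y3⁻¹ = t * g * t⁻¹ := by rw [h4.eq]; group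
        calc t * (y * g * y⁻¹ * g⁻¹) * t⁻¹ = y2 * (t * g * t⁻¹) * y2⁻¹ * (t * g⁻¹ * t⁻¹) := by rw [hy2]; group
          _ = y2 * (y3 * (t * g * t⁻¹) * y3⁻¹) * y2⁻¹ * (t * g⁻¹ * t⁻¹) := by rw [h6]
          _ = _ := by group
      have hg1 : ∀ k ∈ K, t * g * t⁻¹ * k = k * (t * g * t⁻¹) := hcom t ht ht1 g hg
      have hg2 : ∀ k ∈ K, t * g⁻¹ * t⁻¹ * k = k * (t * g⁻¹ * t⁻¹) := hcom t ht ht1 _ (K.inv_mem hg)
      have hai : ∀ m, ρ (y2 * y3)⁻¹ (br (ρ k) m) = br (ρ k) m := by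
        intro m
        have h1 : ρ (y2 * y3)⁻¹ (ρ (y2 * y3) (br (ρ k) m)) = br (ρ k) m := by
          rw [← MulAut.mul_apply, ← map_mul, inv_mul_cancel, map_one, MulAut.one_apply]
        rwa [haN k hk] at h1
      change ρ (t * (y * g * y⁻¹ * g⁻¹) * t⁻¹) (br (ρ k) m) = br (ρ k) m
      rw [e1, map_mul ρ (y2 * y3), map_mul ρ (t * g * t⁻¹ * (y2 * y3)⁻¹), map_mul ρ (t * g * t⁻¹),
        MulAut.mul_apply, MulAut.mul_apply, MulAut.mul_apply, conj_br _ k hk hg2, hai, ← conj_br _ k hk hg2]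
      have e2 : ρ (t * g * t⁻¹) (ρ (t * g⁻¹ * t⁻¹) (br (ρ k) m)) = br (ρ k) m := by
        have e3 : t * g * t⁻¹ * (t * g⁻¹ * t⁻¹) = 1 := by group
        rw [← MulAut.mul_apply, ← map_mul, e3, map_one, MulAut.one_apply]
      rw [e2, haN k hk]
  -- `K` centralises `[M, t K t⁻¹]`
  have hN' : ∀ z ∈ K, ∀ k ∈ K, ∀ m, ρ k (br (ρ (t * z * t⁻¹)) m) = br (ρ (t * z * t⁻¹)) m := by
    intro z hz k hk m
    rw [← br_eq_one c.sq2, br_comm (Cub.rho_comm ρ (hcom t ht ht1 z hz k hk).symm), br_eq_one c.sq2]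
    exact hN z hz k hk m
  -- `[M, K, y]` is in `D`
  have hyA : y * y2 ∈ A := by
    have := h3.mem y hy 1 T.one_mem t ht
    rw [hy2]
    simpa using this
  have hD : ∀ k ∈ K, ∀ m, br (ρ y) (br (ρ k) m) ∈ D := by
    intro k hk m
    have h1 := c.PD _ hyA _ (hKP k hk m)
    have h2 : ρ (y * y2) (br (ρ k) m) = ρ y (br (ρ k) m) := by
      rw [map_mul, MulAut.mul_apply, hy2, hN y hyK k hk m]
    rw [br_apply, h2, ← br_apply] at h1
    exact h1
  -- `[M, K, y]` is centralised by `K`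
  have hKy : ∀ k ∈ K, ∀ m, ∀ l ∈ K, ρ l (br (ρ y) (br (ρ k) m)) = br (ρ y) (br (ρ k) m) := by
    intro k hk m l hl
    set d := br (ρ y) (br (ρ k) m) with hd
    have hdD : d ∈ D := hD k hk m
    have h1 := hKe l hl _ (c.Te t ht d hdD)
    have h2 : ρ t d = br (ρ y2) (br (ρ (t * k * t⁻¹)) (ρ t m)) := by
      rw [hd, hy2, map_mul, map_mul, map_mul, map_mul, map_inv, br_conj, br_conj]
      congr 2
      rw [← MulAut.mul_apply, inv_mul_cancel, MulAut.one_apply, ← MulAut.mul_apply, inv_mul_cancel, MulAut.one_apply]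
    have h3 : ρ l (ρ t d) = ρ t d := by
      rw [h2, hy2]
      exact hN' y hyK l hl _
    have h4 : d = (br (ρ t) d)⁻¹ * ρ t d := by
      rw [eq_inv_mul_iff_mul_eq, ← eq_br c.sq2]
    rw [h4, map_mul, map_inv, ← h4, h1, h3, ← h4]
  -- the normal subgroup
  have hKK : ∀ g ∈ K, ∀ k ∈ K, ∀ m, ρ g (br (ρ k) m) = br (ρ (g * k * g⁻¹)) (ρ g m) := by
    intro g _ k _ m
    have h : (ρ g)⁻¹ (ρ g m) = m := by rw [← MulAut.mul_apply, inv_mul_cancel, MulAut.one_apply]
    rw [map_mul ρ (g * k), map_mul ρ g, map_inv, br_conj, h]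
  let N2 : Subgroup K :=
    { carrier := {z | ∀ k ∈ K, ∀ m, br (ρ (z : H)) (br (ρ k) m) ∈ fixed ρ K}
      one_mem' := fun k _ m => by
        rw [coe_one, map_one, br_apply, MulAut.one_apply, c.sq2]
        exact one_mem _
      mul_mem' := by
        intro z w hz hw k hk m
        rw [coe_mul, map_mul, br_mul c.sq2, hKK w w.2 k hk]
        exact mul_mem (hz _ (K.mul_mem (K.mul_mem w.2 hk) (K.inv_mem w.2)) _) (hw k hk m)
      inv_mem' := by
        intro z hz k hk m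
        have h2 : ∀ x : M, br (ρ (z : H)) (ρ (z : H)⁻¹ x) = br (ρ (z : H)⁻¹) x := by
          intro x
          rw [br_apply, br_apply, ← MulAut.mul_apply, ← map_mul, mul_inv_cancel, map_one, MulAut.one_apply, mul_comm]
        rw [coe_inv, ← h2, hKK _ (K.inv_mem z.2) k hk]
        exact hz _ (K.mul_mem (K.mul_mem (K.inv_mem z.2) hk) (K.inv_mem (K.inv_mem z.2))) _ }
  have hN2n : N2.Normal := by
    refine ⟨fun z hz g k hk m l hl => ?_⟩
    rw [coe_mul, coe_mul, coe_inv, map_mul, map_mul, map_inv, br_conj, ← map_inv, hKK _ (K.inv_mem g.2) k hk]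
    have h1 := hz _ (K.mul_mem (K.mul_mem (K.inv_mem g.2) hk) (K.inv_mem (K.inv_mem g.2))) (ρ (g : H)⁻¹ m)
    rw [h1 g g.2]
    exact h1 l hl
  have hall : ∀ z ∈ K, ∀ k ∈ K, ∀ m, br (ρ z) (br (ρ k) m) ∈ fixed ρ K := by
    rcases Cub.normal_or hK N2 with h | h
    · exact fun z hz => h ⟨z, hz⟩
    · exact absurd (h ⟨y, hyK⟩ (fun k hk m => hKy k hk m)) hycen
  have htriv := triv_of_unip ρ c.sq2 hperf fun k₁ h₁ k₂ h₂ k₃ h₃ m =>
    (br_eq_one c.sq2).2 (hall k₂ h₂ k₁ h₁ m k₃ h₃)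
  -- `y y2 = 1`
  have h1 : y * y2 = 1 := by
    refine c.faith _ hyA fun m => ?_
    have h2 : ρ y2 m = m := by
      rw [hy2, map_mul, map_mul, MulAut.mul_apply, MulAut.mul_apply, htriv y hyK, ← MulAut.mul_apply, ← map_mul,
        mul_inv_cancel, map_one, MulAut.one_apply]
    rw [map_mul, MulAut.mul_apply, h2, htriv y hyK]
  apply hycen
  intro k hk
  have h2 : y = y2⁻¹ := eq_inv_of_mul_eq_one_left h1
  have h4 : Commute y2 k := by
    have := hcom t ht ht1 y hyK k hk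
    rwa [← hy2] at this
  rw [h2]
  exact h4.inv_left.eq

/-- **(T2), the end for components with (INV5)**, for `CubS` -/
theorem three_false [Finite H] [Finite M] (c : CubS ρ L A T e D P) (he : Nat.card e ≤ Nat.card T + 1)
    {S K : Subgroup H} (hK : Cfsg.IsQuasisimple K) (hKL : K ≤ L)
    (hZ : ∀ z ∈ K, (∀ y ∈ K, z * y = y * z) → z * z = 1 → z = 1) (hS2 : IsPGroup 2 S)
    (syl : ∀ Q : Subgroup H, Q ≤ K → IsPGroup 2 Q → S ⊓ K ≤ Q → Q ≤ S)
    (h3 : Three A T K (S ⊓ K)) (hinv : InvFive K) : False := by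
  obtain ⟨t, ht, ht1, ht3, htt1, htt, -⟩ := h3.gen
  have htt' : t * t ∈ T := T.mul_mem ht ht
  have htti : t * t = t⁻¹ := eq_inv_of_mul_eq_one_left ht3
  -- the elements
  obtain ⟨y0, g0, r, q1, q2, q3, q4, q5, q6⟩ := hinv
  obtain ⟨k, hk, hkP⟩ := TwoMain.exists_conj (P := S ⊓ K) (hS2.to_le inf_le_left) inf_le_right
    (fun Q h1 h2 h4 => le_inf (syl Q h1 h2 h4) h1) y0.2 (congrArg Subtype.val q1)
  obtain ⟨y, hy⟩ : ∃ y, y = k * (y0 : H) * k⁻¹ := ⟨_, rfl⟩
  obtain ⟨g, hg⟩ : ∃ g, g = k * (g0 : H) * k⁻¹ := ⟨_, rfl⟩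
  have hyP : y ∈ S ⊓ K := hy ▸ hkP
  have hyK : y ∈ K := hyP.2
  have hgK : g ∈ K := hg ▸ K.mul_mem (K.mul_mem hk g0.2) (K.inv_mem hk)
  have hyy : y * y = 1 := h3.sq y hyP
  have hyg : y * g * y⁻¹ = g⁻¹ := by
    have h1 : (y0 : H) * g0 * (y0 : H)⁻¹ = (g0 : H)⁻¹ := congrArg Subtype.val q2
    rw [hy, hg]
    calc k * (y0 : H) * k⁻¹ * (k * g0 * k⁻¹) * (k * y0 * k⁻¹)⁻¹ = k * ((y0 : H) * g0 * (y0 : H)⁻¹) * k⁻¹ := by group
      _ = (k * (g0 : H) * k⁻¹)⁻¹ := by rw [h1]; group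
  have hgr : g ^ r = 1 := by
    have h1 : (g0 : H) ^ r = 1 := congrArg Subtype.val q5
    rw [hg, conj_pow, h1, mul_one, mul_inv_cancel]
  have hg1 : g ≠ 1 := by
    intro h
    apply q6
    rw [hg] at h
    exact Subtype.ext (conj_eq_one_iff.1 h)
  -- the conjugates commute with `K`
  have hcom : ∀ s ∈ T, s ≠ 1 → ∀ x ∈ K, ∀ z ∈ K, x * (s * z * s⁻¹) = s * z * s⁻¹ * x := by
    intro s hs hs1 x hx z hz
    have := h3.com 1 T.one_mem s hs hs1.symm x hx z hz
    simpa using this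
  have hperf : ⁅K, K⁆ = K := by
    have h1 := hK.1.commutator_eq_top
    have h2 : (commutator K).map K.subtype = K := by
      rw [h1, ← MonoidHom.range_eq_map, range_subtype]
    rw [commutator_def, map_commutator, ← MonoidHom.range_eq_map, range_subtype] at h2
    exact h2
  have d : TwoEnd.Dat K t y g r :=
    { t3 := ht3
      comm := hcom t ht ht1
      qs := by
        intro L hLK hL
        have hn : (L.subgroupOf K).Normal := ⟨fun n hn z => hL z z.2 n hn⟩
        rcases Cub.normal_or hK (L.subgroupOf K) with h | h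
        · left
          exact le_antisymm hLK fun x hx => h ⟨x, hx⟩
        · right
          intro l hl z hz
          exact h ⟨l, hLK hl⟩ hl z hz
      perf := hperf
      yK := hyK
      y2 := hyy
      gK := hgK
      inv := hyg
      pr := q3
      five := q4
      gr := hgr
      g1 := hg1 }
  -- `a`, `b`
  have e1 : TwoEnd.Dat.a t y = t * y * t⁻¹ * (t * t * y * (t * t)⁻¹) := by
    unfold TwoEnd.Dat.a; rw [htti, inv_inv]
  have haA : TwoEnd.Dat.a t y ∈ A := by
    have h1 := h3.mem y hyP t ht _ htt'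
    exact e1 ▸ h1
  have hba : TwoEnd.Dat.b t y = t * TwoEnd.Dat.a t y * t⁻¹ := by
    unfold TwoEnd.Dat.a TwoEnd.Dat.b
    have e2 : t * (t * y * t⁻¹) * t⁻¹ = t⁻¹ * y * t := by
      calc t * (t * y * t⁻¹) * t⁻¹ = (t * t) * y * (t * t)⁻¹ := by group
        _ = t⁻¹ * y * t := by rw [htti, inv_inv]
    calc t⁻¹ * y * t * y = t * (t * y * t⁻¹) * t⁻¹ * y := by rw [e2]
      _ = t * (t * y * t⁻¹ * (t⁻¹ * y * t)) * t⁻¹ := by group
  have haK : ∀ k ∈ K, TwoEnd.Dat.a t y * k = k * TwoEnd.Dat.a t y := fun k hk => (d.comm_a hk).symm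
  have hycen : ¬ ∀ k ∈ K, y * k = k * y := fun h => d.g_mul_ne (h g hgK).symm
  have hy1 : y ≠ 1 := by
    rintro rfl
    exact hycen fun k _ => by rw [one_mul, mul_one]
  -- `K` acts nontrivially on `[M, a]`
  have hnt : ∃ m, ρ y (br (ρ (TwoEnd.Dat.a t y)) m) ≠ br (ρ (TwoEnd.Dat.a t y)) m := by
    by_contra hcon
    push Not at hcon
    refine hycen (central_of_cen hK haK (fun hn => ?_) hyK hcon)
    rw [e1] at hn
    exact c.three_cen hK hKL hZ h3 ht ht1 htt1 htt hyP hyK hy1 hn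
  let _ := TwoMain.act ρ
  have hD : ∀ (x : H) (m : Additive M), TwoEnd.D x m = Additive.ofMul (br (ρ x) m.toMul) := by
    intro x m
    change Additive.ofMul (ρ x m.toMul) - m = Additive.ofMul (ρ x m.toMul * m.toMul)
    have h1 : -m = m := by
      have := c.sq2 m.toMul
      have h2 : m + m = 0 := this
      exact neg_eq_of_add_eq_zero_left h2
    rw [sub_eq_add_neg, h1]
    rfl
  refine d.false_of (M := Additive M) (fun m => c.sq2 m.toMul) ?_ ?_
  · -- (N0)
    refine le_trans ?_ (he.trans_eq (by rw [h3.card]))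
    have h1 : ∀ v ∈ TwoEnd.cm (TwoEnd.cm (⊤ : AddSubgroup (Additive M)) (TwoEnd.Dat.a t y)) (TwoEnd.Dat.b t y),
        Additive.toMul v ∈ e := by
      rintro v ⟨w, ⟨m, -, rfl⟩, rfl⟩
      rw [hD, hD, hba]
      exact c.line0 _ haA t ht _
    refine Nat.card_le_card_of_injective (fun v => (⟨Additive.toMul v.1, h1 v.1 v.2⟩ : e)) ?_
    intro v w hvw
    exact Subtype.ext (congrArg (fun z : e => Additive.ofMul (z : M)) hvw)
  · obtain ⟨m, hm⟩ := hnt
    refine ⟨y, hyK, Additive.ofMul (br (ρ (TwoEnd.Dat.a t y)) m), ⟨Additive.ofMul m, AddSubgroup.mem_top _, ?_⟩, ?_⟩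
    · rw [hD]; rfl
    · exact fun h => hm h

/-- **(T2)** for `CubS`: `T` normalises every component `K ≤ H⁰` with (INV5). -/
theorem torus_le [Finite H] [Finite M] (c : CubS ρ L A T e D P) (he : Nat.card e ≤ Nat.card T + 1) (sc : Scal A T)
    (hT : 3 ≤ Nat.card T) {S K : Subgroup H} (hK : Cfsg.IsComponent K) (hKL : K ≤ L)
    (hZ : ∀ z ∈ K, (∀ y ∈ K, z * y = y * z) → z * z = 1 → z = 1) (hS2 : IsPGroup 2 S) (hS1 : S ⊓ K ≠ ⊥)
    (syl : ∀ Q : Subgroup H, Q ≤ K → IsPGroup 2 Q → S ⊓ K ≤ Q → Q ≤ S)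
    (hSA : ∀ x ∈ S, ∀ t ∈ T, x⁻¹ * (t * x * t⁻¹) ∈ A)
    (hinv : (∀ x ∈ S ⊓ K, x * x = 1) → InvFive K) : T ≤ Subgroup.normalizer (K : Set H) := by
  have hZ' : ∀ x ∈ S ⊓ K, (∀ y ∈ K, x * y = y * x) → x = 1 := by
    intro x hx hc
    obtain ⟨n, hn⟩ := hS2 ⟨x, hx.1⟩
    have hn' : x ^ 2 ^ n = 1 := congrArg Subtype.val hn
    induction n with
    | zero => simpa using hn'
    | succ n ih =>
      have h1 : x ^ 2 ^ n = 1 := by
        refine hZ _ (K.pow_mem hx.2 _) (fun y hy => ?_) ?_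
        · exact (Commute.pow_left (hc y hy : Commute x y) _).eq
        · rw [← pow_two, ← pow_mul, ← pow_succ]; exact hn'
      exact ih (Subtype.ext h1) h1
  rcases torus_component sc hT hK hS1 hZ' hSA with h | h
  · exact h
  · exact (c.three_false he hK.2 hKL hZ hS2 syl h (hinv h.sq)).elim

end CubS

end Cfsg.Agent.Omega.Lie.LQS

end

section


/-!
# (h1), SPLIT: `CubS` from an `F`-bilinear symplectic form, abstract

`FDat L A T D f e ω`: `M` an `F`-space with a nondegenerate symmetric form `f`, the line `e`, `ω = f(·, e)`, `L = H⁰` acts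
linearly and preserves `f`, `[D, A] ≤ e`, `[e^⊥, A] ≤ D`, `T` trivial on `D / e`.  `FDat.cubS`: then `CubS` holds: (N1) is
free.
-/

set_option autoImplicit false
set_option linter.unusedSectionVars false

namespace Cfsg.Agent.Omega.Lie.LQS

open Subgroup Cfsg.Agent.Omega.Lie.CompT Cfsg.Agent.Omega.Lie.LQ

universe u v w

variable {H : Type u} {M : Type v} [Group H] [AddCommGroup M] [DistribMulAction H M]

/-- `H` acts on `Multiplicative M` -/
def mrho (H : Type u) (M : Type v) [Group H] [AddCommGroup M] [DistribMulAction H M] :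
    H →* MulAut (Multiplicative M) where
  toFun h :=
    { toFun := fun m => Multiplicative.ofAdd (h • m.toAdd)
      invFun := fun m => Multiplicative.ofAdd (h⁻¹ • m.toAdd)
      left_inv := fun m => congrArg Multiplicative.ofAdd (inv_smul_smul h m.toAdd)
      right_inv := fun m => congrArg Multiplicative.ofAdd (smul_inv_smul h m.toAdd)
      map_mul' := fun m n => by rw [toAdd_mul, smul_add, ofAdd_add] }
  map_one' := MulEquiv.ext fun m => by
    change Multiplicative.ofAdd ((1 : H) • m.toAdd) = m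
    rw [one_smul, ofAdd_toAdd]
  map_mul' g h := MulEquiv.ext fun m => by
    change Multiplicative.ofAdd ((g * h) • m.toAdd) = Multiplicative.ofAdd (g • (h • m.toAdd))
    rw [mul_smul]

theorem mrho_apply (h : H) (m : Multiplicative M) : mrho H M h m = Multiplicative.ofAdd (h • m.toAdd) := rfl

/-- `[x, a] = a x + x` -/
def bra (a : H) (x : M) : M := a • x + x

theorem br_mrho (h : H) (m : Multiplicative M) : br (mrho H M h) m = Multiplicative.ofAdd (bra h m.toAdd) := rfl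

variable {F : Type w} [Field F] [Module F M]

structure FDat (L A T : Subgroup H) (D : AddSubgroup M) (f : M →ₗ[F] M →ₗ[F] F) (e : F →ₗ[F] M)
    (ω : M →ₗ[F] F) : Prop where
  two : ∀ x : M, x + x = 0
  fe : ∀ x γ, f x (e γ) = ω x * γ
  symm : ∀ x y, f x y = f y x
  nd : ∀ x, (∀ y, f x y = 0) → x = 0
  ω1 : ∃ m, ω m = 1
  AL : A ≤ L
  lin : ∀ h ∈ L, ∀ (a : F) (x : M), h • (a • x) = a • (h • x)
  act : ∀ h ∈ L, ∀ x y, f (h • x) (h • y) = f x y
  sq : ∀ a ∈ A, a * a = 1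
  TA : ∀ t ∈ T, ∀ a ∈ A, t * a * t⁻¹ ∈ A
  Ae : ∀ a ∈ A, ∀ γ, a • e γ = e γ
  eD : ∀ γ, e γ ∈ D
  DP : ∀ x ∈ D, ω x = 0
  AD : ∀ a ∈ A, ∀ x ∈ D, ∃ γ, bra a x = e γ
  AP : ∀ a ∈ A, ∀ x, ω x = 0 → bra a x ∈ D
  Te : ∀ t ∈ T, ∃ c : F, c ≠ 0 ∧ ∀ γ, t • e γ = e (c * γ)
  TD : ∀ t ∈ T, ∀ x ∈ D, ∃ γ, bra t x = e γ
  l0 : ∀ a ∈ A, ∀ t ∈ T, ∀ x, ∃ γ, bra (t * a * t⁻¹) (bra a x) = e γ
  sub : ∀ a ∈ A, a ≠ 1 → ∀ γ, ∃ x, e γ = bra a x
  gen : ∀ m, ω m ≠ 0 → ∀ x, ω x = 0 → ∃ a ∈ A, x + bra a m ∈ D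
  ker0 : ∀ x ∈ D, (∀ a ∈ A, a • x = x) → ∃ γ, x = e γ

namespace FDat

variable {L A T : Subgroup H} {D : AddSubgroup M} {f : M →ₗ[F] M →ₗ[F] F} {e : F →ₗ[F] M} {ω : M →ₗ[F] F}
  (d : FDat L A T D f e ω)
include d

theorem bra_add (a : H) (x y : M) : bra a (x + y) = bra a x + bra a y := by
  unfold bra; rw [smul_add]; abel

theorem bra_zero (a : H) : bra a (0 : M) = 0 := by
  unfold bra; rw [smul_zero, add_zero]

theorem eq_of_add {x y : M} (h : x + y = 0) : x = y := by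
  have h1 := d.two y
  exact add_right_cancel (h.trans h1.symm)

theorem bra_eq_zero {a : H} {x : M} : bra a x = 0 ↔ a • x = x :=
  ⟨fun h => d.eq_of_add h, fun h => by unfold bra; rw [h, d.two]⟩

theorem bra_smul {h : H} (hh : h ∈ L) (a : F) (x : M) : bra h (a • x) = a • bra h x := by
  unfold bra; rw [d.lin h hh, smul_add]

theorem comm {a b : H} (ha : a ∈ A) (hb : b ∈ A) : a * b = b * a := by
  have i1 : a⁻¹ = a := inv_eq_of_mul_eq_one_left (d.sq a ha)
  have i2 : b⁻¹ = b := inv_eq_of_mul_eq_one_left (d.sq b hb)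
  have i3 : (a * b)⁻¹ = a * b := inv_eq_of_mul_eq_one_left (d.sq _ (A.mul_mem ha hb))
  rw [mul_inv_rev, i1, i2] at i3
  exact i3.symm

theorem bra_comm {a b : H} (ha : a ∈ A) (hb : b ∈ A) (x : M) : bra a (bra b x) = bra b (bra a x) := by
  unfold bra
  rw [smul_add, smul_add, smul_smul, smul_smul, d.comm ha hb]
  abel

theorem adj {a : H} (ha : a ∈ A) (x y : M) : f (bra a x) y = f x (bra a y) := by
  unfold bra
  rw [map_add, LinearMap.add_apply, map_add]
  have h1 := d.act a (d.AL ha) x (a • y)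
  rw [smul_smul, d.sq a ha, one_smul] at h1
  rw [h1]

theorem smul_bra {a : H} (ha : a ∈ A) (x : M) : a • bra a x = bra a x := by
  unfold bra
  rw [smul_add, smul_smul, d.sq a ha, one_smul, add_comm]

theorem ω_bra {a : H} (ha : a ∈ A) (x : M) : ω (bra a x) = 0 := by
  have h1 := d.adj ha x (e 1)
  rw [d.fe, mul_one] at h1
  rw [h1, (d.bra_eq_zero).2 (d.Ae a ha 1), map_zero]

/-- `P^⊥ = e` -/
theorem perp_perp {z : M} (h : ∀ x, ω x = 0 → f z x = 0) : ∃ γ, z = e γ := by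
  obtain ⟨m, hm⟩ := d.ω1
  refine ⟨f z m, ?_⟩
  rw [← sub_eq_zero]
  refine d.nd _ fun x => ?_
  have h1 := h (x - ω x • m) (by rw [map_sub, map_smul, hm, smul_eq_mul, mul_one, sub_self])
  rw [map_sub, map_smul, smul_eq_mul, sub_eq_zero] at h1
  rw [map_sub, LinearMap.sub_apply, d.symm (e _) x, d.fe, h1, sub_self]

theorem e_inj {γ : F} (h : e γ = 0) : γ = 0 := by
  obtain ⟨m, hm⟩ := d.ω1
  have h1 := d.fe m γ
  rw [h, map_zero, hm, one_mul] at h1
  exact h1.symm

/-- `b^t = c b` on `D` -/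
theorem bra_conj_D {b t : H} (hb : b ∈ A) (ht : t ∈ T) {c : F} (hc : ∀ γ, t • e γ = e (c * γ)) {x : M} (hx : x ∈ D) :
    bra (t * b * t⁻¹) x = c • bra b x := by
  obtain ⟨γ, hγ⟩ := d.TD _ (inv_mem ht) x hx
  obtain ⟨δ, hδ⟩ := d.AD b hb x hx
  have h1 : t⁻¹ • x = e γ + x := by
    have : t⁻¹ • x + x = e γ := hγ
    calc t⁻¹ • x = t⁻¹ • x + (x + x) := by rw [d.two, add_zero]
      _ = e γ + x := by rw [← add_assoc, this]
  have h2 : b • x = e δ + x := by
    have : b • x + x = e δ := hδ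
    calc b • x = b • x + (x + x) := by rw [d.two, add_zero]
      _ = e δ + x := by rw [← add_assoc, this]
  have h3 : t • x = t • e γ + x := by
    have h4 : x = t • (e γ + x) := by rw [← h1, smul_inv_smul]
    rw [smul_add] at h4
    calc t • x = (t • e γ + t • e γ) + t • x := by rw [d.two, zero_add]
      _ = t • e γ + (t • e γ + t • x) := by rw [add_assoc]
      _ = _ := by rw [← h4]
  unfold bra
  rw [mul_smul, mul_smul, h1, smul_add, d.Ae b hb, h2, smul_add, smul_add, h3]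
  calc t • e γ + (t • e δ + (t • e γ + x)) + x = (t • e γ + t • e γ) + (x + x) + t • e δ := by abel
    _ = t • e δ := by rw [d.two, d.two, add_zero, zero_add]
    _ = c • (e δ + x + x) := by rw [hc, add_assoc, d.two, add_zero, ← smul_eq_mul, map_smul]

/-- (N1), the first part -/
theorem full {a b : H} (ha : a ∈ A) (hb : b ∈ A) (h : ∃ x : M, bra b (bra a x) ≠ 0) (γ : F) :
    ∃ x, e γ = bra b (bra a x) := by
  by_cases h1 : ∃ x, ω x = 0 ∧ bra b (bra a x) ≠ 0
  · obtain ⟨x, hx, hne⟩ := h1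
    obtain ⟨δ, hδ⟩ := d.AD b hb _ (d.AP a ha x hx)
    have hδ0 : δ ≠ 0 := by rintro rfl; rw [map_zero] at hδ; exact hne hδ
    refine ⟨(γ / δ) • x, ?_⟩
    rw [d.bra_smul (d.AL ha), d.bra_smul (d.AL hb), hδ, ← map_smul, smul_eq_mul, div_mul_cancel₀ _ hδ0]
  · push Not at h1
    obtain ⟨m, hm⟩ := h
    obtain ⟨δ, hδ⟩ := d.perp_perp (z := bra b (bra a m)) fun x hx => by
      rw [d.adj hb, d.adj ha, d.bra_comm ha hb, h1 x hx, map_zero]
    have hδ0 : δ ≠ 0 := by rintro rfl; rw [map_zero] at hδ; exact hm hδ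
    refine ⟨(γ / δ) • m, ?_⟩
    rw [d.bra_smul (d.AL ha), d.bra_smul (d.AL hb), hδ, ← map_smul, smul_eq_mul, div_mul_cancel₀ _ hδ0]

/-- (N1), the second part -/
theorem same {a b t : H} (ha : a ∈ A) (hb : b ∈ A) (ht : t ∈ T) (h : ∃ x : M, bra (t * b * t⁻¹) (bra a x) ≠ 0)
    (x : M) : ∃ y, bra b (bra a x) = bra (t * b * t⁻¹) (bra a y) := by
  obtain ⟨c, hc0, hc⟩ := d.Te t ht
  have hb' := d.TA t ht b hb
  have key : ∀ x, ∃ γ, bra (t * b * t⁻¹) (bra a x) + c • bra b (bra a x) = e γ := by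
    intro x
    obtain ⟨δ, hδ⟩ := d.perp_perp (z := bra (t * b * t⁻¹) (bra a x) + c • bra b (bra a x)) fun y hy => by
      rw [map_add, LinearMap.add_apply, map_smul, LinearMap.smul_apply, d.adj hb', d.adj ha, d.adj hb, d.adj ha,
        d.bra_comm ha hb', d.bra_comm ha hb, d.bra_conj_D hb ht hc (d.AP a ha y hy), map_smul]
      have h1 : ∀ z : F, z + z = 0 := by
        intro z
        obtain ⟨m, hm⟩ := d.ω1
        have h2 : ω (z • m) + ω (z • m) = 0 := by rw [← map_add, d.two, map_zero]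
        rwa [map_smul, hm, smul_eq_mul, mul_one] at h2
      exact h1 _
    exact ⟨δ, hδ⟩
  obtain ⟨γ, hγ⟩ := key x
  obtain ⟨z, hz⟩ := d.full ha hb' h (c⁻¹ * γ)
  refine ⟨c⁻¹ • x + z, ?_⟩
  have h3 : e (c⁻¹ * γ) = c⁻¹ • e γ := by rw [← map_smul, smul_eq_mul]
  rw [d.bra_add, d.bra_add, d.bra_smul (d.AL ha), d.bra_smul (d.AL hb'), ← hz, h3, ← hγ,
    smul_add, smul_smul, inv_mul_cancel₀ hc0, one_smul, ← add_assoc, d.two, zero_add]

/-- `[M, a, b, b^t] = 0` -/
theorem line1 {a b t : H} (ha : a ∈ A) (hb : b ∈ A) (ht : t ∈ T) (x : M) :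
    (t * b * t⁻¹) • bra b (bra a x) = bra b (bra a x) := by
  obtain ⟨c, -, hc⟩ := d.Te t ht
  have hD := d.AP b hb _ (d.ω_bra ha x)
  rw [← d.bra_eq_zero, d.bra_conj_D hb ht hc hD, (d.bra_eq_zero).2 (d.smul_bra hb _), smul_zero]

theorem faith {a : H} (ha : a ∈ A) (h : ∀ x : M, a • x = x) : a = 1 := by
  by_contra ha1
  obtain ⟨x, hx⟩ := d.sub a ha ha1 1
  rw [(d.bra_eq_zero).2 (h x)] at hx
  exact one_ne_zero (d.e_inj hx)

/-- the order of `M` if `A` is one line -/
theorem card_le [Finite H] [Finite F] (hT : Nat.card T + 1 = Nat.card F)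
    (h : ∃ a ∈ A, ∀ b ∈ A, b ≠ 1 → ∃ t ∈ T, b = t * a * t⁻¹) : Nat.card M ≤ (Nat.card T + 1) ^ 4 := by
  classical
  obtain ⟨a₀, ha₀, hline⟩ := h
  obtain ⟨m₀, hm₀⟩ := d.ω1
  -- `|A| ≤ q`
  have hA : Nat.card A ≤ Nat.card F := by
    rw [← hT]
    have h1 := Nat.card_le_card_of_surjective (fun x : Option T => (match x with
      | none => 1
      | some x => ⟨(x : H) * a₀ * (x : H)⁻¹, d.TA x x.2 a₀ ha₀⟩ : A)) (by
        rintro ⟨y, hy⟩
        by_cases hy1 : y = 1
        · exact ⟨none, Subtype.ext hy1.symm⟩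
        · obtain ⟨x, hx, e⟩ := hline y hy hy1
          exact ⟨some ⟨x, hx⟩, Subtype.ext e.symm⟩)
    rwa [Finite.card_option] at h1
  -- representatives in `D`
  let r : F → M := fun γ => if h : ∃ x ∈ D, bra a₀ x = e γ then h.choose else 0
  have hr : ∀ x ∈ D, ∀ γ, bra a₀ x = e γ → ∃ δ, x + r γ = e δ := by
    intro x hx γ hγ
    have hex : ∃ x ∈ D, bra a₀ x = e γ := ⟨x, hx, hγ⟩
    have h1 : r γ = hex.choose := dif_pos hex
    obtain ⟨h2, h3⟩ := hex.choose_spec
    rw [← h1] at h2 h3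
    have h4 : bra a₀ (x + r γ) = 0 := by rw [d.bra_add, hγ, h3, d.two]
    refine d.ker0 _ (D.add_mem hx h2) fun a ha => ?_
    by_cases ha1 : a = 1
    · rw [ha1, one_smul]
    · obtain ⟨t, ht, rfl⟩ := hline a ha ha1
      obtain ⟨c, -, hc⟩ := d.Te t ht
      rw [← d.bra_eq_zero, d.bra_conj_D ha₀ ht hc (D.add_mem hx h2), h4, smul_zero]
  have hsurj : Function.Surjective (fun q : F × A × F × F => q.1 • m₀ + bra (q.2.1 : H) m₀ + r q.2.2.1 + e q.2.2.2) := by
    intro x
    have h1 : ω (x + ω x • m₀) = 0 := by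
      have h2 : ω (x + x) = 0 := by rw [d.two, map_zero]
      rw [map_add] at h2
      rw [map_add, map_smul, hm₀, smul_eq_mul, mul_one]
      exact h2
    obtain ⟨a, ha, h2⟩ := d.gen m₀ (by rw [hm₀]; exact one_ne_zero) _ h1
    obtain ⟨γ, hγ⟩ := d.AD a₀ ha₀ _ h2
    obtain ⟨δ, hδ⟩ := hr _ h2 γ hγ
    refine ⟨(ω x, ⟨a, ha⟩, γ, δ), ?_⟩
    change ω x • m₀ + bra a m₀ + r γ + e δ = x
    rw [← hδ]
    calc ω x • m₀ + bra a m₀ + r γ + (x + ω x • m₀ + bra a m₀ + r γ) =
          x + (ω x • m₀ + ω x • m₀) + (bra a m₀ + bra a m₀) + (r γ + r γ) := by abel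
      _ = x := by rw [d.two, d.two, d.two, add_zero, add_zero, add_zero]
  have h1 := Nat.card_le_card_of_surjective _ hsurj
  rw [Nat.card_prod, Nat.card_prod, Nat.card_prod] at h1
  rw [hT]
  calc Nat.card M ≤ Nat.card F * (Nat.card A * (Nat.card F * Nat.card F)) := h1
    _ ≤ Nat.card F * (Nat.card F * (Nat.card F * Nat.card F)) := by gcongr
    _ = Nat.card F ^ 4 := by ring

/-- the subgroup `e` -/
def eS (_ : FDat L A T D f e ω) : Subgroup (Multiplicative M) where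
  carrier := {m | ∃ γ, m.toAdd = e γ}
  one_mem' := ⟨0, by rw [map_zero]; rfl⟩
  mul_mem' := by
    rintro x y ⟨γ, hγ⟩ ⟨δ, hδ⟩
    exact ⟨γ + δ, by rw [toAdd_mul, hγ, hδ, map_add]⟩
  inv_mem' := by
    rintro x ⟨γ, hγ⟩
    exact ⟨-γ, by rw [toAdd_inv, hγ, map_neg]⟩

/-- the subgroup `D` -/
def dS (_ : FDat L A T D f e ω) : Subgroup (Multiplicative M) where
  carrier := {m | m.toAdd ∈ D}
  one_mem' := D.zero_mem
  mul_mem' := fun hx hy => D.add_mem hx hy
  inv_mem' := fun hx => D.neg_mem hx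

/-- the subgroup `P = e^⊥` -/
def pS (_ : FDat L A T D f e ω) : Subgroup (Multiplicative M) where
  carrier := {m | ω m.toAdd = 0}
  one_mem' := map_zero ω
  mul_mem' := by
    intro x y hx hy
    change ω (x.toAdd + y.toAdd) = 0
    rw [map_add, (show ω x.toAdd = 0 from hx), (show ω y.toAdd = 0 from hy), add_zero]
  inv_mem' := by
    intro x hx
    change ω (-x.toAdd) = 0
    rw [map_neg, (show ω x.toAdd = 0 from hx), neg_zero]

theorem mem_eS {m : Multiplicative M} : m ∈ d.eS ↔ ∃ γ, m.toAdd = e γ := Iff.rfl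

theorem mem_dS {m : Multiplicative M} : m ∈ d.dS ↔ m.toAdd ∈ D := Iff.rfl

theorem mem_pS {m : Multiplicative M} : m ∈ d.pS ↔ ω m.toAdd = 0 := Iff.rfl

/-- **`CubS`** -/
theorem cubS [Finite H] [Finite F] (hT : Nat.card T + 1 = Nat.card F) : CubS (mrho H M) L A T d.eS d.dS d.pS where
  sq2 m := by
    change Multiplicative.ofAdd (m.toAdd + m.toAdd) = 1
    rw [d.two]; rfl
  Ae a ha m hm := by
    obtain ⟨γ, hγ⟩ := hm
    rw [mrho_apply, hγ, d.Ae a ha, ← hγ, ofAdd_toAdd]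
  line0 a ha t ht m := by
    rw [br_mrho, br_mrho]
    exact d.l0 a ha t ht m.toAdd
  line1 a ha b hb t ht m := by
    rw [br_mrho, br_mrho, mrho_apply]
    exact congrArg Multiplicative.ofAdd (d.line1 ha hb ht m.toAdd)
  full a ha b hb h y hy := by
    obtain ⟨γ, hγ⟩ := hy
    obtain ⟨m, hm⟩ := h
    obtain ⟨x, hx⟩ := d.full ha hb ⟨m.toAdd, fun h' => hm (congrArg Multiplicative.ofAdd h')⟩ γ
    exact ⟨Multiplicative.ofAdd x, by rw [← ofAdd_toAdd y, hγ, hx]; rfl⟩
  same a ha b hb t ht _ h m := by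
    obtain ⟨m', hm'⟩ := h
    obtain ⟨x, hx⟩ := d.same ha hb ht ⟨m'.toAdd, fun h' => hm' (congrArg Multiplicative.ofAdd h')⟩ m.toAdd
    exact ⟨Multiplicative.ofAdd x, congrArg Multiplicative.ofAdd hx⟩
  sub a ha ha1 x hx := by
    obtain ⟨γ, hγ⟩ := hx
    obtain ⟨y, hy⟩ := d.sub a ha ha1 γ
    exact ⟨Multiplicative.ofAdd y, by rw [← ofAdd_toAdd x, hγ, hy]; rfl⟩
  faith a ha h := d.faith ha fun x => by
    have := h (Multiplicative.ofAdd x)
    exact congrArg Multiplicative.toAdd this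
  brP h hh hfix m := by
    have h1 : h • e 1 = e 1 := congrArg Multiplicative.toAdd (hfix (Multiplicative.ofAdd (e 1)) ⟨1, rfl⟩)
    have h2 := d.act h hh m.toAdd (e 1)
    rw [h1, d.fe, d.fe, mul_one, mul_one] at h2
    change ω (h • m.toAdd + m.toAdd) = 0
    rw [map_add, h2, ← map_add, d.two, map_zero]
  bre h hh hfix m := by
    refine d.perp_perp fun x hx => ?_
    have h1 : h • x = x := congrArg Multiplicative.toAdd (hfix (Multiplicative.ofAdd x) hx)
    have h2 := d.act h hh m.toAdd x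
    rw [h1] at h2
    change f (h • m.toAdd + m.toAdd) x = 0
    rw [map_add, LinearMap.add_apply, h2, ← LinearMap.add_apply, ← map_add, d.two, map_zero, LinearMap.zero_apply]
  eP := by
    rintro x ⟨γ, hγ⟩
    rw [mem_pS, hγ]
    exact d.DP _ (d.eD γ)
  PD a ha x hx := d.AP a ha _ hx
  De a ha x hx := d.AD a ha _ hx
  Te t ht x hx := d.TD t ht _ hx
  gen m hm x hx := by
    obtain ⟨a, ha, h1⟩ := d.gen m.toAdd hm x.toAdd hx
    refine ⟨a, ha, Multiplicative.ofAdd (x.toAdd + bra a m.toAdd), h1, ?_⟩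
    rw [br_mrho, ← ofAdd_add]
    apply Multiplicative.toAdd.injective
    rw [toAdd_ofAdd]
    calc x.toAdd = x.toAdd + (bra a m.toAdd + bra a m.toAdd) := by rw [d.two, add_zero]
      _ = _ := by abel
  exP := by
    obtain ⟨m, hm⟩ := d.ω1
    exact ⟨Multiplicative.ofAdd m, fun h => one_ne_zero (hm.symm.trans h)⟩
  card h := by
    have h1 : Nat.card (Multiplicative M) = Nat.card M := rfl
    rw [h1]
    exact d.card_le hT h

/-- `|e| = q` -/
theorem card_eS [Finite F] (hT : Nat.card T + 1 = Nat.card F) : Nat.card d.eS ≤ Nat.card T + 1 := by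
  rw [hT]
  refine Nat.card_le_card_of_surjective
    (fun γ : F => (⟨Multiplicative.ofAdd (e γ), ⟨γ, rfl⟩⟩ : d.eS)) ?_
  rintro ⟨m, γ, hγ⟩
  exact ⟨γ, Subtype.ext (congrArg Multiplicative.ofAdd hγ.symm)⟩

end FDat

end Cfsg.Agent.Omega.Lie.LQS

end

section


/-!
# THEOREM D (bb OMEGA #15015): `M = ⟨e^E⟩`, `C_M(S_E) = e`, `H = E N_H(e)`, abstract form

`H` finite acts semilinearly on the finite dimensional `F`-space `M` (`|F| ≥ 4`, `F` finite of characteristic `2`), `B` a nondegenerate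
reflexive form, `E` normal in `H` linear and isometric, `A ≤ E = ⟨A^E⟩`, `S` a Sylow 2-subgroup of `H` fixing the point `F e₀`,
`T = {t a}` the torus.  Input `cen` (LEMMA CEN, #14596): the `E`-span `I` of `e₀` satisfies `dim I/[I, S_E] ≤ 1`.
-/

set_option autoImplicit false
set_option linter.unusedSectionVars false

namespace Cfsg.Agent.Omega.Lie.ThmD

open Subgroup

variable {H : Type*} [Group H] {F : Type*} [Field F] {M : Type*} [AddCommGroup M] [Module F M] [DistribMulAction H M]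

/-- invariance of a subspace -/
def Inv (K : Subgroup H) (L : Submodule F M) : Prop := ∀ g ∈ K, ∀ x ∈ L, g • x ∈ L

/-- the `E`-span of a vector -/
def sp (F : Type*) [Field F] {M : Type*} [AddCommGroup M] [Module F M] [DistribMulAction H M] (E : Subgroup H)
    (v : M) : Submodule F M := Submodule.span F {x | ∃ g ∈ E, x = g • v}

/-- `[L, K]` -/
def cm (K : Subgroup H) (L : Submodule F M) : Submodule F M :=
  Submodule.span F {x | ∃ s ∈ K, ∃ m ∈ L, x = s • m - m}

/-- the module data -/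
structure Dat (E A : Subgroup H) (e₀ : M) (D : Submodule F M) (B : LinearMap.BilinForm F M) : Prop where
  normal : E.Normal
  A_le : A ≤ E
  /-- `E = ⟨A^E⟩` -/
  gen : ∀ K : Subgroup H, A ≤ K → (∀ g ∈ E, ∀ k ∈ K, g * k * g⁻¹ ∈ K) → E ≤ K
  lin : ∀ g ∈ E, ∀ (c : F) (x : M), g • c • x = c • g • x
  semi : ∀ g : H, ∃ σ : F → F, (∀ c, c ≠ 0 → σ c ≠ 0) ∧ ∀ (c : F) (x : M), g • c • x = σ c • g • x
  refl : B.IsRefl
  nd : B.Nondegenerate
  BE : ∀ g ∈ E, ∀ x y, B (g • x) (g • y) = B x y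
  BH : ∀ (g : H) (x y : M), B x y = 0 → B (g • x) (g • y) = 0
  ne : e₀ ≠ 0
  A2 : ∀ a ∈ A, ∀ x, B x e₀ = 0 → a • x - x ∈ D
  A3 : ∀ a ∈ A, ∀ x ∈ D, a • x - x ∈ Submodule.span F {e₀}
  ker0 : ∀ x ∈ D, (∀ a ∈ A, a • x = x) → x ∈ Submodule.span F {e₀}
  ker1 : ∀ x, (∀ a ∈ A, a • x = x) → B x e₀ = 0
  span : ∀ L : Submodule F M, (∀ h : H, h • e₀ ∈ L) → L = ⊤

namespace Dat

variable {E A : Subgroup H} {e₀ : M} {D : Submodule F M} {B : LinearMap.BilinForm F M} (d : Dat E A e₀ D B)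
include d

theorem mem_e {x : M} : x ∈ Submodule.span F {e₀} ↔ ∃ c : F, c • e₀ = x := by
  have _ := d
  exact Submodule.mem_span_singleton

/-- if `A` centralises an `E`-invariant subspace, so does `E` -/
theorem cen_E {L : Submodule F M} (hL : Inv E L) (h : ∀ a ∈ A, ∀ x ∈ L, a • x = x) :
    ∀ g ∈ E, ∀ x ∈ L, g • x = x := by
  let K : Subgroup H :=
    { carrier := {k | ∀ x ∈ L, k • x = x}
      one_mem' := fun x _ => one_smul _ x
      mul_mem' := fun {a b} ha hb x hx => by rw [mul_smul, hb x hx, ha x hx]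
      inv_mem' := fun {a} ha x hx => by rw [inv_smul_eq_iff, ha x hx] }
  refine fun g hg => d.gen K (fun a ha => h a ha) ?_ hg
  intro g hg k hk x hx
  have h1 : g⁻¹ • x ∈ L := hL _ (inv_mem hg) x hx
  rw [mul_smul, mul_smul, hk _ h1, smul_inv_smul]

/-- `C_M(E) = 0` -/
theorem fix_E {x : M} (hx : ∀ g ∈ E, g • x = x) : x = 0 := by
  have key : ∀ h : H, B x (h • e₀) = 0 := by
    intro h
    have h1 : ∀ a ∈ A, a • h⁻¹ • x = h⁻¹ • x := by
      intro a ha
      have h2 := hx (h * a * h⁻¹) (d.normal.conj_mem a (d.A_le ha) h)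
      rw [mul_smul, mul_smul] at h2
      rw [eq_inv_smul_iff]
      exact h2
    have h3 := d.BH h _ _ (d.ker1 _ h1)
    rwa [smul_inv_smul] at h3
  let L : Submodule F M :=
    { carrier := {y | B x y = 0}
      zero_mem' := map_zero _
      add_mem' := fun {y z} hy hz => by
        change B x (y + z) = 0
        rw [map_add, (show B x y = 0 from hy), (show B x z = 0 from hz), add_zero]
      smul_mem' := fun c y hy => by
        change B x (c • y) = 0
        rw [map_smul, (show B x y = 0 from hy), smul_zero] }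
  have hL : L = ⊤ := d.span L key
  refine d.nd.1 x fun y => ?_
  have : y ∈ L := by rw [hL]; trivial
  exact this

/-- **(2)** an `E`-invariant subspace of `e^⊥` not containing `e₀` is zero -/
theorem eq_bot {J : Submodule F M} (hJ : Inv E J) (hP : ∀ x ∈ J, B x e₀ = 0) (he : e₀ ∉ J) : J = ⊥ := by
  have h0 : ∀ x ∈ J, x ∈ Submodule.span F {e₀} → x = 0 := by
    intro x hx hxe
    obtain ⟨c, rfl⟩ := d.mem_e.1 hxe
    by_cases hc : c = 0
    · rw [hc, zero_smul]
    · exact absurd (by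
        have := J.smul_mem c⁻¹ hx
        rwa [smul_smul, inv_mul_cancel₀ hc, one_smul] at this) he
  have h1 : ∀ x ∈ J, x ∈ D → x = 0 := by
    intro x hx hxD
    refine h0 x hx (d.ker0 x hxD fun a ha => ?_)
    exact sub_eq_zero.1 (h0 _ (J.sub_mem (hJ a (d.A_le ha) x hx) hx) (d.A3 a ha x hxD))
  have h2 : ∀ a ∈ A, ∀ x ∈ J, a • x = x := fun a ha x hx =>
    sub_eq_zero.1 (h1 _ (J.sub_mem (hJ a (d.A_le ha) x hx) hx) (d.A2 a ha x (hP x hx)))
  have h3 := d.cen_E hJ h2
  rw [eq_bot_iff]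
  intro x hx
  exact (Submodule.mem_bot F).2 (d.fix_E fun g hg => h3 g hg x hx)

theorem mem_sp {g : H} (hg : g ∈ E) (v : M) : g • v ∈ sp F E v := by
  have _ := d
  exact Submodule.subset_span ⟨g, hg, rfl⟩

theorem self_mem_sp (v : M) : v ∈ sp F E v := by
  have := d.mem_sp (one_mem E) v
  rwa [one_smul] at this

theorem sp_le {L : Submodule F M} (hL : Inv E L) {v : M} (hv : v ∈ L) : sp F E v ≤ L := by
  have _ := d
  rw [sp, Submodule.span_le]
  rintro _ ⟨g, hg, rfl⟩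
  exact hL g hg _ hv

theorem sp_inv (v : M) : Inv E (sp F E v) := by
  intro g hg x hx
  unfold sp at hx
  induction hx using Submodule.span_induction with
  | mem x hx =>
    obtain ⟨g', hg', rfl⟩ := hx
    rw [smul_smul]
    exact d.mem_sp (mul_mem hg hg') v
  | zero => rw [smul_zero]; exact zero_mem _
  | add x y _ _ hx hy => rw [smul_add]; exact add_mem hx hy
  | smul c x _ hx => rw [d.lin g hg]; exact Submodule.smul_mem _ c hx

theorem inv_sup {K L : Submodule F M} (hK : Inv E K) (hL : Inv E L) : Inv E (K ⊔ L) := by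
  have _ := d
  intro g hg x hx
  obtain ⟨y, hy, z, hz, rfl⟩ := Submodule.mem_sup.1 hx
  rw [smul_add]
  exact add_mem (Submodule.mem_sup_left (hK g hg y hy)) (Submodule.mem_sup_right (hL g hg z hz))

theorem inv_orthogonal {L : Submodule F M} (hL : Inv E L) : Inv E (B.orthogonal L) := by
  intro g hg x hx
  rw [LinearMap.BilinForm.mem_orthogonal_iff] at hx ⊢
  intro y hy
  have h1 := hx (g⁻¹ • y) (hL _ (inv_mem hg) y hy)
  have h2 := d.BE g hg (g⁻¹ • y) x
  rw [smul_inv_smul] at h2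
  rw [h2, h1]

/-- some conjugate of `e` is not orthogonal to `e` -/
theorem exists_ne : ∃ h : H, B e₀ (h • e₀) ≠ 0 := by
  by_contra hcon
  push Not at hcon
  let L : Submodule F M :=
    { carrier := {y | B e₀ y = 0}
      zero_mem' := map_zero _
      add_mem' := fun {y z} hy hz => by
        change B e₀ (y + z) = 0
        rw [map_add, (show B e₀ y = 0 from hy), (show B e₀ z = 0 from hz), add_zero]
      smul_mem' := fun c y hy => by
        change B e₀ (c • y) = 0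
        rw [map_smul, (show B e₀ y = 0 from hy), smul_zero] }
  have hL : L = ⊤ := d.span L hcon
  refine d.ne (d.nd.1 e₀ fun y => ?_)
  have : y ∈ L := by rw [hL]; trivial
  exact this

/-- **(i)** `M = I + I₁` -/
theorem sup_eq_top [FiniteDimensional F M] {n x : H} (hx : x ∈ E) (h : B e₀ ((x * n) • e₀) ≠ 0) :
    sp F E e₀ ⊔ sp F E (n • e₀) = ⊤ := by
  have hinv : Inv E (sp F E e₀ ⊔ sp F E (n • e₀)) := d.inv_sup (d.sp_inv _) (d.sp_inv _)
  have h1 : B.orthogonal (sp F E e₀ ⊔ sp F E (n • e₀)) = ⊥ := by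
    refine d.eq_bot (d.inv_orthogonal hinv) (fun y hy => ?_) fun he => h ?_
    · rw [LinearMap.BilinForm.mem_orthogonal_iff] at hy
      exact d.refl _ _ (hy e₀ (Submodule.mem_sup_left (d.self_mem_sp e₀)))
    · rw [LinearMap.BilinForm.mem_orthogonal_iff] at he
      have h2 := he (x • n • e₀) (Submodule.mem_sup_right (d.mem_sp hx _))
      rw [mul_smul]
      exact d.refl _ _ h2
  have h2 := LinearMap.BilinForm.finrank_orthogonal d.nd (sp F E e₀ ⊔ sp F E (n • e₀))
  rw [h1, finrank_bot] at h2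
  exact Submodule.eq_top_of_finrank_eq (le_antisymm (Submodule.finrank_le _) (by omega))

end Dat

/-- `cen`: `L ≤ F v + [L, K]` -/
def Cen (F : Type*) [Field F] {M : Type*} [AddCommGroup M] [Module F M] [DistribMulAction H M] (K : Subgroup H)
    (L : Submodule F M) : Prop := ∃ v : M, L ≤ Submodule.span F {v} ⊔ cm K L

namespace Dat

variable {E A : Subgroup H} {e₀ : M} {D : Submodule F M} {B : LinearMap.BilinForm F M} (d : Dat E A e₀ D B)
include d

/-- vectors fixed by `K ≤ E` are orthogonal to `[M, K]` -/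
theorem orth_cm {K : Subgroup H} (hK : K ≤ E) {x : M} (hx : ∀ s ∈ K, s • x = x) {y : M} (hy : y ∈ cm K (⊤ : Submodule F M)) :
    B x y = 0 := by
  unfold cm at hy
  induction hy using Submodule.span_induction with
  | mem y hy =>
    obtain ⟨s, hs, m, -, rfl⟩ := hy
    have h1 := d.BE s (hK hs) x m
    rw [hx s hs] at h1
    rw [map_sub, h1, sub_self]
  | zero => exact map_zero _
  | add y z _ _ hy hz => rw [map_add, hy, hz, add_zero]
  | smul c y _ hy => rw [map_smul, hy, smul_zero]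

theorem cm_mono {K : Subgroup H} {L L' : Submodule F M} (h : L ≤ L') : cm K L ≤ cm K L' := by
  have _ := d
  refine Submodule.span_mono ?_
  rintro _ ⟨s, hs, m, hm, rfl⟩
  exact ⟨s, hs, m, h hm, rfl⟩

theorem sp_tr {n : H} {v x : M} (hx : x ∈ sp F E v) : n • x ∈ sp F E (n • v) := by
  obtain ⟨σ, -, hσ⟩ := d.semi n
  unfold sp at hx
  induction hx using Submodule.span_induction with
  | mem x hx =>
    obtain ⟨g, hg, rfl⟩ := hx
    have h1 : n • g • v = (n * g * n⁻¹) • n • v := by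
      rw [smul_smul, smul_smul, inv_mul_cancel_right]
    rw [h1]
    exact d.mem_sp (d.normal.conj_mem g hg n) _
  | zero => rw [smul_zero]; exact zero_mem _
  | add x y _ _ hx hy => rw [smul_add]; exact add_mem hx hy
  | smul c x _ hx => rw [hσ]; exact Submodule.smul_mem _ _ hx

theorem cen_tr {K : Subgroup H} {n : H} (hn : n ∈ normalizer (K : Set H)) {v : M} (h : Cen F K (sp F E v)) :
    Cen F K (sp F E (n • v)) := by
  obtain ⟨w, hw⟩ := h
  obtain ⟨σ, -, hσ⟩ := d.semi n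
  refine ⟨n • w, fun y hy => ?_⟩
  have h1 : n⁻¹ • y ∈ sp F E v := by
    have := d.sp_tr (n := n⁻¹) hy
    rwa [inv_smul_smul] at this
  obtain ⟨a, ha, b, hb, hab⟩ := Submodule.mem_sup.1 (hw h1)
  obtain ⟨c, rfl⟩ := Submodule.mem_span_singleton.1 ha
  have h2 : n • b ∈ cm K (sp F E (n • v)) := by
    unfold cm at hb
    clear hab
    induction hb using Submodule.span_induction with
    | mem b hb =>
      obtain ⟨s, hs, m, hm, rfl⟩ := hb
      refine Submodule.subset_span ⟨n * s * n⁻¹, (mem_normalizer_iff.1 hn s).1 hs, n • m, d.sp_tr hm, ?_⟩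
      rw [smul_sub, smul_smul, smul_smul, inv_mul_cancel_right]
    | zero => rw [smul_zero]; exact zero_mem _
    | add x y _ _ hx hy => rw [smul_add]; exact add_mem hx hy
    | smul c x _ hx => rw [hσ]; exact Submodule.smul_mem _ _ hx
  have h3 : y = σ c • n • w + n • b := by
    rw [← hσ, ← smul_add, hab, smul_inv_smul]
  rw [h3]
  exact add_mem (Submodule.mem_sup_left (Submodule.smul_mem _ _ (Submodule.mem_span_singleton_self _)))
    (Submodule.mem_sup_right h2)

/-- one generator: two fixed vectors, the first not zero, are proportional -/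
theorem prop_of_one {K : Subgroup H} (hK : K ≤ E) {v : M}
    (h : (⊤ : Submodule F M) ≤ Submodule.span F {v} ⊔ cm K (⊤ : Submodule F M)) {x y : M} (hx : ∀ s ∈ K, s • x = x)
    (hy : ∀ s ∈ K, s • y = y) (hx0 : x ≠ 0) : ∃ c : F, y = c • x := by
  -- a fixed vector orthogonal to `v` is zero
  have key : ∀ z : M, (∀ s ∈ K, s • z = z) → B z v = 0 → z = 0 := by
    intro z hz hzv
    refine d.nd.1 z fun m => ?_
    obtain ⟨a, ha, b, hb, rfl⟩ := Submodule.mem_sup.1 (h (Submodule.mem_top : m ∈ ⊤))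
    obtain ⟨c, rfl⟩ := Submodule.mem_span_singleton.1 ha
    rw [map_add, map_smul, hzv, smul_zero, zero_add, d.orth_cm hK hz hb]
  have h1 : B x v ≠ 0 := fun h0 => hx0 (key x hx h0)
  refine ⟨B y v / B x v, ?_⟩
  rw [← sub_eq_zero]
  refine key _ (fun s hs => ?_) ?_
  · rw [smul_sub, hy s hs, d.lin s (hK hs), hx s hs]
  · rw [map_sub, LinearMap.sub_apply, map_smul, LinearMap.smul_apply, smul_eq_mul, div_mul_cancel₀ _ h1, sub_self]

/-- two generators: three fixed vectors are dependent -/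
theorem prop_of_two {K : Subgroup H} (hK : K ≤ E) {v w : M}
    (h : (⊤ : Submodule F M) ≤ Submodule.span F {v} ⊔ Submodule.span F {w} ⊔ cm K (⊤ : Submodule F M))
    {x y z : M} (hx : ∀ s ∈ K, s • x = x) (hy : ∀ s ∈ K, s • y = y) (hz : ∀ s ∈ K, s • z = z) (hx0 : x ≠ 0)
    (hxy : ∀ c : F, y ≠ c • x) : ∃ a c : F, z = a • x + c • y := by
  have key : ∀ z : M, (∀ s ∈ K, s • z = z) → B z v = 0 → B z w = 0 → z = 0 := by
    intro z hz hzv hzw
    refine d.nd.1 z fun m => ?_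
    have hm : m ∈ Submodule.span F {v} ⊔ Submodule.span F {w} ⊔ cm K (⊤ : Submodule F M) := h Submodule.mem_top
    obtain ⟨a, ha, b, hb, hab⟩ := Submodule.mem_sup.1 hm
    obtain ⟨a₁, ha₁, a₂, ha₂, ha₁₂⟩ := Submodule.mem_sup.1 ha
    obtain ⟨c, hc⟩ := Submodule.mem_span_singleton.1 ha₁
    obtain ⟨c', hc'⟩ := Submodule.mem_span_singleton.1 ha₂
    rw [← hab, ← ha₁₂, ← hc, ← hc', map_add, map_add, map_smul, map_smul, hzv, hzw, smul_zero, smul_zero, zero_add,
      zero_add, d.orth_cm hK hz hb]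
  have hcomb : ∀ (c : F) (y x : M), (∀ s ∈ K, s • y = y) → (∀ s ∈ K, s • x = x) →
      ∀ s ∈ K, s • (y - c • x) = y - c • x := by
    intro c y x hy hx s hs
    rw [smul_sub, d.lin s (hK hs), hx s hs, hy s hs]
  have hB : ∀ (c : F) (y x u : M), B (y - c • x) u = B y u - c * B x u := by
    intro c y x u
    rw [map_sub, LinearMap.sub_apply, map_smul, LinearMap.smul_apply, smul_eq_mul]
  -- the case `B x v ≠ 0`
  have aux : ∀ v w : M, (∀ z : M, (∀ s ∈ K, s • z = z) → B z v = 0 → B z w = 0 → z = 0) → B x v ≠ 0 →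
      ∃ a c : F, z = a • x + c • y := by
    intro v w key h1
    have hy1 := hcomb (B y v / B x v) y x hy hx
    have hz1 := hcomb (B z v / B x v) z x hz hx
    have hyv : B (y - (B y v / B x v) • x) v = 0 := by rw [hB, div_mul_cancel₀ _ h1, sub_self]
    have hzv : B (z - (B z v / B x v) • x) v = 0 := by rw [hB, div_mul_cancel₀ _ h1, sub_self]
    have hy2 : y - (B y v / B x v) • x ≠ 0 := fun h0 => hxy _ (sub_eq_zero.1 h0)
    set y' := y - (B y v / B x v) • x with hy'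
    set z' := z - (B z v / B x v) • x with hz'
    have hyw : B y' w ≠ 0 := fun h0 => hy2 (key y' hy1 hyv h0)
    have h3 : z' - (B z' w / B y' w) • y' = 0 := by
      refine key _ (hcomb _ _ _ hz1 hy1) ?_ ?_
      · rw [hB, hzv, hyv, mul_zero, sub_zero]
      · rw [hB, div_mul_cancel₀ _ hyw, sub_self]
    refine ⟨B z v / B x v - (B z' w / B y' w) * (B y v / B x v), B z' w / B y' w, ?_⟩
    have h4 : z = z' + (B z v / B x v) • x := by rw [hz']; abel
    rw [sub_eq_zero] at h3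
    rw [sub_smul, mul_smul]
    calc z = z' + (B z v / B x v) • x := h4
      _ = (B z' w / B y' w) • y' + (B z v / B x v) • x := by rw [← h3]
      _ = _ := by rw [hy', smul_sub]; abel
  by_cases h1 : B x v = 0
  · have h2 : B x w ≠ 0 := fun h2 => hx0 (key x hx h1 h2)
    exact aux w v (fun z hz h3 h4 => key z hz h4 h3) h2
  · exact aux v w key h1

end Dat

/-- the torus and the Sylow 2-subgroup -/
structure Tor (S E A : Subgroup H) (t : F → H) (e₀ : M) (D : Submodule F M) (B : LinearMap.BilinForm F M) : Prop where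
  lin : ∀ a, a ≠ 0 → ∀ (c : F) (x : M), t a • c • x = c • t a • x
  norm : ∀ a, a ≠ 0 → t a ∈ normalizer ((S ⊓ E : Subgroup H) : Set H)
  e : ∀ a, a ≠ 0 → t a • e₀ = a⁻¹ • e₀
  P : ∀ a, a ≠ 0 → ∀ x, B x e₀ = 0 → t a • x - a • x ∈ D
  comm : ∀ a b, a ≠ 0 → b ≠ 0 → t a * t b = t b * t a
  N : ∀ h : H, (∃ c : F, h • e₀ = c • e₀) → ∀ a, a ≠ 0 → ∃ b, b ≠ 0 ∧ ∃ a' ∈ A, h * t a * h⁻¹ = t b * a'
  Se : ∀ s ∈ S, ∃ c : F, s • e₀ = c • e₀
  SEe : ∀ s ∈ S ⊓ E, s • e₀ = e₀
  AS : A ≤ S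

/-- `|E : S ∩ E| = |S E : S|` -/
theorem relIndex_inf [Finite H] (S E : Subgroup H) [E.Normal] : (S ⊓ E).relIndex E = S.relIndex (S ⊔ E) := by
  have h1 : E.relIndex (S ⊔ E) = E.relIndex S := relIndex_sup_right S E
  have h2 := relIndex_mul_relIndex ⊥ (S ⊓ E) S bot_le inf_le_left
  have h3 := relIndex_mul_relIndex ⊥ E (S ⊔ E) bot_le le_sup_right
  have h4 := relIndex_mul_relIndex ⊥ S (S ⊔ E) bot_le le_sup_left
  have h5 := relIndex_mul_relIndex ⊥ (S ⊓ E) E bot_le inf_le_right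
  rw [inf_relIndex_left] at h2
  have h6 : (⊥ : Subgroup H).relIndex (S ⊓ E) * E.relIndex S ≠ 0 := by
    rw [h2, relIndex_bot_left]
    exact Nat.card_pos.ne'
  have h7 : (⊥ : Subgroup H).relIndex (S ⊓ E) * E.relIndex S * (S ⊓ E).relIndex E =
      (⊥ : Subgroup H).relIndex (S ⊓ E) * E.relIndex S * S.relIndex (S ⊔ E) := by
    rw [h2, h4, ← h3, ← h5, h1, ← h2]
    ring
  exact mul_left_cancel₀ h6 h7

/-- **Frattini** for `S ∩ E` -/
theorem frattini [Finite H] (S : Sylow 2 H) (E : Subgroup H) [E.Normal] :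
    normalizer (((S : Subgroup H) ⊓ E : Subgroup H) : Set H) ⊔ E = ⊤ := by
  have hfact : Fact (Nat.Prime 2) := ⟨Nat.prime_two⟩
  have h1 : IsPGroup 2 ((S : Subgroup H).subgroupOf E) :=
    S.isPGroup'.comap_of_injective E.subtype E.subtype_injective
  have h2 : ¬ 2 ∣ ((S : Subgroup H).subgroupOf E).index := by
    intro h
    apply S.not_dvd_index
    have h3 : ((S : Subgroup H).subgroupOf E).index = (S : Subgroup H).relIndex ((S : Subgroup H) ⊔ E) := by
      rw [← relIndex_inf, inf_relIndex_right]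
      rfl
    rw [h3] at h
    exact h.trans (relIndex_dvd_index_of_le le_sup_left)
  have h3 := Sylow.normalizer_sup_eq_top (h1.toSylow h2)
  rwa [IsPGroup.toSylow_coe, subgroupOf_map_subtype] at h3

/-- a group with a normaliser element of order 2 modulo it has even index -/
theorem even_index [Finite H] {K : Subgroup H} {x : H} (hx : x ∈ normalizer (K : Set H)) (h1 : x ∉ K) (h2 : x * x ∈ K) :
    2 ∣ K.index := by
  have h3 : (⟨x, hx⟩ : normalizer (K : Set H)) ∉ K.subgroupOf (normalizer (K : Set H)) := fun h => h1 (mem_subgroupOf.1 h)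
  have _ : (K.subgroupOf (normalizer (K : Set H))).Normal := Subgroup.normal_in_normalizer
  let q : normalizer (K : Set H) ⧸ K.subgroupOf (normalizer (K : Set H)) := QuotientGroup.mk ⟨x, hx⟩
  have h4 : q ≠ 1 := fun h => h3 ((QuotientGroup.eq_one_iff _).1 h)
  have h5 : q ^ 2 = 1 := by
    rw [pow_two]
    exact (QuotientGroup.eq_one_iff (⟨x, hx⟩ * ⟨x, hx⟩ : normalizer (K : Set H))).2 (mem_subgroupOf.2 h2)
  have h6 : orderOf q = 2 := orderOf_eq_prime h5 h4
  have h7 : 2 ∣ (K.subgroupOf (normalizer (K : Set H))).index := by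
    rw [Subgroup.index, ← h6]
    exact orderOf_dvd_natCard q
  exact h7.trans (relIndex_dvd_index_of_le le_normalizer)

section main

variable [Finite H] [FiniteDimensional F M] [Finite F] [CharP F 2] (S : Sylow 2 H) {E A : Subgroup H} {t : F → H}
  {e₀ : M} {D : Submodule F M} {B : LinearMap.BilinForm F M} (d : Dat E A e₀ D B)
  (τ : Tor (S : Subgroup H) E A t e₀ D B)

include d τ

theorem line_of_mem (hF : ∃ a : F, a ≠ 0 ∧ a ≠ 1) (hc : Cen F ((S : Subgroup H) ⊓ E) (sp F E e₀)) {n₀ : H}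
    (hn₀ : n₀ ∈ normalizer (((S : Subgroup H) ⊓ E : Subgroup H) : Set H)) : ∃ c : F, n₀ • e₀ = c • e₀ := by
  classical
  by_contra hy0
  push Not at hy0
  have hEn := d.normal
  obtain ⟨a, ha0, ha1⟩ := hF
  have hfact : Fact (Nat.Prime 2) := ⟨Nat.prime_two⟩
  set SE : Subgroup H := (S : Subgroup H) ⊓ E with hSE
  have hSEE : SE ≤ E := inf_le_right
  let N : Subgroup H := normalizer (SE : Set H)
  let Fx : M → Prop := fun x => ∀ s ∈ SE, s • x = x
  have FxN : ∀ n ∈ N, ∀ x, Fx x → Fx (n • x) := by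
    intro n hn x hx s hs
    have h1 : n⁻¹ * s * n ∈ SE := by
      have := (mem_normalizer_iff.1 (inv_mem hn) s).1 hs
      rwa [inv_inv] at this
    have h2 := hx _ h1
    have h3 : n • (n⁻¹ * s * n) • x = s • n • x := by
      rw [smul_smul, smul_smul]
      congr 1
      group
    rw [← h3, h2]
  have Fxe : Fx e₀ := fun s hs => τ.SEe s hs
  have FxA : ∀ x, Fx x → ∀ b ∈ A, b • x = x := fun x hx b hb => hx b (mem_inf.2 ⟨τ.AS hb, d.A_le hb⟩)
  have FxP : ∀ x, Fx x → B x e₀ = 0 := fun x hx => d.ker1 x (FxA x hx)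
  have FxD : ∀ x, Fx x → x ∈ D → ∃ c : F, x = c • e₀ := by
    intro x hx hxD
    obtain ⟨c, hc⟩ := d.mem_e.1 (d.ker0 x hxD (FxA x hx))
    exact ⟨c, hc.symm⟩
  have Fxadd : ∀ x y, Fx x → Fx y → Fx (x + y) := fun x y hx hy s hs => by rw [smul_add, hx s hs, hy s hs]
  have Fxsmul : ∀ (c : F) x, Fx x → Fx (c • x) := fun c x hx s hs => by rw [d.lin s (hSEE hs), hx s hs]
  have Fxsub : ∀ x y, Fx x → Fx y → Fx (x - y) := fun x y hx hy s hs => by rw [smul_sub, hx s hs, hy s hs]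
  have TN : ∀ b, b ≠ 0 → t b ∈ N := fun b hb => τ.norm b hb
  -- dimension two
  have dim2 : ∀ x y z : M, Fx x → Fx y → Fx z → x ≠ 0 → (∀ c : F, y ≠ c • x) → ∃ a c : F, z = a • x + c • y := by
    obtain ⟨h, hh⟩ := d.exists_ne
    have hfr : N ⊔ E = ⊤ := frattini S E
    have h1 : h ∈ E ⊔ N := by rw [sup_comm, hfr]; trivial
    rw [← SetLike.mem_coe, Subgroup.normal_mul] at h1
    obtain ⟨x, hx, n, hn, rfl⟩ := h1
    have h2 := d.sup_eq_top hx hh
    obtain ⟨v, hv⟩ := hc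
    obtain ⟨w, hw⟩ := d.cen_tr hn ⟨v, hv⟩
    have h3 : (⊤ : Submodule F M) ≤ Submodule.span F {v} ⊔ Submodule.span F {w} ⊔ cm SE (⊤ : Submodule F M) := by
      rw [← h2]
      refine sup_le (hv.trans (sup_le ?_ ?_)) (hw.trans (sup_le ?_ ?_))
      · exact le_sup_left.trans le_sup_left
      · exact (d.cm_mono le_sup_left).trans le_sup_right
      · exact le_sup_right.trans le_sup_left
      · exact (d.cm_mono le_sup_right).trans le_sup_right
    intro x y z hx hy hz hx0 hxy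
    exact d.prop_of_two hSEE h3 hx hy hz hx0 hxy
  -- the second eigenvector
  have haa : a - a⁻¹ ≠ 0 := by
    intro h0
    have h1 : a * a = 1 := by
      rw [sub_eq_zero] at h0
      nth_rewrite 2 [h0]
      exact mul_inv_cancel₀ ha0
    have h2 : (a - 1) * (a - 1) = 0 := by
      have h3 : (2 : F) = 0 := CharTwo.two_eq_zero
      linear_combination h1 - (a - 1) * h3
    exact ha1 (sub_eq_zero.1 (mul_self_eq_zero.1 h2))
  obtain ⟨u, hu, hun, huv, l₀, hyu⟩ : ∃ u, Fx u ∧ (∀ c : F, u ≠ c • e₀) ∧ (∀ b, b ≠ 0 → t b • u = b • u) ∧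
      ∃ l₀ : F, n₀ • e₀ = u - l₀ • e₀ := by
    have hy : Fx (n₀ • e₀) := FxN _ hn₀ _ Fxe
    obtain ⟨c, hc⟩ := FxD (t a • n₀ • e₀ - a • n₀ • e₀) (Fxsub _ _ (FxN _ (TN a ha0) _ hy) (Fxsmul _ _ hy))
      (τ.P a ha0 _ (FxP _ hy))
    have hc' : t a • n₀ • e₀ = a • n₀ • e₀ + c • e₀ := by rw [← hc]; abel
    have hcd : c / (a - a⁻¹) * (a - a⁻¹) = c := div_mul_cancel₀ _ haa
    obtain ⟨u, hu⟩ : ∃ u, u = n₀ • e₀ + (c / (a - a⁻¹)) • e₀ := ⟨_, rfl⟩
    have hun : ∀ c : F, u ≠ c • e₀ := by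
      intro c' h
      apply hy0 (c' - c / (a - a⁻¹))
      rw [sub_smul, ← h, hu]; abel
    have hta : t a • u = a • u := by
      rw [hu, smul_add, hc', τ.lin a ha0, τ.e a ha0, smul_add, smul_smul, smul_smul, add_assoc, ← add_smul]
      congr 2
      linear_combination -hcd
    have hFu : Fx u := by
      rw [hu]
      exact Fxadd _ _ hy (Fxsmul _ _ Fxe)
    refine ⟨u, hFu, hun, fun b hb => ?_, c / (a - a⁻¹), by rw [hu]; abel⟩
    obtain ⟨c', hc'⟩ := FxD (t b • u - b • u) (Fxsub _ _ (FxN _ (TN b hb) _ hFu) (Fxsmul _ _ hFu))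
      (τ.P b hb _ (FxP _ hFu))
    have h1 : t b • u = b • u + c' • e₀ := by rw [← hc']; abel
    have h2 : t a • t b • u = t b • t a • u := by rw [smul_smul, smul_smul, τ.comm a b ha0 hb]
    have h2' : t a • t b • u = (a * b) • u + (c' * a⁻¹) • e₀ := by
      rw [h1, smul_add, τ.lin a ha0, τ.lin a ha0, hta, τ.e a ha0, smul_smul, smul_smul, mul_comm b a]
    have h2'' : t b • t a • u = (a * b) • u + (a * c') • e₀ := by
      rw [hta, τ.lin b hb, h1, smul_add, smul_smul, smul_smul]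
    rw [h2', h2''] at h2
    have h3 := add_left_cancel h2
    have h4 : c' = 0 := by
      by_contra hc0
      have h5 : (c' * a⁻¹ - a * c') • e₀ = 0 := by rw [sub_smul, h3, sub_self]
      rcases smul_eq_zero.1 h5 with h6 | h6
      · apply haa
        have h7 : c' * (a - a⁻¹) = 0 := by linear_combination -h6
        exact (mul_eq_zero.1 h7).resolve_left hc0
      · exact d.ne h6
    rw [h1, h4, zero_smul, add_zero]
  have he0 : e₀ ≠ 0 := d.ne
  have hu0 : u ≠ 0 := fun h => hun 0 (by rw [h, zero_smul])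
  have heu : ∀ c : F, e₀ ≠ c • u := by
    intro c h
    by_cases hc : c = 0
    · rw [hc, zero_smul] at h; exact he0 h
    · apply hun c⁻¹
      rw [h, smul_smul, inv_mul_cancel₀ hc, one_smul]
  have indep : ∀ α β : F, α • e₀ + β • u = 0 → α = 0 ∧ β = 0 := by
    intro α β h
    have hβ : β = 0 := by
      by_contra hβ
      apply hun (-(β⁻¹ * α))
      have h1 : β • u = -(α • e₀) := by rw [eq_neg_iff_add_eq_zero, add_comm]; exact h
      have h2 : u = β⁻¹ • β • u := by rw [smul_smul, inv_mul_cancel₀ hβ, one_smul]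
      rw [h2, h1, smul_neg, neg_smul, smul_smul]
    rw [hβ, zero_smul, add_zero] at h
    exact ⟨(smul_eq_zero.1 h).resolve_right he0, hβ⟩
  have decomp : ∀ z, Fx z → ∃ α β : F, z = α • e₀ + β • u := fun z hz => dim2 e₀ u z Fxe hu hz he0 hun
  -- eigenvectors
  have eig : ∀ z, Fx z → (∃ μ : F, t a • z = μ • z) → (∃ c : F, z = c • e₀) ∨ ∃ c : F, z = c • u := by
    rintro z hz ⟨μ, hμ⟩
    obtain ⟨α, β, rfl⟩ := decomp z hz
    by_cases hα : α = 0
    · right; exact ⟨β, by rw [hα, zero_smul, zero_add]⟩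
    by_cases hβ : β = 0
    · left; exact ⟨α, by rw [hβ, zero_smul, add_zero]⟩
    exfalso
    rw [smul_add, τ.lin a ha0, τ.lin a ha0, τ.e a ha0, huv a ha0, smul_add, smul_smul, smul_smul, smul_smul,
      smul_smul] at hμ
    have h1 : (α * a⁻¹ - μ * α) • e₀ + (β * a - μ * β) • u = 0 := by
      rw [sub_smul, sub_smul, sub_add_sub_comm, hμ, sub_self]
    obtain ⟨h2, h3⟩ := indep _ _ h1
    have h4 : a⁻¹ = μ := mul_left_cancel₀ hα (by rw [mul_comm α μ]; exact sub_eq_zero.1 h2)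
    have h5 : a = μ := mul_left_cancel₀ hβ (by rw [mul_comm β μ]; exact sub_eq_zero.1 h3)
    exact haa (by rw [h4, ← h5, sub_self])
  -- membership in `F e₀`, `F u`, semilinearity
  have sm : ∀ (g : H) (v w : M), (∃ c : F, v = c • w) → ∃ c : F, g • v = c • g • w := by
    rintro g v w ⟨c, rfl⟩
    obtain ⟨σ, -, hσ⟩ := d.semi g
    exact ⟨σ c, hσ c w⟩
  have tr : ∀ (u v w : M), (∃ c : F, u = c • v) → (∃ c : F, v = c • w) → ∃ c : F, u = c • w := by
    rintro u v w ⟨c, rfl⟩ ⟨c', rfl⟩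
    exact ⟨c * c', smul_smul _ _ _⟩
  have sy : ∀ (v w : M), v ≠ 0 → (∃ c : F, v = c • w) → ∃ c : F, w = c • v := by
    rintro v w hv ⟨c, rfl⟩
    have hc : c ≠ 0 := fun h => hv (by rw [h, zero_smul])
    exact ⟨c⁻¹, by rw [smul_smul, inv_mul_cancel₀ hc, one_smul]⟩
  have nz : ∀ (g : H) (v : M), v ≠ 0 → g • v ≠ 0 := fun g v hv h => hv ((smul_eq_zero_iff_eq g).1 h)
  -- the stabiliser `K` of `F e₀` in `N`
  let K : Subgroup H :=
    { carrier := {g | g ∈ N ∧ ∃ c : F, g • e₀ = c • e₀}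
      one_mem' := ⟨one_mem _, 1, by rw [one_smul, one_smul]⟩
      mul_mem' := by
        rintro g h ⟨hg, hg'⟩ ⟨hh, hh'⟩
        refine ⟨mul_mem hg hh, ?_⟩
        rw [mul_smul]
        exact tr _ _ _ (sm g _ _ hh') hg'
      inv_mem' := by
        rintro g ⟨hg, hg'⟩
        refine ⟨N.inv_mem hg, ?_⟩
        have h1 := sm g⁻¹ _ _ (sy _ _ (nz g _ he0) hg')
        rwa [inv_smul_smul] at h1 }
  have hK : ∀ g, g ∈ K ↔ g ∈ N ∧ ∃ c : F, g • e₀ = c • e₀ := fun g => Iff.rfl
  have TK : ∀ b, b ≠ 0 → t b ∈ K := fun b hb => ⟨TN b hb, b⁻¹, τ.e b hb⟩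
  have hSK : (S : Subgroup H) ≤ K := by
    intro s hs
    refine ⟨?_, τ.Se s hs⟩
    rw [Subgroup.mem_normalizer_iff]
    intro x
    constructor
    · rintro ⟨h1, h2⟩
      exact ⟨(S : Subgroup H).mul_mem ((S : Subgroup H).mul_mem hs h1) ((S : Subgroup H).inv_mem hs),
        hEn.conj_mem x h2 s⟩
    · rintro ⟨h1, h2⟩
      have h3 := (S : Subgroup H).mul_mem ((S : Subgroup H).mul_mem ((S : Subgroup H).inv_mem hs) h1) hs
      have h4 := hEn.conj_mem _ h2 s⁻¹
      have e1 : s⁻¹ * (s * x * s⁻¹) * s = x := by group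
      have e2 : s⁻¹ * (s * x * s⁻¹) * s⁻¹⁻¹ = x := by group
      rw [e1] at h3
      rw [e2] at h4
      exact ⟨h3, h4⟩
  have hKodd : ¬ 2 ∣ K.index := fun h => S.not_dvd_index (h.trans (index_dvd_of_le hSK))
  -- `K` fixes `F u`
  have Ku : ∀ g ∈ K, ∃ c : F, g • u = c • u := by
    intro g hg
    have hgi := inv_mem hg
    have h1 : ∃ μ : F, t a • g • u = μ • g • u := by
      obtain ⟨b, hb, a', ha', h2⟩ := τ.N g⁻¹ ((hK _).1 hgi).2 a ha0
      rw [inv_inv] at h2
      have h3 : t a • g • u = g • (g⁻¹ * t a * g) • u := by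
        rw [smul_smul, smul_smul]
        congr 1
        group
      rw [h3, h2, mul_smul, FxA u hu a' ha', huv b hb]
      exact sm g _ _ ⟨b, rfl⟩
    rcases eig _ (FxN g hg.1 _ hu) h1 with h2 | h2
    · exfalso
      have h3 := sm g⁻¹ _ _ h2
      rw [inv_smul_smul] at h3
      obtain ⟨c, hc⟩ := tr _ _ _ h3 ((hK _).1 hgi).2
      exact hun c hc
    · exact h2
  -- some `x ∈ N` moves `F e₀` to `F u`
  obtain ⟨x, hxN, ρ, hρ⟩ : ∃ x ∈ N, ∃ c : F, x • e₀ = c • u := by
    by_contra hcon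
    push Not at hcon
    have hl : l₀ ≠ 0 := by
      intro h0
      apply hcon n₀ hn₀ 1
      rw [hyu, h0, zero_smul, sub_zero, one_smul]
    have hfin : Fintype F := Fintype.ofFinite F
    -- all points are reached
    have hex : ∀ c : F, ∃ g ∈ N, ∃ γ : F, γ ≠ 0 ∧ g • e₀ = γ • (e₀ + c • u) := by
      intro c
      by_cases hc0 : c = 0
      · exact ⟨1, one_mem _, 1, one_ne_zero, by rw [hc0, zero_smul, add_zero, one_smul, one_smul]⟩
      have hsq : ∀ z : F, ∃ b : F, b * b = z := by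
        intro z
        obtain ⟨b, hb⟩ := FiniteField.isSquare_of_char_two (ringChar.eq F 2) z
        exact ⟨b, hb.symm⟩
      obtain ⟨b, hb⟩ := hsq (-(c * l₀))
      have hb0 : b ≠ 0 := by
        intro h0
        rw [h0, mul_zero, eq_comm, neg_eq_zero] at hb
        exact (mul_ne_zero hc0 hl) hb
      refine ⟨t b * n₀, mul_mem (TN b hb0) hn₀, -(l₀ * b⁻¹), neg_ne_zero.2 (mul_ne_zero hl (inv_ne_zero hb0)), ?_⟩
      rw [mul_smul, hyu, smul_sub, τ.lin b hb0, τ.e b hb0, huv b hb0, smul_add, smul_smul, smul_smul, neg_smul,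
        sub_eq_add_neg, add_comm]
      congr 2
      have h1 : b⁻¹ * (b * b) = b := by rw [← mul_assoc, inv_mul_cancel₀ hb0, one_mul]
      calc b = b⁻¹ * (b * b) := h1.symm
        _ = b⁻¹ * (-(c * l₀)) := by rw [hb]
        _ = -(l₀ * b⁻¹) * c := by ring
    choose g hgN γ hγ hg using hex
    have hcard : Nat.card F = Nat.card (↥N ⧸ K.subgroupOf N) := by
      refine Nat.card_eq_of_bijective (fun c => (QuotientGroup.mk ⟨g c, hgN c⟩ : ↥N ⧸ K.subgroupOf N)) ⟨?_, ?_⟩
      · intro c c' h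
        have h1 : (g c)⁻¹ * g c' ∈ K := mem_subgroupOf.1 (QuotientGroup.eq.1 h)
        obtain ⟨α, hα⟩ := sm (g c) _ _ h1.2
        rw [smul_smul, mul_inv_cancel_left, hg, hg, smul_smul, smul_add, smul_add, smul_smul, smul_smul] at hα
        have h2 : (γ c' - α * γ c) • e₀ + (γ c' * c' - α * γ c * c) • u = 0 := by
          rw [sub_smul, sub_smul, sub_add_sub_comm, hα, sub_self]
        obtain ⟨h3, h4⟩ := indep _ _ h2
        rw [sub_eq_zero] at h3 h4
        rw [← h3] at h4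
        exact (mul_left_cancel₀ (hγ c') h4).symm
      · intro q
        obtain ⟨⟨h, hh⟩, rfl⟩ := QuotientGroup.mk_surjective q
        obtain ⟨α, β, hαβ⟩ := decomp _ (FxN h hh _ Fxe)
        have hα : α ≠ 0 := by
          intro h0
          apply hcon h hh β
          rw [hαβ, h0, zero_smul, zero_add]
        refine ⟨β / α, ?_⟩
        refine QuotientGroup.eq.2 (mem_subgroupOf.2 ?_)
        change (g (β / α))⁻¹ * h ∈ K
        refine ⟨mul_mem (inv_mem (hgN _)) hh, ?_⟩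
        rw [mul_smul, hαβ]
        have h1 : α • e₀ + β • u = (α * (γ (β / α))⁻¹) • g (β / α) • e₀ := by
          rw [hg, smul_smul, mul_assoc, inv_mul_cancel₀ (hγ _), mul_one, smul_add, smul_smul, mul_div_cancel₀ _ hα]
        rw [h1]
        have h2 := sm (g (β / α))⁻¹ _ _ (⟨_, rfl⟩ : ∃ c : F, (α * (γ (β / α))⁻¹) • g (β / α) • e₀ = c • g (β / α) • e₀)
        rwa [inv_smul_smul] at h2
    have h2 : 2 ∣ Nat.card F := by
      rw [Nat.card_eq_fintype_card]
      obtain ⟨n, -, hn⟩ := FiniteField.card F 2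
      rw [hn]
      exact dvd_pow_self 2 n.ne_zero
    rw [hcard] at h2
    have hKN : K ≤ N := fun g hg => hg.1
    exact hKodd (h2.trans (relIndex_dvd_index_of_le hKN))
  have hρ0 : ρ ≠ 0 := fun h => nz x _ he0 (by rw [hρ, h, zero_smul])
  have hxu : ∃ c : F, x⁻¹ • u = c • e₀ := by
    have h1 := sm x⁻¹ _ _ (sy _ _ (nz x _ he0) ⟨ρ, hρ⟩)
    rwa [inv_smul_smul] at h1
  -- `x` normalises `K`
  have hxi : x⁻¹ ∈ normalizer (K : Set H) := by
    refine mem_normalizer_fintype fun k hk => ?_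
    rw [inv_inv]
    refine ⟨mul_mem (mul_mem (inv_mem hxN) hk.1) hxN, ?_⟩
    rw [mul_smul, mul_smul, hρ]
    have h1 := sm k _ _ (⟨ρ, rfl⟩ : ∃ c : F, ρ • u = c • u)
    have h2 := sm x⁻¹ _ _ (tr _ _ _ h1 (Ku k hk))
    exact tr _ _ _ h2 hxu
  have hxn : x ∈ normalizer (K : Set H) := by
    have := inv_mem hxi
    rwa [inv_inv] at this
  have hxK : x ∉ K := by
    rintro ⟨-, c, hc⟩
    rw [hρ] at hc
    apply hun (ρ⁻¹ * c)
    rw [mul_smul, ← hc, smul_smul, inv_mul_cancel₀ hρ0, one_smul]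
  have hxx : x * x ∈ K := by
    refine ⟨mul_mem hxN hxN, ?_⟩
    have h1 : ∃ μ : F, t a • x • u = μ • x • u := by
      have h2 : x⁻¹ * t a * x ∈ K := by
        have := (mem_normalizer_iff.1 hxi (t a)).1 (TK a ha0)
        rwa [inv_inv] at this
      have h3 : t a • x • u = x • (x⁻¹ * t a * x) • u := by
        rw [smul_smul, smul_smul]
        congr 1
        group
      rw [h3]
      exact sm x _ _ (Ku _ h2)
    rw [mul_smul, hρ]
    have h2 := sm x _ _ (⟨ρ, rfl⟩ : ∃ c : F, ρ • u = c • u)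
    refine tr _ _ _ h2 ?_
    rcases eig _ (FxN x hxN _ hu) h1 with h3 | h3
    · exact h3
    · exfalso
      have h4 := sm x⁻¹ _ _ (sy _ _ (nz x _ hu0) h3)
      rw [inv_smul_smul] at h4
      obtain ⟨c, hc⟩ := tr _ _ _ (sy _ _ (nz x⁻¹ _ hu0) h4) hxu
      exact hun c hc
  exact hKodd (even_index hxn hxK hxx)

/-- **THEOREM D** -/
theorem main (hF : ∃ a : F, a ≠ 0 ∧ a ≠ 1) (hc : Cen F ((S : Subgroup H) ⊓ E) (sp F E e₀)) :
    sp F E e₀ = ⊤ ∧ (∀ x : M, (∀ s ∈ (S : Subgroup H) ⊓ E, s • x = x) → ∃ c : F, x = c • e₀) ∧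
      (∀ n ∈ normalizer (((S : Subgroup H) ⊓ E : Subgroup H) : Set H), ∃ c : F, n • e₀ = c • e₀) ∧
      ∀ h : H, ∃ g ∈ E, ∃ n, n ∈ normalizer (((S : Subgroup H) ⊓ E : Subgroup H) : Set H) ∧
        (∃ c : F, n • e₀ = c • e₀) ∧ h = g * n := by
  have hEn := d.normal
  have h1 : ∀ n ∈ normalizer (((S : Subgroup H) ⊓ E : Subgroup H) : Set H), ∃ c : F, n • e₀ = c • e₀ :=
    fun n hn => line_of_mem S d τ hF hc hn
  have h2 : ∀ h : H, ∃ g ∈ E, ∃ n, n ∈ normalizer (((S : Subgroup H) ⊓ E : Subgroup H) : Set H) ∧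
      (∃ c : F, n • e₀ = c • e₀) ∧ h = g * n := by
    intro h
    have h3 : h ∈ E ⊔ normalizer (((S : Subgroup H) ⊓ E : Subgroup H) : Set H) := by
      rw [sup_comm, frattini S E]
      trivial
    rw [← SetLike.mem_coe, Subgroup.normal_mul] at h3
    obtain ⟨g, hg, n, hn, rfl⟩ := h3
    exact ⟨g, hg, n, hn, h1 n hn, rfl⟩
  have h3 : sp F E e₀ = ⊤ := by
    refine d.span _ fun h => ?_
    obtain ⟨g, hg, n, -, ⟨c, hc⟩, rfl⟩ := h2 h
    rw [mul_smul, hc, d.lin g hg]
    exact Submodule.smul_mem _ _ (d.mem_sp hg _)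
  refine ⟨h3, fun x hx => ?_, h1, h2⟩
  obtain ⟨v, hv⟩ := hc
  rw [h3] at hv
  exact d.prop_of_one (inf_le_right : (S : Subgroup H) ⊓ E ≤ E) hv (fun s hs => τ.SEe s hs) hx d.ne

end main

end Cfsg.Agent.Omega.Lie.ThmD

end

section


/-!
# Matrix core of the rows `PSL_n(r)`, `PSU_n(r)`, `r` odd, of the K-fact (ZS) (helper584; NODE LIE)

* `of_cent`: `E` a 2-subgroup of `X`, any two elements of square 1 in `C_X(E)` which are conjugate under `MulAut X` are
  equal: then `NoCenMove X`;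
* `closure_insert`: generating 2-groups step by step;
* `mono s p`: signed permutation matrices; `sg f`: sign matrices;
* `core` (`n ≠ 4`): `M` invertible, `M²` scalar, `M` commutes up to scalars with all `mono s p` of determinant 1,
  `s = ±1`, `p ∈ P`: then `M = a • sg f` and `f` is shifted by `P`;
* `conj_card`: `sg g * C = κ • (C * sg f)`, `C` invertible: the numbers of ones of `f`, `g` are equal or complementary;
* `core4` (`n = 4`): the same with `Q₈ × Q₈` and the block swap.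
-/

set_option autoImplicit false
set_option linter.dupNamespace false

namespace Cfsg.Agent.Omega.Lie.CenMat

open Matrix Equiv

/-! ### group theory -/

section grp

variable {X : Type*} [Group X] [Finite X]

/-- the criterion: any two `MulAut`-conjugate elements of square 1 in `C_X(E)` are equal -/
theorem of_cent {E : Subgroup X} (hE : IsPGroup 2 E)
    (h : ∀ (u : X) (τ : MulAut X), (∀ e ∈ E, e * u = u * e) → (∀ e ∈ E, e * τ u = τ u * e) →
      u * u = 1 → τ u = u) : CenTwo.NoCenMove X := by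
  have : Fact (Nat.Prime 2) := ⟨Nat.prime_two⟩
  obtain ⟨S', hS'⟩ := hE.exists_le_sylow
  refine CenTwo.NoCenMove.of_one (S := S') ?_
  intro τ _ hS u hu hc huu
  refine h u τ (fun e he => hc e (hS' he)) (fun e he => ?_) huu
  obtain ⟨y, hy, hye⟩ := CenTwo.exists_preimage (S := (S' : Subgroup X)) hS (hS' he)
  rw [← hye, ← map_mul, hc y hy, map_mul]

/-- a 2-group extended by a 2-element normalising it -/
theorem closure_insert {S : Set X} (hS : IsPGroup 2 (Subgroup.closure S)) {w : X} {k : ℕ}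
    (hw : w ^ (2 ^ k) = 1) (h : ∀ s ∈ S, w * s * w⁻¹ ∈ Subgroup.closure S) :
    IsPGroup 2 (Subgroup.closure (insert w S)) := by
  have : Fact (Nat.Prime 2) := ⟨Nat.prime_two⟩
  have hle : Subgroup.map (MulAut.conj w).toMonoidHom (Subgroup.closure S) ≤ Subgroup.closure S := by
    rw [MonoidHom.map_closure, Subgroup.closure_le]
    rintro _ ⟨s, hs, rfl⟩
    exact h s hs
  have hcard : Nat.card (Subgroup.map (MulAut.conj w).toMonoidHom (Subgroup.closure S))
      = Nat.card (Subgroup.closure S) :=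
    Nat.card_congr ((Subgroup.closure S).equivMapOfInjective _ (MulAut.conj w).injective).symm.toEquiv
  have heq : Subgroup.map (MulAut.conj w).toMonoidHom (Subgroup.closure S) = Subgroup.closure S :=
    Subgroup.eq_of_le_of_card_ge hle (le_of_eq hcard.symm)
  have hN : Subgroup.zpowers w ≤ Subgroup.normalizer (Subgroup.closure S : Set X) := by
    rw [Subgroup.zpowers_le, Subgroup.mem_normalizer_iff]
    intro g
    constructor
    · intro hg
      exact hle ⟨g, hg, rfl⟩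
    · intro hg
      have hg' : w * g * w⁻¹ ∈ Subgroup.map (MulAut.conj w).toMonoidHom (Subgroup.closure S) := by
        rw [heq]; exact hg
      obtain ⟨y, hy, hyx⟩ := hg'
      have h2 : y = g := (MulAut.conj w).injective (by simpa using hyx)
      rw [← h2]; exact hy
  have h1 : IsPGroup 2 (Subgroup.zpowers w) := by
    rintro ⟨x, hx⟩
    obtain ⟨m, rfl⟩ := Subgroup.mem_zpowers_iff.1 hx
    refine ⟨k, ?_⟩
    apply Subtype.ext
    change (w ^ m) ^ (2 ^ k) = 1
    rw [← _root_.zpow_natCast, ← _root_.zpow_mul, mul_comm, _root_.zpow_mul, _root_.zpow_natCast, hw, _root_.one_zpow]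
  have h2 : IsPGroup 2 (Subgroup.zpowers w ⊔ Subgroup.closure S : Subgroup X) :=
    IsPGroup.to_sup_of_normal_right' h1 hS hN
  have h3 : Subgroup.closure (insert w S) = Subgroup.zpowers w ⊔ Subgroup.closure S := by
    rw [Set.insert_eq, Subgroup.closure_union, Subgroup.zpowers_eq_closure]
  rw [h3]
  exact h2

end grp

/-! ### signed permutation matrices -/

section mat

variable {ι F : Type*} [Fintype ι] [DecidableEq ι] [Field F]

/-- signed permutation matrices -/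
def mono (s : ι → F) (p : Perm ι) : Matrix ι ι F := fun i j => if i = p j then s i else 0

omit [Fintype ι] in
theorem mono_apply (s : ι → F) (p : Perm ι) (i j : ι) :
    mono s p i j = if i = p j then s i else 0 := rfl

omit [Fintype ι] in
theorem mono_one : mono (fun _ => (1 : F)) (1 : Perm ι) = 1 := by
  ext i j
  rw [mono_apply, one_apply]
  rfl

omit [Fintype ι] in
theorem mono_diag (s : ι → F) : mono s (1 : Perm ι) = diagonal s := by
  ext i j
  rw [mono_apply, diagonal_apply]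
  rfl

theorem mono_mul (s t : ι → F) (p r : Perm ι) :
    mono s p * mono t r = mono (fun i => s i * t (p⁻¹ i)) (p * r) := by
  ext i k
  rw [mul_apply, Finset.sum_eq_single (r k)]
  · rw [mono_apply, mono_apply, mono_apply, if_pos rfl, Perm.mul_apply]
    by_cases h : i = p (r k)
    · rw [if_pos h, if_pos h]
      have : p⁻¹ i = r k := by rw [h]; simp
      rw [this]
    · rw [if_neg h, if_neg h, zero_mul]
  · intro j _ hj
    rw [mono_apply t, if_neg hj, mul_zero]
  · intro h; exact absurd (Finset.mem_univ _) h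

theorem mono_eq (s : ι → F) (p : Perm ι) :
    mono s p = diagonal s * (1 : Matrix ι ι F).submatrix id p := by
  ext i j
  rw [mono_apply, diagonal_mul, submatrix_apply, one_apply, id]
  by_cases h : i = p j
  · rw [if_pos h, if_pos h, mul_one]
  · rw [if_neg h, if_neg h, mul_zero]

theorem det_mono (s : ι → F) (p : Perm ι) :
    (mono s p).det = (∏ i, s i) * ((Perm.sign p : ℤ) : F) := by
  rw [mono_eq, det_mul, det_diagonal, det_permute', det_one, mul_one]

/-- for each permutation there is a choice of signs with determinant one -/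
theorem exists_signs [Nonempty ι] (p : Perm ι) :
    ∃ s : ι → F, (∀ i, s i * s i = 1) ∧ (mono s p).det = 1 := by
  rcases Int.units_eq_one_or (Perm.sign p) with h | h
  · refine ⟨fun _ => 1, fun _ => by rw [one_mul], ?_⟩
    rw [det_mono, h]; simp
  · obtain ⟨i0⟩ := (inferInstance : Nonempty ι)
    refine ⟨fun i => if i = i0 then -1 else 1, fun i => ?_, ?_⟩
    · by_cases hi : i = i0
      · simp [hi]
      · simp [hi]
    · rw [det_mono, h, Finset.prod_ite_eq' Finset.univ i0 (fun _ => (-1 : F))]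
      simp

/-- the sign of an element of `ZMod 2` -/
def sgn (F : Type*) [Field F] (x : ZMod 2) : F := if x = 1 then -1 else 1

theorem sgn_zero : sgn F 0 = 1 := by
  rw [sgn, if_neg (by decide)]

theorem sgn_one : sgn F 1 = -1 := by
  rw [sgn, if_pos rfl]

theorem sgn_add (x y : ZMod 2) : sgn F (x + y) = sgn F x * sgn F y := by
  have h01 : ∀ x : ZMod 2, x = 0 ∨ x = 1 := by decide
  rcases h01 x with rfl | rfl <;> rcases h01 y with rfl | rfl
  · rw [add_zero, sgn_zero, mul_one]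
  · rw [zero_add, sgn_zero, one_mul]
  · rw [add_zero, sgn_zero, mul_one]
  · rw [CharTwo.add_self_eq_zero, sgn_zero, sgn_one]; ring

theorem sgn_mul_self (x : ZMod 2) : sgn F x * sgn F x = 1 := by
  rw [← sgn_add, CharTwo.add_self_eq_zero, sgn_zero]

theorem sgn_ne_zero (x : ZMod 2) : sgn F x ≠ 0 := by
  intro h
  have := sgn_mul_self (F := F) x
  rw [h, zero_mul] at this
  exact zero_ne_one this

theorem neg_one_ne_one (h2 : (2 : F) ≠ 0) : (-1 : F) ≠ 1 := by
  intro h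
  apply h2
  linear_combination -h

theorem sgn_inj (h2 : (2 : F) ≠ 0) {x y : ZMod 2} (h : sgn F x = sgn F y) : x = y := by
  have h01 : ∀ x : ZMod 2, x = 0 ∨ x = 1 := by decide
  rcases h01 x with rfl | rfl <;> rcases h01 y with rfl | rfl
  · rfl
  · rw [sgn_zero, sgn_one] at h; exact absurd h.symm (neg_one_ne_one h2)
  · rw [sgn_zero, sgn_one] at h; exact absurd h (neg_one_ne_one h2)
  · rfl

/-- the sign matrix of a `0-1`-function -/
def sg (F : Type*) [Field F] (f : ι → ZMod 2) : Matrix ι ι F := diagonal fun i => sgn F (f i)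

theorem sg_mul_self (f : ι → ZMod 2) : sg F f * sg F f = 1 := by
  rw [sg, diagonal_mul_diagonal]
  simp only [sgn_mul_self]
  exact diagonal_one

omit [Fintype ι] in
theorem sg_add_one (f : ι → ZMod 2) : sg F (fun i => f i + 1) = -sg F f := by
  rw [sg, sg, diagonal_neg]
  congr 1
  funext i
  rw [sgn_add, sgn_one, mul_neg, mul_one]

/-- ranks of two diagonal matrices which are equivalent by an invertible matrix -/
theorem card_eq_of_conj {u v : ι → F} [DecidablePred fun i => v i ≠ 0]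
    [DecidablePred fun i => u i ≠ 0] {C : Matrix ι ι F} (hC : IsUnit C.det)
    (h : diagonal v * C = C * diagonal u) :
    (Finset.univ.filter fun i => v i ≠ 0).card = (Finset.univ.filter fun i => u i ≠ 0).card := by
  classical
  have h1 := rank_mul_eq_left_of_isUnit_det C (diagonal v) hC
  have h2 := rank_mul_eq_right_of_isUnit_det C (diagonal u) hC
  rw [h, h2, rank_diagonal, rank_diagonal, Fintype.card_subtype, Fintype.card_subtype] at h1
  convert h1.symm

theorem conj_card (h2 : (2 : F) ≠ 0) {f g : ι → ZMod 2} {C : Matrix ι ι F} (hC : IsUnit C.det)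
    {κ : F} (h : sg F g * C = κ • (C * sg F f)) :
    (Finset.univ.filter fun i => f i = 1).card = (Finset.univ.filter fun i => g i = 1).card ∨
      (Finset.univ.filter fun i => f i = 1).card = (Finset.univ.filter fun i => g i = 0).card := by
  classical
  have h01 : ∀ x : ZMod 2, x = 0 ∨ x = 1 := by decide
  rcases isEmpty_or_nonempty ι with hι | ⟨⟨i0⟩⟩
  · left; simp
  have hκ : κ * κ = 1 := by
    have h3 : C = (κ * κ) • C := by
      calc C = (sg F g * sg F g) * C := by rw [sg_mul_self, one_mul]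
        _ = sg F g * (κ • (C * sg F f)) := by rw [mul_assoc, h]
        _ = κ • ((sg F g * C) * sg F f) := by rw [Matrix.mul_smul, mul_assoc]
        _ = (κ * κ) • (C * (sg F f * sg F f)) := by
            rw [h, Matrix.smul_mul, smul_smul, mul_assoc]
        _ = (κ * κ) • C := by rw [sg_mul_self, mul_one]
    obtain ⟨D, hD⟩ : ∃ D, C * D = 1 := ⟨C⁻¹, mul_nonsing_inv C hC⟩
    have h4 : (1 : Matrix ι ι F) = (κ * κ) • (1 : Matrix ι ι F) := by
      rw [← hD, ← Matrix.smul_mul, ← h3]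
    have h5 := congrFun (congrFun h4 i0) i0
    rw [Matrix.smul_apply, one_apply_eq, smul_eq_mul, mul_one] at h5
    exact h5.symm
  have hκ' : κ = 1 ∨ κ = -1 := by
    have h3 : (κ - 1) * (κ + 1) = 0 := by linear_combination hκ
    rcases mul_eq_zero.1 h3 with h4 | h4
    · left; exact sub_eq_zero.1 h4
    · right; exact eq_neg_of_add_eq_zero_left h4
  rcases hκ' with rfl | rfl
  · left
    rw [one_smul] at h
    have h3 : diagonal (fun i => sgn F (g i) - 1) * C = C * diagonal (fun i => sgn F (f i) - 1) := by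
      have e1 : diagonal (fun i => sgn F (g i) - 1) = sg F g - 1 := by
        rw [sg, ← diagonal_one, diagonal_sub]
      have e2 : diagonal (fun i => sgn F (f i) - 1) = sg F f - 1 := by
        rw [sg, ← diagonal_one, diagonal_sub]
      rw [e1, e2, sub_mul, mul_sub, h, one_mul, mul_one]
    have h4 := card_eq_of_conj hC h3
    have key : ∀ f : ι → ZMod 2, (Finset.univ.filter fun i => sgn F (f i) - 1 ≠ 0)
        = Finset.univ.filter fun i => f i = 1 := by
      intro f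
      refine Finset.filter_congr fun i _ => ?_
      rcases h01 (f i) with h | h
      · rw [h, sgn_zero]; simp
      · rw [h, sgn_one]
        have : (-1 : F) - 1 ≠ 0 := fun h => neg_one_ne_one h2 (sub_eq_zero.1 h)
        simp [this]
    rw [key, key] at h4
    exact h4.symm
  · right
    have h3 : diagonal (fun i => sgn F (g i) + 1) * C = C * diagonal (fun i => -sgn F (f i) + 1) := by
      have e1 : diagonal (fun i => sgn F (g i) + 1) = sg F g + 1 := by
        rw [sg, ← diagonal_one, diagonal_add]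
      have e2 : diagonal (fun i => -sgn F (f i) + 1) = -sg F f + 1 := by
        rw [sg, ← diagonal_one, diagonal_neg, diagonal_add]
      rw [e1, e2, add_mul, mul_add, h, one_mul, mul_one, mul_neg, neg_smul, one_smul]
    have h4 := card_eq_of_conj hC h3
    have key : (Finset.univ.filter fun i => sgn F (g i) + 1 ≠ 0)
        = Finset.univ.filter fun i => g i = 0 := by
      refine Finset.filter_congr fun i _ => ?_
      rcases h01 (g i) with h | h
      · rw [h, sgn_zero]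
        have : (1 : F) + 1 ≠ 0 := by rwa [one_add_one_eq_two]
        simp [this]
      · rw [h, sgn_one]; simp
    have key' : (Finset.univ.filter fun i => -sgn F (f i) + 1 ≠ 0)
        = Finset.univ.filter fun i => f i = 1 := by
      refine Finset.filter_congr fun i _ => ?_
      rcases h01 (f i) with h | h
      · rw [h, sgn_zero]; simp
      · rw [h, sgn_one]
        have : (- -1 : F) + 1 ≠ 0 := by rwa [neg_neg, one_add_one_eq_two]
        exact ⟨fun _ => rfl, fun _ => this⟩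
    rw [key, key'] at h4
    exact h4.symm

/-- **the core for `n ≠ 4`** -/
theorem core (h2 : (2 : F) ≠ 0) (hn : 3 ≤ Fintype.card ι) (hn4 : Fintype.card ι ≠ 4)
    {P : Set (Perm ι)} (h1 : (1 : Perm ι) ∈ P) {M : Matrix ι ι F} (hM : IsUnit M.det) {μ : F}
    (hμ : M * M = μ • (1 : Matrix ι ι F))
    (hE : ∀ s : ι → F, (∀ i, s i * s i = 1) → ∀ p ∈ P, (mono s p).det = 1 →
      ∃ c : F, M * mono s p = c • (mono s p * M)) :
    ∃ (a : F) (f : ι → ZMod 2), a ≠ 0 ∧ M = a • sg F f ∧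
      ∀ p ∈ P, ∃ c, ∀ i, f (p i) = f i + c := by
  classical
  have hne : Nonempty ι := by
    rw [← Fintype.card_pos_iff]; omega
  have h01 : ∀ x : ZMod 2, x = 0 ∨ x = 1 := by decide
  have hneg := neg_one_ne_one h2
  -- step 1: `M` commutes with the diagonal matrices with two entries `-1`
  have comm : ∀ i j : ι, i ≠ j → ∀ a b : ι,
      M a b * (if b = i ∨ b = j then -1 else 1) = (if a = i ∨ a = j then -1 else 1) * M a b := by
    intro i j hij a b
    set d : ι → F := fun k => if k = i ∨ k = j then -1 else 1 with hd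
    have hdd : ∀ k, d k * d k = 1 := by
      intro k
      simp only [hd]
      by_cases hk : k = i ∨ k = j
      · rw [if_pos hk]; ring
      · rw [if_neg hk]; ring
    have hdet : (mono d 1).det = 1 := by
      rw [det_mono, Perm.sign_one]
      have h3 : ∏ k, d k = 1 := by
        rw [Finset.prod_ite]
        have h4 : (Finset.univ.filter fun k => k = i ∨ k = j) = {i, j} := by
          ext k; simp
        rw [h4, Finset.prod_const, Finset.prod_const_one, Finset.card_pair hij]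
        ring
      rw [h3]; simp
    obtain ⟨c, hc⟩ := hE d hdd 1 h1 hdet
    rw [mono_diag] at hc
    have hent : ∀ a b, M a b * d b = c * (d a * M a b) := by
      intro a b
      have h3 := congrFun (congrFun hc a) b
      rw [mul_diagonal, Matrix.smul_apply, diagonal_mul, smul_eq_mul] at h3
      exact h3
    -- some entry is non zero
    obtain ⟨a0, b0, hab⟩ : ∃ a b, M a b ≠ 0 := by
      by_contra hno
      push Not at hno
      have h3 : M = 0 := by
        ext a b; exact hno a b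
      rw [h3, det_zero] at hM
      exact not_isUnit_zero hM
    have hcc : c * c = 1 := by
      have h3 := hent a0 b0
      have h4 : d b0 = c * d a0 := by
        apply mul_left_cancel₀ hab
        rw [h3]; ring
      have h5 := hdd b0
      rw [h4] at h5
      have h6 := hdd a0
      linear_combination h5 - c * c * h6
    have hc1 : c = 1 := by
      have h3 : (c - 1) * (c + 1) = 0 := by linear_combination hcc
      rcases mul_eq_zero.1 h3 with h4 | h4
      · exact sub_eq_zero.1 h4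
      · exfalso
        have h5 : c = -1 := eq_neg_of_add_eq_zero_left h4
        have h6 : diagonal (fun k => -d k - 1) * M = M * diagonal (fun k => d k - 1) := by
          ext a b
          rw [diagonal_mul, mul_diagonal]
          have h7 := hent a b
          rw [h5] at h7
          linear_combination -h7
        have h7 := card_eq_of_conj hM h6
        have h8 : (Finset.univ.filter fun k => d k - 1 ≠ 0) = {i, j} := by
          ext k
          simp only [Finset.mem_filter, Finset.mem_univ, true_and, Finset.mem_insert,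
            Finset.mem_singleton, hd]
          by_cases hk : k = i ∨ k = j
          · rw [if_pos hk]
            exact ⟨fun _ => hk, fun _ h => hneg (sub_eq_zero.1 h)⟩
          · rw [if_neg hk]
            exact ⟨fun h => absurd (sub_self _) h, fun h => absurd h hk⟩
        have h9 : (Finset.univ.filter fun k => -d k - 1 ≠ 0) = ({i, j} : Finset ι)ᶜ := by
          ext k
          simp only [Finset.mem_filter, Finset.mem_univ, true_and, Finset.mem_insert,
            Finset.mem_singleton, Finset.mem_compl, hd]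
          by_cases hk : k = i ∨ k = j
          · rw [if_pos hk]
            exact ⟨fun h => absurd (by ring) h, fun h => absurd hk h⟩
          · rw [if_neg hk]
            refine ⟨fun _ => hk, fun _ h => h2 ?_⟩
            linear_combination -h
        rw [h8, h9, Finset.card_compl, Finset.card_pair hij] at h7
        omega
    have h3 := hent a b
    rw [hc1, one_mul] at h3
    exact h3
  -- step 2: `M` is diagonal
  have hdiag : ∀ a b : ι, a ≠ b → M a b = 0 := by
    intro a b hab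
    obtain ⟨k, hk⟩ : ∃ k : ι, k ∉ ({a, b} : Finset ι) := by
      by_contra hno
      push Not at hno
      have h3 : (Finset.univ : Finset ι) ⊆ {a, b} := fun k _ => hno k
      have h4 := Finset.card_le_card h3
      rw [Finset.card_univ, Finset.card_pair hab] at h4
      omega
    have hka : a ≠ k := by
      rintro rfl; exact hk (by simp)
    have hkb : b ≠ k := by
      rintro rfl; exact hk (by simp)
    have h3 := comm a k hka a b
    rw [if_neg (by rintro (h | h); exacts [hab h.symm, hkb h]), if_pos (Or.inl rfl)] at h3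
    have h4 : (2 : F) * M a b = 0 := by linear_combination h3
    exact (mul_eq_zero.1 h4).resolve_left h2
  obtain ⟨i0⟩ := hne
  have hMd : M = diagonal fun i => M i i := by
    ext a b
    rw [diagonal_apply]
    by_cases hab : a = b
    · rw [if_pos hab, hab]
    · rw [if_neg hab, hdiag a b hab]
  have hsq : ∀ i, M i i * M i i = μ := by
    intro i
    have h3 := congrFun (congrFun hμ i) i
    rw [hMd, diagonal_mul_diagonal, diagonal_apply_eq, Matrix.smul_apply, one_apply_eq, smul_eq_mul,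
      mul_one] at h3
    exact h3
  have hne0 : ∀ i, M i i ≠ 0 := by
    intro i hi
    rw [hMd, det_diagonal] at hM
    exact hM.ne_zero (Finset.prod_eq_zero (Finset.mem_univ i) hi)
  have hpm : ∀ i, M i i = M i0 i0 ∨ M i i = -M i0 i0 := by
    intro i
    have h3 : (M i i - M i0 i0) * (M i i + M i0 i0) = 0 := by
      linear_combination hsq i - hsq i0
    rcases mul_eq_zero.1 h3 with h4 | h4
    · left; exact sub_eq_zero.1 h4
    · right; exact eq_neg_of_add_eq_zero_left h4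
  set a := M i0 i0 with ha
  let f : ι → ZMod 2 := fun i => if M i i = a then 0 else 1
  have hf : ∀ i, M i i = a * sgn F (f i) := by
    intro i
    simp only [f]
    by_cases hi : M i i = a
    · rw [if_pos hi, sgn_zero, mul_one, hi]
    · rw [if_neg hi, sgn_one]
      rcases hpm i with h | h
      · exact absurd h hi
      · rw [h]; ring
  refine ⟨a, f, hne0 i0, ?_, ?_⟩
  · ext i j
    rw [Matrix.smul_apply, sg, diagonal_apply, smul_eq_mul]
    by_cases hij : i = j
    · rw [if_pos hij, ← hf, hij]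
    · rw [if_neg hij, hdiag i j hij, mul_zero]
  · intro p hp
    have : Nonempty ι := ⟨i0⟩
    obtain ⟨s, hs, hdet⟩ := exists_signs (F := F) p
    obtain ⟨c, hc⟩ := hE s hs p hp hdet
    have hent : ∀ j, sgn F (f (p j)) = c * sgn F (f j) := by
      intro j
      have h3 := congrFun (congrFun hc (p j)) j
      rw [hMd, diagonal_mul, Matrix.smul_apply, mul_diagonal, smul_eq_mul, mono_apply, if_pos rfl, hf,
        hf] at h3
      have h4 : s (p j) ≠ 0 := by
        intro h5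
        have h6 := hs (p j)
        rw [h5, zero_mul] at h6
        exact zero_ne_one h6
      have h5 : a * s (p j) * sgn F (f (p j)) = a * s (p j) * (c * sgn F (f j)) := by
        linear_combination h3
      exact mul_left_cancel₀ (mul_ne_zero (hne0 i0) h4) h5
    have hcval : c = sgn F (f (p i0) + f i0) := by
      rw [sgn_add, hent i0, mul_assoc, sgn_mul_self, mul_one]
    refine ⟨f (p i0) + f i0, fun i => ?_⟩
    apply sgn_inj h2
    rw [hent, hcval, sgn_add (f i), mul_comm]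

theorem top_block (h2 : (2 : F) ≠ 0) {p q r : F} (h : p * p + q * r = -1)
    {M N : Matrix (Fin 4) (Fin 4) F} (hNM : N * M = 1) {c : F}
    (hc : M * !![p, q, 0, 0; r, -p, 0, 0; 0, 0, 1, 0; 0, 0, 0, 1]
      = c • (!![p, q, 0, 0; r, -p, 0, 0; 0, 0, 1, 0; 0, 0, 0, 1] * M)) :
    (M 0 2 = 0 ∧ M 0 3 = 0 ∧ M 1 2 = 0 ∧ M 1 3 = 0) ∧
    (M 2 0 = 0 ∧ M 2 1 = 0 ∧ M 3 0 = 0 ∧ M 3 1 = 0) ∧
    (M 0 0 * p + M 0 1 * r = p * M 0 0 + q * M 1 0 ∧
      M 0 0 * q + M 0 1 * -p = p * M 0 1 + q * M 1 1) := by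
  have e : ∀ i j, (M * !![p, q, 0, 0; r, -p, 0, 0; 0, 0, 1, 0; 0, 0, 0, 1]) i j
      = c * ((!![p, q, 0, 0; r, -p, 0, 0; 0, 0, 1, 0; 0, 0, 0, 1] : Matrix (Fin 4) (Fin 4) F) * M) i j := by
    intro i j; rw [hc]; rfl
  simp only [Matrix.mul_apply, Fin.sum_univ_four] at e
  have n : ∀ i j, N i 0 * M 0 j + N i 1 * M 1 j + N i 2 * M 2 j + N i 3 * M 3 j
      = (1 : Matrix (Fin 4) (Fin 4) F) i j := by
    intro i j; rw [← hNM, Matrix.mul_apply, Fin.sum_univ_four]
  have d22 : M 2 2 = c * M 2 2 := by simpa using e 2 2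
  have d23 : M 2 3 = c * M 2 3 := by simpa using e 2 3
  have d32 : M 3 2 = c * M 3 2 := by simpa using e 3 2
  have d33 : M 3 3 = c * M 3 3 := by simpa using e 3 3
  have b02 : M 0 2 = c * (p * M 0 2 + q * M 1 2) := by simpa using e 0 2
  have b03 : M 0 3 = c * (p * M 0 3 + q * M 1 3) := by simpa using e 0 3
  have b12 : M 1 2 = c * (r * M 0 2 + -p * M 1 2) := by simpa using e 1 2
  have b13 : M 1 3 = c * (r * M 0 3 + -p * M 1 3) := by simpa using e 1 3
  have c20 : M 2 0 * p + M 2 1 * r = c * M 2 0 := by simpa using e 2 0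
  have c21 : M 2 0 * q + M 2 1 * -p = c * M 2 1 := by simpa using e 2 1
  have c30 : M 3 0 * p + M 3 1 * r = c * M 3 0 := by simpa using e 3 0
  have c31 : M 3 0 * q + M 3 1 * -p = c * M 3 1 := by simpa using e 3 1
  have a00 : M 0 0 * p + M 0 1 * r = c * (p * M 0 0 + q * M 1 0) := by simpa using e 0 0
  have a01 : M 0 0 * q + M 0 1 * -p = c * (p * M 0 1 + q * M 1 1) := by simpa using e 0 1
  have hc1 : c = 1 := by
    by_contra hne
    have hz : ∀ x : F, x = c * x → x = 0 := by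
      intro x hx
      have h3 : (1 - c) * x = 0 := by linear_combination hx
      rcases mul_eq_zero.1 h3 with h4 | h4
      · exact absurd (sub_eq_zero.1 h4).symm hne
      · exact h4
    have z22 := hz _ d22
    have z23 := hz _ d23
    have z32 := hz _ d32
    have z33 := hz _ d33
    have n22 : N 2 0 * M 0 2 + N 2 1 * M 1 2 = 1 := by
      have := n 2 2
      rw [z22, z32] at this
      simpa using this
    have n23 : N 2 0 * M 0 3 + N 2 1 * M 1 3 = 0 := by
      have := n 2 3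
      rw [z23, z33] at this
      simpa using this
    have n32 : N 3 0 * M 0 2 + N 3 1 * M 1 2 = 0 := by
      have := n 3 2
      rw [z22, z32] at this
      simpa using this
    have n33 : N 3 0 * M 0 3 + N 3 1 * M 1 3 = 1 := by
      have := n 3 3
      rw [z23, z33] at this
      simpa using this
    have hdet : (N 2 0 * N 3 1 - N 2 1 * N 3 0) * (M 0 2 * M 1 3 - M 0 3 * M 1 2) = 1 := by
      calc (N 2 0 * N 3 1 - N 2 1 * N 3 0) * (M 0 2 * M 1 3 - M 0 3 * M 1 2)
          = (N 2 0 * M 0 2 + N 2 1 * M 1 2) * (N 3 0 * M 0 3 + N 3 1 * M 1 3)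
            - (N 2 0 * M 0 3 + N 2 1 * M 1 3) * (N 3 0 * M 0 2 + N 3 1 * M 1 2) := by ring
        _ = 1 := by rw [n22, n33, n23]; ring
    have hdet0 : M 0 2 * M 1 3 - M 0 3 * M 1 2 ≠ 0 := by
      intro h0; rw [h0, mul_zero] at hdet; exact zero_ne_one hdet
    have k1 : (c * p - 1) * (M 0 2 * M 1 3 - M 0 3 * M 1 2) = 0 := by
      linear_combination -b02 * M 1 3 + b03 * M 1 2
    have k2 : (c * p + 1) * (M 0 2 * M 1 3 - M 0 3 * M 1 2) = 0 := by
      linear_combination -b12 * M 0 3 + b13 * M 0 2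
    have k3 := (mul_eq_zero.1 k1).resolve_right hdet0
    have k4 := (mul_eq_zero.1 k2).resolve_right hdet0
    apply h2
    linear_combination k4 - k3
  subst hc1
  rw [one_mul] at b02 b03 b12 b13 c20 c21 c30 c31 a00 a01
  have two : ∀ x : F, 2 * x = 0 → x = 0 := fun x hx => (mul_eq_zero.1 hx).resolve_left h2
  refine ⟨⟨two _ ?_, two _ ?_, two _ ?_, two _ ?_⟩, ⟨two _ ?_, two _ ?_, two _ ?_, two _ ?_⟩, a00, a01⟩
  · linear_combination (1 + p) * b02 + q * b12 + M 0 2 * h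
  · linear_combination (1 + p) * b03 + q * b13 + M 0 3 * h
  · linear_combination (1 - p) * b12 + r * b02 + M 1 2 * h
  · linear_combination (1 - p) * b13 + r * b03 + M 1 3 * h
  · linear_combination -(1 + p) * c20 - r * c21 + M 2 0 * h
  · linear_combination -(1 - p) * c21 - q * c20 + M 2 1 * h
  · linear_combination -(1 + p) * c30 - r * c31 + M 3 0 * h
  · linear_combination -(1 - p) * c31 - q * c30 + M 3 1 * h

/-- **the core for `n = 4`**: `Q₈ × Q₈` and the swap -/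
theorem core4 (h2 : (2 : F) ≠ 0) {a b : F} (hab : a * a + b * b = -1)
    {M N : Matrix (Fin 4) (Fin 4) F} (hNM : N * M = 1)
    (he1 : ∃ c : F, M * !![0, 1, 0, 0; -1, 0, 0, 0; 0, 0, 1, 0; 0, 0, 0, 1]
      = c • (!![0, 1, 0, 0; -1, 0, 0, 0; 0, 0, 1, 0; 0, 0, 0, 1] * M))
    (he2 : ∃ c : F, M * !![a, b, 0, 0; b, -a, 0, 0; 0, 0, 1, 0; 0, 0, 0, 1]
      = c • (!![a, b, 0, 0; b, -a, 0, 0; 0, 0, 1, 0; 0, 0, 0, 1] * M))
    (he3 : ∃ c : F, M * !![1, 0, 0, 0; 0, 1, 0, 0; 0, 0, 0, 1; 0, 0, -1, 0]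
      = c • (!![1, 0, 0, 0; 0, 1, 0, 0; 0, 0, 0, 1; 0, 0, -1, 0] * M))
    (he4 : ∃ c : F, M * !![1, 0, 0, 0; 0, 1, 0, 0; 0, 0, a, b; 0, 0, b, -a]
      = c • (!![1, 0, 0, 0; 0, 1, 0, 0; 0, 0, a, b; 0, 0, b, -a] * M))
    (he5 : ∃ c : F, M * !![0, 0, 1, 0; 0, 0, 0, 1; 1, 0, 0, 0; 0, 1, 0, 0]
      = c • (!![0, 0, 1, 0; 0, 0, 0, 1; 1, 0, 0, 0; 0, 1, 0, 0] * M)) :
    ∃ x : F, x ≠ 0 ∧ (M = x • (1 : Matrix (Fin 4) (Fin 4) F) ∨
      M = x • !![1, 0, 0, 0; 0, 1, 0, 0; 0, 0, -1, 0; 0, 0, 0, -1]) := by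
  have two : ∀ x : F, 2 * x = 0 → x = 0 := fun x hx => (mul_eq_zero.1 hx).resolve_left h2
  obtain ⟨c1, hc1⟩ := he1
  obtain ⟨c2, hc2⟩ := he2
  have hc1' : M * !![0, 1, 0, 0; -1, -0, 0, 0; 0, 0, 1, 0; 0, 0, 0, 1]
      = c1 • (!![0, 1, 0, 0; -1, -0, 0, 0; 0, 0, 1, 0; 0, 0, 0, 1] * M) := by
    rw [neg_zero]; exact hc1
  obtain ⟨⟨m02, m03, m12, m13⟩, ⟨m20, m21, m30, m31⟩, hA1, hA2⟩ :=
    top_block h2 (by ring) hNM hc1'
  obtain ⟨-, -, hA3, hA4⟩ := top_block h2 hab hNM hc2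
  have x01 : M 0 1 = 0 := by
    have h3 : 2 * (a * a + b * b) * M 0 1 = 0 := by
      linear_combination a * (-hA4) + a * b * hA2 + b * hA3 - b * b * hA1
    rw [hab] at h3
    apply two
    linear_combination -h3
  have x10 : M 1 0 = 0 := by
    linear_combination -hA1 - x01
  have x11 : M 1 1 = M 0 0 := by linear_combination -hA2
  have n : ∀ i j, N i 0 * M 0 j + N i 1 * M 1 j + N i 2 * M 2 j + N i 3 * M 3 j
      = (1 : Matrix (Fin 4) (Fin 4) F) i j := by
    intro i j; rw [← hNM, Matrix.mul_apply, Fin.sum_univ_four]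
  have x00 : M 0 0 ≠ 0 := by
    intro h0
    have h3 := n 0 0
    rw [h0, x10, m20, m30] at h3
    simp at h3
  obtain ⟨c3, hc3⟩ := he3
  obtain ⟨c4, hc4⟩ := he4
  obtain ⟨c5, hc5⟩ := he5
  have e3 : ∀ i j, (M * (!![1, 0, 0, 0; 0, 1, 0, 0; 0, 0, 0, 1; 0, 0, -1, 0] : Matrix (Fin 4) (Fin 4) F)) i j
      = c3 * ((!![1, 0, 0, 0; 0, 1, 0, 0; 0, 0, 0, 1; 0, 0, -1, 0] : Matrix (Fin 4) (Fin 4) F) * M) i j := by
    intro i j; rw [hc3]; rfl
  have e4 : ∀ i j, (M * !![1, 0, 0, 0; 0, 1, 0, 0; 0, 0, a, b; 0, 0, b, -a]) i j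
      = c4 * ((!![1, 0, 0, 0; 0, 1, 0, 0; 0, 0, a, b; 0, 0, b, -a] : Matrix (Fin 4) (Fin 4) F) * M) i j := by
    intro i j; rw [hc4]; rfl
  have e5 : ∀ i j, (M * (!![0, 0, 1, 0; 0, 0, 0, 1; 1, 0, 0, 0; 0, 1, 0, 0] : Matrix (Fin 4) (Fin 4) F)) i j
      = c5 * ((!![0, 0, 1, 0; 0, 0, 0, 1; 1, 0, 0, 0; 0, 1, 0, 0] : Matrix (Fin 4) (Fin 4) F) * M) i j := by
    intro i j; rw [hc5]; rfl
  simp only [Matrix.mul_apply, Fin.sum_univ_four] at e3 e4 e5
  have hc31 : c3 = 1 := by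
    have h3 : M 0 0 = c3 * M 0 0 := by simpa using e3 0 0
    have h4 : (c3 - 1) * M 0 0 = 0 := by linear_combination -h3
    exact sub_eq_zero.1 ((mul_eq_zero.1 h4).resolve_right x00)
  have hc41 : c4 = 1 := by
    have h3 : M 0 0 = c4 * M 0 0 := by simpa using e4 0 0
    have h4 : (c4 - 1) * M 0 0 = 0 := by linear_combination -h3
    exact sub_eq_zero.1 ((mul_eq_zero.1 h4).resolve_right x00)
  subst hc31 hc41
  have d1 : -M 2 3 = M 3 2 := by simpa using e3 2 2
  have d2 : M 2 2 = M 3 3 := by simpa using e3 2 3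
  have d3 : M 2 2 * a + M 2 3 * b = a * M 2 2 + b * M 3 2 := by simpa using e4 2 2
  have d4 : M 2 2 * b + -(M 2 3 * a) = a * M 2 3 + b * M 3 3 := by simpa using e4 2 3
  have x23 : M 2 3 = 0 := by
    have h3 : 2 * (a * a + b * b) * M 2 3 = 0 := by
      linear_combination a * (-d4) + a * b * d2 + b * d3 - b * b * d1
    rw [hab] at h3
    apply two
    linear_combination -h3
  have x32 : M 3 2 = 0 := by linear_combination -d1 - x23
  have s1 : M 0 0 = c5 * M 2 2 := by simpa using e5 0 2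
  have s2 : M 2 2 = c5 * M 0 0 := by simpa using e5 2 0
  have hc5' : (c5 - 1) * (c5 + 1) = 0 := by
    have h3 : (c5 * c5 - 1) * M 0 0 = 0 := by linear_combination -s1 - c5 * s2
    have h4 := (mul_eq_zero.1 h3).resolve_right x00
    linear_combination h4
  refine ⟨M 0 0, x00, ?_⟩
  rcases mul_eq_zero.1 hc5' with h | h
  · left
    have h5 : c5 = 1 := sub_eq_zero.1 h
    rw [h5, one_mul] at s2
    ext i j
    fin_cases i <;> fin_cases j <;>
      simp [m02, m03, m12, m13, m20, m21, m30, m31, x01, x10, x11, x23, x32, s2, ← d2]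
  · right
    have h5 : c5 = -1 := eq_neg_of_add_eq_zero_left h
    rw [h5] at s2
    ext i j
    fin_cases i <;> fin_cases j <;>
      simp [m02, m03, m12, m13, m20, m21, m30, m31, x01, x10, x11, x23, x32, s2, ← d2]

end mat

end Cfsg.Agent.Omega.Lie.CenMat

end

section


/-!
# Sylow 2-subgroups of the symmetric group and their invariant sets (helper584; NODE LIE, K-fact (ZS))

`P` is a Sylow 2-subgroup of `Equiv.Perm ι`.

* `mem_of_sq`: `P ≤ K`, `w ∈ N(K)`, `w² ∈ K` imply `w ∈ K` (any group);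
* `const_of_shift`: `f, h : ι → ZMod 2` are shifted by the elements of `P`; if some `p ∈ P` fixes `f` and shifts `h` by
  `1` then `f` is constant;
* `eq_of_card`: two `P`-invariant `0-1`-functions with the same number of ones are equal;
* `unique_of_shift`: two `0-1`-functions shifted by `P` whose numbers of ones are the same (or complementary) are equal or
  complementary.
-/

set_option autoImplicit false
set_option linter.dupNamespace false

namespace Cfsg.Agent.Omega.Lie.PermSyl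

open Equiv

section gen

variable {G : Type*} [Group G] [Finite G]

/-- `N(K)/K` has odd order if `K` contains a Sylow 2-subgroup. -/
theorem mem_of_sq (P : Sylow 2 G) {K : Subgroup G} (hK : (P : Subgroup G) ≤ K) {w : G}
    (hw : ∀ g ∈ K, w * g * w⁻¹ ∈ K) (hw2 : w * w ∈ K) : w ∈ K := by
  classical
  have : Fact (Nat.Prime 2) := ⟨Nat.prime_two⟩
  have hwN : w ∈ Subgroup.normalizer (K : Set G) := by
    have hle : Subgroup.map (MulAut.conj w).toMonoidHom K ≤ K := by
      rintro _ ⟨g, hg, rfl⟩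
      exact hw g hg
    have hcard : Nat.card (Subgroup.map (MulAut.conj w).toMonoidHom K) = Nat.card K :=
      Nat.card_congr (K.equivMapOfInjective _ (MulAut.conj w).injective).symm.toEquiv
    have heq : Subgroup.map (MulAut.conj w).toMonoidHom K = K :=
      Subgroup.eq_of_le_of_card_ge hle (le_of_eq hcard.symm)
    rw [Subgroup.mem_normalizer_iff]
    intro g
    constructor
    · intro hg; exact hw g hg
    · intro hg
      have h1 : w * g * w⁻¹ ∈ Subgroup.map (MulAut.conj w).toMonoidHom K := by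
        rw [heq]; exact hg
      obtain ⟨y, hy, hyx⟩ := h1
      have : y = g := (MulAut.conj w).injective (by simpa using hyx)
      rw [← this]; exact hy
  set N := Subgroup.normalizer (K : Set G) with hN
  have hKN : K ≤ N := Subgroup.le_normalizer
  have hodd : ¬ 2 ∣ K.relIndex N := by
    intro h2
    apply P.not_dvd_index
    refine h2.trans ?_
    have h3 : K.relIndex N ∣ K.index := ⟨N.index, (Subgroup.relIndex_mul_index hKN).symm⟩
    exact h3.trans (Subgroup.index_dvd_of_le hK)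
  have : (K.subgroupOf N).Normal := Subgroup.normal_in_normalizer
  let x : N ⧸ K.subgroupOf N := QuotientGroup.mk ⟨w, hwN⟩
  have hx2 : x ^ 2 = 1 := by
    rw [pow_two]
    change (QuotientGroup.mk (⟨w, hwN⟩ * ⟨w, hwN⟩ : N) : N ⧸ K.subgroupOf N) = 1
    rw [QuotientGroup.eq_one_iff]
    exact hw2
  have hx : x = 1 := by
    have h1 : orderOf x ∣ 2 := orderOf_dvd_of_pow_eq_one hx2
    have h2 : orderOf x ∣ K.relIndex N := orderOf_dvd_natCard x
    have h3 : orderOf x ∣ Nat.gcd 2 (K.relIndex N) := Nat.dvd_gcd h1 h2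
    have h4 : Nat.gcd 2 (K.relIndex N) = 1 :=
      ((Nat.Prime.coprime_iff_not_dvd Nat.prime_two).2 hodd)
    rw [h4, Nat.dvd_one] at h3
    exact orderOf_eq_one_iff.1 h3
  have := (QuotientGroup.eq_one_iff (N := K.subgroupOf N) (⟨w, hwN⟩ : N)).1 hx
  exact this

end gen


section perm

variable {ι : Type*} [Finite ι]

omit [Finite ι] in
theorem apply_inv (g : Perm ι) (i : ι) : g (g⁻¹ i) = i := by simp

/-- the permutations which shift both functions -/
def shiftGroup (f h : ι → ZMod 2) : Subgroup (Perm ι) where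
  carrier := {g | ∃ c d : ZMod 2, ∀ i, f (g i) = f i + c ∧ h (g i) = h i + d}
  mul_mem' := by
    rintro g g' ⟨c, d, h1⟩ ⟨c', d', h2⟩
    refine ⟨c + c', d + d', fun i => ⟨?_, ?_⟩⟩
    · rw [Perm.mul_apply, (h1 _).1, (h2 _).1]; ring
    · rw [Perm.mul_apply, (h1 _).2, (h2 _).2]; ring
  one_mem' := ⟨0, 0, fun i => ⟨by simp, by simp⟩⟩
  inv_mem' := by
    rintro g ⟨c, d, h1⟩
    refine ⟨-c, -d, fun i => ⟨?_, ?_⟩⟩
    · have := (h1 (g⁻¹ i)).1
      rw [apply_inv] at this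
      rw [this]; ring
    · have := (h1 (g⁻¹ i)).2
      rw [apply_inv] at this
      rw [this]; ring

/-- **Lemma U**: an element of `P` which fixes `f` and shifts `h` forces `f` to be constant. -/
theorem const_of_shift (P : Sylow 2 (Perm ι)) {f h : ι → ZMod 2}
    (hf : ∀ p ∈ P, ∃ c, ∀ i, f (p i) = f i + c) (hh : ∀ p ∈ P, ∃ c, ∀ i, h (p i) = h i + c)
    {p : Perm ι} (hpf : ∀ i, f (p i) = f i) (hph : ∀ i, h (p i) = h i + 1) (i j : ι) :
    f i = f j := by
  classical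
  have hK : (P : Subgroup (Perm ι)) ≤ shiftGroup f h := by
    intro g hg
    obtain ⟨c, hc⟩ := hf g hg
    obtain ⟨d, hd⟩ := hh g hg
    exact ⟨c, d, fun i => ⟨hc i, hd i⟩⟩
  have h01 : ∀ x : ZMod 2, x = 0 ∨ x = 1 := by decide
  have hpi : ∀ i, f (p i) = 1 ↔ f i = 1 := fun i => by rw [hpf]
  let w : Perm ι := Perm.ofSubtype (p.subtypePerm (p := fun i => f i = 1) hpi)
  have hw1 : ∀ i, f i = 1 → w i = p i := by
    intro i hi
    have h1 := Perm.ofSubtype_apply_of_mem (p.subtypePerm (p := fun i => f i = 1) hpi) hi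
    exact h1
  have hw0 : ∀ i, f i ≠ 1 → w i = i := by
    intro i hi
    exact Perm.ofSubtype_apply_of_not_mem _ hi
  have hwf : ∀ i, f (w i) = f i := by
    intro i
    by_cases hi : f i = 1
    · rw [hw1 i hi, hpf]
    · rw [hw0 i hi]
  have hwh : ∀ i, h (w i) = h i + f i := by
    intro i
    by_cases hi : f i = 1
    · rw [hw1 i hi, hph, hi]
    · rw [hw0 i hi]
      rcases h01 (f i) with h | h
      · rw [h, add_zero]
      · exact absurd h hi
  have hwf' : ∀ i, f (w⁻¹ i) = f i := by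
    intro i
    have := hwf (w⁻¹ i)
    rw [apply_inv] at this
    exact this.symm
  have hwh' : ∀ i, h (w⁻¹ i) = h i + f i := by
    intro i
    have := hwh (w⁻¹ i)
    rw [apply_inv, hwf'] at this
    rw [this, add_assoc, CharTwo.add_self_eq_zero, add_zero]
  have hw : ∀ g ∈ shiftGroup f h, w * g * w⁻¹ ∈ shiftGroup f h := by
    rintro g ⟨c, d, hg⟩
    refine ⟨c, d + c, fun i => ⟨?_, ?_⟩⟩
    · rw [Perm.mul_apply, Perm.mul_apply, hwf, (hg _).1, hwf']
    · rw [Perm.mul_apply, Perm.mul_apply, hwh, (hg _).1, (hg _).2, hwf', hwh']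
      have : h i + f i + d + (f i + c) = h i + (d + c) + (f i + f i) := by ring
      rw [this, CharTwo.add_self_eq_zero, add_zero]
  have hw2 : w * w ∈ shiftGroup f h := by
    refine ⟨0, 0, fun i => ⟨?_, ?_⟩⟩
    · rw [Perm.mul_apply, hwf, hwf, add_zero]
    · rw [Perm.mul_apply, hwh, hwh, hwf, add_zero, add_assoc, CharTwo.add_self_eq_zero, add_zero]
  obtain ⟨c, d, hcd⟩ := mem_of_sq P hK hw hw2
  have key : ∀ i, f i = d := by
    intro i
    have h1 := (hcd i).2
    rw [hwh] at h1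
    exact add_left_cancel h1
  rw [key i, key j]

/-- **Lemma 1**: two `P`-invariant `0-1`-functions with the same number of ones are equal. -/
theorem eq_of_card [Fintype ι] (P : Sylow 2 (Perm ι)) {a b : ι → ZMod 2}
    (ha : ∀ p ∈ P, ∀ i, a (p i) = a i) (hb : ∀ p ∈ P, ∀ i, b (p i) = b i)
    (hc : (Finset.univ.filter fun i => a i = 1).card = (Finset.univ.filter fun i => b i = 1).card) :
    a = b := by
  classical
  have h01 : ∀ x : ZMod 2, x = 0 ∨ x = 1 := by decide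
  set A := Finset.univ.filter fun i => a i = 1 with hA
  set B := Finset.univ.filter fun i => b i = 1 with hB
  have hcard : (A \ B).card = (B \ A).card := by
    have h1 := Finset.card_sdiff_add_card_inter A B
    have h2 := Finset.card_sdiff_add_card_inter B A
    rw [Finset.inter_comm] at h2
    omega
  have memA : ∀ i, i ∈ A ↔ a i = 1 := fun i => by simp [hA]
  have memB : ∀ i, i ∈ B ↔ b i = 1 := fun i => by simp [hB]
  let e : (A \ B : Finset ι) ≃ (B \ A : Finset ι) := Finset.equivOfCardEq hcard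
  let w0 : ι → ι := fun i =>
    if h : i ∈ A \ B then (e ⟨i, h⟩ : ι) else if h : i ∈ B \ A then (e.symm ⟨i, h⟩ : ι) else i
  have w0A : ∀ i (h : i ∈ A \ B), w0 i = (e ⟨i, h⟩ : ι) := by
    intro i h
    simp only [w0, dif_pos h]
  have w0B : ∀ i (h : i ∈ B \ A), w0 i = (e.symm ⟨i, h⟩ : ι) := by
    intro i h
    have h' : i ∉ A \ B := by
      rw [Finset.mem_sdiff] at h ⊢
      tauto
    simp only [w0, dif_neg h', dif_pos h]
  have w0N : ∀ i, i ∉ A \ B → i ∉ B \ A → w0 i = i := by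
    intro i h h'
    simp only [w0, dif_neg h, dif_neg h']
  have hinv : Function.Involutive w0 := by
    intro i
    by_cases h1 : i ∈ A \ B
    · rw [w0A i h1, w0B _ (e ⟨i, h1⟩).2]
      simp
    · by_cases h2 : i ∈ B \ A
      · rw [w0B i h2, w0A _ (e.symm ⟨i, h2⟩).2]
        simp
      · rw [w0N i h1 h2, w0N i h1 h2]
  let w : Perm ι := hinv.toPerm
  have hw : ∀ i, w i = w0 i := fun i => rfl
  have hwa : ∀ i, a (w i) = b i := by
    intro i
    rw [hw]
    by_cases h1 : i ∈ A \ B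
    · have h2 := (e ⟨i, h1⟩).2
      rw [← w0A i h1] at h2
      rw [Finset.mem_sdiff, memA, memB] at h1 h2
      rcases h01 (a (w0 i)) with h3 | h3 <;> rcases h01 (b i) with h4 | h4 <;> rw [h3, h4] <;> tauto
    · by_cases h1' : i ∈ B \ A
      · have h2 := (e.symm ⟨i, h1'⟩).2
        rw [← w0B i h1'] at h2
        rw [Finset.mem_sdiff, memA, memB] at h1' h2
        rw [h2.1, h1'.1]
      · rw [w0N i h1 h1']
        rw [Finset.mem_sdiff, memA, memB] at h1
        rw [Finset.mem_sdiff, memA, memB] at h1'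
        rcases h01 (a i) with h3 | h3 <;> rcases h01 (b i) with h4 | h4 <;> rw [h3, h4]
        · exact absurd ⟨h4, by rw [h3]; decide⟩ h1'
        · exact absurd ⟨h3, by rw [h4]; decide⟩ h1
  have hww : ∀ i, w (w i) = i := hinv
  have hwb : ∀ i, b (w i) = a i := by
    intro i
    have := hwa (w i)
    rw [hww] at this
    exact this.symm
  let K : Subgroup (Perm ι) :=
    { carrier := {g | ∀ i, a (g i) = a i ∧ b (g i) = b i}
      mul_mem' := by
        intro g g' h1 h2 i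
        exact ⟨by rw [Perm.mul_apply, (h1 _).1, (h2 _).1], by rw [Perm.mul_apply, (h1 _).2, (h2 _).2]⟩
      one_mem' := fun i => ⟨rfl, rfl⟩
      inv_mem' := by
        intro g h1 i
        have h2 := h1 (g⁻¹ i)
        rw [apply_inv] at h2
        exact ⟨h2.1.symm, h2.2.symm⟩ }
  have hK : (P : Subgroup (Perm ι)) ≤ K := fun g hg i => ⟨ha g hg i, hb g hg i⟩
  have hwi : ∀ i, w⁻¹ i = w i := by
    intro i
    rw [Perm.inv_eq_iff_eq, hww]
  have hwm : w ∈ K := by
    refine mem_of_sq P hK ?_ ?_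
    · intro g hg i
      constructor
      · rw [Perm.mul_apply, Perm.mul_apply, hwa, (hg _).2, hwi, hwb]
      · rw [Perm.mul_apply, Perm.mul_apply, hwb, (hg _).1, hwi, hwa]
    · intro i
      rw [Perm.mul_apply, hww]
      exact ⟨rfl, rfl⟩
  funext i
  have := (hwm i).1
  rw [hwa] at this
  exact this.symm

/-- **uniqueness** of the `0-1`-functions shifted by a Sylow 2-subgroup of `S_n`, given the number of ones -/
theorem unique_of_shift [Fintype ι] [Nonempty ι] (P : Sylow 2 (Perm ι)) {a b : ι → ZMod 2}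
    (ha : ∀ p ∈ P, ∃ c, ∀ i, a (p i) = a i + c) (hb : ∀ p ∈ P, ∃ c, ∀ i, b (p i) = b i + c)
    (hc : (Finset.univ.filter fun i => a i = 1).card = (Finset.univ.filter fun i => b i = 1).card ∨
      (Finset.univ.filter fun i => a i = 1).card = (Finset.univ.filter fun i => b i = 0).card) :
    (∀ i, b i = a i) ∨ (∀ i, b i = a i + 1) := by
  classical
  have h01 : ∀ x : ZMod 2, x = 0 ∨ x = 1 := by decide
  have hn : (Finset.univ.filter fun i => b i = 1).card + (Finset.univ.filter fun i => b i = 0).card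
      = Fintype.card ι := by
    have h1 := Finset.card_filter_add_card_filter_not (s := (Finset.univ : Finset ι)) (fun i => b i = 1)
    rw [Finset.card_univ] at h1
    rw [← h1]
    congr 2
    refine Finset.filter_congr fun i _ => ?_
    rcases h01 (b i) with h | h <;> simp [h]
  have hna : (Finset.univ.filter fun i => a i = 1).card + (Finset.univ.filter fun i => a i = 0).card
      = Fintype.card ι := by
    have h1 := Finset.card_filter_add_card_filter_not (s := (Finset.univ : Finset ι)) (fun i => a i = 1)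
    rw [Finset.card_univ] at h1
    rw [← h1]
    congr 2
    refine Finset.filter_congr fun i _ => ?_
    rcases h01 (a i) with h | h <;> simp [h]
  have hpos : 0 < Fintype.card ι := Fintype.card_pos
  -- a moved function has as many ones as zeros
  have half : ∀ (f : ι → ZMod 2) (p : Perm ι), (∀ i, f (p i) = f i + 1) →
      (Finset.univ.filter fun i => f i = 1).card = (Finset.univ.filter fun i => f i = 0).card := by
    intro f p hp
    refine Finset.card_bij (fun i _ => p i) ?_ ?_ ?_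
    · intro i hi
      simp only [Finset.mem_filter, Finset.mem_univ, true_and] at hi ⊢
      rw [hp, hi]; decide
    · intro i _ j _ h
      exact p.injective h
    · intro j hj
      simp only [Finset.mem_filter, Finset.mem_univ, true_and] at hj
      refine ⟨p⁻¹ j, ?_, by simp⟩
      simp only [Finset.mem_filter, Finset.mem_univ, true_and]
      have h1 := hp (p⁻¹ j)
      rw [apply_inv, hj] at h1
      rcases h01 (f (p⁻¹ j)) with h | h
      · rw [h] at h1; exact absurd h1 (by decide)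
      · exact h
  -- a constant function has no ones or no zeros
  have cst : ∀ (f : ι → ZMod 2), (∀ i j, f i = f j) →
      (Finset.univ.filter fun i => f i = 1).card = 0 ∨
        (Finset.univ.filter fun i => f i = 0).card = 0 := by
    intro f hf
    obtain ⟨i0⟩ := (inferInstance : Nonempty ι)
    rcases h01 (f i0) with h | h
    · left
      rw [Finset.card_eq_zero, Finset.filter_eq_empty_iff]
      intro i _
      rw [hf i i0, h]; decide
    · right
      rw [Finset.card_eq_zero, Finset.filter_eq_empty_iff]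
      intro i _
      rw [hf i i0, h]; decide
  by_cases hA : ∀ p ∈ P, ∀ i, a (p i) = a i
  · by_cases hB : ∀ p ∈ P, ∀ i, b (p i) = b i
    · rcases hc with hc | hc
      · left
        intro i
        rw [eq_of_card P hA hB hc]
      · right
        have h1 : a = fun i => b i + 1 := by
          refine eq_of_card P hA (fun p hp i => by rw [hB p hp]) ?_
          rw [hc]
          congr 1
          ext i
          rcases h01 (b i) with h | h <;> simp [h]
        intro i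
        have h2 := congrFun h1 i
        rw [h2, add_assoc, CharTwo.add_self_eq_zero, add_zero]
    · exfalso
      push Not at hB
      obtain ⟨p, hp, i, hi⟩ := hB
      obtain ⟨c, hc'⟩ := hb p hp
      have hc1 : c = 1 := by
        rcases h01 c with h | h
        · rw [hc', h, add_zero] at hi
          exact absurd rfl hi
        · exact h
      subst hc1
      have h1 := cst a (const_of_shift P ha hb (hA p hp) hc')
      have h2 := half b p hc'
      omega
  · push Not at hA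
    obtain ⟨p, hp, i, hi⟩ := hA
    obtain ⟨c, hc'⟩ := ha p hp
    have hc1 : c = 1 := by
      rcases h01 c with h | h
      · rw [hc', h, add_zero] at hi
        exact absurd rfl hi
      · exact h
    subst hc1
    have h1 := half a p hc'
    obtain ⟨d, hd⟩ := hb p hp
    rcases h01 d with h | h
    · exfalso
      subst h
      have hd' : ∀ i, b (p i) = b i := fun i => by rw [hd, add_zero]
      have h2 := cst b (const_of_shift P hb ha hd' hc')
      omega
    · subst h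
      have key : ∀ i j, (fun k => a k + b k) i = (fun k => a k + b k) j := by
        refine const_of_shift P (h := a) ?_ ha ?_ hc'
        · intro g hg
          obtain ⟨c, hc⟩ := ha g hg
          obtain ⟨d, hd⟩ := hb g hg
          refine ⟨c + d, fun i => ?_⟩
          simp only [hc, hd]; ring
        · intro i
          simp only [hc', hd]
          have : a i + 1 + (b i + 1) = a i + b i + (1 + 1) := by ring
          rw [this, CharTwo.add_self_eq_zero, add_zero]
      obtain ⟨i0⟩ := (inferInstance : Nonempty ι)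
      have h3 : ∀ i, b i = a i + (a i0 + b i0) := by
        intro i
        have h4 := key i i0
        simp only at h4
        rw [← h4, ← add_assoc, CharTwo.add_self_eq_zero, zero_add]
      rcases h01 (a i0 + b i0) with h | h
      · left
        intro i
        rw [h3 i, h, add_zero]
      · right
        intro i
        rw [h3 i, h]

end perm

end Cfsg.Agent.Omega.Lie.PermSyl

end

section


/-!
# LEMMA C and (L8) (bb OMEGA #15015 ff.), abstract forms

* `fixes` = LEMMA C: a subgroup `K' ≤ H⁰` (a component) centralised by `A`, whose Sylow 2-subgroup `S'` satisfies `[S', T] ≤ A`, fixes `e₀`;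
* `stable` = (L8): the set `Λ` of the moved components is `H`-invariant.
-/

set_option autoImplicit false
set_option linter.unusedSectionVars false

namespace Cfsg.Agent.Omega.Lie.LemC

open Subgroup

variable {H : Type*} [Group H] {F : Type*} [Field F] {M : Type*} [AddCommGroup M] [Module F M] [DistribMulAction H M]

/-- the module data without `E` -/
structure Bas (H0 A : Subgroup H) (e₀ : M) (D : Submodule F M) (B : LinearMap.BilinForm F M) : Prop where
  normal : H0.Normal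
  A_le : A ≤ H0
  lin : ∀ g ∈ H0, ∀ (c : F) (x : M), g • c • x = c • g • x
  semi : ∀ g : H, ∃ σ : F → F, (∀ c, c ≠ 0 → σ c ≠ 0) ∧ ∀ (c : F) (x : M), g • c • x = σ c • g • x
  refl : B.IsRefl
  nd : B.Nondegenerate
  BE : ∀ g ∈ H0, ∀ x y, B (g • x) (g • y) = B x y
  BH : ∀ (g : H) (x y : M), B x y = 0 → B (g • x) (g • y) = 0
  ne : e₀ ≠ 0
  A2 : ∀ a ∈ A, ∀ x, B x e₀ = 0 → a • x - x ∈ D
  A3 : ∀ a ∈ A, ∀ x ∈ D, a • x - x ∈ Submodule.span F {e₀}
  A4 : ∀ a ∈ A, a • e₀ = e₀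
  ker0 : ∀ x ∈ D, (∀ a ∈ A, a • x = x) → x ∈ Submodule.span F {e₀}
  inj : ∀ m, B m e₀ ≠ 0 → ∀ a ∈ A, a • m - m ∈ D → a = 1
  surj : ∀ m, B m e₀ ≠ 0 → ∀ x, B x e₀ = 0 → ∃ a ∈ A, x - (a • m - m) ∈ D
  span : ∀ L : Submodule F M, (∀ h : H, h • e₀ ∈ L) → L = ⊤

/-- the torus -/
structure TorB (A : Subgroup H) (t : F → H) (e₀ : M) (D : Submodule F M) (B : LinearMap.BilinForm F M) : Prop where
  lin : ∀ a, a ≠ 0 → ∀ (c : F) (x : M), t a • c • x = c • t a • x
  e : ∀ a, a ≠ 0 → t a • e₀ = a⁻¹ • e₀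
  P : ∀ a, a ≠ 0 → ∀ x, B x e₀ = 0 → t a • x - a • x ∈ D
  D : ∀ a, a ≠ 0 → ∀ x ∈ D, t a • x - x ∈ Submodule.span F {e₀}
  form : ∀ a, a ≠ 0 → ∀ x y, B (t a • x) (t a • y) = a * B x y
  norm : ∀ a, a ≠ 0 → t a ∈ normalizer (A : Set H)

namespace Bas

variable {H0 A : Subgroup H} {e₀ : M} {D : Submodule F M} {B : LinearMap.BilinForm F M} (d : Bas H0 A e₀ D B)
include d

theorem ker1 {a : H} (ha : a ∈ A) (ha1 : a ≠ 1) {x : M} (hx : a • x = x) : B x e₀ = 0 := by
  by_contra h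
  exact ha1 (d.inj x h a ha (by rw [hx, sub_self]; exact zero_mem _))

/-- the data of THEOREM D -/
theorem dat {E : Subgroup H} (hn : E.Normal) (hE : E ≤ H0) (hA : A ≤ E) (hA1 : ∃ a ∈ A, a ≠ 1)
    (gen : ∀ K : Subgroup H, A ≤ K → (∀ g ∈ E, ∀ k ∈ K, g * k * g⁻¹ ∈ K) → E ≤ K) : ThmD.Dat E A e₀ D B where
  normal := hn
  A_le := hA
  gen := gen
  lin := fun g hg => d.lin g (hE hg)
  semi := d.semi
  refl := d.refl
  nd := d.nd
  BE := fun g hg => d.BE g (hE hg)
  BH := d.BH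
  ne := d.ne
  A2 := d.A2
  A3 := d.A3
  ker0 := d.ker0
  ker1 := fun x hx => by
    obtain ⟨a, ha, ha1⟩ := hA1
    exact d.ker1 ha ha1 (hx a ha)
  span := d.span

variable {t : F → H} (τ : TorB A t e₀ D B)
include τ

/-- **LEMMA C** -/
theorem fixes (hF : ∃ a : F, a ≠ 0 ∧ a ≠ 1) [CharP F 2] {K' S' : Subgroup H} (hK : K' ≤ H0)
    (hA : ∀ k ∈ K', ∀ a ∈ A, a * k = k * a) (hA1 : ∃ a ∈ A, a ≠ 1) (hS : S' ≤ K') (h2 : IsPGroup 2 S')
    (hT : ∀ a, a ≠ 0 → ∀ s ∈ S', s⁻¹ * (t a * s * (t a)⁻¹) ∈ A)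
    (hmax : ∀ N : Subgroup H, N ≤ K' → (∀ k ∈ K', ∀ n ∈ N, k * n * k⁻¹ ∈ N) → S' ≤ N → K' ≤ N) :
    ∀ k ∈ K', k • e₀ = e₀ := by
  obtain ⟨a₁, ha₁, ha₁1⟩ := hA1
  obtain ⟨b, hb0, hb1⟩ := hF
  -- a 2-element acting as a scalar on a vector is trivial on it
  have h2e : ∀ s ∈ S', ∀ (x : M) (c : F), s • x = c • x → s • x = x := by
    intro s hs x c hc
    obtain ⟨n, hn⟩ := h2 ⟨s, hs⟩
    have hn' : s ^ 2 ^ n = 1 := congrArg Subtype.val hn
    have h3 : ∀ j : ℕ, s ^ j • x = c ^ j • x := by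
      intro j
      induction j with
      | zero => rw [pow_zero, pow_zero, one_smul, one_smul]
      | succ j ih =>
        rw [pow_succ', mul_smul, ih, d.lin s (hK (hS hs)), hc, smul_smul, pow_succ]
    have h4 := h3 (2 ^ n)
    rw [hn', one_smul] at h4
    by_cases hx : x = 0
    · rw [hx, smul_zero]
    have h5 : c ^ 2 ^ n = 1 := by
      by_contra h6
      have h7 : (c ^ 2 ^ n - 1) • x = 0 := by rw [sub_smul, one_smul, ← h4, sub_self]
      rcases smul_eq_zero.1 h7 with h8 | h8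
      · exact h6 (sub_eq_zero.1 h8)
      · exact hx h8
    have h6 : (c - 1) ^ 2 ^ n = 0 := by
      rw [sub_pow_char_pow, h5, one_pow, sub_self]
    have h7 : c = 1 := sub_eq_zero.1 (pow_eq_zero_iff (by positivity) |>.1 h6)
    rw [hc, h7, one_smul]
  -- it is enough that `K'` normalises `F e₀`
  suffices hline : ∀ k ∈ K', ∃ c : F, k • e₀ = c • e₀ by
    let N : Subgroup H :=
      { carrier := {k | k ∈ K' ∧ k • e₀ = e₀}
        one_mem' := ⟨one_mem _, one_smul _ _⟩
        mul_mem' := by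
          rintro x y ⟨hx, hx'⟩ ⟨hy, hy'⟩
          exact ⟨K'.mul_mem hx hy, by rw [mul_smul, hy', hx']⟩
        inv_mem' := by
          rintro x ⟨hx, hx'⟩
          exact ⟨K'.inv_mem hx, by rw [inv_smul_eq_iff, hx']⟩ }
    have h3 := hmax N (fun x hx => hx.1) (by
      rintro k hk n ⟨hn, hn'⟩
      refine ⟨K'.mul_mem (K'.mul_mem hk hn) (K'.inv_mem hk), ?_⟩
      obtain ⟨c, hc⟩ := hline k⁻¹ (K'.inv_mem hk)
      rw [mul_smul, mul_smul, hc, d.lin n (hK hn), hn', ← hc, smul_inv_smul]) (by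
      intro s hs
      obtain ⟨c, hc⟩ := hline s (hS hs)
      exact ⟨hS hs, h2e s hs e₀ c hc⟩)
    exact fun k hk => (h3 hk).2
  intro k hk
  by_contra hy0
  push Not at hy0
  have hkH := hK hk
  have hkA : ∀ a ∈ A, ∀ x : M, k⁻¹ • a • x = a • k⁻¹ • x := by
    intro a ha x
    rw [smul_smul, smul_smul]
    congr 1
    rw [inv_mul_eq_iff_eq_mul, ← mul_assoc, ← hA k hk a ha, mul_inv_cancel_right]
  obtain ⟨y, hy⟩ : ∃ y, y = k • e₀ := ⟨_, rfl⟩
  rw [← hy] at hy0
  have hky : k⁻¹ • y = e₀ := by rw [hy, inv_smul_smul]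
  have hyA : ∀ a ∈ A, a • y = y := by
    intro a ha
    rw [hy, smul_smul, hA k hk a ha, mul_smul, d.A4 a ha]
  have hyn : y ≠ 0 := fun h => d.ne (by rw [← hky, h, smul_zero])
  have Bk : ∀ x z, B (k⁻¹ • x) (k⁻¹ • z) = B x z := d.BE k⁻¹ (H0.inv_mem hkH)
  have A2' : ∀ a ∈ A, ∀ x, B x y = 0 → k⁻¹ • (a • x - x) ∈ D := by
    intro a ha x hx
    rw [smul_sub, hkA a ha]
    exact d.A2 a ha _ (by rw [← hky, Bk, hx])
  have mv : ∀ x, k⁻¹ • x ∈ Submodule.span F {e₀} → ∃ c : F, x = c • y := by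
    intro x hx
    obtain ⟨c, hc⟩ := Submodule.mem_span_singleton.1 hx
    refine ⟨c, ?_⟩
    rw [hy, ← d.lin k hkH, hc, smul_inv_smul]
  have A3' : ∀ a ∈ A, ∀ x, k⁻¹ • x ∈ D → ∃ c : F, a • x - x = c • y := by
    intro a ha x hx
    apply mv
    rw [smul_sub, hkA a ha]
    exact d.A3 a ha _ hx
  have ker0' : ∀ x, k⁻¹ • x ∈ D → (∀ a ∈ A, a • x = x) → ∃ c : F, x = c • y := by
    intro x hx hxA
    exact mv _ (d.ker0 _ hx fun a ha => by rw [← hkA a ha, hxA a ha])
  have A3'' : ∀ a ∈ A, ∀ x ∈ D, ∃ c : F, a • x - x = c • e₀ := by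
    intro a ha x hx
    obtain ⟨c, hc⟩ := Submodule.mem_span_singleton.1 (d.A3 a ha x hx)
    exact ⟨c, hc.symm⟩
  have ker0'' : ∀ x ∈ D, (∀ a ∈ A, a • x = x) → ∃ c : F, x = c • e₀ := by
    intro x hx hxA
    obtain ⟨c, hc⟩ := Submodule.mem_span_singleton.1 (d.ker0 x hx hxA)
    exact ⟨c, hc.symm⟩
  have indep : ∀ α β : F, α • e₀ = β • y → α • e₀ = 0 := by
    intro α β h
    by_cases hβ : β = 0
    · rw [h, hβ, zero_smul]
    · exact absurd (by rw [mul_smul, h, smul_smul, inv_mul_cancel₀ hβ, one_smul]) (hy0 (β⁻¹ * α))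
  -- quadratic
  have orth : ∀ z : M, (∀ a ∈ A, a • z = z) → ∀ a ∈ A, ∀ m, B (a • m - m) z = 0 := by
    intro z hz a ha m
    have h3 := d.BE a (d.A_le ha) m z
    rw [hz a ha] at h3
    rw [map_sub, LinearMap.sub_apply, h3, sub_self]
  have quad : ∀ a ∈ A, ∀ c ∈ A, ∀ m : M, a • (c • m - m) = c • m - m := by
    intro a ha c hc m
    have h3 := d.A2 a ha _ (orth e₀ d.A4 c hc m)
    have h4 := A2' a ha _ (orth y hyA c hc m)
    set w := a • (c • m - m) - (c • m - m) with hw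
    have h5 : ∀ a' ∈ A, a' • w = w := by
      intro a' ha'
      obtain ⟨α, hα⟩ := A3'' a' ha' w h3
      obtain ⟨β, hβ⟩ := A3' a' ha' w h4
      have := indep α β (by rw [← hα, hβ])
      rw [this] at hα
      exact sub_eq_zero.1 hα
    obtain ⟨α, hα⟩ := ker0'' w h3 h5
    obtain ⟨β, hβ⟩ := ker0' w h4 h5
    have h6 := indep α β (by rw [← hα, hβ])
    rw [h6] at hα
    exact sub_eq_zero.1 (hw ▸ hα)
  -- `m`
  obtain ⟨m, hm, hmy⟩ : ∃ m, B m e₀ ≠ 0 ∧ B m y = 0 := by
    by_contra hcon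
    push Not at hcon
    have hcon' : ∀ m, B m y = 0 → B m e₀ = 0 := fun m h => by
      by_contra h3
      exact hcon m h3 h
    obtain ⟨m₁, hm₁⟩ : ∃ m₁, B m₁ y ≠ 0 := by
      by_contra h3
      push Not at h3
      exact hyn (d.nd.2 y h3)
    apply hy0 ((B m₁ e₀ / B m₁ y)⁻¹)
    have h3 : e₀ - (B m₁ e₀ / B m₁ y) • y = 0 := by
      apply d.nd.2
      intro m
      have h4 := hcon' (m - (B m y / B m₁ y) • m₁) (by
        rw [map_sub, LinearMap.sub_apply, map_smul, LinearMap.smul_apply, smul_eq_mul, div_mul_cancel₀ _ hm₁,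
          sub_self])
      rw [map_sub, LinearMap.sub_apply, map_smul, LinearMap.smul_apply, smul_eq_mul, sub_eq_zero] at h4
      rw [map_sub, map_smul, smul_eq_mul, h4]
      field_simp
      ring
    have h4 : B m₁ e₀ / B m₁ y ≠ 0 := by
      intro h5
      rw [h5, zero_smul, sub_zero] at h3
      exact d.ne h3
    exact ((inv_smul_eq_iff₀ h4).2 (sub_eq_zero.1 h3)).symm
  have hmA : ∀ a ∈ A, ∃ c : F, a • m - m = c • y := fun a ha =>
    ker0' _ (A2' a ha m hmy) fun c hc => quad c hc a ha m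
  -- `C_M(A) = e + y`
  have hye : B y e₀ = 0 := d.ker1 ha₁ ha₁1 (hyA a₁ ha₁)
  have CMA : ∀ x : M, (∀ a ∈ A, a • x = x) → ∃ α β : F, x = α • e₀ + β • y := by
    intro x hx
    obtain ⟨a, ha, h3⟩ := d.surj m hm x (d.ker1 ha₁ ha₁1 (hx a₁ ha₁))
    obtain ⟨c, hc⟩ := hmA a ha
    rw [hc] at h3
    obtain ⟨α, hα⟩ := ker0'' _ h3 fun a' ha' => by rw [smul_sub, hx a' ha', d.lin a' (d.A_le ha'), hyA a' ha']
    exact ⟨α, c, by rw [← hα]; abel⟩
  have DA : ∀ x ∈ D, (∀ a ∈ A, a • x = x) → ∃ c : F, x = c • e₀ := ker0''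
  -- the eigenvector `u`
  have hbb : b - b⁻¹ ≠ 0 := by
    intro h0
    have h1 : b * b = 1 := by
      rw [sub_eq_zero] at h0
      nth_rewrite 2 [h0]
      exact mul_inv_cancel₀ hb0
    have h2 : (b - 1) * (b - 1) = 0 := by
      have h3 : (2 : F) = 0 := CharTwo.two_eq_zero
      linear_combination h1 - (b - 1) * h3
    exact hb1 (sub_eq_zero.1 (mul_self_eq_zero.1 h2))
  have tA : ∀ x : M, (∀ a ∈ A, a • x = x) → ∀ a ∈ A, a • t b • x = t b • x := by
    intro x hx a ha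
    have h3 : (t b)⁻¹ * a * t b ∈ A := by
      have := (mem_normalizer_iff.1 (inv_mem (τ.norm b hb0)) a).1 ha
      rwa [inv_inv] at this
    have h4 : a • t b • x = t b • ((t b)⁻¹ * a * t b) • x := by
      rw [smul_smul, smul_smul]
      congr 1
      group
    rw [h4, hx _ h3]
  obtain ⟨c₀, hc₀⟩ := DA (t b • y - b • y) (τ.P b hb0 y hye) fun a ha => by
    rw [smul_sub, tA y hyA a ha, d.lin a (d.A_le ha), hyA a ha]
  have hty : t b • y = b • y + c₀ • e₀ := by rw [← hc₀]; abel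
  have hcd : c₀ / (b - b⁻¹) * (b - b⁻¹) = c₀ := div_mul_cancel₀ _ hbb
  obtain ⟨u, hu⟩ : ∃ u, u = y + (c₀ / (b - b⁻¹)) • e₀ := ⟨_, rfl⟩
  have hun : ∀ c : F, u ≠ c • e₀ := by
    intro c' h
    apply hy0 (c' - c₀ / (b - b⁻¹))
    rw [sub_smul, ← h, hu]; abel
  have htu : t b • u = b • u := by
    rw [hu, smul_add, hty, τ.lin b hb0, τ.e b hb0, smul_add, smul_smul, smul_smul, add_assoc, ← add_smul]
    congr 2
    linear_combination -hcd
  have huA : ∀ a ∈ A, a • u = u := by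
    intro a ha
    rw [hu, smul_add, hyA a ha, d.lin a (d.A_le ha), d.A4 a ha]
  have CMA' : ∀ x : M, (∀ a ∈ A, a • x = x) → ∃ α β : F, x = α • e₀ + β • u := by
    intro x hx
    obtain ⟨α, β, h3⟩ := CMA x hx
    refine ⟨α - β * (c₀ / (b - b⁻¹)), β, ?_⟩
    rw [h3, hu, sub_smul, smul_add, smul_smul]; abel
  have indep' : ∀ α β : F, α • e₀ + β • u = 0 → α = 0 ∧ β = 0 := by
    intro α β h
    have hβ : β = 0 := by
      by_contra hβ
      apply hun (-(β⁻¹ * α))
      have h1 : β • u = -(α • e₀) := by rw [eq_neg_iff_add_eq_zero, add_comm]; exact h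
      have h2 : u = β⁻¹ • β • u := by rw [smul_smul, inv_mul_cancel₀ hβ, one_smul]
      rw [h2, h1, smul_neg, neg_smul, smul_smul]
    rw [hβ, zero_smul, add_zero] at h
    exact ⟨(smul_eq_zero.1 h).resolve_right d.ne, hβ⟩
  -- `S'` is trivial on `C_M(A)`
  have tS : ∀ x : M, (∀ a ∈ A, a • x = x) → ∀ s ∈ S', t b • s • x = s • t b • x := by
    intro x hx s hs
    have h3 : t b • s • x = s • (s⁻¹ * (t b * s * (t b)⁻¹)) • t b • x := by
      rw [smul_smul, smul_smul, smul_smul]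
      congr 1
      group
    rw [h3, tA x hx _ (hT b hb0 s hs)]
  have KC : ∀ x : M, (∀ a ∈ A, a • x = x) → ∀ k' ∈ K', ∀ a ∈ A, a • k' • x = k' • x := by
    intro x hx k' hk' a ha
    rw [smul_smul, hA k' hk' a ha, mul_smul, hx a ha]
  have Se : ∀ s ∈ S', s • e₀ = e₀ := by
    intro s hs
    obtain ⟨α, β, h3⟩ := CMA' (s • e₀) (KC e₀ d.A4 s (hS hs))
    have h4 : t b • s • e₀ = b⁻¹ • s • e₀ := by
      rw [tS e₀ d.A4 s hs, τ.e b hb0, d.lin s (hK (hS hs))]
    rw [h3, smul_add, τ.lin b hb0, τ.lin b hb0, τ.e b hb0, htu, smul_add, smul_smul, smul_smul, smul_smul,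
      smul_smul] at h4
    have h5 : (α * b⁻¹ - b⁻¹ * α) • e₀ + (β * b - b⁻¹ * β) • u = 0 := by
      rw [sub_smul, sub_smul, sub_add_sub_comm, h4, sub_self]
    obtain ⟨-, h6⟩ := indep' _ _ h5
    have h7 : β = 0 := by
      have : β * (b - b⁻¹) = 0 := by linear_combination h6
      exact (mul_eq_zero.1 this).resolve_right hbb
    rw [h7, zero_smul, add_zero] at h3
    exact h2e s hs e₀ α h3
  have Su : ∀ s ∈ S', s • u = u := by
    intro s hs
    obtain ⟨α, β, h3⟩ := CMA' (s • u) (KC u huA s (hS hs))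
    have h4 : t b • s • u = b • s • u := by
      rw [tS u huA s hs, htu, d.lin s (hK (hS hs))]
    rw [h3, smul_add, τ.lin b hb0, τ.lin b hb0, τ.e b hb0, htu, smul_add, smul_smul, smul_smul, smul_smul,
      smul_smul] at h4
    have h5 : (α * b⁻¹ - b * α) • e₀ + (β * b - b * β) • u = 0 := by
      rw [sub_smul, sub_smul, sub_add_sub_comm, h4, sub_self]
    obtain ⟨h6, -⟩ := indep' _ _ h5
    have h7 : α = 0 := by
      have : α * (b - b⁻¹) = 0 := by linear_combination -h6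
      exact (mul_eq_zero.1 this).resolve_right hbb
    rw [h7, zero_smul, zero_add] at h3
    exact h2e s hs u β h3
  -- the kernel
  let N : Subgroup H :=
    { carrier := {n | n ∈ K' ∧ ∀ x : M, (∀ a ∈ A, a • x = x) → n • x = x}
      one_mem' := ⟨one_mem _, fun x _ => one_smul _ x⟩
      mul_mem' := by
        rintro x y ⟨hx, hx'⟩ ⟨hy, hy'⟩
        exact ⟨K'.mul_mem hx hy, fun z hz => by rw [mul_smul, hy' z hz, hx' z hz]⟩
      inv_mem' := by
        rintro x ⟨hx, hx'⟩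
        exact ⟨K'.inv_mem hx, fun z hz => by rw [inv_smul_eq_iff, hx' z hz]⟩ }
  have h3 := hmax N (fun x hx => hx.1) (by
    rintro k' hk' n ⟨hn, hn'⟩
    refine ⟨K'.mul_mem (K'.mul_mem hk' hn) (K'.inv_mem hk'), fun x hx => ?_⟩
    rw [mul_smul, mul_smul, hn' _ (KC x hx k'⁻¹ (K'.inv_mem hk')), smul_inv_smul]) (by
    intro s hs
    refine ⟨hS hs, fun x hx => ?_⟩
    obtain ⟨α, β, h4⟩ := CMA' x hx
    rw [h4, smul_add, d.lin s (hK (hS hs)), d.lin s (hK (hS hs)), Se s hs, Su s hs])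
  have h4 := (h3 hk).2 e₀ d.A4
  rw [← hy] at h4
  exact hy0 1 (by rw [one_smul, h4])

/-- **(L8)** the set `Λ` of the moved components is invariant -/
theorem stable (hF : ∃ a : F, a ≠ 0 ∧ a ≠ 1) {Λ : Set (Subgroup H)} (h1 : ∀ K ∈ Λ, ∃ a ∈ A, a ∈ K ∧ a ≠ 1)
    (h2 : ∀ (h : H), ∀ K ∈ Λ, K.map (MulAut.conj h).toMonoidHom ∈ Λ ∨ ∀ k ∈ K, (h * k * h⁻¹) • e₀ = e₀)
    (hA : ∀ a ∈ A, ∀ K ∈ Λ, K.map (MulAut.conj a).toMonoidHom ∈ Λ)
    (hT : ∀ a, a ≠ 0 → ∀ K ∈ Λ, K.map (MulAut.conj (t a)).toMonoidHom ∈ Λ ∧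
      K.map (MulAut.conj (t a)⁻¹).toMonoidHom ∈ Λ) :
    ∀ h : H, ∀ K ∈ Λ, K.map (MulAut.conj h).toMonoidHom ∈ Λ := by
  obtain ⟨b, hb0, hb1⟩ := hF
  have cjcj : ∀ (g h : H) (K : Subgroup H), (K.map (MulAut.conj h).toMonoidHom).map (MulAut.conj g).toMonoidHom =
      K.map (MulAut.conj (g * h)).toMonoidHom := by
    intro g h K
    rw [Subgroup.map_map]
    congr 1
    ext x
    simp
  let Γ : Subgroup H :=
    { carrier := {h | (∀ K ∈ Λ, K.map (MulAut.conj h).toMonoidHom ∈ Λ) ∧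
        ∀ K ∈ Λ, K.map (MulAut.conj h⁻¹).toMonoidHom ∈ Λ}
      one_mem' := by
        have h3 : ∀ K : Subgroup H, K.map (MulAut.conj (1 : H)).toMonoidHom = K := by
          intro K
          ext x
          simp
        refine ⟨fun K hK => by rw [h3]; exact hK, fun K hK => by rw [inv_one, h3]; exact hK⟩
      mul_mem' := by
        rintro x y ⟨hx, hx'⟩ ⟨hy, hy'⟩
        refine ⟨fun K hK => ?_, fun K hK => ?_⟩
        · rw [← cjcj]
          exact hx _ (hy _ hK)
        · rw [mul_inv_rev, ← cjcj]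
          exact hy' _ (hx' _ hK)
      inv_mem' := by
        rintro x ⟨hx, hx'⟩
        exact ⟨hx', fun K hK => by rw [inv_inv]; exact hx K hK⟩ }
  have hAΓ : A ≤ Γ := fun a ha => ⟨hA a ha, hA a⁻¹ (A.inv_mem ha)⟩
  have hTΓ : ∀ a, a ≠ 0 → t a ∈ Γ := fun a ha => ⟨fun K hK => (hT a ha K hK).1, fun K hK => (hT a ha K hK).2⟩
  -- opposite points
  have half : ∀ h : H, B e₀ (h • e₀) ≠ 0 → ∀ K ∈ Λ, K.map (MulAut.conj h⁻¹).toMonoidHom ∈ Λ := by
    intro h hh K hK
    rcases h2 h⁻¹ K hK with h3 | h3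
    · exact h3
    · exfalso
      obtain ⟨a, ha, haK, ha1⟩ := h1 K hK
      apply hh
      apply d.refl
      apply d.ker1 ha ha1
      have h4 := h3 a haK
      rw [inv_inv, mul_smul, mul_smul, inv_smul_eq_iff] at h4
      exact h4
  have opp : ∀ h : H, B e₀ (h • e₀) ≠ 0 → h ∈ Γ := by
    intro h hh
    refine ⟨fun K hK => ?_, half h hh⟩
    have h3 := half h⁻¹ (fun h4 => hh ?_) K hK
    · rwa [inv_inv] at h3
    · have h5 := d.BH h _ _ h4
      rw [smul_inv_smul] at h5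
      exact d.refl _ _ h5
  let M₁ : Submodule F M := Submodule.span F {x | ∃ h ∈ Γ, x = h • e₀}
  let M₂ : Submodule F M := Submodule.span F {x | ∃ h, h ∉ Γ ∧ x = h • e₀}
  have perp : ∀ x ∈ M₁, ∀ y ∈ M₂, B x y = 0 := by
    intro x hx y hy
    induction hx using Submodule.span_induction with
    | mem x hx =>
      obtain ⟨g, hg, rfl⟩ := hx
      induction hy using Submodule.span_induction with
      | mem y hy =>
        obtain ⟨h, hh, rfl⟩ := hy
        by_contra h3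
        apply hh
        have h4 : g⁻¹ * h ∈ Γ := opp _ (fun h5 => h3 (by
          have h6 := d.BH g _ _ h5
          rwa [smul_smul, mul_inv_cancel_left] at h6))
        have := Γ.mul_mem hg h4
        rwa [mul_inv_cancel_left] at this
      | zero => exact map_zero _
      | add y z _ _ hy hz => rw [map_add, hy, hz, add_zero]
      | smul c y _ hy => rw [map_smul, hy, smul_zero]
    | zero => rw [map_zero, LinearMap.zero_apply]
    | add x z _ _ hx hz => rw [map_add, LinearMap.add_apply, hx, hz, add_zero]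
    | smul c x _ hx => rw [map_smul, LinearMap.smul_apply, hx, smul_zero]
  have htop : M₁ ⊔ M₂ = ⊤ := d.span _ fun h => by
    by_cases hh : h ∈ Γ
    · exact Submodule.mem_sup_left (Submodule.subset_span ⟨h, hh, rfl⟩)
    · exact Submodule.mem_sup_right (Submodule.subset_span ⟨h, hh, rfl⟩)
  have zero_of : ∀ z, (∀ x ∈ M₁, B z x = 0) → (∀ x ∈ M₂, B z x = 0) → z = 0 := by
    intro z hz1 hz2
    refine d.nd.1 z fun y => ?_
    have hy : y ∈ M₁ ⊔ M₂ := by rw [htop]; trivial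
    obtain ⟨x, hx, x', hx', rfl⟩ := Submodule.mem_sup.1 hy
    rw [map_add, hz1 x hx, hz2 x' hx', add_zero]
  have he1 : e₀ ∈ M₁ := Submodule.subset_span ⟨1, Γ.one_mem, (one_smul _ _).symm⟩
  have inv1 : ∀ g : H, g ∈ Γ → (∀ (c : F) (x : M), g • c • x = c • g • x) → ∀ x ∈ M₁, g • x ∈ M₁ := by
    intro g hg hlin x hx
    induction hx using Submodule.span_induction with
    | mem x hx =>
      obtain ⟨h, hh, rfl⟩ := hx
      rw [smul_smul]
      exact Submodule.subset_span ⟨g * h, Γ.mul_mem hg hh, rfl⟩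
    | zero => rw [smul_zero]; exact zero_mem _
    | add x y _ _ hx hy => rw [smul_add]; exact add_mem hx hy
    | smul c x _ hx => rw [hlin]; exact Submodule.smul_mem _ _ hx
  have inv2 : ∀ g : H, g ∈ Γ → (∀ (c : F) (x : M), g • c • x = c • g • x) → ∀ x ∈ M₂, g • x ∈ M₂ := by
    intro g hg hlin x hx
    induction hx using Submodule.span_induction with
    | mem x hx =>
      obtain ⟨h, hh, rfl⟩ := hx
      rw [smul_smul]
      refine Submodule.subset_span ⟨g * h, fun h3 => hh ?_, rfl⟩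
      have := Γ.mul_mem (Γ.inv_mem hg) h3
      rwa [inv_mul_cancel_left] at this
    | zero => rw [smul_zero]; exact zero_mem _
    | add x y _ _ hx hy => rw [smul_add]; exact add_mem hx hy
    | smul c x _ hx => rw [hlin]; exact Submodule.smul_mem _ _ hx
  -- `m ∈ M₁` opposite to `e₀`
  obtain ⟨m, hm1, hm⟩ : ∃ m ∈ M₁, B m e₀ ≠ 0 := by
    by_contra hcon
    push Not at hcon
    refine d.ne (zero_of e₀ (fun x hx => d.refl _ _ (hcon x hx)) fun x hx => perp _ he1 x hx)
  have hM₂ : ∀ x ∈ M₂, t b • x = x := by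
    intro x hx
    have hxe : B x e₀ = 0 := d.refl _ _ (perp _ he1 x hx)
    obtain ⟨a, ha, h3⟩ := d.surj m hm x hxe
    have h4 : a • m - m ∈ M₁ := M₁.sub_mem (inv1 a (hAΓ ha) (d.lin a (d.A_le ha)) m hm1) hm1
    have h5 := τ.D b hb0 _ h3
    obtain ⟨c, hc⟩ := Submodule.mem_span_singleton.1 h5
    have h6 : t b • x - x ∈ M₁ := by
      have e : t b • x - x = (t b • (a • m - m) - (a • m - m)) + c • e₀ := by
        rw [hc]
        simp only [smul_sub]
        abel
      rw [e]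
      exact M₁.add_mem (M₁.sub_mem (inv1 _ (hTΓ b hb0) (τ.lin b hb0) _ h4) h4) (M₁.smul_mem c he1)
    have h7 : t b • x - x ∈ M₂ := M₂.sub_mem (inv2 _ (hTΓ b hb0) (τ.lin b hb0) _ hx) hx
    exact sub_eq_zero.1 (zero_of _ (fun y hy => d.refl _ _ (perp y hy _ h7)) fun y hy => perp _ h6 y hy)
  intro h
  by_cases hh : h ∈ Γ
  · exact hh.1
  exfalso
  have h3 : h • e₀ ∈ M₂ := Submodule.subset_span ⟨h, hh, rfl⟩
  have h4 : h • e₀ = 0 := by
    refine zero_of _ (fun y hy => d.refl _ _ (perp y hy _ h3)) fun y hy => ?_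
    have h5 := τ.form b hb0 (h • e₀) y
    rw [hM₂ _ h3, hM₂ _ hy] at h5
    have h6 : (b - 1) * B (h • e₀) y = 0 := by linear_combination -h5
    exact (mul_eq_zero.1 h6).resolve_left (sub_ne_zero.2 hb1)
  exact d.ne ((smul_eq_zero_iff_eq h).1 h4)

end Bas

end Cfsg.Agent.Omega.Lie.LemC

end
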