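import Cfsg.Agent.Mrg.Omega.HOne.ModZ
import Cfsg.Agent.Mrg.Omega.Lie.ModQS
import Cfsg.Agent.Mrg.Omega.Lie.LayerPerf
import Cfsg.Agent.Mrg.Omega.Lie.TwoMain
import Cfsg.Agent.Mrg.Omega.Lie.LQThm
import Cfsg.Agent.Mrg.Omega.BTwo.CoordNat
import Cfsg.Agent.Mrg.Omega.Lie.PairRows
import Cfsg.Agent.Mrg.Omega.HOneQ.ECen
import Cfsg.Agent.Mrg.Omega.IIa4.Lay
import Mathlib
import Cfsg.Agent.Mrg.Omega.BTwo.Conj

section


/-!
# (h1), SPLIT: the cubic module `M' = W i / Z(W i)` of `H = N(R i)/O₂(N(R i))`, `b : BTS V R`, `q ≥ 4`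

`fdat`: `FDat` for `H⁰`, `A`, `T` on helper811's module `MZ`, `Fq`; `exists_cubS`: the structure `LQS.CubS`.
-/

set_option autoImplicit false
set_option linter.unusedSectionVars false

namespace Cfsg.Agent.Omega.Lie.CubSQ

open Subgroup Cfsg.Agent.Omega.BTwo Cfsg.Agent.Omega.Lie Cfsg.Agent.Omega.Lie.Quot Cfsg.Agent.Omega.Lie.LQS
open Cfsg.Agent.Omega.HOne.ModZ

universe u v w

variable {G : Type u} [Group G] {ι : Type w} {V : Subgroup G} {R : ι → Subgroup G} {i j : ι} {M : Type u}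
  [AddCommGroup M] [DistribMulAction (HQ (R i)) M] {p : G → M} {F : Type v} [Field F] {vv : F → F → G}
  {w1 w2 : F → G} {t : F → G}

section mz

variable (m : MZ V R i M p) (b : BT V R)
include m b

/-- `[p w, g] = p [w, g]` -/
theorem bra_p {g : G} (hg : g ∈ normalizer (R i : Set G)) {w : G} (hw : w ∈ WW V (R i)) :
    bra (pr (R i) ⟨g, hg⟩) (p w) = p (w * g * w⁻¹ * g⁻¹) := by
  have h1 := conj_mem_of_normalizer (normalizer_le_WW V (R i) hg) hw
  have e : w * g * w⁻¹ * g⁻¹ = w * (g * w * g⁻¹)⁻¹ := by group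
  unfold bra
  rw [e, m.p_mul _ hw _ (inv_mem h1), m.p_inv h1, m.p_act g hg w hw, add_comm]
  congr 1
  exact (neg_eq_of_add_eq_zero_left (m.two b _)).symm

theorem comm_W {g : G} (hg : g ∈ normalizer (R i : Set G)) {w : G} (hw : w ∈ WW V (R i)) :
    w * g * w⁻¹ * g⁻¹ ∈ WW V (R i) := by
  have h1 := conj_mem_of_normalizer (normalizer_le_WW V (R i) hg) hw
  have e : w * g * w⁻¹ * g⁻¹ = w * (g * w * g⁻¹)⁻¹ := by group
  rw [e]
  exact mul_mem hw (inv_mem h1)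

end mz

variable [Module F M] {f : M →ₗ[F] M →ₗ[F] F} {e : F →ₗ[F] M} {ω : M →ₗ[F] F} {σ : HQ (R i) →* RingAut F}
  {κ : HQ (R i) → F}

section fq

variable (d : Fq V R i vv M p f e ω σ κ) (c : Coord V R i j vv w1 w2)
include d c

/-- `H⁰` acts linearly -/
theorem H0_one {h : HQ (R i)} (hh : h ∈ H0 R i) : κ h = 1 ∧ ∀ a, σ h a = a := by
  obtain ⟨g, hg, hgC, rfl⟩ := mem_im.1 hh
  have key : ∀ β, κ (pr (R i) ⟨g, hg⟩) * σ (pr (R i) ⟨g, hg⟩) β = β := by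
    intro β
    have h1 := d.R_act g hg β
    have h2 := mem_centralizer_iff.1 hgC _ ((c.mem_R1 _).2 ⟨β, rfl⟩)
    rw [← h2, mul_inv_cancel_right] at h1
    exact (c.v_inj h1).1.symm
  have h1 : κ (pr (R i) ⟨g, hg⟩) = 1 := by
    have := key 1
    rwa [map_one, mul_one] at this
  refine ⟨h1, fun a => ?_⟩
  have := key a
  rwa [h1, one_mul] at this

theorem lin {h : HQ (R i)} (hh : h ∈ H0 R i) (a : F) (x : M) : h • (a • x) = a • (h • x) := by
  rw [d.semi, (H0_one d c hh).2]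

theorem act {h : HQ (R i)} (hh : h ∈ H0 R i) (x y : M) : f (h • x) (h • y) = f x y := by
  rw [d.act, (H0_one d c hh).1, (H0_one d c hh).2, one_mul]

theorem ω_U (b : BT V R) {w : G} (hw : w ∈ WW V (R i)) : ω (p w) = 0 ↔ w ∈ UU V R i := by
  have _ := b
  constructor
  · intro h
    refine mem_inf.2 ⟨hw, ?_⟩
    rw [mem_centralizer_iff]
    intro z hz
    obtain ⟨β, γ, rfl⟩ := (c.mem_V z).1 hz
    have h1 := d.ω_eq w hw β γ
    rw [h, zero_mul, add_zero, mul_inv_eq_iff_eq_mul] at h1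
    exact h1.symm
  · intro h
    have h1 := d.ω_eq w hw 0 1
    rw [← mem_centralizer_iff.1 (UU_le_cen i h) _ (c.v_mem 0 1), mul_inv_cancel_right] at h1
    have h2 := (c.v_inj h1).1
    rw [zero_add, mul_one] at h2
    exact h2.symm

theorem ω_w1 : ω (p (w1 1)) = 1 := by
  have h1 := d.ω_eq _ (c.w1_mem 1) 0 1
  rw [c.w1_act] at h1
  have h2 := (c.v_inj h1).1
  rw [zero_add, zero_add, mul_one, mul_one] at h2
  exact h2.symm

/-- elements of `V` -/
theorem p_V {x : G} (hx : x ∈ V) : ∃ γ, p x = e γ := by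
  obtain ⟨β, γ, rfl⟩ := (c.mem_V x).1 hx
  exact ⟨γ, d.e_eq β γ⟩

/-- elements of `W i` which are in `Z(W i)` modulo `V` -/
theorem p_VZ {x y : G} (hx : x ∈ V) (hyW : y ∈ WW V (R i)) (hy : x * y ∈ ZZ V R i) : ∃ γ, p y = e γ := by
  obtain ⟨γ, hγ⟩ := p_V d c (inv_mem hx)
  refine ⟨γ, ?_⟩
  rw [← hγ]
  have hxW := V_le_WW V (R i) hx
  have h1 := (d.p_ker _ (mul_mem hxW hyW)).2 hy
  rw [d.p_mul _ hxW _ hyW] at h1
  rw [d.p_inv hxW]
  exact (neg_eq_of_add_eq_zero_right h1).symm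

/-- **the data** -/
theorem fdat [Finite G] [CharP F 2] (b : BTS V R) (hF : ∃ a : F, a ≠ 0 ∧ a ≠ 1) (τ : TorD V R i j vv t)
    (hidx : Odd ((normalizer (V : Set G)).relIndex (normalizer (R i : Set G)))) :
    FDat (H0 R i) (AA V R i j) (TT τ) (d.toMZ.sb (DD V R)) f e ω where
  two := d.two b.toBT
  fe := d.fe
  symm := d.symm
  nd := d.nd
  ω1 := ⟨_, ω_w1 d c⟩
  AL := Layer.A_le_H0 b.toBT
  lin h hh a x := lin d c hh a x
  act h hh x y := act d c hh x y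
  sq a ha := A_sq b.toBT c.ne ha
  TA t ht a ha := TA_mem b.toBT τ ht ha
  Ae a ha γ := by
    obtain ⟨u, hu, rfl⟩ := (mem_AA b.toBT).1 ha
    rw [← d.e_eq 0 γ, d.p_act _ _ _ (V_le_WW V (R i) (c.v_mem 0 γ)),
      ← mem_centralizer_iff.1 (UU_le_cen j hu) _ (c.v_mem 0 γ), mul_inv_cancel_right]
  eD γ := by
    rw [← d.e_eq 0 γ]
    exact d.toMZ.p_mem (V_le_WW V (R i) (c.v_mem 0 γ)) (V_le_D V R (c.v_mem 0 γ))
  DP x hx := by
    obtain ⟨y, hy, hyW, rfl⟩ := hx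
    exact (ω_U d c b.toBT hyW).2 (b.D_le_U i hy)
  AD a ha x hx := by
    obtain ⟨u, hu, rfl⟩ := (mem_AA b.toBT).1 ha
    obtain ⟨y, hy, hyW, rfl⟩ := hx
    rw [bra_p d.toMZ b.toBT _ hyW]
    exact p_V d c (b.R_le j (b.DU hy hu))
  AP a ha x hx := by
    obtain ⟨u, hu, rfl⟩ := (mem_AA b.toBT).1 ha
    obtain ⟨y, hyW, rfl⟩ := d.p_surj x
    have hyU := (ω_U d c b.toBT hyW).1 hx
    rw [bra_p d.toMZ b.toBT _ hyW]
    have h1 := b.Y_comm (UU_le_YY i hyU) (UU_le_YY j hu)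
    exact d.toMZ.p_mem (D_le_W V R i h1) h1
  Te s hs := by
    obtain ⟨a, ha, rfl⟩ := (mem_TT τ).1 hs
    refine ⟨a⁻¹, inv_ne_zero ha, fun γ => ?_⟩
    rw [← d.e_eq 0 γ, d.p_act _ _ _ (V_le_WW V (R i) (c.v_mem 0 γ)), τ.act _ _ _ ha, d.e_eq]
  TD s hs x hx := by
    obtain ⟨a, ha, rfl⟩ := (mem_TT τ).1 hs
    obtain ⟨y, hy, hyW, rfl⟩ := hx
    rw [bra_p d.toMZ b.toBT _ hyW]
    have h1 := b.XD (τ.memX a ha) hy
    have e1 : y * t a * y⁻¹ * (t a)⁻¹ = (t a * y * (t a)⁻¹ * y⁻¹)⁻¹ := by group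
    rw [e1]
    exact p_V d c (inv_mem h1)
  l0 a ha s hs x := by
    obtain ⟨u, hu, rfl⟩ := (mem_AA b.toBT).1 ha
    obtain ⟨α, hα, rfl⟩ := (mem_TT τ).1 hs
    obtain ⟨w, hw, rfl⟩ := d.p_surj x
    have hN := U_le_N b.toBT i j hu
    have ht := τ.normR hα
    have hu' := t_norm_U b.toBT τ hα hu
    have hN' := U_le_N b.toBT i j hu'
    have e1 : pr (R i) ⟨t α, ht⟩ * pr (R i) ⟨u, hN⟩ * (pr (R i) ⟨t α, ht⟩)⁻¹ = pr (R i) ⟨_, hN'⟩ := rfl
    have hcW := comm_W d.toMZ b.toBT hN hw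
    rw [e1, bra_p d.toMZ b.toBT hN hw, bra_p d.toMZ b.toBT hN' hcW]
    obtain ⟨-, y, hy, h4⟩ := ModQS.N0_T b hw hu (τ.memX α hα) (cj_eq_self_iff.2 (τ.normR hα))
      (cj_eq_self_iff.2 (τ.normR' hα))
    exact p_VZ d c hy (comm_W d.toMZ b.toBT hN' hcW) (LemNS.F0_le_ZZ i h4)
  sub a ha ha1 γ := by
    obtain ⟨u, hu, rfl⟩ := (mem_AA b.toBT).1 ha
    have hD : u ∉ DD V R := fun hD => ha1 ((pr_eq_one _).2 ((U_inf_Q b.toBT c.ne hu).2 hD))
    obtain ⟨w, hw, ζ, hζ, h⟩ := LemNS.lemNS b hF c τ hidx hu hD (c.v_mem 0 γ)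
    refine ⟨p w, ?_⟩
    rw [bra_p d.toMZ b.toBT _ hw, ← d.e_eq 0 γ, h,
      d.p_mul _ (comm_W d.toMZ b.toBT (U_le_N b.toBT i j hu) hw) _ hζ.1, (d.p_ker _ hζ.1).2 hζ, add_zero]
  gen x hx y hy := by
    obtain ⟨w, hw, rfl⟩ := d.p_surj x
    obtain ⟨z, hz, rfl⟩ := d.p_surj y
    have hwU : w ∉ UU V R i := fun h => hx ((ω_U d c b.toBT hw).2 h)
    have hzU := (ω_U d c b.toBT hz).1 hy
    obtain ⟨u, hu, huD⟩ := b.surj (Ne.symm c.ne) hw hwU hzU
    have huN := U_le_N b.toBT i j hu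
    refine ⟨pr (R i) ⟨u, huN⟩, (mem_AA b.toBT).2 ⟨u, hu, rfl⟩, ?_⟩
    have hcW := comm_W d.toMZ b.toBT huN hw
    rw [bra_p d.toMZ b.toBT huN hw]
    have h1 : p z + p (w * u * w⁻¹ * u⁻¹) = p ((w * u * w⁻¹ * u⁻¹)⁻¹ * z) := by
      rw [d.p_mul _ (inv_mem hcW) _ hz, d.p_inv hcW, neg_eq_of_add_eq_zero_left (d.two b.toBT (p _)), add_comm]
    rw [h1]
    exact d.toMZ.p_mem (mul_mem (inv_mem hcW) hz) huD
  ker0 x hx h := by
    obtain ⟨y, hy, hyW, rfl⟩ := hx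
    obtain ⟨z, hz, h4⟩ := b.cen_DU (i := j) hy fun u hu => by
      have huN := U_le_N b.toBT i j hu
      have h1 := h _ ((mem_AA b.toBT).2 ⟨u, hu, rfl⟩)
      have h2 : bra (pr (R i) ⟨u, huN⟩) (p y) = 0 := by
        unfold bra; rw [h1, d.two b.toBT]
      rw [bra_p d.toMZ b.toBT huN hyW] at h2
      have h3 := b.DU hy hu
      obtain ⟨γ, hγ⟩ := (c.mem_R2 _).1 h3
      rw [← hγ, d.e_eq] at h2
      have hγ0 : γ = 0 := by
        have h5 := d.fe (p (w1 1)) γ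
        rw [h2, map_zero, ω_w1 d c, one_mul] at h5
        exact h5.symm
      rw [hγ0, c.v_zero] at hγ
      have h6 : y * u * y⁻¹ * u⁻¹ = 1 := hγ.symm
      rw [mul_inv_eq_one, mul_inv_eq_iff_eq_mul] at h6
      exact h6
    exact p_VZ d c hz hyW (LemNS.F0_le_ZZ i h4)

end fq

/-- **`CubS` for `H = N(R i) / O₂(N(R i))`, `b : BTS V R`** -/
theorem exists_cubS [Finite G] [Finite F] [CharP F 2] (b : BTS V R) (hq : 4 ≤ Nat.card F)
    (c : Coord V R i j vv w1 w2) (τ : TorD V R i j vv t)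
    (hidx : Odd ((normalizer (V : Set G)).relIndex (normalizer (R i : Set G)))) :
    ∃ (M : Type u) (_ : CommGroup M) (_ : Finite M) (ρ : HQ (R i) →* MulAut M) (e D P : Subgroup M),
      CubS ρ (H0 R i) (AA V R i j) (TT τ) e D P ∧ Nat.card e ≤ Nat.card (TT τ) + 1 := by
  have hF := CubQ.exists_ne' hq
  obtain ⟨M, _, _, p, m⟩ := exists_MZ b.toBT i
  obtain ⟨_, f, e, ω, σ, κ, d⟩ := m.exists_fq hF b.toBT c τ
  have D := fdat d c b hF τ hidx
  have hT := card_T b.toBT τ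
  have hfin := m.finite_M
  exact ⟨Multiplicative M, inferInstance, inferInstanceAs (Finite M), mrho _ M, D.eS, D.dS, D.pS, D.cubS hT,
    D.card_eS hT⟩

end Cfsg.Agent.Omega.Lie.CubSQ

end

section


/-!
# (h1), SPLIT: the component theorem in `H = N(R i)/O₂(N(R i))`, over `BTS V R` (`C_D(X) ≠ 1` allowed), `q ≥ 4`

For a component `K ≤ H⁰` of `H`, `K / Z(K)` known, with `[K, A] ≠ 1`: `hyp`: `CompB.Hyp` holds (so `T` normalises `K`, `A` is
inner on `K`) and `K / Z(K)` is of Lie type in characteristic 2.  `innC`, `oddC`; `A_le_iSup`: `A ≤ ∏ (A ⊓ K)`; `perf`.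
-/

set_option autoImplicit false
set_option linter.unusedSectionVars false

namespace Cfsg.Agent.Omega.Lie.LayerS

open Subgroup Cfsg Cfsg.Agent.Omega.BTwo Cfsg.Agent.Omega.Lie Cfsg.Agent.Omega.Lie.Quot
open Cfsg.Agent.Omega.Lie.CompB Cfsg.Agent.Omega.Lie.CompT Cfsg.Agent.Omega.Lie.Layer
open Cfsg.Agent.Omega.Lie.OutT Cfsg.Agent.Omega.KFacts Cfsg.Agent.Omega.Lie.LayerMain
open Cfsg.Agent.Omega.Lie.LQS

universe u v w

/-- **TEXT LIE-2** for `CubS`: no component with `[K, A] ≠ 1` and `K / Z(K)` in `OutZS`. -/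
theorem false_of_outZS {H : Type u} {M : Type v} [Group H] [CommGroup M] [Finite H] [Finite M]
    {ρ : H →* MulAut M} {L A T : Subgroup H} {e D P : Subgroup M} (c : CubS ρ L A T e D P) (sc : Scal A T)
    (hT : 3 ≤ Nat.card T) {S K : Subgroup H} (h : CompB.Hyp S A T K) (hK : Cfsg.IsQuasisimple K) (hKL : K ≤ L)
    (hne : ∃ a ∈ A, ∃ x ∈ K, a * x ≠ x * a) (hO : OutZS (K ⧸ center K)) : False := by
  obtain ⟨j, hj, h1, h2, h3⟩ := LQRows.data hO
  have hZ := LQ.odd_card_center h.zodd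
  exact c.false_of_pair sc hT h hK hKL hne hj (LQRows.card_le_of_not_dvd h.S2 hZ h1) (LQ.Pair.of_quot hZ h2)
    (LQ.NoAct.of_ord hK h3)

variable {G : Type u} [Group G] [Finite G] {ι : Type w} {V : Subgroup G} {R : ι → Subgroup G} {F : Type v} [Field F]
  [Finite F] [CharP F 2] {i j : ι} {vv : F → F → G} {t : F → G} {w1 w2 : F → G}

/-- (T2): the exceptional case is impossible. -/
theorem three_false (b : BTS V R) (c : Coord V R i j vv w1 w2) (τ : TorD V R i j vv t)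
    (hidx : Odd ((normalizer (V : Set G)).relIndex (normalizer (R i : Set G))))
    (hF : 4 ≤ Nat.card F) (S₁ : Sylow 2 G) (hV : (S₁ : Subgroup G) ≤ normalizer (V : Set G))
    (hR : (S₁ : Subgroup G) ≤ normalizer (R i : Set G)) {K : Subgroup (HQ (R i))} (hK : IsComponent K)
    (hK0 : K ≤ H0 R i) (h3 : Three (AA V R i j) (TT τ) K (SS R i S₁ ⊓ K)) (h5 : InvFive.InvFive K) : False := by
  have sit := ExoBT.sit b.toBT τ (CrdOf.crd c) S₁ c.ne hF hV hR
  have hsyl := sit.sylK hK.1 hK0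
  obtain ⟨M, _, _, ρ, e, D, P, C, he⟩ := CubSQ.exists_cubS b hF c τ hidx
  refine C.three_false he hK.2 hK0 (fun z hz hc hz2 => ?_) sit.syl.isPGroup (fun Q hQK hQ2 hSQ => ?_) h3 h5
  · exact LQ.eq_one_of_sq_odd (ExoComp.Sit.zodd (pCore_HQ (R i)) hK z hz hc) hz2
  · rw [hsyl.2.2 Q hSQ hQK hQ2]
    exact inf_le_left

theorem zs_false (b : BTS V R) (c : Coord V R i j vv w1 w2) (τ : TorD V R i j vv t)
    (hidx : Odd ((normalizer (V : Set G)).relIndex (normalizer (R i : Set G)))) (hF : 4 ≤ Nat.card F)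
    {S K : Subgroup (HQ (R i))} (h : CompB.Hyp S (AA V R i j) (TT τ) K) (hK : IsQuasisimple K) (hK0 : K ≤ H0 R i)
    (hne : ∃ a ∈ AA V R i j, ∃ x ∈ K, a * x ≠ x * a) (hO : OutZS (K ⧸ center K)) : False := by
  obtain ⟨M, _, _, ρ, e, D, P, C, -⟩ := CubSQ.exists_cubS b hF c τ hidx
  have hT := card_T b.toBT τ
  exact false_of_outZS C (scal b.toBT τ c.ne) (by omega) h hK hK0 hne hO

/-- **The components `K ≤ H⁰` with `[K, A] ≠ 1`** for `b : BTS V R`: `CompB.Hyp`, and `K / Z(K)` is of Lie type in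
characteristic 2. -/
theorem hyp (KR : KRows.{u}) (b : BTS V R) (c : Coord V R i j vv w1 w2) (τ : TorD V R i j vv t)
    (hidx : Odd ((normalizer (V : Set G)).relIndex (normalizer (R i : Set G))))
    (hF : 4 ≤ Nat.card F) (S₁ : Sylow 2 G) (hV : (S₁ : Subgroup G) ≤ normalizer (V : Set G))
    (hR : (S₁ : Subgroup G) ≤ normalizer (R i : Set G)) {K : Subgroup (HQ (R i))} (hK : IsComponent K)
    (hK0 : K ≤ H0 R i) (hk : IsKnownSimple' (K ⧸ center K)) (hne : ∃ a ∈ AA V R i j, ∃ k ∈ K, a * k ≠ k * a) :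
    Hyp (SS R i S₁) (AA V R i j) (TT τ) K ∧ IsLieTypeChar 2 (K ⧸ center K) :=
  hyp_bt KR b.toBT (CrdOf.crd c) τ c.ne hF S₁ hV hR hK hK0 hk hne
    (fun h h5 => three_false b c τ hidx hF S₁ hV hR hK hK0 h h5)
    (fun h hZ => zs_false b c τ hidx hF h hK.2 hK0 hne hZ)

/-- `A` acts on every component in `H⁰` as `A ⊓ K`. -/
theorem innC (KR : KRows.{u}) (b : BTS V R) (c : Coord V R i j vv w1 w2) (τ : TorD V R i j vv t)
    (hidx : Odd ((normalizer (V : Set G)).relIndex (normalizer (R i : Set G))))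
    (hF : 4 ≤ Nat.card F) (S₁ : Sylow 2 G) (hV : (S₁ : Subgroup G) ≤ normalizer (V : Set G))
    (hR : (S₁ : Subgroup G) ≤ normalizer (R i : Set G))
    (hk : ∀ K : Subgroup (HQ (R i)), IsComponent K → IsKnownSimple' (K ⧸ center K)) : InnC V R i j := by
  intro K hK hK0
  by_cases hne : ∃ a ∈ AA V R i j, ∃ k ∈ K, a * k ≠ k * a
  · exact InnA.of_hyp (hyp KR b c τ hidx hF S₁ hV hR hK hK0 (hk K hK) hne).1
  · push Not at hne
    exact InnA.of_comm hne

/-- **`A ≤ ∏ (A ⊓ K)`**, the product over the components `K ≤ H⁰`. -/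
theorem A_le_iSup (KR : KRows.{u}) (b : BTS V R) (c : Coord V R i j vv w1 w2) (τ : TorD V R i j vv t)
    (hidx : Odd ((normalizer (V : Set G)).relIndex (normalizer (R i : Set G))))
    (hF : 4 ≤ Nat.card F) (S₁ : Sylow 2 G) (hV : (S₁ : Subgroup G) ≤ normalizer (V : Set G))
    (hR : (S₁ : Subgroup G) ≤ normalizer (R i : Set G))
    (hk : ∀ K : Subgroup (HQ (R i)), IsComponent K → IsKnownSimple' (K ⧸ center K)) :
    AA V R i j ≤ ⨆ K ∈ {K : Subgroup (HQ (R i)) | Cps (H0 R i) K}, AA V R i j ⊓ K :=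
  Layer.A_le_iSup b.toBT c.ne (OddAllS.oddC b c τ hidx hF) (innC KR b c τ hidx hF S₁ hV hR hk)

/-- **`U j ≤ [N, N] Q i`, `N = ⟨(U j)^{N(R i)}⟩`.** -/
theorem perf (KR : KRows.{u}) (b : BTS V R) (c : Coord V R i j vv w1 w2) (τ : TorD V R i j vv t)
    (hidx : Odd ((normalizer (V : Set G)).relIndex (normalizer (R i : Set G))))
    (hF : 4 ≤ Nat.card F) (S₁ : Sylow 2 G) (hV : (S₁ : Subgroup G) ≤ normalizer (V : Set G))
    (hR : (S₁ : Subgroup G) ≤ normalizer (R i : Set G))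
    (hk : ∀ K : Subgroup (HQ (R i)), IsComponent K → IsKnownSimple' (K ⧸ center K)) :
    UU V R j ≤ ⁅NU V R i j, NU V R i j⁆ ⊔ QQ (R i) :=
  perf_of b.toBT c.ne (OddAllS.oddC b c τ hidx hF) (innC KR b c τ hidx hF S₁ hV hR hk)

end Cfsg.Agent.Omega.Lie.LayerS

end

section


/-!
# (h1), SPLIT: the component theorem in `H = N(R i)/O₂(N(R i))`, over `BTS V R` and `SylI τ S` (no Sylow group of `G`)

As `LayerS.lean`, but the Sylow 2-subgroup `S` of `H⁰` is given by `ECen.SylI τ S`.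

* `sit`: `ExoComp.Sit (H0 R i) S (AA V R i j) (TT τ)`;
* `hyp`: for a component `K ≤ H⁰`, `K / Z(K)` known, `[K, A] ≠ 1`: `CompB.Hyp S A T K` and `K / Z(K)` of Lie type in
  characteristic 2; `innC`, `A_le_iSup`, `perf`.
-/

set_option autoImplicit false
set_option linter.unusedSectionVars false

namespace Cfsg.Agent.Omega.Lie.LayerSI

open Subgroup Cfsg Cfsg.Agent.Omega.BTwo Cfsg.Agent.Omega.Lie Cfsg.Agent.Omega.Lie.Quot
open Cfsg.Agent.Omega.Lie.CompB Cfsg.Agent.Omega.Lie.CompT Cfsg.Agent.Omega.Lie.Layer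
open Cfsg.Agent.Omega.Lie.OutT Cfsg.Agent.Omega.KFacts Cfsg.Agent.Omega.Lie.LayerMain Cfsg.Agent.Omega.Lie.InvFiveAll
open Cfsg.Agent.Omega.Lie.LQS
open Cfsg.Agent.Omega.HOneQ.ECen (SylI)

universe u v w

variable {G : Type u} [Group G] {ι : Type w} {V : Subgroup G} {R : ι → Subgroup G} {F : Type v} [Field F]
  {i j : ι} {vv : F → F → G} {t : F → G} {w1 w2 : F → G}

theorem S_le_H0 (b : BT V R) {τ : TorD V R i j vv t} {S : Subgroup (HQ (R i))} (I : SylI τ S) : S ≤ H0 R i := by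
  intro s hs
  obtain ⟨g, hg, hgV, rfl⟩ := I.rep s hs
  exact mem_im.2 ⟨g, hg, centralizer_le (b.R_le i) hgV, rfl⟩

/-- **`ExoComp.Sit` from `SylI`** -/
theorem sit [Finite G] [Finite F] [CharP F 2] (b : BT V R) {τ : TorD V R i j vv t} (hij : i ≠ j)
    (hF : 4 ≤ Nat.card F) {S : Subgroup (HQ (R i))} (I : SylI τ S) :
    ExoComp.Sit (H0 R i) S (AA V R i j) (TT τ) where
  normal := ExoBT.H0_normal R i
  syl := by
    refine ⟨S_le_H0 b I, I.S2, fun P hSP hP0 hP => le_antisymm ?_ hSP⟩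
    have := ExoBT.H0_normal R i
    exact I.syl (H0 R i) (Subgroup.Normal.isSubnormal this) le_rfl P hP0 hP (inf_le_left.trans hSP)
  AS := I.AS
  scal := scal b τ hij
  SA s hs a ha := by
    obtain ⟨g, hg, hgV, rfl⟩ := I.rep s hs
    obtain ⟨u, hu, rfl⟩ := (mem_AA b).1 ha
    exact (mem_AA b).2 ⟨_, conj_mem_of_normalizer (b.cen_le_NU j hgV) hu, rfl⟩
  TS x hx s hs := by
    have h1 := mul_mem hs (I.AS (I.ST x hx s hs))
    rwa [mul_inv_cancel_left] at h1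
  ST s hs x hx := I.ST x hx s hs
  odd := by
    have h1 := card_T b τ
    have h2 : 2 ∣ Nat.card F := by
      have := Fintype.ofFinite F
      have h3 : (Fintype.card F : F) = 0 := Nat.cast_card_eq_zero F
      rw [Nat.card_eq_fintype_card]
      exact (CharP.cast_eq_zero_iff F 2 _).1 h3
    rw [← Nat.not_even_iff_odd, even_iff_two_dvd]
    intro h3
    have h4 : 2 ∣ Nat.card (TT τ) + 1 := h1 ▸ h2
    have h5 := (Nat.dvd_add_right h3).1 h4
    omega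
  three := by
    have := card_T b τ
    omega

variable [Finite G] [Finite F] [CharP F 2]

/-- (INV5) in the exceptional case -/
theorem invFive (W : WalterThm.{u}) (b : BT V R) {τ : TorD V R i j vv t} (hij : i ≠ j) (hF : 4 ≤ Nat.card F)
    {S : Subgroup (HQ (R i))} (I : SylI τ S) {K : Subgroup (HQ (R i))} (hK : IsComponent K)
    (hK0 : K ≤ H0 R i) (h2 : 2 ∣ Nat.card K) (h3 : Three (AA V R i j) (TT τ) K (S ⊓ K)) :
    InvFive.InvFive K := by
  have hsyl := (sit b hij hF I).sylK hK.1 hK0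
  obtain ⟨P, hP⟩ := hsyl.exists_sylow
  refine InvFiveAll.of_quasisimple W hK.2 (ExoComp.odd_center (pCore_HQ (R i)) hK) h2 P fun x hx y hy => ?_
  have hx' : (x : HQ (R i)) ∈ S ⊓ K := by rw [← hP]; exact ⟨x, hx, rfl⟩
  have hy' : (y : HQ (R i)) ∈ S ⊓ K := by rw [← hP]; exact ⟨y, hy, rfl⟩
  exact Subtype.ext (h3.ab x hx' y hy')

/-- (T2): the exceptional case is impossible. -/
theorem three_false (b : BTS V R) (c : Coord V R i j vv w1 w2) (τ : TorD V R i j vv t)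
    (hidx : Odd ((normalizer (V : Set G)).relIndex (normalizer (R i : Set G))))
    (hF : 4 ≤ Nat.card F) {S : Subgroup (HQ (R i))} (I : SylI τ S) {K : Subgroup (HQ (R i))} (hK : IsComponent K)
    (hK0 : K ≤ H0 R i) (h3 : Three (AA V R i j) (TT τ) K (S ⊓ K)) (h5 : InvFive.InvFive K) : False := by
  have hsyl := (sit b.toBT c.ne hF I).sylK hK.1 hK0
  obtain ⟨M, _, _, ρ, e, D, P, C, he⟩ := CubSQ.exists_cubS b hF c τ hidx
  refine C.three_false he hK.2 hK0 (fun z hz hc hz2 => ?_) I.S2 (fun Q hQK hQ2 hSQ => ?_) h3 h5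
  · exact LQ.eq_one_of_sq_odd (ExoComp.Sit.zodd (pCore_HQ (R i)) hK z hz hc) hz2
  · rw [hsyl.2.2 Q hSQ hQK hQ2]
    exact inf_le_left

/-- **The components `K ≤ H⁰` with `[K, A] ≠ 1`**: `CompB.Hyp`, and `K / Z(K)` is of Lie type in characteristic 2. -/
theorem hyp (KR : KRows.{u}) (b : BTS V R) (c : Coord V R i j vv w1 w2) (τ : TorD V R i j vv t)
    (hidx : Odd ((normalizer (V : Set G)).relIndex (normalizer (R i : Set G))))
    (hF : 4 ≤ Nat.card F) {S : Subgroup (HQ (R i))} (I : SylI τ S) {K : Subgroup (HQ (R i))} (hK : IsComponent K)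
    (hK0 : K ≤ H0 R i) (hk : IsKnownSimple' (K ⧸ center K)) (hne : ∃ a ∈ AA V R i j, ∃ k ∈ K, a * k ≠ k * a) :
    Hyp S (AA V R i j) (TT τ) K ∧ IsLieTypeChar 2 (K ⧸ center K) := by
  have h2 := two_dvd KR.odd hK.2
  have s := sit b.toBT c.ne hF I
  rcases s.exo_rows KR.zs (pCore_HQ _) hK hK0 h2 hk hne with ⟨-, h1, h4⟩ | h
  · have h5 := OutT.hyp h1 s.odd hK (KR.out _ h4)
    exact ⟨h5, h4.resolve_right (fun hZ => LayerS.zs_false b c τ hidx hF h5 hK.2 hK0 hne hZ)⟩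
  · exact (three_false b c τ hidx hF I hK hK0 h (invFive KR.walter b.toBT c.ne hF I hK hK0 h2 h)).elim

/-- `A` acts on every component in `H⁰` as `A ⊓ K`. -/
theorem innC (KR : KRows.{u}) (b : BTS V R) (c : Coord V R i j vv w1 w2) (τ : TorD V R i j vv t)
    (hidx : Odd ((normalizer (V : Set G)).relIndex (normalizer (R i : Set G))))
    (hF : 4 ≤ Nat.card F) {S : Subgroup (HQ (R i))} (I : SylI τ S)
    (hk : ∀ K : Subgroup (HQ (R i)), IsComponent K → K ≤ H0 R i → IsKnownSimple' (K ⧸ center K)) : InnC V R i j := by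
  intro K hK hK0
  by_cases hne : ∃ a ∈ AA V R i j, ∃ k ∈ K, a * k ≠ k * a
  · exact InnA.of_hyp (hyp KR b c τ hidx hF I hK hK0 (hk K hK hK0) hne).1
  · push Not at hne
    exact InnA.of_comm hne

/-- **`A ≤ ∏ (A ⊓ K)`**, the product over the components `K ≤ H⁰`. -/
theorem A_le_iSup (KR : KRows.{u}) (b : BTS V R) (c : Coord V R i j vv w1 w2) (τ : TorD V R i j vv t)
    (hidx : Odd ((normalizer (V : Set G)).relIndex (normalizer (R i : Set G))))
    (hF : 4 ≤ Nat.card F) {S : Subgroup (HQ (R i))} (I : SylI τ S)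
    (hk : ∀ K : Subgroup (HQ (R i)), IsComponent K → K ≤ H0 R i → IsKnownSimple' (K ⧸ center K)) :
    AA V R i j ≤ ⨆ K ∈ {K : Subgroup (HQ (R i)) | Cps (H0 R i) K}, AA V R i j ⊓ K :=
  Layer.A_le_iSup b.toBT c.ne (OddAllS.oddC b c τ hidx hF) (innC KR b c τ hidx hF I hk)

/-- **`U j ≤ [N, N] Q i`, `N = ⟨(U j)^{N(R i)}⟩`.** -/
theorem perf (KR : KRows.{u}) (b : BTS V R) (c : Coord V R i j vv w1 w2) (τ : TorD V R i j vv t)
    (hidx : Odd ((normalizer (V : Set G)).relIndex (normalizer (R i : Set G))))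
    (hF : 4 ≤ Nat.card F) {S : Subgroup (HQ (R i))} (I : SylI τ S)
    (hk : ∀ K : Subgroup (HQ (R i)), IsComponent K → K ≤ H0 R i → IsKnownSimple' (K ⧸ center K)) :
    UU V R j ≤ ⁅NU V R i j, NU V R i j⁆ ⊔ QQ (R i) :=
  perf_of b.toBT c.ne (OddAllS.oddC b c τ hidx hF) (innC KR b c τ hidx hF I hk)

end Cfsg.Agent.Omega.Lie.LayerSI

end

section


/-!
# LAYER over `BTS V R` and `SylI τ S` (no Sylow group of `G`)

`lay` : `Lay V R i j (TT τ) S` from the K-facts `KRows` for `b : BTS V R`, `I : SylI τ S`.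
`known` : the components of `N(R i)/O₂(N(R i))` are known if all proper subgroups have known simple sections.
-/

set_option autoImplicit false
set_option linter.unusedSectionVars false

namespace Cfsg.Agent.Omega.HOneQ.LayI

open Subgroup Cfsg Cfsg.Agent.Omega.BTwo Cfsg.Agent.Omega.Lie Cfsg.Agent.Omega.Lie.Quot
open Cfsg.Agent.Omega.Lie.LayerMain (KRows)
open Cfsg.Agent.Omega.HOneQ.ECen (SylI)
open Cfsg.Agent.Omega.IIa4 (Lay)

universe u v w

variable {G : Type u} [Group G] [Finite G] {ι : Type w} {V : Subgroup G} {R : ι → Subgroup G} {F : Type v} [Field F]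
  [Finite F] [CharP F 2] {i j : ι} {vv : F → F → G} {t : F → G} {w1 w2 : F → G}

/-- **LAYER** at `(i, j)`. -/
theorem lay (KR : KRows.{u}) (b : BTS V R) (c : Coord V R i j vv w1 w2) (τ : TorD V R i j vv t)
    (hidx : Odd ((normalizer (V : Set G)).relIndex (normalizer (R i : Set G))))
    (hF : 4 ≤ Nat.card F) {S : Subgroup (HQ (R i))} (I : SylI τ S)
    (hk : ∀ K : Subgroup (HQ (R i)), IsComponent K → K ≤ H0 R i → IsKnownSimple' (K ⧸ center K)) :
    Lay V R i j (TT τ) S where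
  odd := OddAllS.oddC b c τ hidx hF
  hyp K hK := (LayerSI.hyp KR b c τ hidx hF I hK.1 hK.2.1 (hk K hK.1 hK.2.1) hK.2.2).1
  lie K hK := (LayerSI.hyp KR b c τ hidx hF I hK.1 hK.2.1 (hk K hK.1 hK.2.1) hK.2.2).2

theorem normalizer_ne_top (b : BT V R) (hs : IsSimpleGroup G) (hnc : ¬ IsMulCommutative G) (i : ι) :
    normalizer (R i : Set G) ≠ ⊤ := by
  intro h1
  have h2 : (R i).Normal := normalizer_eq_top_iff.mp h1
  have h3 : R i = ⊤ := h2.eq_bot_or_eq_top.resolve_left (b.R_ne i)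
  have h4 : V = ⊤ := top_le_iff.1 (h3 ▸ b.R_le i)
  exact hnc ⟨⟨fun x y => b.V_comm x (h4 ▸ mem_top x) y (h4 ▸ mem_top y)⟩⟩

end Cfsg.Agent.Omega.HOneQ.LayI

end

section


/-!
# LEMMA NE: `N_H(e') = N_H(e)` (II.0h1 split, `q ≥ 4`; replaces (5.2), (5.3)), abstract form

`H` acts on `M`, `e`, `rad` subgroups of `M`, `e ∩ rad = 0`.  `Γ` normalises `e + rad`, `Γ₀ ⊴ Γ` is trivial on `(e + rad)/rad`,
`S₀ ≤ Γ₀` of odd index fixes `e` pointwise; `A ≤ Γ₀`, `T ≤ Γ`, `T Γ₀ ⊴ Γ`, `e = [e, T]` and `C_rad(A) ≤ C_rad(T)`.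
Then `Γ₀` fixes `e` pointwise and `Γ` normalises `e`.
-/

set_option autoImplicit false
set_option linter.unusedSectionVars false

namespace Cfsg.Agent.Omega.HOneQ.NormE

open Subgroup

variable {H : Type*} [Group H] {M : Type*} [AddCommGroup M] [DistribMulAction H M]

/-- averaging over the cosets of a subgroup of odd index -/
theorem exists_avg [Finite H] {K S : Subgroup H} (hodd : Odd (S.relIndex K)) (h2 : ∀ m : M, m + m = 0)
    {x : M} (hx : ∀ s ∈ S, s • x = x) {L : AddSubgroup M} (hK : ∀ g ∈ K, g • x - x ∈ L) :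
    ∃ y, (∀ g ∈ K, g • y = y) ∧ y - x ∈ L := by
  classical
  let Q := K ⧸ (S.subgroupOf K)
  have hfin : Fintype Q := Fintype.ofFinite Q
  let F : Q → M := fun q => Quotient.liftOn' q (fun g : K => (g : H) • x) (by
    intro a b hab
    rw [QuotientGroup.leftRel_apply] at hab
    have h1 := hx _ (mem_subgroupOf.1 hab)
    change ((a : H)⁻¹ * (b : H)) • x = x at h1
    rw [mul_smul, inv_smul_eq_iff] at h1
    exact h1.symm)
  have hF : ∀ g : K, F (QuotientGroup.mk g) = (g : H) • x := fun g => rfl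
  refine ⟨∑ q : Q, F q, fun g hg => ?_, ?_⟩
  · rw [Finset.smul_sum]
    have h1 : ∀ q : Q, g • F q = F ((⟨g, hg⟩ : K) • q) := by
      intro q
      induction q using QuotientGroup.induction_on with
      | H k =>
        rw [hF]
        change g • (k : H) • x = F (QuotientGroup.mk (⟨g, hg⟩ * k))
        rw [hF, smul_smul]
        rfl
    rw [Finset.sum_congr rfl fun q _ => h1 q]
    exact Fintype.sum_bijective _ (MulAction.bijective (⟨g, hg⟩ : K)) _ _ fun q => rfl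
  · have hcard : Fintype.card Q • x = x := by
      have h1 : Odd (Fintype.card Q) := by
        rw [← Nat.card_eq_fintype_card]
        exact hodd
      obtain ⟨k, hk⟩ := h1
      rw [hk, add_smul, one_smul, mul_comm, mul_smul, two_smul, h2, smul_zero, zero_add]
    have h3 : ∑ q : Q, F q - x = ∑ q : Q, (F q - x) := by
      rw [Finset.sum_sub_distrib, Finset.sum_const, Finset.card_univ, hcard]
    rw [h3]
    refine L.sum_mem fun q _ => ?_
    induction q using QuotientGroup.induction_on with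
    | H k => exact hK k k.2

/-- the data of LEMMA NE -/
structure Dat (A T Γ Γ₀ S₀ : Subgroup H) (e rad : AddSubgroup M) : Prop where
  two : ∀ m : M, m + m = 0
  disj : ∀ x ∈ e, x ∈ rad → x = 0
  inv : ∀ g ∈ Γ, ∀ x ∈ e, ∃ x' ∈ e, g • x - x' ∈ rad
  rad_inv : ∀ g ∈ Γ, ∀ x ∈ rad, g • x ∈ rad
  le : Γ₀ ≤ Γ
  norm : ∀ g ∈ Γ, ∀ k ∈ Γ₀, g⁻¹ * k * g ∈ Γ₀
  triv : ∀ k ∈ Γ₀, ∀ x ∈ e, k • x - x ∈ rad
  S_le : S₀ ≤ Γ₀
  odd : Odd (S₀.relIndex Γ₀)
  Se : ∀ s ∈ S₀, ∀ x ∈ e, s • x = x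
  A_le : A ≤ Γ₀
  Ae : ∀ a ∈ A, ∀ x ∈ e, a • x = x
  T_le : T ≤ Γ
  Te : ∀ t ∈ T, ∀ x ∈ e, t • x ∈ e
  TΓ : ∀ g ∈ Γ, ∀ t ∈ T, ∃ t' ∈ T, ∃ k ∈ Γ₀, g * t * g⁻¹ = t' * k
  fpf : e ≤ AddSubgroup.closure {y | ∃ t ∈ T, ∃ x ∈ e, y = t • x - x}
  cA : ∀ x ∈ rad, (∀ a ∈ A, a • x = x) → ∀ t ∈ T, t • x = x

namespace Dat

variable {A T Γ Γ₀ S₀ : Subgroup H} {e rad : AddSubgroup M} (d : Dat A T Γ Γ₀ S₀ e rad)
include d

/-- the fixed points of `Γ₀` in `e + rad` -/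
theorem comm_mem {x z : M} (hx : x ∈ e) (hz : z ∈ rad) (h : ∀ k ∈ Γ₀, k • (x + z) = x + z) {t : H} (ht : t ∈ T) :
    t • (x + z) - (x + z) = t • x - x := by
  have h1 : t • z = z := d.cA z hz (fun a ha => by
    have h2 := h a (d.A_le ha)
    rw [smul_add, d.Ae a ha x hx] at h2
    exact add_left_cancel h2) t ht
  rw [smul_add, h1]
  abel

/-- **`Γ₀` fixes `e` pointwise** -/
theorem fix [Finite H] {x : M} (hx : x ∈ e) : ∀ k ∈ Γ₀, k • x = x := by
  let C : AddSubgroup M :=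
    { carrier := {x | ∀ k ∈ Γ₀, k • x = x}
      zero_mem' := fun k _ => smul_zero k
      add_mem' := fun {x y} hx hy k hk => by rw [smul_add, hx k hk, hy k hk]
      neg_mem' := fun {x} hx k hk => by rw [smul_neg, hx k hk] }
  have h1 : AddSubgroup.closure {y | ∃ t ∈ T, ∃ x ∈ e, y = t • x - x} ≤ C := by
    rw [AddSubgroup.closure_le]
    rintro _ ⟨t, ht, x, hx, rfl⟩
    obtain ⟨y, hy, hyx⟩ := exists_avg d.odd d.two (fun s hs => d.Se s hs x hx) (fun k hk => d.triv k hk x hx)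
    have e1 : x + (y - x) = y := by abel
    have h2 := d.comm_mem hx hyx (fun k hk => by rw [e1]; exact hy k hk) ht
    rw [← h2, e1]
    intro k hk
    have h3 : k • t • y = t • y := by
      have h4 := hy _ (d.norm t (d.T_le ht) k hk)
      rw [mul_smul, mul_smul, inv_smul_eq_iff] at h4
      exact h4
    rw [smul_sub, h3, hy k hk]
  exact h1 (d.fpf hx)

/-- **`Γ` normalises `e`** -/
theorem normalizes [Finite H] {g : H} (hg : g ∈ Γ) {x : M} (hx : x ∈ e) : g • x ∈ e := by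
  have key : ∀ t ∈ T, ∀ x ∈ e, g • (t • x - x) ∈ e := by
    intro t ht x hx
    obtain ⟨t', ht', k, hk, e1⟩ := d.TΓ g hg t ht
    obtain ⟨x', hx', hz⟩ := d.inv g hg x hx
    have hgx : ∀ k ∈ Γ₀, k • g • x = g • x := by
      intro k hk
      have h4 := d.fix hx _ (d.norm g hg k hk)
      rw [mul_smul, mul_smul, inv_smul_eq_iff] at h4
      exact h4
    have e2 : x' + (g • x - x') = g • x := by abel
    have h2 := d.comm_mem hx' hz (fun k hk => by rw [e2]; exact hgx k hk) ht'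
    rw [e2] at h2
    have e3 : g • t • x = t' • g • x := by
      have : g * t = t' * k * g := by rw [← e1]; group
      rw [smul_smul, this, mul_smul, mul_smul, hgx k hk]
    rw [smul_sub, e3, h2]
    exact e.sub_mem (d.Te t' ht' x' hx') hx'
  have h1 : AddSubgroup.closure {y | ∃ t ∈ T, ∃ x ∈ e, y = t • x - x} ≤
      e.comap (DistribSMul.toAddMonoidHom M g) := by
    rw [AddSubgroup.closure_le]
    rintro _ ⟨t, ht, x, hx, rfl⟩
    exact key t ht x hx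
  exact h1 (d.fpf hx)

end Dat

end Cfsg.Agent.Omega.HOneQ.NormE

end

section


/-!
# II.0h1, SPLIT, `q ≥ 4` (bb #15121 (f)): `H = E N_H(e)`, abstract form

`H` acts on `M` (`= W₁ / R₁`) and on `M'` (`= W₁ / Z(W₁)`), `π : M → M'` equivariant, `rad = Ker π`, `e : F →+ M` the
line, `f` the form on `M'`; `S = S_E`, `HE = H_E`, `w ∈ E` the longest element, `t` the torus.

* `Dat.s_act` : `t⁻¹ w⁻¹ t w` acts on `e` as `t³`;
* `Dat.fix_e` : an element normalising `S_E` and `H_E` fixes `e`;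
* `Dat.frattini` : `H = E N_H(e)`.
-/

set_option autoImplicit false

namespace Cfsg.Agent.Omega.HOneQ.Five3

variable {H : Type*} [Group H] {M M' : Type*} [AddCommGroup M] [DistribMulAction H M] [AddCommGroup M']
  [DistribMulAction H M'] {F : Type*} [Field F]

/-- the data -/
structure Dat (E S HE A : Subgroup H) (t : Fˣ → H) (w : H) (e : F →+ M) (π : M →+ M') (f : M' → M' → F)
    (ω : M' → F) : Prop where
  einj : ∀ γ, π (e γ) = 0 → γ = 0
  te : ∀ a γ, t a • e γ = e ((a⁻¹ : Fˣ) * γ)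
  Se : ∀ s ∈ S, ∀ γ, s • e γ = e γ
  HEe : ∀ s ∈ HE, ∀ γ, ∃ γ', s • e γ = e γ'
  πact : ∀ (h : H) x, π (h • x) = h • π x
  fsymm : ∀ x y, f x y = f y x
  fe : ∀ x γ, f x (π (e γ)) = ω x * γ
  fw : ∀ x y, f (w • x) (w • y) = f x y
  ft : ∀ (a : Fˣ) x y, f (t a • x) (t a • y) = a * f x y
  fne : ∃ γ, ω (w • π (e γ)) ≠ 0
  wt : ∀ a, (t a)⁻¹ * w⁻¹ * t a * w ∈ HE
  /-- `T` acts on `rad / C_rad(T)` as `F^*` -/
  rad_T : ∀ x, π x = 0 → ∀ a b c : Fˣ, (a : F) + b = c → ∀ r, t r • (t a • x + t b • x - t c • x) =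
    t a • x + t b • x - t c • x
  rad_A : ∀ x, π x = 0 → (∀ a, t a • x = x) → ∀ a ∈ A, a • x = x
  A_T : ∀ x, π x = 0 → (∀ a ∈ A, a • x = x) → ∀ a, t a • x = x
  AS : A ≤ S
  gen : ∀ K : Subgroup H, A ≤ K → (∀ s ∈ S, w * s * w⁻¹ ∈ K) → E ≤ K
  CE : ∀ x, π x = 0 → (∀ g ∈ E, g • x = x) → x = 0
  cen : ∀ x : M', (∀ s ∈ S, s • x = x) → ∃ γ, x = π (e γ)

namespace Dat

variable {E S HE A : Subgroup H} {t : Fˣ → H} {w : H} {e : F →+ M} {π : M →+ M'} {f : M' → M' → F} {ω : M' → F}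
  (d : Dat E S HE A t w e π f ω)
include d

theorem fw' (x y : M') : f (w⁻¹ • x) (w⁻¹ • y) = f x y := by
  have h1 := d.fw (w⁻¹ • x) (w⁻¹ • y)
  rw [smul_inv_smul, smul_inv_smul] at h1
  exact h1.symm

/-- `f (w e γ, e δ) = c γ δ` -/
theorem beta : ∃ c : F, c ≠ 0 ∧ ∀ γ, ω (w • π (e γ)) = c * γ := by
  refine ⟨ω (w • π (e 1)), ?_, ?_⟩
  swap
  · intro γ
    have h1 : f (w • π (e γ)) (π (e 1)) = ω (w • π (e γ)) := by rw [d.fe, mul_one]
    have h2 : f (w • π (e γ)) (π (e 1)) = ω (w⁻¹ • π (e 1)) * γ := by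
      rw [← d.fw' (w • π (e γ)), inv_smul_smul, d.fsymm, d.fe]
    have h3 : ω (w • π (e 1)) = ω (w⁻¹ • π (e 1)) := by
      have h4 : f (w • π (e 1)) (π (e 1)) = ω (w • π (e 1)) := by rw [d.fe, mul_one]
      have h5 : f (w • π (e 1)) (π (e 1)) = ω (w⁻¹ • π (e 1)) * 1 := by
        rw [← d.fw' (w • π (e 1)), inv_smul_smul, d.fsymm, d.fe]
      rw [← h4, h5, mul_one]
    rw [← h1, h2, h3]
  · obtain ⟨γ, hγ⟩ := d.fne
    intro h0
    apply hγ
    have h1 : f (w • π (e γ)) (π (e 1)) = ω (w • π (e γ)) := by rw [d.fe, mul_one]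
    have h2 : f (w • π (e γ)) (π (e 1)) = ω (w⁻¹ • π (e 1)) * γ := by
      rw [← d.fw' (w • π (e γ)), inv_smul_smul, d.fsymm, d.fe]
    have h4 : f (w • π (e 1)) (π (e 1)) = ω (w • π (e 1)) := by rw [d.fe, mul_one]
    have h5 : f (w • π (e 1)) (π (e 1)) = ω (w⁻¹ • π (e 1)) * 1 := by
      rw [← d.fw' (w • π (e 1)), inv_smul_smul, d.fsymm, d.fe]
    rw [← h1, h2, ← mul_one (ω (w⁻¹ • π (e 1))), ← h5, h4, h0, zero_mul]

theorem e_inj {γ δ : F} (h : π (e γ) = π (e δ)) : γ = δ := by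
  have h1 : π (e (γ - δ)) = 0 := by rw [map_sub, map_sub, h, sub_self]
  exact sub_eq_zero.1 (d.einj _ h1)

/-- **`t⁻¹ w⁻¹ t w` acts on `e` as `t³`** -/
theorem s_act (a : Fˣ) (γ : F) : ((t a)⁻¹ * w⁻¹ * t a * w) • e γ = e ((a : F) ^ 3 * γ) := by
  obtain ⟨c, hc, hβ⟩ := d.beta
  obtain ⟨γ', hγ'⟩ := d.HEe _ (d.wt a) γ
  have h1 : t a • w • π (e γ) = w • π (e ((a⁻¹ : Fˣ) * γ')) := by
    rw [← d.te, d.πact, ← hγ', d.πact, smul_smul, smul_smul, smul_smul]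
    congr 1
    group
  have h2 : f (t a • w • π (e γ)) (t a • π (e 1)) = a * (c * γ) := by
    rw [d.ft, d.fe, hβ, mul_one]
  have h3 : t a • π (e 1) = π (e ((a⁻¹ : Fˣ) * 1)) := by
    rw [← d.te, d.πact]
  rw [h1, h3, d.fe, hβ] at h2
  have ha : ((a⁻¹ : Fˣ) : F) = (a : F)⁻¹ := Units.val_inv_eq_inv_val a
  rw [ha, mul_one] at h2
  have ha0 : (a : F) ≠ 0 := a.ne_zero
  have h4 : γ' = (a : F) ^ 3 * γ := by
    field_simp at h2
    exact h2
  rw [hγ', h4]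

/-- **An element normalising `S_E` and `H_E` fixes `e`.** -/
theorem fix_e [Finite F] [CharP F 2] (hF : ∃ b : F, b ≠ 0 ∧ b ≠ 1) {h : H} (hS : ∀ s ∈ S, h⁻¹ * s * h ∈ S)
    (hHE : ∀ s ∈ HE, h⁻¹ * s * h ∈ HE) : ∀ γ, ∃ γ', h • e γ = e γ' := by
  -- `h • e γ` is fixed by `S`
  have k1 : ∀ s ∈ S, ∀ γ, s • h • e γ = h • e γ := by
    intro s hs γ
    have h1 := d.Se _ (hS s hs) γ
    rw [mul_smul, mul_smul, inv_smul_eq_iff] at h1
    exact h1
  have k2 : ∀ γ, ∃ γ', π (h • e γ) = π (e γ') := fun γ => d.cen _ fun s hs => by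
    rw [← d.πact, k1 s hs]
  choose α hα using k2
  have hαadd : ∀ x y, α (x + y) = α x + α y := by
    intro x y
    apply d.e_inj
    rw [← hα, map_add, smul_add, map_add, hα, hα, ← map_add, ← map_add]
  have hαinj : Function.Injective α := by
    intro x y hxy
    have h1 : π (h • e x) = π (h • e y) := by rw [hα, hα, hxy]
    rw [d.πact, d.πact] at h1
    exact d.e_inj ((smul_left_cancel h) h1)
  have hαsurj : Function.Surjective α := Finite.injective_iff_surjective.1 hαinj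
  choose β hβ using hαsurj
  -- the map `φ`
  let φ : F → M := fun γ => h • e (β γ) - e γ
  have hφ : ∀ γ, h • e (β γ) = e γ + φ γ := fun γ => by simp [φ]
  have hφπ : ∀ γ, π (φ γ) = 0 := by
    intro γ
    change π (h • e (β γ) - e γ) = 0
    rw [map_sub, hα, hβ, sub_self]
  have hφS : ∀ s ∈ S, ∀ γ, s • φ γ = φ γ := by
    intro s hs γ
    change s • (h • e (β γ) - e γ) = _
    rw [smul_sub, k1 s hs, d.Se s hs]
  have hβadd : ∀ x y, β (x + y) = β x + β y := by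
    intro x y
    apply hαinj
    rw [hβ, hαadd, hβ, hβ]
  have hφadd : ∀ x y, φ (x + y) = φ x + φ y := by
    intro x y
    change h • e (β (x + y)) - e (x + y) = (h • e (β x) - e x) + (h • e (β y) - e y)
    rw [hβadd, map_add, map_add, smul_add]
    abel
  have hφT : ∀ γ a, t a • φ γ = φ γ := fun γ => d.A_T _ (hφπ γ) fun a ha => hφS a (d.AS ha) γ
  -- equivariance
  have hφHE : ∀ s ∈ HE, ∀ γ γ', s • e γ = e γ' → s • φ γ = φ γ' := by
    intro s hs γ γ' hγ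
    obtain ⟨δ, hδ⟩ := d.HEe _ (hHE s hs) (β γ)
    have h1 : s • h • e (β γ) = h • e δ := by
      rw [← hδ, smul_smul, smul_smul]
      congr 1
      group
    have h2 : s • (e γ + φ γ) = e (α δ) + φ (α δ) := by
      rw [← hφ, ← hφ, h1]
      congr 2
      exact hαinj (hβ (α δ)).symm
    rw [smul_add, hγ] at h2
    have h3 : γ' = α δ := by
      apply d.e_inj
      have h4 := congrArg π h2
      rw [map_add, map_add, hφπ, add_zero, d.πact, hφπ, smul_zero, add_zero] at h4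
      exact h4
    rw [← h3] at h2
    exact add_left_cancel h2
  -- the action of `T` on `w φ`
  have hw : ∀ (a : Fˣ) γ, t a • w • φ γ = w • φ ((a : F) ^ 3 * γ) := by
    intro a γ
    rw [← hφHE _ (d.wt a) γ _ (d.s_act a γ)]
    have h1 : t a • w • φ γ = w • t a • ((t a)⁻¹ * w⁻¹ * t a * w) • φ γ := by
      rw [smul_smul, smul_smul, smul_smul]
      congr 1
      group
    rw [h1]
    congr 1
    rw [hφHE _ (d.wt a) γ _ (d.s_act a γ), hφT]
  have hwπ : ∀ γ, π (w • φ γ) = 0 := fun γ => by rw [d.πact, hφπ, smul_zero]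
  -- `w φ` is centralised by `T`
  obtain ⟨b, hb0, hb1⟩ := hF
  have h2 : (2 : F) = 0 := CharP.cast_eq_zero F 2
  have hb2 : (1 : F) + b ≠ 0 := by
    intro h0
    apply hb1
    have : b = 1 - 2 := by linear_combination h0
    rw [this, h2, sub_zero]
  have hwT : ∀ γ a, t a • w • φ γ = w • φ γ := by
    intro γ a
    have h3 := d.rad_T (w • φ (γ / (b * (1 + b)))) (hwπ _) 1 (Units.mk0 b hb0) (Units.mk0 (1 + b) hb2)
      (by rw [Units.val_mk0, Units.val_mk0, Units.val_one]) a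
    rw [hw, hw, hw, Units.val_mk0, Units.val_mk0, Units.val_one] at h3
    have h4 : w • φ (1 ^ 3 * (γ / (b * (1 + b)))) + w • φ (b ^ 3 * (γ / (b * (1 + b)))) -
        w • φ ((1 + b) ^ 3 * (γ / (b * (1 + b)))) = - (w • φ γ) := by
      rw [sub_eq_add_neg, ← smul_add, ← hφadd, ← smul_neg, ← smul_add, ← smul_neg]
      congr 1
      have h5 : φ ((1 + b) ^ 3 * (γ / (b * (1 + b)))) = φ (1 ^ 3 * (γ / (b * (1 + b))) + b ^ 3 * (γ / (b * (1 + b)))) + φ γ := by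
        rw [← hφadd]
        congr 1
        have h6 : γ = (b * (1 + b)) * (γ / (b * (1 + b))) := by field_simp
        generalize γ / (b * (1 + b)) = δ at h6 ⊢
        rw [h6]
        linear_combination (δ * (b + b ^ 2)) * h2
      rw [h5]
      abel
    rw [h4, smul_neg, neg_inj] at h3
    exact h3
  -- so `w φ = 0`
  have hzero : ∀ γ, φ γ = 0 := by
    intro γ
    have h3 : w • φ γ = 0 := by
      apply d.CE _ (hwπ γ)
      let K : Subgroup H :=
        { carrier := {g | g • w • φ γ = w • φ γ}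
          one_mem' := one_smul _ _
          mul_mem' := fun {a b} (ha : a • w • φ γ = _) (hb : b • w • φ γ = _) => by
            change (a * b) • w • φ γ = _
            rw [mul_smul, hb, ha]
          inv_mem' := fun {a} (ha : a • w • φ γ = _) => by
            change a⁻¹ • w • φ γ = _
            rw [inv_smul_eq_iff, ha] }
      have hK : E ≤ K := by
        refine d.gen K (fun a ha => d.rad_A _ (hwπ γ) (hwT γ) a ha) fun s hs => ?_
        change (w * s * w⁻¹) • w • φ γ = _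
        rw [mul_smul, mul_smul, inv_smul_smul, hφS s hs]
      exact fun g hg => hK hg
    exact (smul_eq_zero_iff_eq w).1 h3
  intro γ
  refine ⟨α γ, ?_⟩
  have h3 : β (α γ) = γ := hαinj (hβ (α γ))
  have h4 := hφ (α γ)
  rwa [h3, hzero, add_zero] at h4

end Dat

open Subgroup Cfsg.Agent.Omega.BTwo Cfsg.Agent.Omega.Hex in
open scoped Pointwise in
/-- two Sylow 2-subgroups of a subgroup `E` -/
theorem sylow_conj {H : Type*} [Group H] [Finite H] {E S S' : Subgroup H} (hS : S ≤ E) (hS' : S' ≤ E)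
    (h2 : IsPGroup 2 S) (h2' : IsPGroup 2 S') (ho : Odd (S.relIndex E)) (ho' : Odd (S'.relIndex E)) :
    ∃ x ∈ E, cj x S' = S := by
  have : Fact (Nat.Prime 2) := ⟨Nat.prime_two⟩
  have e1 : IsPGroup 2 (S.subgroupOf E) := h2.comap_of_injective _ E.subtype_injective
  have e2 : IsPGroup 2 (S'.subgroupOf E) := h2'.comap_of_injective _ E.subtype_injective
  have e3 : ¬ 2 ∣ (S.subgroupOf E).index := fun h => (Nat.not_even_iff_odd.2 ho) (even_iff_two_dvd.2 h)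
  have e4 : ¬ 2 ∣ (S'.subgroupOf E).index := fun h => (Nat.not_even_iff_odd.2 ho') (even_iff_two_dvd.2 h)
  obtain ⟨x, hx⟩ := MulAction.exists_smul_eq E (e2.toSylow e4) (e1.toSylow e3)
  refine ⟨x, x.2, ?_⟩
  have hx' : ∀ y : E, y ∈ S.subgroupOf E ↔ x⁻¹ * y * x ∈ S'.subgroupOf E := by
    intro y
    have h5 := congrArg (fun P : Sylow 2 E => y ∈ P) hx
    simp only [IsPGroup.mem_toSylow] at h5
    rw [← h5]
    change y ∈ (MulAut.conj x • (S'.subgroupOf E : Subgroup E)) ↔ _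
    rw [Subgroup.mem_pointwise_smul_iff_inv_smul_mem, ← map_inv]
    change x⁻¹ * y * x⁻¹⁻¹ ∈ S'.subgroupOf E ↔ _
    rw [inv_inv]
  ext y
  rw [mem_cj]
  constructor
  · intro hy
    have hyE : y ∈ E := by
      have h6 := mul_mem (mul_mem x.2 (hS' hy)) (inv_mem x.2)
      have h7 : (x : H) * ((x : H)⁻¹ * y * x) * (x : H)⁻¹ = y := by group
      rwa [h7] at h6
    exact (hx' ⟨y, hyE⟩).2 hy
  · intro hy
    exact (hx' ⟨y, hS hy⟩).1 hy

open Subgroup Cfsg.Agent.Omega.BTwo Cfsg.Agent.Omega.Hex in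
/-- **`H = E N_H(e)`.** -/
theorem Dat.frattini {H : Type*} [Group H] {M M' : Type*} [AddCommGroup M] [DistribMulAction H M] [AddCommGroup M']
    [DistribMulAction H M'] {F : Type*} [Field F] [Finite H] [Finite F] [CharP F 2] {E S HE A : Subgroup H} {t : Fˣ → H}
    {w : H} {e : F →+ M} {π : M →+ M'} {f : M' → M' → F} {ω : M' → F} (d : Dat E S HE A t w e π f ω)
    (hF : ∃ b : F, b ≠ 0 ∧ b ≠ 1) (hE : ∀ g ∈ E, ∀ h, h * g * h⁻¹ ∈ E) (hSE : S ≤ E) (two : IsPGroup 2 S)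
    (odd : Odd (S.relIndex E)) (hcpl : Cpl S (E ⊓ normalizer (S : Set H)) HE) (g : H) :
    ∃ x ∈ E, ∀ γ, ∃ γ', (x * g) • e γ = e γ' := by
  have hgE : cj g E = E := by
    apply le_antisymm
    · rintro _ ⟨y, hy, rfl⟩
      exact hE y hy g
    · intro y hy
      rw [mem_cj]
      have := hE y hy g⁻¹
      rwa [inv_inv] at this
  have hcard : Nat.card (cj g S) = Nat.card S := card_cj g S
  have hS' : cj g S ≤ E := by
    rw [← hgE]; exact cj_mono hSE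
  have odd' : Odd ((cj g S).relIndex E) := by
    have h1 : (cj g S).relIndex (cj g E) = S.relIndex E :=
      relIndex_map_map_of_injective S E (MulAut.conj g).injective
    rw [hgE] at h1
    rw [h1]
    exact odd
  obtain ⟨x, hx, hxS⟩ := sylow_conj hSE hS' two (two.map _) odd odd'
  rw [← cj_mul] at hxS
  have hxgE : cj (x * g) E = E := by rw [cj_mul, hgE, cj_of_mem hx]
  have hnt : NT S (E ⊓ normalizer (S : Set H)) :=
    ⟨le_inf hSE le_normalizer, inf_le_right, two, by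
      have h1 := relIndex_mul_relIndex S (E ⊓ normalizer (S : Set H)) E (le_inf hSE le_normalizer) inf_le_left
      rw [← h1] at odd
      exact (Nat.odd_mul.1 odd).1⟩
  have hB : cj (x * g) (E ⊓ normalizer (S : Set H)) = E ⊓ normalizer (S : Set H) := by
    rw [cj_inf, hxgE, ← normalizer_cj, hxS]
  have hc' : Cpl S (E ⊓ normalizer (S : Set H)) (cj (x * g) HE) := by
    refine ⟨?_, ?_⟩
    · rw [← hB]; exact cj_mono hcpl.HB
    · rw [card_cj, hcpl.card]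
  obtain ⟨s, hs, hsx⟩ := hnt.conj hc' hcpl
  rw [← cj_mul] at hsx
  refine ⟨s * x, mul_mem (hSE hs) hx, ?_⟩
  have h1 : ∀ y ∈ S, (s * x * g)⁻¹ * y * (s * x * g) ∈ S := by
    have h2 : cj (s * (x * g)) S = S := by rw [cj_mul, hxS, cj_of_mem hs]
    intro y hy
    rw [mul_assoc s, ← mem_cj, h2]
    exact hy
  have h2 : ∀ y ∈ HE, (s * x * g)⁻¹ * y * (s * x * g) ∈ HE := by
    intro y hy
    rw [mul_assoc s, ← mem_cj, hsx]
    exact hy
  exact d.fix_e hF h1 h2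

/-- `fne` from generation of `M'` by the `S⁻`-conjugates of the line (`Fam.act_gen`) -/
theorem fne_of_gen {S : Subgroup H} {w : H} {e : F →+ M} {π : M →+ M'} {f : M' →+ M' →+ F} {ω : M' → F}
    (Se : ∀ s ∈ S, ∀ γ, s • e γ = e γ) (πact : ∀ (h : H) x, π (h • x) = h • π x)
    (fsymm : ∀ x y, f x y = f y x) (fe : ∀ x γ, f x (π (e γ)) = ω x * γ) (fw : ∀ x y, f (w • x) (w • y) = f x y)
    (fS : ∀ s ∈ S, ∀ x y, f (s • x) (s • y) = f x y) (ωne : ∃ x, ω x ≠ 0)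
    (hgen : ∀ L : AddSubgroup M', (∀ s ∈ S, ∀ γ, (w * s * w⁻¹) • π (e γ) ∈ L) → L = ⊤) :
    ∃ γ, ω (w • π (e γ)) ≠ 0 := by
  by_contra hc
  push Not at hc
  obtain ⟨x, hx⟩ := ωne
  apply hx
  have hse : ∀ s ∈ S, ∀ γ, s • π (e γ) = π (e γ) := fun s hs γ => by rw [← πact, Se s hs]
  have key : ∀ y : M', f y (w • π (e 1)) = 0 := by
    intro y
    let L : AddSubgroup M' := (f.flip (w • π (e 1))).ker
    have hL : L = ⊤ := by
      refine hgen L fun s hs γ => ?_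
      change f ((w * s * w⁻¹) • π (e γ)) (w • π (e 1)) = 0
      have h1 : (w * s * w⁻¹) • π (e γ) = w • s • w⁻¹ • π (e γ) := by rw [mul_smul, mul_smul]
      rw [h1, fw, ← hse s hs 1, fS s hs, ← fw, smul_inv_smul, fsymm, fe, hc, zero_mul]
    have : y ∈ L := by rw [hL]; trivial
    exact this
  have h1 := key (w • x)
  rw [fw, fe, mul_one] at h1
  exact h1

end Cfsg.Agent.Omega.HOneQ.Five3

end

section


/-!
# LEMMA NE for the real situation (II.0h1 split, `q ≥ 4`), and the Frattini statement (Fr)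

`M = W i / R i`, `M' = W i / Z(W i)` (`Fq`), `e`, `e'` the images of `V`, `rad = Z(W i) / R i`.

* `normE` : if `C_rad(A) ≤ C_rad(T)`, then an element of `N(R i)` normalising `e'` normalises `V`;
* `frat` : if moreover `C_{M'}(S_E) = e'` for a Sylow 2-subgroup `S_E` of the normal subgroup `E` of `H`, then
  `H = E N_H(e)`: for `g ∈ N(R i)` there is `x` in the preimage of `E` with `x g ∈ N(V)`.
-/

set_option autoImplicit false
set_option linter.unusedSectionVars false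

namespace Cfsg.Agent.Omega.HOneQ.NormE

open Subgroup Cfsg.Agent.Omega.BTwo Cfsg.Agent.Omega.Lie Cfsg.Agent.Omega.Lie.Quot
open Cfsg.Agent.Omega.HOne.ModZ (MZ Fq)

universe u v w

/-- `|K : N ∩ K|` is odd if `K` is normal in `Γ` and `|Γ : N|` is odd -/
theorem odd_inf {H : Type*} [Group H] [Finite H] {N K Γ : Subgroup H} (hK : K ≤ Γ)
    (hn : (K.subgroupOf Γ).Normal) (hodd : Odd (N.relIndex Γ)) : Odd ((N ⊓ K).relIndex K) := by
  have h1 := ThmD.relIndex_inf (N.subgroupOf Γ) (K.subgroupOf Γ)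
  have e1 : N.subgroupOf Γ ⊓ K.subgroupOf Γ = (N ⊓ K).subgroupOf Γ := by
    ext x
    simp only [mem_inf, mem_subgroupOf]
  rw [e1, relIndex_subgroupOf hK] at h1
  rw [h1]
  have h2 : (N.subgroupOf Γ).relIndex (N.subgroupOf Γ ⊔ K.subgroupOf Γ) ∣ (N.subgroupOf Γ).index :=
    relIndex_dvd_index_of_le le_sup_left
  exact Odd.of_dvd_nat hodd h2

variable {G : Type u} [Group G] [Finite G] {ι : Type w} {V : Subgroup G} {R : ι → Subgroup G} {i j : ι}
  {F : Type v} [Field F] {v : F → F → G} {w1 w2 t : F → G}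
  {M : Type u} [AddCommGroup M] [Module F M] [DistribMulAction (HQ (R i)) M] {p : G → M}
  {f : M →ₗ[F] M →ₗ[F] F} {e : F →ₗ[F] M} {ω : M →ₗ[F] F} {σ : HQ (R i) →* RingAut F} {κ : HQ (R i) → F}

/-- the stabiliser of `e'` -/
def Gam (e : F →ₗ[F] M) : Subgroup (HQ (R i)) where
  carrier := {h | (∀ γ, ∃ γ', h • e γ = e γ') ∧ ∀ γ, ∃ γ', h⁻¹ • e γ = e γ'}
  one_mem' := ⟨fun γ => ⟨γ, one_smul _ _⟩, fun γ => ⟨γ, by rw [inv_one, one_smul]⟩⟩
  mul_mem' := by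
    rintro g h ⟨hg, hg'⟩ ⟨hh, hh'⟩
    refine ⟨fun γ => ?_, fun γ => ?_⟩
    · obtain ⟨γ', e1⟩ := hh γ
      obtain ⟨γ'', e2⟩ := hg γ'
      exact ⟨γ'', by rw [mul_smul, e1, e2]⟩
    · obtain ⟨γ', e1⟩ := hg' γ
      obtain ⟨γ'', e2⟩ := hh' γ'
      exact ⟨γ'', by rw [mul_inv_rev, mul_smul, e1, e2]⟩
  inv_mem' := by
    rintro g ⟨hg, hg'⟩
    exact ⟨hg', fun γ => by rw [inv_inv]; exact hg γ⟩

/-- the pointwise stabiliser of `e'` -/
def Gam0 (e : F →ₗ[F] M) : Subgroup (HQ (R i)) where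
  carrier := {h | ∀ γ, h • e γ = e γ}
  one_mem' := fun γ => one_smul _ _
  mul_mem' := fun {g h} hg hh γ => by rw [mul_smul, hh, hg]
  inv_mem' := fun {g} hg γ => by rw [inv_smul_eq_iff, hg]

theorem Gam0_le : (Gam0 e : Subgroup (HQ (R i))) ≤ Gam e := fun _ hh =>
  ⟨fun γ => ⟨γ, hh γ⟩, fun γ => ⟨γ, (Gam0 e).inv_mem hh γ⟩⟩

theorem Gam0_norm {g k : HQ (R i)} (hg : g ∈ Gam e) (hk : k ∈ Gam0 e) : g⁻¹ * k * g ∈ Gam0 e := by
  intro γ
  obtain ⟨γ', h1⟩ := hg.1 γ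
  rw [mul_smul, mul_smul, h1, hk γ', ← h1, inv_smul_smul]

theorem mem_Gam [Finite F] (q : Fq V R i v M p f e ω σ κ) (b : BT V R) (c : Coord V R i j v w1 w2)
    {h : HQ (R i)} (hh : ∃ γ', h • e 1 = e γ') : h ∈ Gam e := by
  obtain ⟨γ₁, h1⟩ := hh
  have h2 : ∀ γ, h • e γ = e (σ h γ * γ₁) := by
    intro γ
    have e1 : e γ = γ • e 1 := by rw [← LinearMap.map_smul e, smul_eq_mul, mul_one]
    rw [e1, q.semi, h1, ← LinearMap.map_smul e, smul_eq_mul]
  have hinj : Function.Injective (fun γ => σ h γ * γ₁) := by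
    intro x y hxy
    have h3 : h • e x = h • e y := by rw [h2, h2]; exact congrArg e hxy
    exact q.e_inj c b (smul_left_cancel h h3)
  have hsurj := Finite.injective_iff_surjective.1 hinj
  refine ⟨fun γ => ⟨_, h2 γ⟩, fun γ => ?_⟩
  obtain ⟨δ, hδ⟩ := hsurj γ
  refine ⟨δ, ?_⟩
  rw [inv_smul_eq_iff, h2]
  exact congrArg e hδ.symm

theorem im_NV_le [Finite F] (q : Fq V R i v M p f e ω σ κ) (b : BT V R) (c : Coord V R i j v w1 w2) :
    im (R i) (normalizer (V : Set G)) ≤ Gam e := by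
  intro h hh
  obtain ⟨g, hg, hgV, rfl⟩ := mem_im.1 hh
  apply mem_Gam q b c
  have h1 := q.toMZ.sb_smul hg hgV ((q.mem_e c).1 ⟨(1 : F), rfl⟩)
  obtain ⟨γ', h2⟩ := (q.mem_e c).2 h1
  exact ⟨γ', h2.symm⟩

theorem relIndex_im (hodd : Odd ((normalizer (V : Set G)).relIndex (normalizer (R i : Set G)))) :
    Odd (im (R i) (normalizer (V : Set G))).index := by
  have h1 : (im (R i) (normalizer (V : Set G))).index ∣ ((normalizer (V : Set G)).subgroupOf (normalizer (R i : Set G))).index :=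
    index_map_dvd _ (pr_surjective (R i))
  exact Odd.of_dvd_nat hodd h1

/-- **LEMMA NE** in `H` -/
theorem dat [Finite F] [CharP F 2] (q : Fq V R i v M p f e ω σ κ) (b : BT V R) (c : Coord V R i j v w1 w2)
    (τ : TorD V R i j v t) (hF : ∃ a : F, a ≠ 0 ∧ a ≠ 1)
    (hodd : Odd ((normalizer (V : Set G)).relIndex (normalizer (R i : Set G))))
    (hd : ∀ z ∈ ZZ V R i, (∀ u ∈ UU V R j, u * z * u⁻¹ * z⁻¹ ∈ R i) →
      ∀ a, a ≠ 0 → t a * z * (t a)⁻¹ * z⁻¹ ∈ R i)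
    {M₁ B₁ : Type u} [AddCommGroup M₁] [AddCommGroup B₁] [DistribMulAction (NR R i) M₁]
    [DistribMulAction (NR R i) B₁] [DistribMulAction (HQ (R i)) M₁] {p₁ : G → M₁} {r₁ : G → B₁}
    {f₁ : M₁ →+ M₁ →+ B₁} (m : ModQ V R i M₁ B₁ p₁ r₁ f₁) :
    Dat (AA V R i j) (TT τ) (Gam e) (Gam0 e) (im (R i) (normalizer (V : Set G)) ⊓ Gam0 e) (m.sb V)
      (m.sb (ZZ V R i)) := by
  have hVW := V_le_WW V (R i)
  have hZW : ZZ V R i ≤ WW V (R i) := inf_le_left
  have hNW := normalizer_le_WW V (R i)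
  -- elements of `e` and `e'`
  have hp : ∀ x ∈ V, ∃ γ, p x = e γ := by
    intro x hx
    obtain ⟨β, γ, rfl⟩ := (c.mem_V x).1 hx
    exact ⟨γ, q.e_eq β γ⟩
  have hpe : ∀ γ, ∃ x ∈ V, p x = e γ := fun γ => ⟨v 0 γ, c.v_mem 0 γ, q.e_eq 0 γ⟩
  have hsub : ∀ x ∈ WW V (R i), ∀ y ∈ WW V (R i), p x = p y → p₁ x - p₁ y ∈ m.sb (ZZ V R i) := by
    intro x hx y hy hxy
    have h1 := (q.toMZ.p_eq_iff hx hy).1 hxy
    refine ⟨x * y⁻¹, h1, hZW h1, ?_⟩
    rw [m.p_mul x hx _ (inv_mem hy), m.p_inv hy, sub_eq_add_neg]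
  have hdisj : ∀ x ∈ m.sb V, x ∈ m.sb (ZZ V R i) → x = 0 := by
    rintro x ⟨y, hy, hyW, rfl⟩ hx
    rw [m.p_mem_iff hyW (b.R_le_Z i)] at hx
    exact (m.p_ker y hyW).2 (b.cen_VW hy hx.2)
  have hNV : ∀ s ∈ im (R i) (normalizer (V : Set G)), ∀ x ∈ m.sb V, s • x ∈ m.sb V := by
    intro s hs x hx
    obtain ⟨g, hg, hgV, rfl⟩ := mem_im.1 hs
    rw [m.pr_smul]
    exact m.sb_smul (h := ⟨g, hg⟩) hgV hx
  have htriv : ∀ k ∈ (Gam0 e : Subgroup (HQ (R i))), ∀ x ∈ m.sb V, k • x - x ∈ m.sb (ZZ V R i) := by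
    rintro k hk x ⟨y, hy, hyW, rfl⟩
    obtain ⟨g, hg, rfl⟩ := exists_pr k
    have h1 := conj_mem_of_normalizer (hNW hg) hyW
    rw [m.act hg hyW]
    apply hsub _ h1 _ hyW
    obtain ⟨γ, hγ⟩ := hp y hy
    rw [← q.p_act g hg y hyW, hγ, hk γ]
  exact
    { two := m.two_M b
      disj := hdisj
      inv := by
        rintro h hh x ⟨y, hy, hyW, rfl⟩
        obtain ⟨g, hg, rfl⟩ := exists_pr h
        obtain ⟨γ, hγ⟩ := hp y hy
        obtain ⟨γ', hγ'⟩ := hh.1 γ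
        obtain ⟨y', hy', hy''⟩ := hpe γ'
        refine ⟨p₁ y', m.p_mem (hVW hy') hy', ?_⟩
        rw [m.act hg hyW]
        apply hsub _ (conj_mem_of_normalizer (hNW hg) hyW) _ (hVW hy')
        rw [← q.p_act g hg y hyW, hγ, hγ', hy'']
      rad_inv := by
        intro h _ x hx
        obtain ⟨g, hg, rfl⟩ := exists_pr h
        rw [m.pr_smul]
        exact m.sb_smul (h := ⟨g, hg⟩) (N_le_NZ i hg) hx
      le := Gam0_le
      norm := fun g hg k hk => Gam0_norm hg hk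
      triv := htriv
      S_le := inf_le_right
      odd := by
        refine odd_inf Gam0_le ⟨fun x hx g => ?_⟩ ?_
        · rw [mem_subgroupOf] at hx ⊢
          have := Gam0_norm (inv_mem g.2) hx
          rwa [inv_inv] at this
        · exact Odd.of_dvd_nat (relIndex_im hodd) (relIndex_dvd_index_of_le (im_NV_le q b c))
      Se := fun s hs x hx =>
        sub_eq_zero.1 (hdisj _ ((m.sb V).sub_mem (hNV s hs.1 x hx) hx) (htriv s hs.2 x hx))
      A_le := by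
        intro a ha γ
        obtain ⟨u, hu, rfl⟩ := (mem_AA b).1 ha
        exact q.cenV_e c _ (UU_le_cen j hu) γ
      Ae := by
        intro a ha x hx
        obtain ⟨u, hu, rfl⟩ := (mem_AA b).1 ha
        rw [m.pr_smul]
        exact m.cen_e b (UU_le_cen j hu) hx
      T_le := by
        intro x hx
        obtain ⟨a, ha, rfl⟩ := (mem_TT τ).1 hx
        exact im_NV_le q b c (pr_mem_im _ (b.X_le_NV (τ.memX a ha)))
      Te := by
        intro x hx
        obtain ⟨a, ha, rfl⟩ := (mem_TT τ).1 hx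
        exact hNV _ (pr_mem_im _ (b.X_le_NV (τ.memX a ha)))
      TΓ := by
        intro g hg x hx
        obtain ⟨a, ha, rfl⟩ := (mem_TT τ).1 hx
        have ha' : σ g a ≠ 0 := (map_ne_zero_iff _ (σ g).injective).2 ha
        refine ⟨_, (mem_TT τ).2 ⟨σ g a, ha', rfl⟩,
          (pr (R i) ⟨t (σ g a), τ.normR ha'⟩)⁻¹ * (g * pr (R i) ⟨t a, τ.normR ha⟩ * g⁻¹), ?_,
          by rw [mul_inv_cancel_left]⟩
        intro γ
        obtain ⟨δ, hδ⟩ := hg.2 γ
        have h1 : g • e δ = e γ := by rw [← hδ, smul_inv_smul]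
        have h2 : pr (R i) ⟨t a, τ.normR ha⟩ • e δ = a⁻¹ • e δ := q.t_e c τ (Units.mk0 a ha) δ
        have h3 : pr (R i) ⟨t (σ g a), τ.normR ha'⟩ • e γ = (σ g a)⁻¹ • e γ :=
          q.t_e c τ (Units.mk0 (σ g a) ha') γ
        rw [mul_smul, inv_smul_eq_iff, h3, mul_smul, mul_smul, hδ, h2, q.semi, h1, map_inv₀]
      fpf := by
        rintro x ⟨y, hy, hyW, rfl⟩
        obtain ⟨β, γ, rfl⟩ := (c.mem_V y).1 hy
        obtain ⟨a, ha, ha1⟩ := hF
        have ha2 : a⁻¹ - 1 ≠ 0 := by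
          intro h0
          apply ha1
          rw [← inv_inv a, sub_eq_zero.1 h0, inv_one]
        refine AddSubgroup.subset_closure ⟨_, (mem_TT τ).2 ⟨a, ha, rfl⟩, p₁ (v 0 (γ * (a⁻¹ - 1)⁻¹)),
          m.p_mem (hVW (c.v_mem _ _)) (c.v_mem _ _), ?_⟩
        rw [m.act _ (hVW (c.v_mem _ _)), τ.act _ _ _ ha, mul_zero, ← sub_eq_zero]
        have e1 : ∀ β γ, p₁ (v β γ) = p₁ (v 0 γ) := by
          intro β γ
          have h1 := c.v_add β 0 0 γ
          rw [add_zero, zero_add] at h1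
          rw [h1, m.p_mul _ (hVW (c.v_mem _ _)) _ (hVW (c.v_mem _ _)),
            (m.p_ker _ (hVW (c.v_mem _ _))).2 ((c.mem_R1 _).2 ⟨β, rfl⟩), zero_add]
        have e2 : ∀ γ γ', p₁ (v 0 (γ + γ')) = p₁ (v 0 γ) + p₁ (v 0 γ') := by
          intro γ γ'
          have h1 := c.v_add 0 γ 0 γ'
          rw [add_zero] at h1
          rw [h1, m.p_mul _ (hVW (c.v_mem _ _)) _ (hVW (c.v_mem _ _))]
        have e3 : ∀ γ γ', p₁ (v 0 γ) - p₁ (v 0 γ') = p₁ (v 0 (γ - γ')) := by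
          intro γ γ'
          rw [sub_eq_iff_eq_add, ← e2, sub_add_cancel]
        rw [e1 β, e3, e3]
        have h4 : γ - (a⁻¹ * (γ * (a⁻¹ - 1)⁻¹) - γ * (a⁻¹ - 1)⁻¹) = 0 := by
          have : a⁻¹ * (γ * (a⁻¹ - 1)⁻¹) - γ * (a⁻¹ - 1)⁻¹ = γ * ((a⁻¹ - 1) * (a⁻¹ - 1)⁻¹) := by ring
          rw [this, mul_inv_cancel₀ ha2, mul_one, sub_self]
        rw [h4]
        exact (m.p_ker _ (hVW (c.v_mem _ _))).2 ((c.mem_R1 _).2 ⟨0, rfl⟩)
      cA := by
        rintro x ⟨z, hz, hzW, rfl⟩ hA s hs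
        obtain ⟨a, ha, rfl⟩ := (mem_TT τ).1 hs
        have h1 : ∀ u ∈ UU V R j, u * z * u⁻¹ * z⁻¹ ∈ R i := by
          intro u hu
          have hN := U_le_N b i j hu
          have h2 := hA _ ((mem_AA b).2 ⟨u, hu, rfl⟩)
          rw [m.act hN hzW] at h2
          exact (m.p_eq_iff (conj_mem_of_normalizer (hNW hN) hzW) hzW).1 h2
        have h2 := hd z hz h1 a ha
        rw [m.act (τ.normR ha) hzW]
        exact (m.p_eq_iff (conj_mem_of_normalizer (hNW (τ.normR ha)) hzW) hzW).2 h2 }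

/-- **LEMMA NE**: an element of `N(R i)` normalising `e'` normalises `V` -/
theorem normE [Finite F] [CharP F 2] (q : Fq V R i v M p f e ω σ κ) (b : BT V R) (c : Coord V R i j v w1 w2)
    (τ : TorD V R i j v t) (hF : ∃ a : F, a ≠ 0 ∧ a ≠ 1)
    (hodd : Odd ((normalizer (V : Set G)).relIndex (normalizer (R i : Set G))))
    (hd : ∀ z ∈ ZZ V R i, (∀ u ∈ UU V R j, u * z * u⁻¹ * z⁻¹ ∈ R i) →
      ∀ a, a ≠ 0 → t a * z * (t a)⁻¹ * z⁻¹ ∈ R i)
    {g : G} (hg : g ∈ normalizer (R i : Set G)) (h : ∃ γ, pr (R i) ⟨g, hg⟩ • e 1 = e γ) :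
    g ∈ normalizer (V : Set G) := by
  obtain ⟨M₁, B₁, _, _, _, _, _, p₁, r₁, f₁, m⟩ := exists_modQ b i
  have d := dat q b c τ hF hodd hd m
  have hVW := V_le_WW V (R i)
  refine mem_normalizer_of_conj fun z hz => ?_
  have h1 := d.normalizes (mem_Gam q b c h) (m.p_mem (hVW hz) hz)
  rw [m.act hg (hVW hz)] at h1
  exact (m.p_mem_iff (conj_mem_of_normalizer (normalizer_le_WW V (R i) hg) (hVW hz)) (b.R_le i)).1 h1

open Cfsg.Agent.Omega.HOneQ.Five3 Cfsg.Agent.Omega.Hex in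
/-- Frattini for a Sylow 2-subgroup of a normal subgroup -/
theorem exists_norm {H : Type*} [Group H] [Finite H] {E S : Subgroup H} (hE : E.Normal) (hSE : S ≤ E)
    (two : IsPGroup 2 S) (odd : Odd (S.relIndex E)) (g : H) :
    ∃ x ∈ E, ∀ s ∈ S, (x * g)⁻¹ * s * (x * g) ∈ S := by
  have hgE : cj g E = E := by
    apply le_antisymm
    · rintro _ ⟨y, hy, rfl⟩
      exact hE.conj_mem y hy g
    · intro y hy
      rw [mem_cj]
      have := hE.conj_mem y hy g⁻¹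
      rwa [inv_inv] at this
  have hS' : cj g S ≤ E := by
    rw [← hgE]; exact cj_mono hSE
  have odd' : Odd ((cj g S).relIndex E) := by
    have h1 : (cj g S).relIndex (cj g E) = S.relIndex E :=
      relIndex_map_map_of_injective S E (MulAut.conj g).injective
    rw [hgE] at h1
    rw [h1]
    exact odd
  obtain ⟨x, hx, hxS⟩ := sylow_conj hSE hS' two (two.map _) odd odd'
  rw [← cj_mul] at hxS
  refine ⟨x, hx, fun s hs => ?_⟩
  rw [← mem_cj, hxS]
  exact hs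

/-- **(Fr)**: `H = E N_H(e)` -/
theorem frat [Finite F] [CharP F 2] (q : Fq V R i v M p f e ω σ κ) (b : BT V R) (c : Coord V R i j v w1 w2)
    (τ : TorD V R i j v t) (hF : ∃ a : F, a ≠ 0 ∧ a ≠ 1)
    (hodd : Odd ((normalizer (V : Set G)).relIndex (normalizer (R i : Set G))))
    (hd : ∀ z ∈ ZZ V R i, (∀ u ∈ UU V R j, u * z * u⁻¹ * z⁻¹ ∈ R i) →
      ∀ a, a ≠ 0 → t a * z * (t a)⁻¹ * z⁻¹ ∈ R i)
    {E S : Subgroup (HQ (R i))} (hE : E.Normal) (hSE : S ≤ E) (two : IsPGroup 2 S) (odd : Odd (S.relIndex E))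
    (hS : ∀ s ∈ S, s • e 1 = e 1) (hcen : ∀ x : M, (∀ s ∈ S, s • x = x) → ∃ γ, x = e γ)
    {g : G} (hg : g ∈ normalizer (R i : Set G)) :
    ∃ (x : G) (hx : x ∈ normalizer (R i : Set G)), pr (R i) ⟨x, hx⟩ ∈ E ∧ x * g ∈ normalizer (V : Set G) := by
  obtain ⟨y, hy, hyS⟩ := exists_norm hE hSE two odd (pr (R i) ⟨g, hg⟩)
  obtain ⟨x, hx, rfl⟩ := exists_pr y
  refine ⟨x, hx, hy, ?_⟩
  refine normE q b c τ hF hodd hd (mul_mem hx hg) (hcen _ fun s hs => ?_)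
  have h1 := hS _ (hyS s hs)
  rw [mul_smul, mul_smul, inv_smul_eq_iff] at h1
  exact h1

end Cfsg.Agent.Omega.HOneQ.NormE

end

section


/-!
# II.0h1, SPLIT, `q ≥ 4` (bb #15121 (d), (e)): `C_rad(A) = C_rad(T)`, and who fixes `e`

Abstract form.  `H` acts on the 2-group `M` (`= rad`), `A ≤ S ≤ E`, `S` a Sylow 2-subgroup of `E`, `T` of odd order,
`[S,T] ≤ A`, `[M,A] ≤ C_M(T)`, `C_M(E) = 0`.  `Dat.CR`: the (sectional) Curtis–Richen property of `E T`: in a section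
`X/Y` of `M` simple for `E T`, the fixed points of `S` are simple for `N` (`N` normalises `S` and `A`, e.g. `N = T H_E`).

* `Dat.fix_T`: `C_M(A) ≤ C_M(T)`;
* `mem_of_fix`: an element normalising `A`, commuting with `T` modulo `A` and fixing `e + rad` fixes `e`.
-/

set_option autoImplicit false

namespace Cfsg.Agent.Omega.HOneQ.CRad

open Subgroup

variable {H : Type*} [Group H] {M : Type*} [AddCommGroup M] [DistribMulAction H M]

/-- invariance of a subgroup of `M` -/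
def Inv (K : Subgroup H) (L : AddSubgroup M) : Prop := ∀ g ∈ K, ∀ x ∈ L, g • x ∈ L

/-- `[L, K]` -/
def com (K : Subgroup H) (L : AddSubgroup M) : AddSubgroup M :=
  AddSubgroup.closure {y | ∃ g ∈ K, ∃ x ∈ L, y = g • x - x}

/-- the sectional Curtis–Richen property: `S`-fixed points of a simple `E T`-section are `N`-simple -/
def SecCR (E T S N : Subgroup H) (M : Type*) [AddCommGroup M] [DistribMulAction H M] : Prop :=
  ∀ X Y : AddSubgroup M, Inv E X → Inv T X → Inv E Y → Inv T Y → Y < X →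
    (∀ Z : AddSubgroup M, Inv E Z → Inv T Z → Y ≤ Z → Z ≤ X → Z = Y ∨ Z = X) →
    ∀ D : AddSubgroup M, Y < D → D ≤ X → Inv N D → (∀ s ∈ S, ∀ x ∈ D, s • x - x ∈ Y) →
      ∀ x ∈ X, (∀ s ∈ S, s • x - x ∈ Y) → x ∈ D

/-- the data of (d) -/
structure Dat (A S E T N : Subgroup H) (M : Type*) [AddCommGroup M] [DistribMulAction H M] : Prop where
  SE : S ≤ E
  /-- `E = ⟨A^E⟩` -/
  gen : ∀ K : Subgroup H, A ≤ K → (∀ g ∈ E, ∀ k ∈ K, g * k * g⁻¹ ∈ K) → E ≤ K
  AE : A ≤ E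
  two : IsPGroup 2 S
  odd : Odd (S.relIndex E)
  TE : ∀ t ∈ T, ∀ g ∈ E, t * g * t⁻¹ ∈ E
  TA : ∀ t ∈ T, ∀ a ∈ A, t * a * t⁻¹ ∈ A
  SA : ∀ s ∈ S, ∀ a ∈ A, s * a * s⁻¹ ∈ A
  NA : ∀ n ∈ N, ∀ a ∈ A, n * a * n⁻¹ ∈ A
  NS : ∀ n ∈ N, ∀ s ∈ S, n * s * n⁻¹ ∈ S
  NE : N ≤ E ⊔ T
  ST : ∀ s ∈ S, ∀ t ∈ T, s * t * s⁻¹ * t⁻¹ ∈ A
  Todd : Odd (Nat.card T)
  exp : ∀ m : M, m + m = 0
  AT : ∀ a ∈ A, ∀ m : M, ∀ t ∈ T, t • (a • m - m) = a • m - m
  CE : ∀ m : M, (∀ g ∈ E, g • m = m) → m = 0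
  CR : SecCR E T S N M

theorem inv_sup {K L : Subgroup H} {X : AddSubgroup M} (hK : Inv K X) (hL : Inv L X) : Inv (K ⊔ L) X := by
  let P : Subgroup H :=
    { carrier := {g | (∀ x ∈ X, g • x ∈ X) ∧ ∀ x ∈ X, g⁻¹ • x ∈ X}
      one_mem' := ⟨fun x hx => by rwa [one_smul], fun x hx => by rwa [inv_one, one_smul]⟩
      mul_mem' := by
        rintro a b ⟨ha, ha'⟩ ⟨hb, hb'⟩
        refine ⟨fun x hx => ?_, fun x hx => ?_⟩
        · rw [mul_smul]; exact ha _ (hb _ hx)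
        · rw [mul_inv_rev, mul_smul]; exact hb' _ (ha' _ hx)
      inv_mem' := by
        rintro a ⟨ha, ha'⟩
        exact ⟨ha', fun x hx => by rw [inv_inv]; exact ha _ hx⟩ }
  have h1 : K ≤ P := fun g hg => ⟨hK g hg, hK _ (inv_mem hg)⟩
  have h2 : L ≤ P := fun g hg => ⟨hL g hg, hL _ (inv_mem hg)⟩
  intro g hg
  exact ((sup_le h1 h2) hg).1

section exp

variable (exp : ∀ m : M, m + m = 0)
include exp

theorem neg_self (m : M) : -m = m := neg_eq_of_add_eq_zero_left (exp m)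

theorem nsmul_odd {n : ℕ} (hn : Odd n) (m : M) : n • m = m := by
  obtain ⟨k, rfl⟩ := hn
  rw [add_smul, one_smul, mul_smul, two_smul, ← smul_add, exp, smul_zero, zero_add]

theorem isPGroup_two : IsPGroup 2 (Multiplicative M) := by
  intro x
  refine ⟨1, ?_⟩
  rw [pow_one, pow_two]
  exact congrArg Multiplicative.ofAdd (exp x.toAdd)

/-- a 2-group acting on a section `Y < X` of `M` has fixed points -/
theorem exists_fixed [Finite M] {S : Subgroup H} (hS : IsPGroup 2 S) {X Y : AddSubgroup M} (hX : Inv S X)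
    (hY : Inv S Y) (h : Y < X) : ∃ x ∈ X, x ∉ Y ∧ ∀ s ∈ S, s • x - x ∈ Y := by
  -- induction on `X`: choose `X` minimal with `Y < X`, `S`-invariant; or use the action on the quotient
  have hfin : Finite (↥X ⧸ Y.addSubgroupOf X) := inferInstance
  let act : MulAction S (↥X ⧸ Y.addSubgroupOf X) :=
    { smul := fun s => Quotient.map' (fun x : ↥X => (⟨(s : H) • (x : M), hX _ s.2 _ x.2⟩ : ↥X)) (by
        intro a b hab
        rw [QuotientAddGroup.leftRel_apply, AddSubgroup.mem_addSubgroupOf] at hab ⊢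
        have h1 := hY _ s.2 _ hab
        rw [AddSubgroup.coe_add, AddSubgroup.coe_neg, smul_add, smul_neg] at h1
        exact h1)
      one_smul := by
        intro x
        induction x using Quotient.inductionOn' with
        | h x =>
          show Quotient.mk'' _ = Quotient.mk'' _
          congr 1
          exact Subtype.ext (one_smul H (x : M))
      mul_smul := by
        intro a b x
        induction x using Quotient.inductionOn' with
        | h x =>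
          show Quotient.mk'' _ = Quotient.mk'' _
          congr 1
          exact Subtype.ext (mul_smul (a : H) (b : H) (x : M)) }
  have hcard : 2 ∣ Nat.card (↥X ⧸ Y.addSubgroupOf X) := by
    obtain ⟨x, hx, hxY⟩ := SetLike.exists_of_lt h
    have h1 : addOrderOf ((⟨x, hx⟩ : ↥X) : ↥X ⧸ Y.addSubgroupOf X) = 2 := by
      have : Fact (Nat.Prime 2) := ⟨Nat.prime_two⟩
      apply addOrderOf_eq_prime
      · rw [two_nsmul, ← QuotientAddGroup.mk_add]
        have : (⟨x, hx⟩ : ↥X) + ⟨x, hx⟩ = 0 := Subtype.ext (exp x)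
        rw [this, QuotientAddGroup.mk_zero]
      · rw [Ne, QuotientAddGroup.eq_zero_iff, AddSubgroup.mem_addSubgroupOf]
        exact hxY
    rw [← h1]
    exact addOrderOf_dvd_natCard _
  have : Fact (Nat.Prime 2) := ⟨Nat.prime_two⟩
  have h0 : ((0 : ↥X ⧸ Y.addSubgroupOf X)) ∈ MulAction.fixedPoints S (↥X ⧸ Y.addSubgroupOf X) := by
    intro s
    show Quotient.mk'' _ = Quotient.mk'' _
    congr 1
    exact Subtype.ext (smul_zero (s : H))
  obtain ⟨y, hy, hne⟩ := hS.exists_fixed_point_of_prime_dvd_card_of_fixed_point (↥X ⧸ Y.addSubgroupOf X) hcard h0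
  induction y using Quotient.inductionOn' with
  | h x =>
    refine ⟨x, x.2, ?_, ?_⟩
    · intro hxY
      apply hne
      symm
      exact (QuotientAddGroup.eq_zero_iff (N := Y.addSubgroupOf X) x).2 hxY
    · intro s hs
      have h2 := hy ⟨s, hs⟩
      have h3 : ((⟨s • (x : M), hX _ hs _ x.2⟩ : ↥X) : ↥X ⧸ Y.addSubgroupOf X) = (x : ↥X ⧸ Y.addSubgroupOf X) := h2
      rw [eq_comm, QuotientAddGroup.eq, AddSubgroup.mem_addSubgroupOf] at h3
      rw [sub_eq_neg_add]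
      exact h3

end exp

namespace Dat

variable {A S E T N : Subgroup H} (d : Dat A S E T N M)
include d

/-- if `A` centralises the section `X / Y`, so does `E` -/
theorem cen_E {X Y : AddSubgroup M} (hX : Inv E X) (hY : Inv E Y) (h : ∀ a ∈ A, ∀ x ∈ X, a • x - x ∈ Y) :
    ∀ g ∈ E, ∀ x ∈ X, g • x - x ∈ Y := by
  let K : Subgroup H :=
    { carrier := {k | (k ∈ E) ∧ ∀ x ∈ X, k • x - x ∈ Y}
      one_mem' := ⟨one_mem _, fun x _ => by rw [one_smul, sub_self]; exact zero_mem _⟩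
      mul_mem' := by
        rintro a b ⟨haE, ha⟩ ⟨hbE, hb⟩
        refine ⟨mul_mem haE hbE, fun x hx => ?_⟩
        rw [mul_smul]
        have h1 := ha _ (hX b hbE x hx)
        have h2 := hb _ hx
        have h3 := add_mem h1 h2
        rwa [sub_add_sub_cancel] at h3
      inv_mem' := by
        rintro a ⟨haE, ha⟩
        refine ⟨inv_mem haE, fun x hx => ?_⟩
        have h1 := ha _ (hX _ (inv_mem haE) x hx)
        rw [smul_inv_smul] at h1
        have h2 := neg_mem h1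
        rwa [neg_sub] at h2 }
  have hAK : A ≤ K := fun a ha => ⟨d.AE ha, h a ha⟩
  have h1 := d.gen K hAK (by
    rintro g hg k ⟨hkE, hk⟩
    refine ⟨mul_mem (mul_mem hg hkE) (inv_mem hg), fun x hx => ?_⟩
    have h2 := hk _ (hX _ (inv_mem hg) x hx)
    have h3 := hY _ hg _ h2
    rwa [smul_sub, smul_inv_smul, ← mul_smul, ← mul_smul] at h3)
  exact fun g hg x hx => (h1 hg).2 x hx

theorem cA_T {m : M} (hm : ∀ a ∈ A, a • m = m) {t : H} (ht : t ∈ T) : ∀ a ∈ A, a • t • m = t • m := by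
  intro a ha
  have h1 : t⁻¹ * a * t ∈ A := by
    have := d.TA _ (inv_mem ht) a ha
    rwa [inv_inv] at this
  have h2 := hm _ h1
  rw [mul_smul, mul_smul, inv_smul_eq_iff] at h2
  exact h2

theorem cA_S {m : M} (hm : ∀ a ∈ A, a • m = m) {s : H} (hs : s ∈ S) : ∀ a ∈ A, a • s • m = s • m := by
  intro a ha
  have h1 : s⁻¹ * a * s ∈ A := by
    have := d.SA _ (inv_mem hs) a ha
    rwa [inv_inv] at this
  have h2 := hm _ h1
  rw [mul_smul, mul_smul, inv_smul_eq_iff] at h2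
  exact h2

/-- `S` and `T` commute on `C_M(A)` -/
theorem smul_comm_cA {m : M} (hm : ∀ a ∈ A, a • m = m) {s t : H} (hs : s ∈ S) (ht : t ∈ T) :
    t • s • m = s • t • m := by
  have h1 := d.cA_T (d.cA_S hm hs) ht _ (d.ST s hs t ht)
  rw [← h1, ← mul_smul, ← mul_smul, ← mul_smul]
  congr 1
  group

theorem inv_com {K : Subgroup H} (hK : ∀ g ∈ K, ∀ a ∈ A, g * a * g⁻¹ ∈ A) {X : AddSubgroup M} (hX : Inv K X) :
    Inv K (com A X) := by
  have _ := d
  intro g hg x hx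
  induction hx using AddSubgroup.closure_induction with
  | mem x hx =>
    obtain ⟨a, ha, y, hy, rfl⟩ := hx
    refine AddSubgroup.subset_closure ⟨g * a * g⁻¹, hK g hg a ha, g • y, hX g hg y hy, ?_⟩
    rw [smul_sub, mul_smul, mul_smul, inv_smul_smul]
  | zero => rw [smul_zero]; exact zero_mem _
  | add x y _ _ hx hy => rw [smul_add]; exact add_mem hx hy
  | neg x _ hx => rw [smul_neg]; exact neg_mem hx

theorem com_T {X : AddSubgroup M} {y : M} (hy : y ∈ com A X) : ∀ t ∈ T, t • y = y := by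
  induction hy using AddSubgroup.closure_induction with
  | mem x hx =>
    obtain ⟨a, ha, y, hy, rfl⟩ := hx
    exact d.AT a ha y
  | zero => exact fun t _ => smul_zero t
  | add x y _ _ hx hy => exact fun t ht => by rw [smul_add, hx t ht, hy t ht]
  | neg x _ hx => exact fun t ht => by rw [smul_neg, hx t ht]

theorem com_le {K : Subgroup H} {X : AddSubgroup M} (hX : Inv K X) : com K X ≤ X := by
  have _ := d
  rw [com, AddSubgroup.closure_le]
  rintro y ⟨g, hg, x, hx, rfl⟩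
  exact sub_mem (hX g hg x hx) hx

/-- **(d)**: `C_M(A) ≤ C_M(T)` -/
theorem fix_T [Finite M] [Finite H] {m : M} (hm : ∀ a ∈ A, a • m = m) : ∀ t ∈ T, t • m = m := by
  classical
  have : Fintype T := Fintype.ofFinite T
  have hexp := d.exp
  have hTc : Odd (Fintype.card T) := by
    have := d.Todd
    rwa [Nat.card_eq_fintype_card] at this
  -- the average
  have eps_T : ∀ (t : T) (x : M), ∑ t' : T, (t' : H) • (t : H) • x = ∑ t' : T, (t' : H) • x := by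
    intro t x
    rw [← Equiv.sum_comp (Equiv.mulRight t) (fun t' : T => (t' : H) • x)]
    refine Finset.sum_congr rfl fun t' _ => ?_
    rw [Equiv.coe_mulRight, Subgroup.coe_mul, mul_smul]
  have T_eps : ∀ (t : T) (x : M), (t : H) • ∑ t' : T, (t' : H) • x = ∑ t' : T, (t' : H) • x := by
    intro t x
    conv_rhs => rw [← Equiv.sum_comp (Equiv.mulLeft t) (fun t' : T => (t' : H) • x)]
    rw [Finset.smul_sum]
    refine Finset.sum_congr rfl fun t' _ => ?_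
    rw [Equiv.coe_mulLeft, Subgroup.coe_mul, mul_smul]
  let r1 : AddSubgroup M :=
    { carrier := {x | (∀ a ∈ A, a • x = x) ∧ ∑ t' : T, (t' : H) • x = 0}
      zero_mem' := ⟨fun a _ => smul_zero a, by simp⟩
      add_mem' := by
        rintro x y ⟨h1, h2⟩ ⟨h3, h4⟩
        refine ⟨fun a ha => by rw [smul_add, h1 a ha, h3 a ha], ?_⟩
        simp only [smul_add, Finset.sum_add_distrib, h2, h4, add_zero]
      neg_mem' := by
        rintro x ⟨h1, h2⟩
        refine ⟨fun a ha => by rw [smul_neg, h1 a ha], ?_⟩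
        simp only [smul_neg, Finset.sum_neg_distrib, h2, neg_zero] }
  have hr1T : Inv T r1 := by
    rintro t ht x ⟨h1, h2⟩
    exact ⟨d.cA_T h1 ht, by rw [eps_T ⟨t, ht⟩ x, h2]⟩
  have hr1S : Inv S r1 := by
    rintro s hs x ⟨h1, h2⟩
    refine ⟨d.cA_S h1 hs, ?_⟩
    have h3 : ∀ t' : T, (t' : H) • s • x = s • (t' : H) • x := fun t' => d.smul_comm_cA h1 hs t'.2
    simp only [h3]
    rw [← Finset.smul_sum, h2, smul_zero]
  -- it is enough to show `r1 = 0`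
  by_cases hr1 : r1 = ⊥
  · intro t ht
    have h1 : m - ∑ t' : T, (t' : H) • m ∈ r1 := by
      refine ⟨fun a ha => ?_, ?_⟩
      · rw [smul_sub, hm a ha, Finset.smul_sum]
        congr 1
        exact Finset.sum_congr rfl fun t' _ => d.cA_T hm t'.2 a ha
      · simp only [smul_sub, Finset.sum_sub_distrib]
        rw [Finset.sum_congr rfl (fun t' _ => T_eps t' m), Finset.sum_const, Finset.card_univ,
          nsmul_odd hexp hTc, sub_self]
    rw [hr1, AddSubgroup.mem_bot, sub_eq_zero] at h1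
    rw [h1]
    exact T_eps ⟨t, ht⟩ m
  exfalso
  -- `r2`
  let r2 : AddSubgroup M :=
    { carrier := {x | x ∈ r1 ∧ ∀ s ∈ S, s • x = x}
      zero_mem' := ⟨zero_mem _, fun s _ => smul_zero s⟩
      add_mem' := by
        rintro x y ⟨h1, h2⟩ ⟨h3, h4⟩
        exact ⟨add_mem h1 h3, fun a ha => by rw [smul_add, h2 a ha, h4 a ha]⟩
      neg_mem' := by
        rintro x ⟨h1, h2⟩
        exact ⟨neg_mem h1, fun a ha => by rw [smul_neg, h2 a ha]⟩ }
  have hr2T : Inv T r2 := by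
    rintro t ht x ⟨h1, h2⟩
    exact ⟨hr1T t ht x h1, fun s hs => by rw [← d.smul_comm_cA h1.1 hs ht, h2 s hs]⟩
  obtain ⟨x0, hx0, hx0'⟩ : ∃ x ∈ r2, x ≠ 0 := by
    obtain ⟨x, hx, hx0, hxS⟩ := exists_fixed hexp d.two hr1S (Y := ⊥)
      (fun g _ x hx => by rw [AddSubgroup.mem_bot] at hx ⊢; rw [hx, smul_zero]) (bot_lt_iff_ne_bot.2 hr1)
    exact ⟨x, ⟨hx, fun s hs => sub_eq_zero.1 (AddSubgroup.mem_bot.1 (hxS s hs))⟩, hx0⟩
  -- `X2`
  set X2 : AddSubgroup M := AddSubgroup.closure {y | ∃ g ∈ E, ∃ x ∈ r2, y = g • x} with hX2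
  have hr2X : r2 ≤ X2 := fun x hx => AddSubgroup.subset_closure ⟨1, one_mem _, x, hx, (one_smul _ _).symm⟩
  have hX2E : Inv E X2 := by
    intro g hg x hx
    induction hx using AddSubgroup.closure_induction with
    | mem x hx =>
      obtain ⟨g', hg', y, hy, rfl⟩ := hx
      exact AddSubgroup.subset_closure ⟨g * g', mul_mem hg hg', y, hy, (mul_smul _ _ _).symm⟩
    | zero => rw [smul_zero]; exact zero_mem _
    | add x y _ _ hx hy => rw [smul_add]; exact add_mem hx hy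
    | neg x _ hx => rw [smul_neg]; exact neg_mem hx
  have hX2T : Inv T X2 := by
    intro t ht x hx
    induction hx using AddSubgroup.closure_induction with
    | mem x hx =>
      obtain ⟨g', hg', y, hy, rfl⟩ := hx
      refine AddSubgroup.subset_closure ⟨t * g' * t⁻¹, d.TE t ht g' hg', t • y, hr2T t ht y hy, ?_⟩
      rw [mul_smul, mul_smul, inv_smul_smul]
    | zero => rw [smul_zero]; exact zero_mem _
    | add x y _ _ hx hy => rw [smul_add]; exact add_mem hx hy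
    | neg x _ hx => rw [smul_neg]; exact neg_mem hx
  have hX2A : Inv A X2 := fun a ha => hX2E a (d.AE ha)
  -- `r2 ≤ [X2, E]` (transfer)
  have htr : r2 ≤ com E X2 := by
    intro x hx
    have hfin : Finite (↥E ⧸ S.subgroupOf E) := inferInstance
    have hft : Fintype (↥E ⧸ S.subgroupOf E) := Fintype.ofFinite _
    let φ : ↥E ⧸ S.subgroupOf E → M := Quotient.lift (fun g : ↥E => (g : H) • x) (by
      intro a b hab
      have h1 : a⁻¹ * b ∈ S.subgroupOf E := QuotientGroup.leftRel_apply.1 hab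
      rw [mem_subgroupOf] at h1
      have h2 := hx.2 _ h1
      rw [coe_mul, coe_inv, mul_smul, inv_smul_eq_iff] at h2
      exact h2.symm)
    have hφ : ∀ g : ↥E, φ (g : ↥E ⧸ S.subgroupOf E) = (g : H) • x := fun g => rfl
    have hφE : ∀ (g : ↥E) (q : ↥E ⧸ S.subgroupOf E), (g : H) • φ q = φ (g • q) := by
      intro g q
      induction q using Quotient.inductionOn' with
      | h q => exact (mul_smul (g : H) (q : H) x).symm
    have h1 : ∑ q, φ q = 0 := by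
      apply d.CE
      intro g hg
      rw [Finset.smul_sum, ← Equiv.sum_comp (MulAction.toPerm (⟨g, hg⟩ : ↥E)) φ]
      exact Finset.sum_congr rfl fun q _ => hφE ⟨g, hg⟩ q
    have h2 : ∑ q, (φ q - x) ∈ com E X2 := by
      refine sum_mem fun q _ => ?_
      induction q using Quotient.inductionOn' with
      | h q => exact AddSubgroup.subset_closure ⟨q, q.2, x, hr2X hx, rfl⟩
    rw [Finset.sum_sub_distrib, h1, Finset.sum_const, Finset.card_univ, zero_sub] at h2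
    have h3 : Odd (Fintype.card (↥E ⧸ S.subgroupOf E)) := by
      have := d.odd
      rwa [relIndex, index, Nat.card_eq_fintype_card] at this
    rw [nsmul_odd hexp h3] at h2
    exact (neg_mem_iff).1 h2
  -- a maximal invariant subgroup
  have hX2ne : X2 ≠ ⊥ := fun h => hx0' (by
    have := hr2X hx0
    rw [h] at this
    exact this)
  obtain ⟨Y, hYmax⟩ := Set.Finite.exists_maximal (s := {Y : AddSubgroup M | Inv E Y ∧ Inv T Y ∧ Y < X2})
    (Set.toFinite _) ⟨⊥, fun g _ x hx => by rw [AddSubgroup.mem_bot] at hx ⊢; rw [hx, smul_zero],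
      fun g _ x hx => by rw [AddSubgroup.mem_bot] at hx ⊢; rw [hx, smul_zero], bot_lt_iff_ne_bot.2 hX2ne⟩
  obtain ⟨⟨hYE, hYT, hYX⟩, hYm⟩ := hYmax
  have hYS : Inv S Y := fun s hs => hYE s (d.SE hs)
  have hYA : Inv A Y := fun a ha => hYE a (d.AE ha)
  -- if `r2 ≤ Y` then `X2 ≤ Y`
  have hr2Y : ¬ r2 ≤ Y := by
    intro h
    apply hYX.not_ge
    rw [hX2, AddSubgroup.closure_le]
    rintro y ⟨g, hg, x, hx, rfl⟩
    exact hYE g hg x (h hx)
  -- `[X2, A]` is not in `Y`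
  have hcom : ¬ com A X2 ≤ Y := by
    intro h
    apply hr2Y
    refine htr.trans ?_
    rw [com, AddSubgroup.closure_le]
    rintro y ⟨g, hg, x, hx, rfl⟩
    exact d.cen_E hX2E hYE (fun a ha x hx => h (AddSubgroup.subset_closure ⟨a, ha, x, hx, rfl⟩)) g hg x hx
  have hXN : Inv N X2 := fun n hn => inv_sup hX2E hX2T n (d.NE hn)
  have hYN : Inv N Y := fun n hn => inv_sup hYE hYT n (d.NE hn)
  have hcomX : com A X2 ≤ X2 := d.com_le hX2A
  have hcomN : Inv N (com A X2) := d.inv_com d.NA hXN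
  have hcomS : Inv S (com A X2) := d.inv_com d.SA (fun s hs => hX2E s (d.SE hs))
  let D : AddSubgroup M :=
    { carrier := {x | x ∈ X2 ∧ (∃ y ∈ com A X2, x - y ∈ Y) ∧ ∀ s ∈ S, s • x - x ∈ Y}
      zero_mem' := ⟨zero_mem _, ⟨0, zero_mem _, by rw [sub_zero]; exact zero_mem _⟩, fun s _ => by
        rw [smul_zero, sub_zero]; exact zero_mem _⟩
      add_mem' := by
        rintro x y ⟨h1, ⟨u, hu, h2⟩, h3⟩ ⟨h4, ⟨v, hv, h5⟩, h6⟩
        refine ⟨add_mem h1 h4, ⟨u + v, add_mem hu hv, ?_⟩, fun s hs => ?_⟩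
        · rw [add_sub_add_comm]; exact add_mem h2 h5
        · rw [smul_add, add_sub_add_comm]; exact add_mem (h3 s hs) (h6 s hs)
      neg_mem' := by
        rintro x ⟨h1, ⟨u, hu, h2⟩, h3⟩
        refine ⟨neg_mem h1, ⟨-u, neg_mem hu, ?_⟩, fun s hs => ?_⟩
        · have := neg_mem h2
          rwa [neg_sub, ← neg_sub_neg] at this
        · have := neg_mem (h3 s hs)
          rwa [neg_sub, ← neg_sub_neg, ← smul_neg] at this }
  have hYD : Y ≤ D := fun x hx => ⟨hYX.le hx, ⟨0, zero_mem _, by rwa [sub_zero]⟩, fun s hs =>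
    sub_mem (hYS s hs x hx) hx⟩
  have hDlt : Y < D := by
    refine lt_of_le_of_ne hYD fun h => ?_
    obtain ⟨x, hx, hxY, hxS⟩ := exists_fixed hexp d.two (X := com A X2 ⊔ Y) (Y := Y) (by
      intro s hs x hx
      obtain ⟨u, hu, v, hv, rfl⟩ := AddSubgroup.mem_sup.1 hx
      rw [smul_add]
      exact AddSubgroup.add_mem_sup (hcomS s hs u hu) (hYS s hs v hv)) hYS
      (lt_of_le_of_ne le_sup_right fun h1 => hcom (by rw [h1]; exact le_sup_left))
    apply hxY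
    rw [h]
    obtain ⟨u, hu, v, hv, rfl⟩ := AddSubgroup.mem_sup.1 hx
    refine ⟨add_mem (hcomX hu) (hYX.le hv), ⟨u, hu, by rwa [add_sub_cancel_left]⟩, hxS⟩
  have hDN : Inv N D := by
    rintro n hn x ⟨h1, ⟨u, hu, h2⟩, h3⟩
    refine ⟨hXN n hn x h1, ⟨n • u, hcomN n hn u hu, ?_⟩, fun s hs => ?_⟩
    · rw [← smul_sub]; exact hYN n hn _ h2
    · have h4 : n⁻¹ * s * n ∈ S := by
        have := d.NS _ (inv_mem hn) s hs
        rwa [inv_inv] at this
      have h5 := hYN n hn _ (h3 _ h4)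
      rwa [smul_sub, ← mul_smul, show n * (n⁻¹ * s * n) = s * n by group, mul_smul] at h5
  -- Curtis–Richen
  apply hr2Y
  intro x hx
  have hxD : x ∈ D := d.CR X2 Y hX2E hX2T hYE hYT hYX (by
    intro Z hZE hZT hYZ hZX
    by_cases h : Z = X2
    · exact Or.inr h
    · exact Or.inl (le_antisymm (hYm ⟨hZE, hZT, lt_of_le_of_ne hZX h⟩ hYZ) hYZ)) D hDlt (fun x hx => hx.1) hDN
    (fun s hs x hx => hx.2.2 s hs) x (hr2X hx) (fun s hs => by rw [hx.2 s hs, sub_self]; exact zero_mem _)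
  obtain ⟨-, ⟨y, hy, hxy⟩, -⟩ := hxD
  have h1 : ∀ t' : T, (t' : H) • x - x ∈ Y := by
    intro t'
    have h2 := sub_mem (hYT _ t'.2 _ hxy) hxy
    rw [smul_sub, d.com_T hy _ t'.2] at h2
    rwa [show (t' : H) • x - y - (x - y) = (t' : H) • x - x by abel] at h2
  have h2 : ∑ t' : T, ((t' : H) • x - x) ∈ Y := sum_mem fun t' _ => h1 t'
  rw [Finset.sum_sub_distrib, hx.1.2, Finset.sum_const, Finset.card_univ, nsmul_odd hexp hTc, zero_sub] at h2
  exact neg_mem_iff.1 h2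

end Dat

/-! ### (e) -/

/-- **(e)**: an element normalising `A`, commuting with `T` modulo `A`, fixing `e + rad`, fixes `e`. -/
theorem mem_of_fix {A T : Subgroup H} {e rad : AddSubgroup M} {g : H} (hgA : ∀ a ∈ A, g⁻¹ * a * g ∈ A)
    (hgT : ∀ t ∈ T, g * t * g⁻¹ * t⁻¹ ∈ A) (hTA : ∀ t ∈ T, ∀ a ∈ A, t * a * t⁻¹ ∈ A)
    (hTe : Inv T e) (hAe : ∀ a ∈ A, ∀ x ∈ e, a • x = x)
    (heT : e ≤ com T e) (hrad : ∀ m ∈ rad, (∀ a ∈ A, a • m = m) → ∀ t ∈ T, t • m = m)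
    (hg : ∀ x ∈ e, g • x ∈ e ⊔ rad) : ∀ x ∈ e, g • x ∈ e := by
  intro x hx
  have h1 := heT hx
  clear hx
  induction h1 using AddSubgroup.closure_induction with
  | mem x hx =>
    obtain ⟨t, ht, y, hy, rfl⟩ := hx
    -- `g • y` and `t • g • y` are fixed by `A`
    have k1 : ∀ a ∈ A, ∀ y ∈ e, a • g • y = g • y := by
      intro a ha y hy
      have := hAe _ (hgA a ha) y hy
      rw [mul_smul, mul_smul, inv_smul_eq_iff] at this
      exact this
    have k2 : ∀ a ∈ A, a • t • g • y = t • g • y := by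
      intro a ha
      have h2 : t⁻¹ * a * t ∈ A := by
        have := hTA _ (inv_mem ht) a ha
        rwa [inv_inv] at this
      have h3 := k1 _ h2 y hy
      rw [mul_smul, mul_smul, inv_smul_eq_iff] at h3
      exact h3
    have k3 : g • t • y = t • g • y := by
      have h2 := k2 _ (hgT t ht)
      rw [← h2, ← mul_smul, ← mul_smul, ← mul_smul]
      congr 1
      group
    obtain ⟨u, hu, r, hr, hur⟩ := AddSubgroup.mem_sup.1 (hg y hy)
    have k4 : ∀ a ∈ A, a • r = r := by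
      intro a ha
      have h2 := k1 a ha y hy
      rw [← hur, smul_add, hAe a ha u hu] at h2
      exact add_left_cancel h2
    have k5 := hrad r hr k4 t ht
    rw [smul_sub, k3, ← hur, smul_add, k5, add_sub_add_right_eq_sub]
    exact sub_mem (hTe t ht u hu) hu
  | zero => rw [smul_zero]; exact zero_mem _
  | add x y _ _ hx hy => rw [smul_add]; exact add_mem hx hy
  | neg x _ hx => rw [smul_neg]; exact neg_mem hx

end Cfsg.Agent.Omega.HOneQ.CRad

end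

section


/-!
# II.0h1, SPLIT, `q ≥ 4` (bb #15121 (d)-(f)): what is used of the group `E = ⟨A^H⟩`

`KD E S HE A T w` : `S` a Sylow 2-subgroup of `E`, `HE` a complement of `S` in `N_E(S)`, `w` the longest element, `T` the
torus, with the theorem of Curtis and Richen for `E T` (sections of modules over the field of two elements).
-/

set_option autoImplicit false

namespace Cfsg.Agent.Omega.HOneQ.Fr

open Subgroup Cfsg.Agent.Omega.Hex

universe u

/-- **The K-side data.** -/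
structure KD {H : Type u} [Group H] (E S HE A T : Subgroup H) (w : H) : Prop where
  /-- `HE` is a complement of `S` in `N_E(S)` -/
  cpl : Cpl S (E ⊓ normalizer (S : Set H)) HE
  /-- `[HE, T] ≤ A` -/
  com : ∀ n ∈ HE, ∀ t ∈ T, n * t * n⁻¹ * t⁻¹ ∈ A
  w_mem : w ∈ E
  wt : ∀ t ∈ T, t⁻¹ * w⁻¹ * t * w ∈ HE
  /-- `⟨A, w S w⁻¹⟩ = E` -/
  gen : ∀ K : Subgroup H, A ≤ K → (∀ s ∈ S, w * s * w⁻¹ ∈ K) → E ≤ K
  /-- Curtis–Richen -/
  CR : ∀ (M : Type u) [AddCommGroup M] [DistribMulAction H M] [Finite M], (∀ m : M, m + m = 0) →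
    CRad.SecCR E T S (T ⊔ HE) M
  span : ∀ (M : Type u) [AddCommGroup M] [DistribMulAction H M] [Finite M], (∀ m : M, m + m = 0) →
    (∀ L : AddSubgroup M, CRad.Inv E L → CRad.Inv T L → L = ⊥ ∨ L = ⊤) →
    ∀ L : AddSubgroup M, (∀ s ∈ S, ∀ x : M, (∀ s' ∈ S, s' • x = x) → (w * s * w⁻¹) • x ∈ L) → L = ⊤

end Cfsg.Agent.Omega.HOneQ.Fr

end

section


/-!
# II.0h1, SPLIT, all `q ≥ 4` (bb #15121 (b), (c))

`H = HQ (R i)`, `A = AA V R i j`, `E` a normal subgroup of `H` with `A ≤ E ≤ H⁰`, `E` perfect (`E = ⟨A^H⟩`).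

* `cen_rad`: **(b)** an element of `Z(W i)` centralised by `E` modulo `R i` lies in `R i`;
* `S_inf_KN`: **(c)** `S ∩ N₀ = 1`; `KN_odd`: `N₀` has odd order; `met_of_even`: every component `K ≤ H⁰` of even order
  is met by `A`.
-/

set_option autoImplicit false
set_option linter.unusedSectionVars false

namespace Cfsg.Agent.Omega.HOneQ.ECen

open Subgroup Cfsg Cfsg.Agent.Omega.BTwo Cfsg.Agent.Omega.Lie Cfsg.Agent.Omega.Lie.Quot
open Cfsg.Agent.Omega.Lie.Layer (OddC InnC InnA Cps)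

universe u v w

variable {G : Type u} [Group G] {ι : Type w} {V : Subgroup G} {R : ι → Subgroup G} {i j : ι}
  {F : Type v} [Field F] {vv : F → F → G} {w1 w2 t : F → G}

/-! ### exchange of `i` and `j` -/

theorem coord_swap (c : Coord V R i j vv w1 w2) : Coord V R j i (fun b c => vv c b) w2 w1 :=
  (Crd.of_coord c).swap.to_coord

theorem torD_swap (τ : TorD V R i j vv t) : TorD V R j i (fun b c => vv c b) (fun a => (t a)⁻¹) where
  ne := τ.ne.symm
  v_add b c b' c' := τ.v_add c b c' b'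
  v_inj b c h := (τ.v_inj c b h).symm
  v_mem g := by
    rw [τ.v_mem g]
    exact ⟨fun ⟨b, c, h⟩ => ⟨c, b, h⟩, fun ⟨b, c, h⟩ => ⟨c, b, h⟩⟩
  Ri := τ.Rj
  Rj := τ.Ri
  one := by rw [τ.one, inv_one]
  mul a b ha hb := by rw [τ.mul a b ha hb, mul_inv_rev, ← mul_inv_rev, ← mul_inv_rev, τ.comm ha hb]
  memX a ha := inv_mem (τ.memX a ha)
  odd a ha := by rw [orderOf_inv]; exact τ.odd a ha
  act a b c ha := by
    change (t a)⁻¹ * vv c b * (t a)⁻¹⁻¹ = vv (a⁻¹ * c) (a * b)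
    rw [inv_inv, LemNS.t_act_inv τ ha]
  wU a b ha hb hab u hu := by
    rw [inv_inv, inv_inv, inv_inv]
    exact τ.wU' a b ha hb hab u hu
  wU' a b ha hb hab u hu := by
    rw [inv_inv, inv_inv, inv_inv]
    exact τ.wU a b ha hb hab u hu
  wW a b ha hb hab u hu := by
    rw [inv_inv, inv_inv, inv_inv]
    exact τ.wW' a b ha hb hab u hu
  wW' a b ha hb hab u hu := by
    rw [inv_inv, inv_inv, inv_inv]
    exact τ.wW a b ha hb hab u hu

theorem relIndex_cj (g : G) (A B : Subgroup G) : (cj g A).relIndex (cj g B) = A.relIndex B := by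
  unfold cj
  exact relIndex_map_map_of_injective _ _ (MulAut.conj g).injective

/-- the index of `N(V) ∩ N(R i)` in `N(R i)` does not depend on `i` -/
theorem relIndex_eq (b : BT V R) (i j : ι) : (normalizer (V : Set G)).relIndex (normalizer (R j : Set G)) =
    (normalizer (V : Set G)).relIndex (normalizer (R i : Set G)) := by
  obtain ⟨x, hx, e⟩ := b.trans_X_one i j
  have hxV : cj x V = V := cj_eq_self_iff.2 (b.X_le_NV hx)
  rw [← relIndex_cj x (normalizer (V : Set G)) (normalizer (R i : Set G)), ← normalizer_cj, ← normalizer_cj, hxV, e]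

/-! ### (b) -/

/-- if `L` centralises `R₀` and `Z / R₀` then `[L, L]` centralises `Z` -/
theorem comm_cen {R₀ Z L : Subgroup G} (hRR : ∀ a ∈ R₀, ∀ b ∈ R₀, a * b = b * a)
    (hR : ∀ x ∈ L, ∀ r ∈ R₀, x * r * x⁻¹ = r) (hZ : ∀ x ∈ L, ∀ z ∈ Z, x * z * x⁻¹ * z⁻¹ ∈ R₀) :
    ⁅L, L⁆ ≤ centralizer (Z : Set G) := by
  rw [commutator_le]
  intro x hx y hy
  rw [mem_centralizer_iff]
  intro z hz
  have g1 := hZ _ (inv_mem hx) z hz
  have g2 := hZ _ (inv_mem hy) z hz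
  have l1 : x⁻¹ * z * x⁻¹⁻¹ = (x⁻¹ * z * x⁻¹⁻¹ * z⁻¹) * z := by group
  have l2 : y⁻¹ * z * y⁻¹⁻¹ = (y⁻¹ * z * y⁻¹⁻¹ * z⁻¹) * z := by group
  have g3 := hRR _ g1 _ g2
  set r' := x⁻¹ * z * x⁻¹⁻¹ * z⁻¹
  set s' := y⁻¹ * z * y⁻¹⁻¹ * z⁻¹
  have f1 : x⁻¹ * y⁻¹ * z * (x⁻¹ * y⁻¹)⁻¹ = s' * r' * z := by
    calc x⁻¹ * y⁻¹ * z * (x⁻¹ * y⁻¹)⁻¹ = x⁻¹ * (y⁻¹ * z * y⁻¹⁻¹) * x⁻¹⁻¹ := by group
      _ = x⁻¹ * (s' * z) * x⁻¹⁻¹ := by rw [l2]
      _ = (x⁻¹ * s' * x⁻¹⁻¹) * (x⁻¹ * z * x⁻¹⁻¹) := by group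
      _ = s' * (r' * z) := by rw [hR _ (inv_mem hx) s' g2, l1]
      _ = _ := by group
  have f2 : y⁻¹ * x⁻¹ * z * (y⁻¹ * x⁻¹)⁻¹ = r' * s' * z := by
    calc y⁻¹ * x⁻¹ * z * (y⁻¹ * x⁻¹)⁻¹ = y⁻¹ * (x⁻¹ * z * x⁻¹⁻¹) * y⁻¹⁻¹ := by group
      _ = y⁻¹ * (r' * z) * y⁻¹⁻¹ := by rw [l1]
      _ = (y⁻¹ * r' * y⁻¹⁻¹) * (y⁻¹ * z * y⁻¹⁻¹) := by group
      _ = r' * (s' * z) := by rw [hR _ (inv_mem hy) r' g1, l2]
      _ = _ := by group
  have f3 : x⁻¹ * y⁻¹ * z * (x⁻¹ * y⁻¹)⁻¹ = y⁻¹ * x⁻¹ * z * (y⁻¹ * x⁻¹)⁻¹ := by rw [f1, f2, g3]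
  rw [commutatorElement_def]
  calc z * (x * y * x⁻¹ * y⁻¹) = (x * y) * ((x * y)⁻¹ * z * (x * y)) * (x⁻¹ * y⁻¹) := by group
    _ = (x * y) * (y⁻¹ * x⁻¹ * z * (y⁻¹ * x⁻¹)⁻¹) * (x⁻¹ * y⁻¹) := by group
    _ = (x * y) * (x⁻¹ * y⁻¹ * z * (x⁻¹ * y⁻¹)⁻¹) * (x⁻¹ * y⁻¹) := by rw [f3]
    _ = x * y * x⁻¹ * y⁻¹ * z := by group

/-- the preimage of a subgroup of `H` in `N(R i)` -/
def lift (R₀ : Subgroup G) (E : Subgroup (HQ R₀)) : Subgroup G :=
  (E.comap (pr R₀)).map (normalizer (R₀ : Set G)).subtype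

theorem mem_lift {R₀ : Subgroup G} {E : Subgroup (HQ R₀)} {g : G} :
    g ∈ lift R₀ E ↔ ∃ hg : g ∈ normalizer (R₀ : Set G), pr R₀ ⟨g, hg⟩ ∈ E := by
  unfold lift
  constructor
  · rintro ⟨x, hx, rfl⟩
    exact ⟨x.2, hx⟩
  · rintro ⟨hg, h⟩
    exact ⟨⟨g, hg⟩, h, rfl⟩

theorem lift_le {R₀ : Subgroup G} {E : Subgroup (HQ R₀)} : lift R₀ E ≤ normalizer (R₀ : Set G) := fun _ h =>
  (mem_lift.1 h).1

theorem im_lift {R₀ : Subgroup G} {E : Subgroup (HQ R₀)} : im R₀ (lift R₀ E) = E := by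
  ext x
  constructor
  · intro hx
    obtain ⟨g, hg, hgL, rfl⟩ := mem_im.1 hx
    exact (mem_lift.1 hgL).2
  · intro hx
    obtain ⟨g, hg, rfl⟩ := exists_pr x
    exact pr_mem_im hg (mem_lift.2 ⟨hg, hx⟩)

/-- `{z ∈ Z(W i) : [z, E] ≤ R i}` -/
def Z00 (b : BT V R) (E : Subgroup (HQ (R i))) : Subgroup G where
  carrier := {z | z ∈ BTwo.ZZ V R i ∧ ∀ g ∈ lift (R i) E, g * z * g⁻¹ * z⁻¹ ∈ R i}
  one_mem' := ⟨one_mem _, fun g _ => by
    rw [show g * 1 * g⁻¹ * 1⁻¹ = 1 by group]; exact one_mem _⟩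
  mul_mem' := by
    rintro x y ⟨hx, hx'⟩ ⟨hy, hy'⟩
    refine ⟨mul_mem hx hy, fun g hg => ?_⟩
    have e : g * (x * y) * g⁻¹ * (x * y)⁻¹ = (g * x * g⁻¹ * x⁻¹) * (x * (g * y * g⁻¹ * y⁻¹) * x⁻¹) := by group
    rw [e]
    exact mul_mem (hx' g hg) (conj_mem_of_normalizer (b.W_le_N i hx.1) (hy' g hg))
  inv_mem' := by
    rintro x ⟨hx, hx'⟩
    refine ⟨inv_mem hx, fun g hg => ?_⟩
    have e : g * x⁻¹ * g⁻¹ * x⁻¹⁻¹ = x⁻¹ * (g * x * g⁻¹ * x⁻¹)⁻¹ * x := by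
      have h1 : Commute (g * x * g⁻¹ * x⁻¹) x := by
        have h2 := mem_centralizer_iff.1 hx.2 _ (b.R_le_W i i (hx' g hg))
        exact h2
      have h3 : g * x * g⁻¹ = (g * x * g⁻¹ * x⁻¹) * x := by group
      have h4 : g * x⁻¹ * g⁻¹ = x⁻¹ * (g * x * g⁻¹ * x⁻¹)⁻¹ := by
        rw [← mul_inv_rev, ← h3]; group
      rw [h4, inv_inv]
    rw [e]
    exact conj_inv_mem_of_normalizer (b.W_le_N i hx.1) (inv_mem (hx' g hg))

section main

variable [Finite G] [Finite F] [CharP F 2] (b : BTS V R) (hF : ∃ a : F, a ≠ 0 ∧ a ≠ 1)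
  (c : Coord V R i j vv w1 w2) (τ : TorD V R i j vv t)
  (hodd : Odd ((normalizer (V : Set G)).relIndex (normalizer (R i : Set G))))
  {E : Subgroup (HQ (R i))} (hEn : E.Normal) (hAE : AA V R i j ≤ E) (hE0 : E ≤ H0 R i) (hEp : E ≤ ⁅E, E⁆)

include b hF c τ hodd hEn hAE hE0 hEp

/-- **(b)** `C_{Z(W i)/R i}(E) = 1` -/
theorem cen_rad : Z00 b.toBT E ≤ R i := by
  have b' := b.toBT
  set Z := Z00 b.toBT E with hZ
  have hZZ : Z ≤ BTwo.ZZ V R i := fun _ h => h.1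
  -- `N(R i)` normalises `Z`
  have hNZ : normalizer (R i : Set G) ≤ normalizer (Z : Set G) := by
    refine le_normalizer_of fun g hg z hz => ?_
    refine ⟨conj_mem_of_normalizer (LemNS.N_le_NZ i hg) hz.1, fun x hx => ?_⟩
    obtain ⟨hxN, hxE⟩ := mem_lift.1 hx
    have h1 : g⁻¹ * x * g ∈ lift (R i) E := by
      refine mem_lift.2 ⟨mul_mem (mul_mem (inv_mem hg) hxN) hg, ?_⟩
      have h2 := hEn.conj_mem _ hxE (pr (R i) ⟨g, hg⟩)⁻¹
      rw [inv_inv] at h2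
      exact h2
    have h2 := conj_mem_of_normalizer hg (hz.2 _ h1)
    rwa [show g * (g⁻¹ * x * g * z * (g⁻¹ * x * g)⁻¹ * z⁻¹) * g⁻¹ =
      x * (g * z * g⁻¹) * x⁻¹ * (g * z * g⁻¹)⁻¹ by group] at h2
  have hNC : normalizer (R i : Set G) ≤ normalizer (centralizer (Z : Set G) : Set G) :=
    hNZ.trans (normalizer_le_normalizer_centralizer _)
  have hWC : WW V (R i) ≤ centralizer (Z : Set G) := by
    intro w hw
    rw [mem_centralizer_iff]
    exact fun z hz => z_comm (hZZ hz) hw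
  -- `[L, L]` centralises `Z`
  have hLC : ⁅lift (R i) E, lift (R i) E⁆ ≤ centralizer (Z : Set G) := by
    refine comm_cen (R₀ := R i) (b.R_comm i) (fun x hx r hr => ?_) (fun x hx z hz => hz.2 x hx)
    obtain ⟨hxN, hxE⟩ := mem_lift.1 hx
    have h1 : x ∈ centralizer (R i : Set G) := (pr_mem_im_iff (Q_le_C b.toBT i) hxN).1 (hE0 hxE)
    rw [← mem_centralizer_iff.1 h1 r hr, mul_inv_cancel_right]
  obtain ⟨a, ha, ha1⟩ := hF
  have hTN := τ.normR ha
  have hTX := τ.memX a ha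
  -- `[t, u]` centralises `Z`
  have key : ∀ u ∈ UU V R j, t a * u * (t a)⁻¹ * u⁻¹ ∈ centralizer (Z : Set G) := by
    intro u hu
    have huN := U_le_N b.toBT i j hu
    have h1 : pr (R i) ⟨u, huN⟩ ∈ ⁅im (R i) (lift (R i) E), im (R i) (lift (R i) E)⁆ := by
      rw [im_lift]
      exact hEp (hAE ((mem_AA b.toBT).2 ⟨u, hu, rfl⟩))
    obtain ⟨x, hxN, hx, e⟩ := mem_im.1 (Layer.commutator_im_le lift_le lift_le h1)
    have hq := (pr_eq_pr hxN huN).1 e
    have hx' := hLC hx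
    have h2 := hWC (b.XQ hTX hTN hq)
    have e1 : t a * u * (t a)⁻¹ * u⁻¹ =
        (t a * x * (t a)⁻¹) * (t a * (x⁻¹ * u) * (t a)⁻¹ * (x⁻¹ * u)⁻¹) * x⁻¹ := by group
    rw [e1]
    exact mul_mem (mul_mem (conj_mem_of_normalizer (hNC hTN) hx') h2) (inv_mem hx')
  have hUZ : ∀ u ∈ UU V R j, u ∈ centralizer (Z : Set G) := by
    intro u hu
    obtain ⟨u', hu', h1⟩ := τ.exists_comm b.toBT ha ha1 hu
    have e1 : u = (u * (t a * u' * (t a)⁻¹ * u'⁻¹)⁻¹) * (t a * u' * (t a)⁻¹ * u'⁻¹) := by group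
    rw [e1]
    exact mul_mem (hWC (D_le_W V R i h1)) (key u' hu')
  refine core_le_of_coord b c ⟨a, ha, ha1⟩ (S := normalizer (V : Set G) ⊓ normalizer (R i : Set G)) inf_le_right
    inf_le_left (by rwa [inf_relIndex_right]) hNZ fun z hz => ?_
  -- `z ∈ D`
  have hzD : z ∈ DD V R := by
    by_contra hzD
    obtain ⟨u, hu, h1⟩ := LemNS.beta_ne b ⟨a, ha, ha1⟩ (coord_swap c) (torD_swap τ)
      (by rw [relIndex_eq b.toBT i j]; exact hodd) (hZZ hz) hzD
    apply h1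
    have h2 := mem_centralizer_iff.1 (hUZ u hu) z hz
    rw [h2, mul_inv_cancel_right, mul_inv_cancel]
    exact one_mem _
  obtain ⟨r, hr, h1⟩ := b.cen_DW hzD (hZZ hz).2
  exact ⟨r, hr, h1.2⟩

/-! ### (c) -/

omit hF hodd τ hEn hAE hE0 hEp in
/-- if `g ∈ C(V)` centralises `W i / Z(W i)` and commutes with `A` then `[g, Z(W i)] ≤ D` -/
theorem comm_mem_D {g : G} (hgV : g ∈ centralizer (V : Set G)) (hg0 : g ∈ LemNS.N0 V R i)
    (hgA : ∀ a ∈ AA V R i j, pr (R i) ⟨g, b.cen_le_N i hgV⟩ * a = a * pr (R i) ⟨g, b.cen_le_N i hgV⟩)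
    {z : G} (hz : z ∈ BTwo.ZZ V R i) : g * z * g⁻¹ * z⁻¹ ∈ DD V R := by
  have hgND : g ∈ normalizer (DD V R : Set G) := b.NV_le_ND (cen_le_NV V hgV)
  have hw := c.w1_mem 1
  have hwU := LemNS.w1_not_mem c
  set w := w1 1
  obtain ⟨y, hy, hd⟩ := b.surj (Ne.symm c.ne) hw hwU (zU_le i hz)
  have hyN := U_le_N b.toBT i j hy
  set k := w * y * w⁻¹ * y⁻¹ with hk
  set d := k⁻¹ * z with hdd
  have hkU : k ∈ UU V R i := b.WU' hw hy
  -- `g w g⁻¹ = ζ w`
  set ζ := g * w * g⁻¹ * w⁻¹ with hζ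
  have hζZ : ζ ∈ BTwo.ZZ V R i := hg0.2.2 w hw
  -- `g y g⁻¹ = δ y`
  set δ := g * y * g⁻¹ * y⁻¹ with hδ
  have hδU : δ ∈ UU V R j := mul_mem (conj_mem_of_normalizer (b.cen_le_NU j hgV) hy) (inv_mem hy)
  have hδD : δ ∈ DD V R := by
    rw [← U_inf_Q b.toBT c.ne hδU]
    have h1 := hgA _ ((mem_AA b.toBT).2 ⟨y, hy, rfl⟩)
    have hgN := b.cen_le_N i hgV
    rw [← pr_eq_one (mul_mem (mul_mem (mul_mem hgN hyN) (inv_mem hgN)) (inv_mem hyN))]
    have e : pr (R i) ⟨δ, mul_mem (mul_mem (mul_mem hgN hyN) (inv_mem hgN)) (inv_mem hyN)⟩ =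
        pr (R i) ⟨g, hgN⟩ * pr (R i) ⟨y, hyN⟩ * (pr (R i) ⟨g, hgN⟩)⁻¹ * (pr (R i) ⟨y, hyN⟩)⁻¹ := rfl
    rw [e, h1, mul_inv_cancel_right, mul_inv_cancel]
  have c1 : Commute ζ (w * δ * w⁻¹) := z_comm hζZ
    (mul_mem (mul_mem hw (D_le_W V R i hδD)) (inv_mem hw))
  have c2 : Commute ζ k := z_comm hζZ (UU_le_WW i hkU)
  have hζy : ζ * y * ζ⁻¹ * y⁻¹ ∈ DD V R := (b.cen_W_U c.ne hζZ.2 hy).1
  have e1 : g * k * g⁻¹ = (w * δ * w⁻¹) * k * (ζ * y * ζ⁻¹ * y⁻¹) * δ⁻¹ := by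
    have k1 : g * k * g⁻¹ = (g * w * g⁻¹) * (g * y * g⁻¹) * (g * w * g⁻¹)⁻¹ * (g * y * g⁻¹)⁻¹ := by
      rw [hk]; group
    have k2 : g * w * g⁻¹ = ζ * w := by rw [hζ]; group
    have k3 : g * y * g⁻¹ = δ * y := by rw [hδ]; group
    rw [k1, k2, k3]
    calc ζ * w * (δ * y) * (ζ * w)⁻¹ * (δ * y)⁻¹
        = (ζ * (w * δ * w⁻¹)) * (w * y * w⁻¹ * y⁻¹) * y * ζ⁻¹ * y⁻¹ * δ⁻¹ := by group
      _ = (w * δ * w⁻¹ * ζ) * k * y * ζ⁻¹ * y⁻¹ * δ⁻¹ := by rw [c1.eq, ← hk]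
      _ = (w * δ * w⁻¹) * (ζ * k) * y * ζ⁻¹ * y⁻¹ * δ⁻¹ := by simp only [mul_assoc]
      _ = (w * δ * w⁻¹) * (k * ζ) * y * ζ⁻¹ * y⁻¹ * δ⁻¹ := by rw [c2.eq]
      _ = (w * δ * w⁻¹) * k * (ζ * y * ζ⁻¹ * y⁻¹) * δ⁻¹ := by simp only [mul_assoc]
  have e2 : z = k * d := by rw [hdd]; group
  have hwND : w ∈ normalizer (DD V R : Set G) := b.NV_le_ND (b.W_le_NV i hw)
  have hkND : k ∈ normalizer (DD V R : Set G) := b.Y_le_ND (UU_le_YY i hkU)
  have h1 : w * δ * w⁻¹ ∈ DD V R := conj_mem_of_normalizer hwND hδD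
  have h2 : (ζ * y * ζ⁻¹ * y⁻¹) * δ⁻¹ * (g * d * g⁻¹) * d⁻¹ ∈ DD V R :=
    mul_mem (mul_mem (mul_mem hζy (inv_mem hδD)) (conj_mem_of_normalizer hgND hd)) (inv_mem hd)
  have h3 := conj_mem_of_normalizer hkND h2
  have e3 : g * z * g⁻¹ * z⁻¹ = (w * δ * w⁻¹) * (k * ((ζ * y * ζ⁻¹ * y⁻¹) * δ⁻¹ * (g * d * g⁻¹) * d⁻¹) * k⁻¹) := by
    calc g * z * g⁻¹ * z⁻¹ = (g * k * g⁻¹) * (g * d * g⁻¹) * d⁻¹ * k⁻¹ := by rw [e2]; group
      _ = _ := by rw [e1]; group
  rw [e3]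
  exact mul_mem h1 h3

omit hF hodd τ hEn hAE hE0 hEp c in
/-- the elements of `N₀` trivial on `Z(W i) / R i` lie in `O₂(N(R i))` -/
theorem N0_le_Q {x : G} (hx : x ∈ LemNS.N0 V R i) (h : ∀ z ∈ BTwo.ZZ V R i, x * z * x⁻¹ * z⁻¹ ∈ R i) :
    x ∈ QQ (R i) := by
  let X0 : Subgroup G :=
    { carrier := {x | x ∈ LemNS.N0 V R i ∧ ∀ z ∈ BTwo.ZZ V R i, x * z * x⁻¹ * z⁻¹ ∈ R i}
      one_mem' := ⟨one_mem _, fun z _ => by
        rw [show 1 * z * 1⁻¹ * z⁻¹ = 1 by group]; exact one_mem _⟩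
      mul_mem' := by
        rintro x y ⟨hx, hx'⟩ ⟨hy, hy'⟩
        refine ⟨mul_mem hx hy, fun z hz => ?_⟩
        have e : x * y * z * (x * y)⁻¹ * z⁻¹ = (x * (y * z * y⁻¹ * z⁻¹) * x⁻¹) * (x * z * x⁻¹ * z⁻¹) := by group
        rw [e]
        exact mul_mem (conj_mem_of_normalizer (LemNS.N0_le_N i hx) (hy' z hz)) (hx' z hz)
      inv_mem' := by
        rintro x ⟨hx, hx'⟩
        refine ⟨inv_mem hx, fun z hz => ?_⟩
        have e : x⁻¹ * z * x⁻¹⁻¹ * z⁻¹ = x⁻¹ * (x * z * x⁻¹ * z⁻¹)⁻¹ * x := by group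
        rw [e]
        exact conj_inv_mem_of_normalizer (LemNS.N0_le_N i hx) (inv_mem (hx' z hz)) }
  have key : X0 ≤ QQ (R i) := by
    refine le_O2_of_normal (fun x hx => LemNS.N0_le_N i hx.1) ?_ ?_
    · refine isPGroup_of_odd fun x hx ho => ?_
      have hRP : IsPGroup 2 (R i) := (b.W_isPGroup i).to_le (b.R_le_W i i)
      have hZP : IsPGroup 2 (BTwo.ZZ V R i) := (b.W_isPGroup i).to_le inf_le_left
      have h1 : ∀ r ∈ R i, x * r = r * x := fun r hr => (mem_centralizer_iff.1 hx.1.1 r hr).symm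
      have h2 : ∀ s ∈ BTwo.ZZ V R i, x * s = s * x := fun s hs =>
        comm_of_odd ho hRP (hx.2 s hs) (h1 _ (hx.2 s hs))
      have h3 : ∀ w ∈ WW V (R i), x * w = w * x := fun w hw =>
        comm_of_odd ho hZP (hx.1.2.2 w hw) (h2 _ (hx.1.2.2 w hw))
      have h4 : x ∈ centralizer (WW V (R i) : Set G) := by
        rw [mem_centralizer_iff]; exact fun w hw => (h3 w hw).symm
      obtain ⟨n, hn⟩ := b.cen_W_isPGroup i ⟨x, h4⟩
      have hn' : x ^ 2 ^ n = 1 := congrArg Subtype.val hn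
      have hd := Nat.dvd_gcd (dvd_refl (orderOf x)) (orderOf_dvd_of_pow_eq_one hn')
      have hco : Nat.gcd (orderOf x) (2 ^ n) = 1 := (Nat.coprime_two_right.2 ho).pow_right n
      rw [hco, Nat.dvd_one, orderOf_eq_one_iff] at hd
      exact hd
    · rintro g hg x hx
      refine ⟨LemNS.N_le_NN0 i hg hx.1, fun z hz => ?_⟩
      have h1 := hx.2 _ (conj_inv_mem_of_normalizer (LemNS.N_le_NZ i hg) hz)
      have h2 := conj_mem_of_normalizer hg h1
      rwa [show g * (x * (g⁻¹ * z * g) * x⁻¹ * (g⁻¹ * z * g)⁻¹) * g⁻¹ =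
        g * x * g⁻¹ * z * (g * x * g⁻¹)⁻¹ * z⁻¹ by group] at h2
  exact key ⟨hx, h⟩

variable {S : Subgroup (HQ (R i))} (I : SylI τ S)
  (hEg : ∀ L : Subgroup (HQ (R i)), AA V R i j ≤ L → (∀ g ∈ E, ∀ l ∈ L, g * l * g⁻¹ ∈ L) → E ≤ L)
  (hNE : ∀ n ∈ KN V R i, ∀ x ∈ E, n * x = x * n)
include I hEg hNE

/-- **(c)** `S ∩ N₀ = 1` -/
theorem S_inf_KN {s : HQ (R i)} (hs : s ∈ S) (hs0 : s ∈ KN V R i) : s = 1 := by
  obtain ⟨g, hg, hgV, rfl⟩ := I.rep s hs
  have hg0 := (pr_mem_KN b.toBT hg).1 hs0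
  have hZD : ∀ z ∈ BTwo.ZZ V R i, g * z * g⁻¹ * z⁻¹ ∈ DD V R := fun z hz =>
    comm_mem_D b c hgV hg0 (fun a ha => KN_comm_A b hF c τ hodd hs0 ha) hz
  obtain ⟨M, B, _, _, _, _, _, p, r, f, m⟩ := exists_modQ b.toBT i
  -- `K = [rad, s]`
  let φ : M →+ M :=
    { toFun := fun x => pr (R i) ⟨g, hg⟩ • x - x
      map_zero' := by rw [smul_zero, sub_zero]
      map_add' := fun x y => by rw [smul_add]; abel }
  set K : AddSubgroup M := m.rad.map φ with hK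
  have hKr : ∀ y ∈ K, ∃ d ∈ DD V R ⊓ BTwo.ZZ V R i, y = p d := by
    rintro _ ⟨x, hx, rfl⟩
    obtain ⟨z, hz, rfl⟩ := (m.mem_rad b.toBT).1 hx
    refine ⟨g * z * g⁻¹ * z⁻¹, mem_inf.2 ⟨hZD z hz, mul_mem
      (conj_mem_of_normalizer (LemNS.N_le_NZ i hg) hz) (inv_mem hz)⟩, ?_⟩
    change pr (R i) ⟨g, hg⟩ • p z - p z = _
    have hzW : z ∈ WW V (R i) := hz.1
    have h1 := conj_mem_of_normalizer (normalizer_le_WW V (R i) hg) hzW
    rw [m.act hg hzW, m.p_mul _ h1 _ (inv_mem hzW), m.p_inv hzW, sub_eq_add_neg]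
  have hEK : ∀ x ∈ E, ∀ y ∈ K, x • y ∈ K := by
    rintro x hx _ ⟨y, hy, rfl⟩
    refine ⟨x • y, m.smul_rad b.toBT (hE0 hx) hy, ?_⟩
    change pr (R i) ⟨g, hg⟩ • x • y - x • y = x • (pr (R i) ⟨g, hg⟩ • y - y)
    rw [smul_sub, smul_smul, smul_smul, hNE _ hs0 x hx]
  have hAK : ∀ a ∈ AA V R i j, ∀ y ∈ K, a • y = y := by
    intro a ha y hy
    obtain ⟨d, hd, rfl⟩ := hKr y hy
    obtain ⟨u, hu, rfl⟩ := (mem_AA b.toBT).1 ha
    obtain ⟨r', hr', h1⟩ := b.cen_DW (mem_inf.1 hd).1 (mem_inf.1 hd).2.2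
    have hdW : d ∈ WW V (R i) := D_le_W V R i (mem_inf.1 hd).1
    have huN := U_le_N b.toBT i j hu
    rw [m.act huN hdW, m.p_eq_iff (conj_mem_of_normalizer (normalizer_le_WW V (R i) huN) hdW) hdW]
    have c1 : Commute u (r' * d) := LemNS.CenX_comm (W_le_X V R j (UU_le_WW j hu)) h1.2
    have c2 : Commute u r' := (mem_centralizer_iff.1 (UU_le_cen j hu) r' (b.R_le i hr')).symm
    have c3 : Commute u d := by
      have h3 := c2.inv_right.mul_right c1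
      rwa [inv_mul_cancel_left] at h3
    rw [c3.eq, mul_inv_cancel_right, mul_inv_cancel]
    exact one_mem _
  -- `E` centralises `K`
  have hE : ∀ x ∈ E, ∀ y ∈ K, x • y = y := by
    let L : Subgroup (HQ (R i)) :=
      { carrier := {x | ∀ y ∈ K, x • y = y}
        one_mem' := fun y _ => one_smul _ y
        mul_mem' := fun {x x'} hx hx' y hy => by rw [mul_smul, hx' y hy, hx y hy]
        inv_mem' := fun {x} hx y hy => by rw [inv_smul_eq_iff, hx y hy] }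
    have hL : E ≤ L := hEg L (fun a ha => hAK a ha) fun x hx l hl y hy => by
      have h1 : x⁻¹ • y ∈ K := hEK _ (inv_mem hx) y hy
      rw [mul_smul, mul_smul, hl _ h1, smul_inv_smul]
    exact fun x hx => hL hx
  -- `K = 0`
  have hK0 : ∀ y ∈ K, y = 0 := by
    intro y hy
    obtain ⟨d, hd, rfl⟩ := hKr y hy
    have hdW : d ∈ WW V (R i) := (mem_inf.1 hd).2.1
    rw [m.p_ker d hdW]
    refine cen_rad b hF c τ hodd hEn hAE hE0 hEp ⟨(mem_inf.1 hd).2, fun x hx => ?_⟩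
    obtain ⟨hxN, hxE⟩ := mem_lift.1 hx
    have h1 := hE _ hxE _ hy
    rwa [m.act hxN hdW, m.p_eq_iff (conj_mem_of_normalizer (normalizer_le_WW V (R i) hxN) hdW) hdW] at h1
  rw [pr_eq_one]
  refine N0_le_Q b hg0 fun z hz => ?_
  have hzW : z ∈ WW V (R i) := hz.1
  have h1 := hK0 _ ⟨p z, (m.mem_rad b.toBT).2 ⟨z, hz, rfl⟩, rfl⟩
  change pr (R i) ⟨g, hg⟩ • p z - p z = 0 at h1
  rwa [sub_eq_zero, m.act hg hzW,
    m.p_eq_iff (conj_mem_of_normalizer (normalizer_le_WW V (R i) hg) hzW) hzW] at h1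

/-- **(c)** a 2-subgroup of `N₀` is trivial -/
theorem KN_two {P : Subgroup (HQ (R i))} (hP : IsPGroup 2 P) (hPN : P ≤ KN V R i) : P = ⊥ := by
  have h1 : S ⊓ KN V R i = ⊥ := (Subgroup.eq_bot_iff_forall _).2 fun x hx =>
    S_inf_KN b hF c τ hodd hEn hAE hE0 hEp I hEg hNE hx.1 hx.2
  have h2 : P ≤ S := I.syl _ (Normal.isSubnormal (KN_normal V R i)) KN_le_H0 P hPN hP (by rw [h1]; exact bot_le)
  rw [eq_bot_iff, ← h1]
  exact le_inf h2 hPN

/-- **(c)** `N₀` has odd order -/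
theorem KN_odd : Odd (Nat.card (KN V R i)) := by
  rw [← Nat.not_even_iff_odd, even_iff_two_dvd]
  intro h2
  obtain ⟨x, hx⟩ := exists_prime_orderOf_dvd_card' 2 h2
  have h1 : zpowers (x : HQ (R i)) = ⊥ := by
    refine KN_two b hF c τ hodd hEn hAE hE0 hEp I hEg hNE ?_ (zpowers_le.2 x.2)
    rw [IsPGroup.iff_card]
    refine ⟨1, ?_⟩
    rw [Nat.card_zpowers, Subgroup.orderOf_coe, hx, pow_one]
  rw [zpowers_eq_bot] at h1
  have h4 : x = 1 := Subtype.ext h1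
  rw [h4, orderOf_one] at hx
  exact absurd hx (by norm_num)

end main

end Cfsg.Agent.Omega.HOneQ.ECen

end
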