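import Mathlib
import Cfsg.Agent.Nodes.NormalForm
import Cfsg.Agent.KFacts.RgdChevCoord
import Cfsg.Agent.KFacts.ChevTwoInst
import Cfsg.Agent.ChevalleyStructure.TorusConj
import Cfsg.Agent.ChevalleyStructure.StringMem
import Cfsg.Agent.S1077
import Cfsg.Agent.Nodes.Reindex
import Cfsg.Agent.Nodes.RGDFold
import Cfsg.Agent.Omega.Lie.CenTwo
import Cfsg.Agent.Co2Type.Quad
import Cfsg.Agent.MTwelveType.SylowModel
import Cfsg.Agent.KFacts.MM.Main
import Cfsg.Agent.KFacts.M24Two.QGroup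
import Cfsg.Prelude.Def_Spor_Mathieu
import Cfsg.Agent.J2Sylow.Model
import Cfsg.Agent.KFacts.Co1.InCo1

section


/-!
# (ZS) rows: conjugation of `SL₂(F)` by elements acting on the root elements by scalars

* `up`, `lo`, `closure_up_lo`;
* `dl a` : conjugation by `diag(a, 1)`, `sw a` : conjugation by the antidiagonal matrix;
* `scal`, `scal_sw` : the conjugation by an element of an overgroup which acts on the root elements by scalars;
* `fix`, `fix_sw` : the fixed points commute;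
* `exists_pair` : `F` of odd order: a noncommutative 2-subgroup `⟨x, y⟩` of `SL₂(F)`.
-/

set_option autoImplicit false

namespace Cfsg.Agent.Omega.Lie.CenSL

variable {F : Type*} [Field F]

/-- `SL₂(F)` -/
abbrev SL2 (F : Type*) [Field F] := Matrix.SpecialLinearGroup (Fin 2) F

/-- upper unitriangular -/
def up (t : F) : SL2 F := ⟨!![1, t; 0, 1], by simp⟩

/-- lower unitriangular -/
def lo (t : F) : SL2 F := ⟨!![1, 0; t, 1], by simp⟩

theorem closure_up_lo : Subgroup.closure (Set.range (up (F := F)) ∪ Set.range (lo (F := F))) = ⊤ := by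
  rw [eq_top_iff]
  rintro g -
  have hu : ∀ t : F, up t ∈ Subgroup.closure (Set.range (up (F := F)) ∪ Set.range (lo (F := F))) :=
    fun t => Subgroup.subset_closure (Or.inl ⟨t, rfl⟩)
  have hl : ∀ t : F, lo t ∈ Subgroup.closure (Set.range (up (F := F)) ∪ Set.range (lo (F := F))) :=
    fun t => Subgroup.subset_closure (Or.inr ⟨t, rfl⟩)
  have key : ∀ g : SL2 F, g.1 1 0 ≠ 0 →
      g ∈ Subgroup.closure (Set.range (up (F := F)) ∪ Set.range (lo (F := F))) := by
    intro g hc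
    have hdet : g.1 0 0 * g.1 1 1 - g.1 0 1 * g.1 1 0 = 1 := by
      rw [← Matrix.det_fin_two]; exact g.2
    have : g = up ((g.1 0 0 - 1) / g.1 1 0) * lo (g.1 1 0) * up ((g.1 1 1 - 1) / g.1 1 0) := by
      apply Subtype.ext
      show g.1 = (up ((g.1 0 0 - 1) / g.1 1 0)).1 * (lo (g.1 1 0)).1 *
        (up ((g.1 1 1 - 1) / g.1 1 0)).1
      ext i j
      fin_cases i <;> fin_cases j
      · simp [up, lo, Matrix.mul_apply, Fin.sum_univ_two, hc]
      · simp [up, lo, Matrix.mul_apply, Fin.sum_univ_two]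
        field_simp
        linear_combination -hdet
      · simp [up, lo, Matrix.mul_apply, Fin.sum_univ_two]
      · simp [up, lo, Matrix.mul_apply, Fin.sum_univ_two]
        field_simp
        ring
    rw [this]
    exact mul_mem (mul_mem (hu _) (hl _)) (hu _)
  by_cases hc : g.1 1 0 = 0
  · have hdet : g.1 0 0 * g.1 1 1 - g.1 0 1 * g.1 1 0 = 1 := by
      rw [← Matrix.det_fin_two]; exact g.2
    have h1 : g * lo 1 ∈ Subgroup.closure (Set.range (up (F := F)) ∪ Set.range (lo (F := F))) := by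
      apply key
      have : (g * lo 1).1 1 0 = g.1 1 0 + g.1 1 1 := by
        change ((g.1 * (lo 1).1 : Matrix (Fin 2) (Fin 2) F)) 1 0 = _
        simp [lo, Matrix.mul_apply, Fin.sum_univ_two]
      rw [this, hc, zero_add]
      intro h
      rw [hc, h] at hdet
      simp at hdet
    have h2 := mul_mem h1 (inv_mem (hl 1))
    rwa [mul_inv_cancel_right] at h2
  · exact key g hc

/-- two homomorphisms which agree on the root elements -/
theorem hom_ext {Y : Type*} [Group Y] {φ ψ : SL2 F →* Y} (hu : ∀ c, φ (up c) = ψ (up c))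
    (hl : ∀ c, φ (lo c) = ψ (lo c)) : φ = ψ := by
  apply MonoidHom.eq_of_eqOn_dense closure_up_lo
  rintro _ (⟨c, rfl⟩ | ⟨c, rfl⟩)
  · exact hu c
  · exact hl c

theorem ext2 {g k : SL2 F} (h00 : g.1 0 0 = k.1 0 0) (h01 : g.1 0 1 = k.1 0 1) (h10 : g.1 1 0 = k.1 1 0)
    (h11 : g.1 1 1 = k.1 1 1) : g = k := by
  apply Subtype.ext
  ext i j
  fin_cases i <;> fin_cases j
  · exact h00
  · exact h01
  · exact h10
  · exact h11

theorem mul_ent (g k : SL2 F) (i j : Fin 2) : (g * k).1 i j = g.1 i 0 * k.1 0 j + g.1 i 1 * k.1 1 j := by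
  show (g.1 * k.1) i j = _
  rw [Matrix.mul_apply, Fin.sum_univ_two]

theorem det_ent (g : SL2 F) : g.1 0 0 * g.1 1 1 - g.1 0 1 * g.1 1 0 = 1 := by
  rw [← Matrix.det_fin_two]; exact g.2

/-- the matrix with given entries -/
def mk (p q r s : F) (h : p * s - q * r = 1) : SL2 F := ⟨!![p, q; r, s], by rw [Matrix.det_fin_two]; exact h⟩

@[simp] theorem mk00 (p q r s : F) (h) : (mk p q r s h).1 0 0 = p := rfl
@[simp] theorem mk01 (p q r s : F) (h) : (mk p q r s h).1 0 1 = q := rfl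
@[simp] theorem mk10 (p q r s : F) (h) : (mk p q r s h).1 1 0 = r := rfl
@[simp] theorem mk11 (p q r s : F) (h) : (mk p q r s h).1 1 1 = s := rfl
@[simp] theorem up00 (c : F) : (up c).1 0 0 = 1 := rfl
@[simp] theorem up01 (c : F) : (up c).1 0 1 = c := rfl
@[simp] theorem up10 (c : F) : (up c).1 1 0 = 0 := rfl
@[simp] theorem up11 (c : F) : (up c).1 1 1 = 1 := rfl
@[simp] theorem lo00 (c : F) : (lo c).1 0 0 = 1 := rfl
@[simp] theorem lo01 (c : F) : (lo c).1 0 1 = 0 := rfl
@[simp] theorem lo10 (c : F) : (lo c).1 1 0 = c := rfl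
@[simp] theorem lo11 (c : F) : (lo c).1 1 1 = 1 := rfl
@[simp] theorem one00 : (1 : SL2 F).1 0 0 = 1 := rfl
@[simp] theorem one01 : (1 : SL2 F).1 0 1 = 0 := rfl
@[simp] theorem one10 : (1 : SL2 F).1 1 0 = 0 := rfl
@[simp] theorem one11 : (1 : SL2 F).1 1 1 = 1 := rfl

/-- conjugation by `diag(a, 1)` -/
def dl (a : F) (ha : a ≠ 0) : SL2 F →* SL2 F where
  toFun g := mk (g.1 0 0) (a * g.1 0 1) (a⁻¹ * g.1 1 0) (g.1 1 1) (by
    have hdet := det_ent g
    field_simp
    linear_combination hdet)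
  map_one' := by
    apply ext2 <;> simp
  map_mul' g k := by
    apply ext2 <;> simp only [mk00, mk01, mk10, mk11, mul_ent]
    · field_simp
    · field_simp
    · field_simp
    · field_simp

/-- conjugation by the antidiagonal matrix -/
def sw (a : F) (ha : a ≠ 0) : SL2 F →* SL2 F where
  toFun g := mk (g.1 1 1) (a⁻¹ * g.1 1 0) (a * g.1 0 1) (g.1 0 0) (by
    have hdet := det_ent g
    field_simp
    linear_combination hdet)
  map_one' := by
    apply ext2 <;> simp
  map_mul' g k := by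
    apply ext2 <;> simp only [mk00, mk01, mk10, mk11, mul_ent]
    · field_simp; ring
    · field_simp; ring
    · field_simp; ring
    · field_simp; ring

theorem dl_apply (a : F) (ha : a ≠ 0) (g : SL2 F) : (dl a ha g).1 0 0 = g.1 0 0 ∧ (dl a ha g).1 0 1 = a * g.1 0 1 ∧
    (dl a ha g).1 1 0 = a⁻¹ * g.1 1 0 ∧ (dl a ha g).1 1 1 = g.1 1 1 := ⟨rfl, rfl, rfl, rfl⟩

theorem sw_apply (a : F) (ha : a ≠ 0) (g : SL2 F) : (sw a ha g).1 0 0 = g.1 1 1 ∧ (sw a ha g).1 0 1 = a⁻¹ * g.1 1 0 ∧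
    (sw a ha g).1 1 0 = a * g.1 0 1 ∧ (sw a ha g).1 1 1 = g.1 0 0 := ⟨rfl, rfl, rfl, rfl⟩

theorem dl_up (a : F) (ha : a ≠ 0) (c : F) : dl a ha (up c) = up (a * c) := by
  obtain ⟨h1, h2, h3, h4⟩ := dl_apply a ha (up c)
  apply ext2
  · rw [h1]; simp
  · rw [h2]; simp
  · rw [h3]; simp
  · rw [h4]; simp

theorem dl_lo (a : F) (ha : a ≠ 0) (c : F) : dl a ha (lo c) = lo (a⁻¹ * c) := by
  obtain ⟨h1, h2, h3, h4⟩ := dl_apply a ha (lo c)
  apply ext2
  · rw [h1]; simp
  · rw [h2]; simp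
  · rw [h3]; simp
  · rw [h4]; simp

theorem sw_up (a : F) (ha : a ≠ 0) (c : F) : sw a ha (up c) = lo (a * c) := by
  obtain ⟨h1, h2, h3, h4⟩ := sw_apply a ha (up c)
  apply ext2
  · rw [h1]; simp
  · rw [h2]; simp
  · rw [h3]; simp
  · rw [h4]; simp

theorem sw_lo (a : F) (ha : a ≠ 0) (c : F) : sw a ha (lo c) = up (a⁻¹ * c) := by
  obtain ⟨h1, h2, h3, h4⟩ := sw_apply a ha (lo c)
  apply ext2
  · rw [h1]; simp
  · rw [h2]; simp
  · rw [h3]; simp
  · rw [h4]; simp

/-- the relation between the root elements -/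
theorem rel_one : up (1 : F) * lo (-1) * up 1 = lo (-1) * up 1 * lo (-1) := by
  apply ext2 <;> simp [mul_ent]

theorem rel_eq {a b : F} (ha : a ≠ 0) (h : up a * lo (-b) * up a = lo (-b) * up a * lo (-b)) : a * b = 1 := by
  have h1 := congrArg (fun g : SL2 F => g.1 0 1) h
  simp [mul_ent] at h1
  have h3 := h1.resolve_right ha
  linear_combination -h3

theorem rel_eq' {a b : F} (ha : a ≠ 0) (h : lo a * up (-b) * lo a = up (-b) * lo a * up (-b)) : a * b = 1 := by
  have h1 := congrArg (fun g : SL2 F => g.1 1 0) h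
  simp [mul_ent] at h1
  have h3 := h1.resolve_right ha
  linear_combination -h3

theorem up_ne {c : F} (hc : c ≠ 0) : up c ≠ 1 := fun h => hc (by
  have := congrArg (fun g : SL2 F => g.1 0 1) h
  simpa using this)

variable {Y : Type*} [Group Y]

/-- conjugation by an element acting on the root elements by scalars -/
theorem scal {φ ψ : SL2 F →* Y} (hφ : Function.Injective φ) (hψ : Function.Injective ψ) {g : Y} {a b : F}
    (hu : ∀ c, g * φ (up c) * g⁻¹ = ψ (up (a * c))) (hl : ∀ c, g * φ (lo c) * g⁻¹ = ψ (lo (b * c))) :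
    ∃ ha : a ≠ 0, b = a⁻¹ ∧ ∀ M, g * φ M * g⁻¹ = ψ (dl a ha M) := by
  have ha : a ≠ 0 := by
    rintro rfl
    have h1 := hu 1
    rw [zero_mul] at h1
    have h2 : up (0 : F) = 1 := by apply ext2 <;> simp
    rw [h2, map_one, mul_inv_eq_one, mul_eq_left] at h1
    exact up_ne one_ne_zero (hφ (by rw [h1, map_one]))
  have hab : a * b = 1 := by
    apply rel_eq ha
    apply hψ
    have h1 := congrArg (fun M => g * φ M * g⁻¹) (rel_one (F := F))
    have e1 : g * φ (up 1 * lo (-1) * up 1) * g⁻¹ =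
        (g * φ (up 1) * g⁻¹) * (g * φ (lo (-1)) * g⁻¹) * (g * φ (up 1) * g⁻¹) := by
      rw [map_mul, map_mul]; group
    have e2 : g * φ (lo (-1) * up 1 * lo (-1)) * g⁻¹ =
        (g * φ (lo (-1)) * g⁻¹) * (g * φ (up 1) * g⁻¹) * (g * φ (lo (-1)) * g⁻¹) := by
      rw [map_mul, map_mul]; group
    simp only [e1, e2, hu, hl] at h1
    simpa only [map_mul, mul_one, mul_neg] using h1
  have hb : b = a⁻¹ := eq_inv_of_mul_eq_one_right hab
  refine ⟨ha, hb, fun M => ?_⟩
  have h1 : (MulAut.conj g).toMonoidHom.comp φ = ψ.comp (dl a ha) := by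
    apply hom_ext
    · intro c
      show g * φ (up c) * g⁻¹ = ψ (dl a ha (up c))
      rw [dl_up, hu]
    · intro c
      show g * φ (lo c) * g⁻¹ = ψ (dl a ha (lo c))
      rw [dl_lo, hl, hb]
  exact DFunLike.congr_fun h1 M

/-- the same for an element exchanging the root groups -/
theorem scal_sw {φ ψ : SL2 F →* Y} (hφ : Function.Injective φ) (hψ : Function.Injective ψ) {g : Y} {a b : F}
    (hu : ∀ c, g * φ (up c) * g⁻¹ = ψ (lo (a * c))) (hl : ∀ c, g * φ (lo c) * g⁻¹ = ψ (up (b * c))) :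
    ∃ ha : a ≠ 0, b = a⁻¹ ∧ ∀ M, g * φ M * g⁻¹ = ψ (sw a ha M) := by
  have ha : a ≠ 0 := by
    rintro rfl
    have h1 := hu 1
    rw [zero_mul] at h1
    have h2 : lo (0 : F) = 1 := by apply ext2 <;> simp
    rw [h2, map_one, mul_inv_eq_one, mul_eq_left] at h1
    exact up_ne one_ne_zero (hφ (by rw [h1, map_one]))
  have hab : a * b = 1 := by
    apply rel_eq' ha
    apply hψ
    have h1 := congrArg (fun M => g * φ M * g⁻¹) (rel_one (F := F))
    have e1 : g * φ (up 1 * lo (-1) * up 1) * g⁻¹ =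
        (g * φ (up 1) * g⁻¹) * (g * φ (lo (-1)) * g⁻¹) * (g * φ (up 1) * g⁻¹) := by
      rw [map_mul, map_mul]; group
    have e2 : g * φ (lo (-1) * up 1 * lo (-1)) * g⁻¹ =
        (g * φ (lo (-1)) * g⁻¹) * (g * φ (up 1) * g⁻¹) * (g * φ (lo (-1)) * g⁻¹) := by
      rw [map_mul, map_mul]; group
    simp only [e1, e2, hu, hl] at h1
    simpa only [map_mul, mul_one, mul_neg] using h1
  have hb : b = a⁻¹ := eq_inv_of_mul_eq_one_right hab
  refine ⟨ha, hb, fun M => ?_⟩
  have h1 : (MulAut.conj g).toMonoidHom.comp φ = ψ.comp (sw a ha) := by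
    apply hom_ext
    · intro c
      show g * φ (up c) * g⁻¹ = ψ (sw a ha (up c))
      rw [sw_up, hu]
    · intro c
      show g * φ (lo c) * g⁻¹ = ψ (sw a ha (lo c))
      rw [sw_lo, hl, hb]
  exact DFunLike.congr_fun h1 M

/-- the fixed points of `dl a`, `a ≠ 1`, commute -/
theorem fix {a : F} {ha : a ≠ 0} {x y : SL2 F} (hx : dl a ha x = x) (hy : dl a ha y = y) (hxy : x * y ≠ y * x) :
    a = 1 := by
  by_contra h1
  have key : ∀ z : SL2 F, dl a ha z = z → z.1 0 1 = 0 ∧ z.1 1 0 = 0 := by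
    intro z hz
    obtain ⟨-, h2, h3, -⟩ := dl_apply a ha z
    rw [hz] at h2 h3
    constructor
    · have h4 : (a - 1) * z.1 0 1 = 0 := by linear_combination -h2
      exact (mul_eq_zero.1 h4).resolve_left (sub_ne_zero.2 h1)
    · have h4 : (a - 1) * z.1 1 0 = 0 := by
        have h5 : a * z.1 1 0 = z.1 1 0 := by
          conv_lhs => rw [h3]
          rw [mul_inv_cancel_left₀ ha]
        linear_combination h5
      exact (mul_eq_zero.1 h4).resolve_left (sub_ne_zero.2 h1)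
  obtain ⟨hx1, hx2⟩ := key x hx
  obtain ⟨hy1, hy2⟩ := key y hy
  apply hxy
  apply ext2 <;> simp only [mul_ent, hx1, hx2, hy1, hy2] <;> ring

/-- the fixed points of `sw a` commute -/
theorem fix_sw {a : F} {ha : a ≠ 0} {x y : SL2 F} (hx : sw a ha x = x) (hy : sw a ha y = y) : x * y = y * x := by
  obtain ⟨h1, h2, h3, -⟩ := sw_apply a ha x
  obtain ⟨k1, k2, k3, -⟩ := sw_apply a ha y
  rw [hx] at h1 h2 h3
  rw [hy] at k1 k2 k3
  apply ext2 <;> simp only [mul_ent, h1, h3, k1, k3] <;> ring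

/-- a noncommutative 2-subgroup of `SL₂(F)` -/
theorem exists_pair [Finite F] (h2 : (2 : F) ≠ 0) :
    ∃ x y : SL2 F, x * y ≠ y * x ∧ IsPGroup 2 (Subgroup.closure {x, y}) := by
  classical
  have := Fintype.ofFinite F
  have hodd : Fintype.card F % 2 = 1 := by
    apply FiniteField.odd_card_of_char_ne_two
    intro h3
    apply h2
    have := CharP.cast_eq_zero F (ringChar F)
    rw [h3] at this
    exact_mod_cast this
  obtain ⟨a, b, hab⟩ : ∃ a b : F, a ^ 2 + b ^ 2 = -1 := by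
    obtain ⟨a, b, hab⟩ := FiniteField.exists_root_sum_quadratic (R := F) (f := Polynomial.X ^ 2)
      (g := Polynomial.X ^ 2 + 1) (Polynomial.degree_X_pow 2) (by
        have := Polynomial.degree_X_pow_add_C (R := F) (n := 2) (by norm_num) 1
        simpa using this) hodd
    refine ⟨a, b, ?_⟩
    simp only [Polynomial.eval_pow, Polynomial.eval_X, Polynomial.eval_add, Polynomial.eval_one] at hab
    linear_combination hab
  let x : SL2 F := mk 0 1 (-1) 0 (by ring)
  let y : SL2 F := mk a b b (-a) (by linear_combination -hab)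
  have hxx : x * x = y * y := by
    apply ext2 <;> simp only [mul_ent, x, y, mk00, mk01, mk10, mk11]
    · linear_combination -hab
    · ring
    · ring
    · linear_combination -hab
  have hx4 : x ^ 4 = 1 := by
    have h3 : x ^ 4 = (x * x) * (x * x) := by rw [← pow_two, ← pow_two, ← pow_mul]
    rw [h3]
    apply ext2 <;> simp only [mul_ent, x, mk00, mk01, mk10, mk11, one00, one01, one10, one11] <;> ring
  have hy4 : y ^ 4 = 1 := by
    have h3 : y ^ 4 = (y * y) * (y * y) := by rw [← pow_two, ← pow_two, ← pow_mul]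
    rw [h3, ← hxx]
    have h4 : x ^ 4 = (x * x) * (x * x) := by rw [← pow_two, ← pow_two, ← pow_mul]
    rw [← h4, hx4]
  have hyx : y * x * y⁻¹ = x⁻¹ := by
    rw [mul_inv_eq_iff_eq_mul, eq_comm, inv_mul_eq_iff_eq_mul]
    apply ext2 <;> simp only [mul_ent, x, y, mk00, mk01, mk10, mk11] <;> ring
  refine ⟨x, y, ?_, ?_⟩
  · intro h3
    have h4 := congrArg (fun g : SL2 F => g.1 0 0) h3
    have h5 := congrArg (fun g : SL2 F => g.1 0 1) h3
    simp only [mul_ent, x, y, mk00, mk01, mk10, mk11] at h4 h5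
    have h6 : (2 : F) * b = 0 := by linear_combination h4
    have h7 : (2 : F) * a = 0 := by linear_combination -h5
    have hb := (mul_eq_zero.1 h6).resolve_left h2
    have ha := (mul_eq_zero.1 h7).resolve_left h2
    rw [ha, hb] at hab
    have h8 : (1 : F) = 0 := by linear_combination hab
    exact one_ne_zero h8
  · have e : Subgroup.closure {x, y} = Subgroup.zpowers x ⊔ Subgroup.zpowers y := by
      rw [Subgroup.zpowers_eq_closure, Subgroup.zpowers_eq_closure, ← Subgroup.closure_union]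
      rfl
    have hp : ∀ z : SL2 F, z ^ 4 = 1 → IsPGroup 2 (Subgroup.zpowers z) := by
      intro z hz
      rw [IsPGroup]
      rintro ⟨g, k, rfl⟩
      refine ⟨2, Subtype.ext ?_⟩
      show (z ^ k) ^ (2 ^ 2) = 1
      rw [← zpow_natCast, ← zpow_mul, mul_comm, zpow_mul]
      have : z ^ (((2 ^ 2 : ℕ)) : ℤ) = 1 := by
        rw [zpow_natCast]; exact hz
      rw [this, one_zpow]
    rw [e]
    refine IsPGroup.to_sup_of_normal_left' (hp x hx4) (hp y hy4) ?_
    rw [Subgroup.zpowers_le, Subgroup.mem_normalizer_iff]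
    have h3 : ∀ k : ℤ, y * x ^ k * y⁻¹ = (x ^ k)⁻¹ := by
      intro k
      rw [← conj_zpow, hyx, inv_zpow]
    intro z
    constructor
    · rintro ⟨k, rfl⟩
      rw [h3]
      exact inv_mem (Subgroup.zpow_mem_zpowers x k)
    · rintro ⟨k, hk⟩
      have h4 : z = y⁻¹ * (x ^ k) * y := by
        simp only at hk
        rw [hk]; group
      have h5 : y⁻¹ * x ^ k * y = (x ^ k)⁻¹ := by
        have h6 := h3 (-k)
        rw [zpow_neg, inv_inv] at h6
        have h7 : y⁻¹ * (y * (x ^ k)⁻¹ * y⁻¹) * y = (x ^ k)⁻¹ := by group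
        rw [h6] at h7
        exact h7
      rw [h4, h5]
      exact inv_mem (Subgroup.zpow_mem_zpowers x k)

end Cfsg.Agent.Omega.Lie.CenSL

end

section


/-!
# (ZS) rows: involutions central in a Sylow 2-subgroup

`noMove` : if a 2-subgroup `E` of `X` centralises at most one involution, then no automorphism of `X` normalising a
Sylow 2-subgroup `S` moves an involution of `Z(S)`.
-/

set_option autoImplicit false

open scoped Pointwise

namespace Cfsg.Agent.Omega.Lie.CenExp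

variable {X : Type*} [Group X]

/-- at most one involution centralises `E` -/
def OneInv (E : Subgroup X) : Prop :=
  ∀ u v : X, u * u = 1 → v * v = 1 → u ≠ 1 → v ≠ 1 → (∀ x ∈ E, x * u = u * x) → (∀ x ∈ E, x * v = v * x) → u = v

theorem noMove [Finite X] {E : Subgroup X} (hE : IsPGroup 2 E) (hO : OneInv E) (S : Sylow 2 X) (t : MulAut X)
    (ht : ∀ x ∈ S, t x ∈ S) (u : X) (huS : u ∈ S) (huc : ∀ x ∈ S, x * u = u * x) (hu2 : u * u = 1) : t u = u := by
  obtain ⟨P, hP⟩ := hE.exists_le_sylow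
  obtain ⟨g, hg⟩ := MulAction.exists_smul_eq X S P
  -- `E` is conjugate into `S`
  have hES : ∀ x ∈ E, g⁻¹ * x * g ∈ S := by
    intro x hx
    have h1 : x ∈ g • S := by rw [hg]; exact hP hx
    have h2 : x ∈ MulAut.conj g • (S : Subgroup X) := h1
    rw [Subgroup.mem_pointwise_smul_iff_inv_smul_mem] at h2
    have h3 : (MulAut.conj g)⁻¹ • x = g⁻¹ * x * g := by
      rw [← map_inv]
      simp [MulAut.smul_def]
    rwa [h3] at h2
  have hts : ∀ x ∈ S, ∃ y ∈ S, t y = x := by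
    have hinj : Function.Injective (fun y : S => (⟨t y, ht y y.2⟩ : S)) := fun a b hab => by
      have := congrArg Subtype.val hab
      exact Subtype.ext (t.injective this)
    intro x hx
    obtain ⟨y, hy⟩ := Finite.surjective_of_injective hinj ⟨x, hx⟩
    exact ⟨y, y.2, congrArg Subtype.val hy⟩
  have htc : ∀ x ∈ S, x * t u = t u * x := by
    intro x hx
    obtain ⟨y, hy, rfl⟩ := hts x hx
    rw [← map_mul, ← map_mul, huc y hy]
  have hcen : ∀ w : X, (∀ x ∈ S, x * w = w * x) → ∀ x ∈ E, x * (g * w * g⁻¹) = g * w * g⁻¹ * x := by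
    intro w hw x hx
    have h1 := hw _ (hES x hx)
    have h2 : x * (g * w * g⁻¹) = g * (g⁻¹ * x * g * w) * g⁻¹ := by group
    rw [h2, h1]; group
  by_cases hu1 : u = 1
  · rw [hu1, map_one]
  have e := hO (g * t u * g⁻¹) (g * u * g⁻¹) ?_ ?_ ?_ ?_ (hcen _ htc) (hcen _ huc)
  · have h1 : t u = g⁻¹ * (g * t u * g⁻¹) * g := by group
    rw [h1, e]; group
  · have h1 : g * t u * g⁻¹ * (g * t u * g⁻¹) = g * (t (u * u)) * g⁻¹ := by rw [map_mul]; group
    rw [h1, hu2, map_one]; group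
  · have h1 : g * u * g⁻¹ * (g * u * g⁻¹) = g * (u * u) * g⁻¹ := by group
    rw [h1, hu2]; group
  · intro h1
    apply hu1
    have h2 : t u = g⁻¹ * (g * t u * g⁻¹) * g := by group
    rw [h1] at h2
    have h3 : t u = 1 := by rw [h2]; group
    exact t.injective (by rw [h3, map_one])
  · intro h1
    apply hu1
    have h2 : u = g⁻¹ * (g * u * g⁻¹) * g := by group
    rw [h2, h1]; group

end Cfsg.Agent.Omega.Lie.CenExp

end

section


/-!
# (ZS) rows: a 2-subgroup centralising only one involution, from a root group datum with long root data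

`Long` : the long root groups are parametrised by a field `F`, `⟨X x, X (-x)⟩` is `SL₂(F)`.
`Comb` : pairwise orthogonal long roots `β j` and an element `w₀` of `W` of 2-power order.
`oneInv` : a 2-subgroup `E` of the group which centralises at most one involution.
-/

set_option autoImplicit false
set_option linter.unusedSectionVars false

namespace Cfsg.Agent.Omega.Lie.CenRGD

open CoxeterSystem Cfsg.Agent.ChevalleyStructure.CoxeterGeom Cfsg.Agent.Tits.Roots Cfsg.Agent.Tits.Core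
  Cfsg.Agent.Nodes.Reps Cfsg.Agent.Nodes.BNOf Cfsg.Agent.Nodes.Bruhat Cfsg.Agent.Nodes.NormalForm
  Cfsg.Agent.Omega.Lie.CenSL Cfsg.Agent.Omega.Lie.CenExp

variable {I W Y F ι : Type*} [Fintype I] [DecidableEq I] [Group W] [Group Y] [Field F] {M : CoxeterMatrix I}

/-- `-1 ∈ SL₂(F)` in the root elements -/
def zz (e : (I → ℤ) → F → Y) (x : I → ℤ) : Y :=
  (e x 1 * e (-x) (-1) * e x 1) * (e x 1 * e (-x) (-1) * e x 1)

/-- long root data -/
structure Long (cs : CoxeterSystem M W) {A : I → I → ℤ} (h : IsCartan M A) (T : Subgroup Y) (n : I → Y)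
    (X : (I → ℤ) → Subgroup Y) (LR : Set (I → ℤ)) (e : (I → ℤ) → F → Y) (φ : (I → ℤ) → SL2 F →* Y)
    (ζ : (I → ℤ) → (I → ℤ) → ZMod 2) : Prop where
  root : ∀ x ∈ LR, IsRoot cs h x
  act : ∀ (w : W), ∀ x ∈ LR, rep cs h w x ∈ LR
  neg : ∀ x ∈ LR, -x ∈ LR
  inj : ∀ x ∈ LR, Function.Injective (φ x)
  up : ∀ x ∈ LR, ∀ c, φ x (up c) = e x c
  lo : ∀ x ∈ LR, ∀ c, φ x (lo c) = e (-x) c
  tor : ∀ x ∈ LR, ∀ t ∈ T, ∃ a, ∀ b, t * e x b * t⁻¹ = e x (a * b)
  nn : ∀ i, ∀ x ∈ LR, ∃ a, ∀ b, n i * e x b * (n i)⁻¹ = e (rep cs h (cs.simple i) x) (a * b)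
  memX : ∀ x ∈ LR, ∀ b, e x b ∈ X x
  zT : ∀ x ∈ LR, zz e x ∈ T
  zact : ∀ x ∈ LR, ∀ y, IsRoot cs h y → ∀ u ∈ X y, zz e x * u * (zz e x)⁻¹ = if ζ x y = 0 then u else u⁻¹
  sgn : ∀ c ∈ T, c * c = 1 → ∃ ε : (I → ℤ) →+ ZMod 2, ∀ y, IsRoot cs h y → ∀ u ∈ X y,
    c * u * c⁻¹ = if ε y = 0 then u else u⁻¹
  cen : ∀ c ∈ T, c * c = 1 → (∀ y, IsRoot cs h y → ∀ u ∈ X y, c * u * c⁻¹ = u) → c = 1
  tcomm : ∀ s ∈ T, ∀ t ∈ T, s * t = t * s

/-- orthogonal long roots and an element of the Weyl group -/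
structure Comb (cs : CoxeterSystem M W) {A : I → I → ℤ} (h : IsCartan M A) (LR : Set (I → ℤ))
    (ζ : (I → ℤ) → (I → ℤ) → ZMod 2) (w₀ : W) (β : ι → (I → ℤ)) : Prop where
  mem : ∀ j, β j ∈ LR
  perm : ∀ j, ∃ k, rep cs h w₀ (β j) = β k ∨ rep cs h w₀ (β j) = -β k
  pow : ∃ s : ℕ, w₀ ^ 2 ^ s = 1
  one : ∃ ε₀ : (I → ℤ) →+ ZMod 2, ∀ ε : (I → ℤ) →+ ZMod 2, (∀ j, ε (β j) = 0) →
    (∀ y, IsRoot cs h y → ε (rep cs h w₀ y) = ε y) →
      (∀ y, IsRoot cs h y → ε y = 0) ∨ ∀ y, IsRoot cs h y → ε y = ε₀ y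
  par : ∀ w : W, (∀ x ∈ LR, ∀ y, IsRoot cs h y → ζ (rep cs h w x) y = ζ x y) →
    w = 1 ∨ ∀ x ∈ LR, rep cs h w x = -x
  odd : ∀ y, IsRoot cs h y → ∃ x ∈ LR, ζ x y ≠ 0

variable {cs : CoxeterSystem M W} {A : I → I → ℤ} {h : IsCartan M A} {p : ℕ} {T : Subgroup Y} {n : I → Y}
  {X : (I → ℤ) → Subgroup Y} {LR : Set (I → ℤ)} {e : (I → ℤ) → F → Y} {φ : (I → ℤ) → SL2 F →* Y}
  {ζ : (I → ℤ) → (I → ℤ) → ZMod 2} {w₀ : W} {β : ι → (I → ℤ)}

theorem zmod_eq : ∀ a b : ZMod 2, (a = 0 ↔ b = 0) → a = b := by decide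

/-- `-1` -/
def neg1 : SL2 F := (up 1 * lo (-1) * up 1) * (up 1 * lo (-1) * up 1)

theorem neg1_ent : (neg1 : SL2 F).1 0 0 = -1 ∧ (neg1 : SL2 F).1 0 1 = 0 ∧ (neg1 : SL2 F).1 1 0 = 0 ∧
    (neg1 : SL2 F).1 1 1 = -1 := by
  unfold neg1
  refine ⟨?_, ?_, ?_, ?_⟩ <;> simp [mul_ent]

theorem dl_neg1 (a : F) (ha : a ≠ 0) : dl a ha neg1 = neg1 := by
  obtain ⟨h1, h2, h3, h4⟩ := dl_apply a ha neg1
  obtain ⟨k1, k2, k3, k4⟩ := neg1_ent (F := F)
  apply ext2
  · exact h1
  · rw [h2, k2, mul_zero]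
  · rw [h3, k3, mul_zero]
  · exact h4

theorem neg1_sq : (neg1 : SL2 F) * neg1 = 1 := by
  obtain ⟨k1, k2, k3, k4⟩ := neg1_ent (F := F)
  apply ext2 <;> simp [mul_ent, k1, k2, k3, k4]

section Conj

variable (R : RGD cs h p T n X) (L : Long cs h T n X LR e φ ζ)

include L in
theorem phi_neg1 {x : I → ℤ} (hx : x ∈ LR) : φ x neg1 = zz e x := by
  unfold neg1 zz
  simp only [map_mul, L.up x hx, L.lo x hx]

include L in
theorem zz_sq {x : I → ℤ} (hx : x ∈ LR) : zz e x * zz e x = 1 := by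
  rw [← phi_neg1 L hx, ← map_mul, neg1_sq, map_one]

include R L

theorem conj_e {w : W} {g : Y} (hg : Rp cs R.nsys w g) {x : I → ℤ} (hx : x ∈ LR) :
    ∃ a, ∀ b, g * e x b * g⁻¹ = e (rep cs h w x) (a * b) := by
  have key : ∀ ω : List I, ∃ k, Rp cs R.nsys (cs.wordProd ω) k ∧
      ∃ a, ∀ b, k * e x b * k⁻¹ = e (rep cs h (cs.wordProd ω) x) (a * b) := by
    intro ω
    induction ω with
    | nil =>
      refine ⟨1, by rw [wordProd_nil]; exact rp_one, 1, fun b => ?_⟩
      rw [wordProd_nil, map_one, Module.End.one_apply, one_mul, one_mul, inv_one, mul_one]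
    | cons i ω ih =>
      obtain ⟨k, hk, a, ha⟩ := ih
      obtain ⟨a', ha'⟩ := L.nn i _ (L.act (cs.wordProd ω) x hx)
      refine ⟨n i * k, ?_, a' * a, fun b => ?_⟩
      · rw [wordProd_cons]; exact (rp_simple cs R.nsys i).mul hk
      · have h1 : n i * k * e x b * (n i * k)⁻¹ = n i * (k * e x b * k⁻¹) * (n i)⁻¹ := by group
        rw [h1, ha, ha', ← rep_mul_apply, wordProd_cons, mul_assoc]
  obtain ⟨ω, rfl⟩ := cs.wordProd_surjective w
  obtain ⟨k, hk, a, ha⟩ := key ω
  obtain ⟨a', ha'⟩ := L.tor x hx _ (hk.unique hg)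
  refine ⟨a * a', fun b => ?_⟩
  have h1 : g * e x b * g⁻¹ = k * ((k⁻¹ * g) * e x b * (k⁻¹ * g)⁻¹) * k⁻¹ := by group
  rw [h1, ha', ha, mul_assoc]

theorem conj_phi {w : W} {g : Y} (hg : Rp cs R.nsys w g) {x : I → ℤ} (hx : x ∈ LR) :
    ∃ (a : F) (ha : a ≠ 0), ∀ N, g * φ x N * g⁻¹ = φ (rep cs h w x) (dl a ha N) := by
  obtain ⟨a, ha⟩ := conj_e R L hg hx
  obtain ⟨b, hb⟩ := conj_e R L hg (L.neg x hx)
  obtain ⟨ha0, -, h1⟩ := scal (L.inj x hx) (L.inj _ (L.act w x hx)) (g := g) (a := a) (b := b)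
    (fun c => by rw [L.up x hx, L.up _ (L.act w x hx), ha])
    (fun c => by rw [L.lo x hx, L.lo _ (L.act w x hx), hb, map_neg])
  exact ⟨a, ha0, h1⟩

theorem conj_zz {w : W} {g : Y} (hg : Rp cs R.nsys w g) {x : I → ℤ} (hx : x ∈ LR) :
    g * zz e x * g⁻¹ = zz e (rep cs h w x) := by
  obtain ⟨a, ha, h1⟩ := conj_phi R L hg hx
  rw [← phi_neg1 L hx, h1, dl_neg1, phi_neg1 L (L.act w x hx)]

omit L in
theorem odd_X [Finite W] [Fact p.Prime] (hp2 : p ≠ 2) {y : I → ℤ} (hy : IsRoot cs h y) {u : Y} (hu : u ∈ X y)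
    (h2 : u * u = 1) : u = 1 := by
  obtain ⟨k, hk⟩ := R.pgrp' hy ⟨u, hu⟩
  have hk' : u ^ p ^ k = 1 := congrArg Subtype.val hk
  have h1 : orderOf u ∣ p ^ k := orderOf_dvd_of_pow_eq_one hk'
  have h3 : orderOf u ∣ 2 := orderOf_dvd_of_pow_eq_one (by rw [pow_two, h2])
  have hp : p.Prime := Fact.out
  have h4 : Nat.Coprime (p ^ k) 2 := Nat.Coprime.pow_left k ((Nat.coprime_primes hp Nat.prime_two).2 hp2)
  have h5 : orderOf u ∣ 1 := by
    have := Nat.dvd_gcd h1 h3
    rwa [h4] at this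
  exact orderOf_eq_one_iff.1 (Nat.dvd_one.1 h5)

omit L in
theorem odd_inv [Finite W] [Fact p.Prime] (hp2 : p ≠ 2) {y : I → ℤ} (hy : IsRoot cs h y) {u : Y} (hu : u ∈ X y)
    (h2 : u = u⁻¹) : u = 1 :=
  odd_X R hp2 hy hu (by rw [eq_inv_iff_mul_eq_one] at h2; exact h2)

omit L in
theorem exists_X [Finite W] {y : I → ℤ} (hy : IsRoot cs h y) : ∃ u ∈ X y, u ≠ 1 := by
  by_contra hcon
  push Not at hcon
  exact X_ne_bot R hy ((Subgroup.eq_bot_iff_forall _).2 hcon)

omit R in
theorem S_sub : zz e '' LR ⊆ (T : Set Y) := by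
  rintro _ ⟨x, hx, rfl⟩
  exact L.zT x hx

theorem cent_X [Finite W] [Fact p.Prime] (hp2 : p ≠ 2) (C : Comb cs h LR ζ w₀ β) {y : I → ℤ} (hy : IsRoot cs h y) :
    X y ⊓ Subgroup.centralizer (zz e '' LR) = ⊥ := by
  rw [Subgroup.eq_bot_iff_forall]
  rintro u ⟨hu, hc⟩
  obtain ⟨x, hx, hxy⟩ := C.odd y hy
  have h1 := L.zact x hx y hy u hu
  rw [if_neg hxy] at h1
  have h2 : zz e x * u = u * zz e x := Subgroup.mem_centralizer_iff.1 hc _ ⟨x, hx, rfl⟩
  rw [h2, mul_inv_cancel_right] at h1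
  exact odd_inv R hp2 hy hu h1

theorem mem_cent [Finite W] [Fact p.Prime] (hp2 : p ≠ 2) (C : Comb cs h LR ζ w₀ β) (hG : GG cs h T X = ⊤) {g : Y}
    (hc : g ∈ Subgroup.centralizer (zz e '' LR)) :
    ∃ w, Rp cs R.nsys w g ∧ (w = 1 ∨ ∀ x ∈ LR, rep cs h w x = -x) := by
  have hb : RGD.Sup (fun x => X x ⊓ Subgroup.centralizer (zz e '' LR)) (RGD.Pos cs h) = ⊥ := by
    rw [eq_bot_iff]
    refine RGD.Sup_le fun x hx => ?_
    show X x ⊓ Subgroup.centralizer (zz e '' LR) ≤ ⊥
    rw [cent_X R L hp2 C hx.1]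
  obtain ⟨u, hu, w, k, hk, hkc, v, hv, rfl⟩ := mem_centralizer R (S_sub L) (g := g) (by rw [hG]; exact Subgroup.mem_top _) hc
  rw [hb, Subgroup.mem_bot] at hu hv
  subst hu hv
  rw [one_mul, mul_one]
  refine ⟨w, hk, C.par w fun x hx y hy => ?_⟩
  have h1 : zz e (rep cs h w x) = zz e x := by
    rw [← conj_zz R L hk hx]
    have := Subgroup.mem_centralizer_iff.1 hkc _ ⟨x, hx, rfl⟩
    rw [← this, mul_inv_cancel_right]
  obtain ⟨a, ha, ha1⟩ := exists_X R hy
  have h2 := L.zact x hx y hy a ha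
  have h3 := L.zact _ (L.act w x hx) y hy a ha
  rw [h1, h2] at h3
  apply zmod_eq
  constructor
  · intro h4
    by_contra h5
    rw [if_pos h4, if_neg h5] at h3
    exact ha1 (odd_inv R hp2 hy ha h3.symm)
  · intro h4
    by_contra h5
    rw [if_pos h4, if_neg h5] at h3
    exact ha1 (odd_inv R hp2 hy ha h3)

end Conj

section Main

variable (R : RGD cs h p T n X) (L : Long cs h T n X LR e φ ζ) (C : Comb cs h LR ζ w₀ β)

include R L in
theorem swap_case {w : W} {g : Y} (hg : Rp cs R.nsys w g) {x : I → ℤ} (hx : x ∈ LR) (hw : rep cs h w x = -x)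
    {x₁ y₁ : SL2 F} (h1 : φ x x₁ * g = g * φ x x₁) (h2 : φ x y₁ * g = g * φ x y₁) : x₁ * y₁ = y₁ * x₁ := by
  obtain ⟨a, ha⟩ := conj_e R L hg hx
  obtain ⟨b, hb⟩ := conj_e R L hg (L.neg x hx)
  obtain ⟨ha0, -, h3⟩ := scal_sw (L.inj x hx) (L.inj x hx) (g := g) (a := a) (b := b)
    (fun c => by rw [L.up x hx, L.lo x hx, ha, hw])
    (fun c => by rw [L.lo x hx, L.up x hx, hb, map_neg, hw, neg_neg])
  have h4 : ∀ z : SL2 F, φ x z * g = g * φ x z → sw a ha0 z = z := by
    intro z hz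
    apply L.inj x hx
    rw [← h3, ← hz, mul_inv_cancel_right]
  exact fix_sw (h4 _ h1) (h4 _ h2)

include R L in
theorem torus_case {g : Y} (hg : g ∈ T) {x : I → ℤ} (hx : x ∈ LR) {x₁ y₁ : SL2 F} (hxy : x₁ * y₁ ≠ y₁ * x₁)
    (h1 : φ x x₁ * g = g * φ x x₁) (h2 : φ x y₁ * g = g * φ x y₁) (b : F) : g * e x b * g⁻¹ = e x b := by
  have hg1 : Rp cs R.nsys 1 g := rp_of_mem hg
  obtain ⟨a, ha, h3⟩ := conj_phi R L hg1 hx
  rw [map_one, Module.End.one_apply] at h3
  have h4 : ∀ z : SL2 F, φ x z * g = g * φ x z → dl a ha z = z := by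
    intro z hz
    apply L.inj x hx
    rw [← h3, ← hz, mul_inv_cancel_right]
  have h5 := fix (h4 _ h1) (h4 _ h2) hxy
  subst h5
  have h6 := h3 (up b)
  rw [dl_up, one_mul, L.up x hx] at h6
  exact h6

include L in
theorem e_one_sq (h2 : (2 : F) ≠ 0) {x : I → ℤ} (hx : x ∈ LR) : e x 1 ≠ (e x 1)⁻¹ := by
  intro h3
  rw [eq_inv_iff_mul_eq_one, ← L.up x hx, ← map_mul] at h3
  have h4 : up (1 : F) * up 1 = 1 := L.inj x hx (by rw [h3, map_one])
  have h5 := congrArg (fun g : SL2 F => g.1 0 1) h4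
  simp [mul_ent] at h5
  apply h2
  rw [← h5]; norm_num

include R L C in
theorem sign_of [Finite W] [Fact p.Prime] (hp2 : p ≠ 2) (h2 : (2 : F) ≠ 0) {u : Y} (huT : u ∈ T) (hu2 : u * u = 1)
    (hQ : ∀ j, ∃ x₁ y₁ : SL2 F, x₁ * y₁ ≠ y₁ * x₁ ∧ φ (β j) x₁ * u = u * φ (β j) x₁ ∧
      φ (β j) y₁ * u = u * φ (β j) y₁)
    {n' : Y} (hn' : Rp cs R.nsys w₀ n') (hun : n' * u = u * n') :
    ∃ ε : (I → ℤ) →+ ZMod 2, (∀ j, ε (β j) = 0) ∧ (∀ y, IsRoot cs h y → ε (rep cs h w₀ y) = ε y) ∧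
      ∀ y, IsRoot cs h y → ∀ a ∈ X y, u * a * u⁻¹ = if ε y = 0 then a else a⁻¹ := by
  obtain ⟨ε, hε⟩ := L.sgn u huT hu2
  refine ⟨ε, fun j => ?_, fun y hy => ?_, hε⟩
  · by_contra hne
    obtain ⟨x₁, y₁, hxy, h3, h4⟩ := hQ j
    have h5 := torus_case R L huT (C.mem j) hxy h3 h4 1
    rw [hε _ (L.root _ (C.mem j)) _ (L.memX _ (C.mem j) 1), if_neg hne] at h5
    exact e_one_sq L h2 (C.mem j) h5.symm
  · obtain ⟨a, ha, ha1⟩ := exists_X R hy
    have hb := R.conj_mem hn' hy ha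
    have hy' : IsRoot cs h (rep cs h w₀ y) := hy.act w₀
    have h3 := hε y hy a ha
    have h4 := hε _ hy' _ hb
    have h5 : u * (n' * a * n'⁻¹) * u⁻¹ = n' * (u * a * u⁻¹) * n'⁻¹ := by
      have h6 : u * (n' * a * n'⁻¹) * u⁻¹ = (u * n') * a * (u * n')⁻¹ := by group
      rw [h6, ← hun]; group
    rw [h5, h3] at h4
    apply zmod_eq
    constructor
    · intro h6
      by_contra h7
      rw [if_neg h7, if_pos h6] at h4
      apply ha1
      apply odd_inv R hp2 hy ha
      have h8 : a⁻¹ = n'⁻¹ * (n' * a⁻¹ * n'⁻¹) * n' := by group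
      rw [h8, h4]; group
    · intro h6
      by_contra h7
      rw [if_pos h6, if_neg h7] at h4
      apply ha1
      apply odd_inv R hp2 hy ha
      have h8 : a = n'⁻¹ * (n' * a * n'⁻¹) * n' := by group
      conv_lhs => rw [h8, h4]
      group

include R L C in
/-- the criterion -/
theorem oneInv_of [Finite W] [Fact p.Prime] [Nonempty ι] (hp2 : p ≠ 2) (h2 : (2 : F) ≠ 0) (hG : GG cs h T X = ⊤)
    {E : Subgroup Y} (hS : ∀ x ∈ LR, zz e x ∈ E) (hn : ∃ n' ∈ E, Rp cs R.nsys w₀ n')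
    (hQ : ∀ j, ∃ x₁ y₁ : SL2 F, x₁ * y₁ ≠ y₁ * x₁ ∧ φ (β j) x₁ ∈ E ∧ φ (β j) y₁ ∈ E) : OneInv E := by
  obtain ⟨n', hn'E, hn'⟩ := hn
  obtain ⟨ε₀, hε₀⟩ := C.one
  have key : ∀ u : Y, u * u = 1 → u ≠ 1 → (∀ x ∈ E, x * u = u * x) →
      u ∈ T ∧ ∀ y, IsRoot cs h y → ∀ a ∈ X y, u * a * u⁻¹ = if ε₀ y = 0 then a else a⁻¹ := by
    intro u hu2 hu1 hc
    have hcS : u ∈ Subgroup.centralizer (zz e '' LR) := by
      rw [Subgroup.mem_centralizer_iff]
      rintro _ ⟨x, hx, rfl⟩
      exact hc _ (hS x hx)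
    obtain ⟨w, hw, hw'⟩ := mem_cent R L hp2 C hG hcS
    rcases hw' with rfl | hw'
    · have huT : u ∈ T := hw.mem_of_one
      refine ⟨huT, ?_⟩
      obtain ⟨ε, h3, h4, h5⟩ := sign_of R L C hp2 h2 huT hu2 (fun j => by
        obtain ⟨x₁, y₁, hxy, hx, hy⟩ := hQ j
        exact ⟨x₁, y₁, hxy, hc _ hx, hc _ hy⟩) hn' (hc _ hn'E)
      rcases hε₀ ε h3 h4 with h6 | h6
      · exfalso
        apply hu1
        refine L.cen u huT hu2 fun y hy a ha => ?_
        rw [h5 y hy a ha, if_pos (h6 y hy)]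
      · intro y hy a ha
        rw [h5 y hy a ha, h6 y hy]
    · exfalso
      obtain ⟨j⟩ := ‹Nonempty ι›
      obtain ⟨x₁, y₁, hxy, hx, hy⟩ := hQ j
      exact hxy (swap_case R L hw (C.mem j) (hw' _ (C.mem j)) (hc _ hx) (hc _ hy))
  intro u v hu2 hv2 hu1 hv1 huc hvc
  obtain ⟨huT, hu⟩ := key u hu2 hu1 huc
  obtain ⟨hvT, hv⟩ := key v hv2 hv1 hvc
  have huv : u * v * (u * v) = 1 := by
    calc u * v * (u * v) = u * (v * u) * v := by group
      _ = u * (u * v) * v := by rw [L.tcomm v hvT u huT]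
      _ = (u * u) * (v * v) := by group
      _ = 1 := by rw [hu2, hv2, one_mul]
  have h3 : u * v = 1 := by
    refine L.cen _ (mul_mem huT hvT) huv fun y hy a ha => ?_
    have h4 : u * v * a * (u * v)⁻¹ = u * (v * a * v⁻¹) * u⁻¹ := by group
    rw [h4, hv y hy a ha]
    by_cases h5 : ε₀ y = 0
    · rw [if_pos h5, hu y hy a ha, if_pos h5]
    · rw [if_neg h5]
      have h6 : u * a⁻¹ * u⁻¹ = (u * a * u⁻¹)⁻¹ := by group
      rw [h6, hu y hy a ha, if_neg h5, inv_inv]
  have h4 : v⁻¹ = v := inv_eq_of_mul_eq_one_left hv2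
  rw [← h4]
  exact eq_inv_of_mul_eq_one_left h3

end Main

end Cfsg.Agent.Omega.Lie.CenRGD

end

section


/-!
# (ZS) rows: existence of the 2-subgroup `E` of `CenRGD.oneInv_of`
-/

set_option autoImplicit false
set_option linter.unusedSectionVars false

namespace Cfsg.Agent.Omega.Lie.CenRGD

open CoxeterSystem Cfsg.Agent.ChevalleyStructure.CoxeterGeom Cfsg.Agent.Tits.Roots Cfsg.Agent.Tits.Core
  Cfsg.Agent.Nodes.Reps Cfsg.Agent.Nodes.BNOf Cfsg.Agent.Nodes.Bruhat Cfsg.Agent.Nodes.NormalForm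
  Cfsg.Agent.Omega.Lie.CenSL Cfsg.Agent.Omega.Lie.CenExp
open scoped Pointwise

section General

variable {G : Type*} [Group G]

theorem mem_sup_of_norm {L R : Subgroup G} (hR : R ≤ Subgroup.normalizer (L : Set G)) {g : G} (hg : g ∈ L ⊔ R) :
    ∃ r ∈ R, ∃ l ∈ L, g = r * l := by
  have hc : ∀ r ∈ R, ∀ l ∈ L, r⁻¹ * l * r ∈ L := by
    intro r hr l hl
    have := (Subgroup.mem_normalizer_iff.1 (hR (inv_mem hr)) l).1 hl
    rwa [inv_inv] at this
  let K : Subgroup G :=
    { carrier := {g | ∃ r ∈ R, ∃ l ∈ L, g = r * l}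
      mul_mem' := by
        rintro _ _ ⟨r, hr, l, hl, rfl⟩ ⟨s, hs, k, hk, rfl⟩
        refine ⟨r * s, mul_mem hr hs, (s⁻¹ * l * s) * k, mul_mem (hc s hs l hl) hk, ?_⟩
        group
      one_mem' := ⟨1, one_mem _, 1, one_mem _, by rw [mul_one]⟩
      inv_mem' := by
        rintro _ ⟨r, hr, l, hl, rfl⟩
        refine ⟨r⁻¹, inv_mem hr, r * l⁻¹ * r⁻¹, ?_, by group⟩
        have := hc r⁻¹ (inv_mem hr) l⁻¹ (inv_mem hl)
        rwa [inv_inv] at this }
  have h1 : L ⊔ R ≤ K := by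
    refine sup_le (fun l hl => ⟨1, one_mem _, l, hl, (one_mul l).symm⟩) (fun r hr => ⟨r, hr, 1, one_mem _, (mul_one r).symm⟩)
  exact h1 hg

/-- a Sylow 2-subgroup of `L R` containing `R` contains an `L`-conjugate of every 2-subgroup of `L` -/
theorem exists_sylow [Finite G] {L R : Subgroup G} (hR : R ≤ Subgroup.normalizer (L : Set G)) (hR2 : IsPGroup 2 R) :
    ∃ E : Subgroup G, IsPGroup 2 E ∧ R ≤ E ∧ ∀ D : Subgroup G, D ≤ L → IsPGroup 2 D → ∃ l ∈ L, ∀ d ∈ D, l * d * l⁻¹ ∈ E := by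
  have hRM : R ≤ L ⊔ R := le_sup_right
  have hRs : IsPGroup 2 (R.subgroupOf (L ⊔ R)) := hR2.comap_of_injective _ (Subgroup.subtype_injective _)
  obtain ⟨P, hP⟩ := hRs.exists_le_sylow
  have hRE : R ≤ (P : Subgroup ↥(L ⊔ R)).map (L ⊔ R).subtype := by
    intro r hr
    exact ⟨⟨r, hRM hr⟩, hP (Subgroup.mem_subgroupOf.2 hr), rfl⟩
  refine ⟨(P : Subgroup ↥(L ⊔ R)).map (L ⊔ R).subtype, P.isPGroup'.map _, hRE, ?_⟩
  intro D hD hD2
  have hDs : IsPGroup 2 (D.subgroupOf (L ⊔ R)) := hD2.comap_of_injective _ (Subgroup.subtype_injective _)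
  obtain ⟨Q, hQ⟩ := hDs.exists_le_sylow
  obtain ⟨m, hm⟩ := MulAction.exists_smul_eq ↥(L ⊔ R) Q P
  obtain ⟨r, hr, l, hl, hrl⟩ := mem_sup_of_norm hR m.2
  refine ⟨l, hl, fun d hd => ?_⟩
  have hdM : d ∈ L ⊔ R := (le_sup_left : L ≤ L ⊔ R) (hD hd)
  have h1 : (⟨d, hdM⟩ : ↥(L ⊔ R)) ∈ Q := hQ (Subgroup.mem_subgroupOf.2 hd)
  have h2 : m * ⟨d, hdM⟩ * m⁻¹ ∈ P := by
    rw [← hm]
    show _ ∈ MulAut.conj m • (Q : Subgroup ↥(L ⊔ R))
    exact Subgroup.smul_mem_pointwise_smul _ _ _ h1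
  have h3 : r⁻¹ * ((m : G) * d * (m : G)⁻¹) * r ∈ (P : Subgroup ↥(L ⊔ R)).map (L ⊔ R).subtype :=
    mul_mem (mul_mem (inv_mem (hRE hr)) ⟨_, h2, rfl⟩) (hRE hr)
  have h4 : r⁻¹ * ((m : G) * d * (m : G)⁻¹) * r = l * d * l⁻¹ := by
    rw [hrl]; group
  rwa [h4] at h3

theorem mem_normalizer_of_cj_le [Finite G] {g : G} {L : Subgroup G} (h : cj g L ≤ L) :
    g ∈ Subgroup.normalizer (L : Set G) := by
  rw [mem_normalizer_iff_cj]
  refine Subgroup.eq_of_le_of_card_ge h ?_
  apply le_of_eq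
  exact Nat.card_congr ((L.equivMapOfInjective _ (MulAut.conj g).injective).toEquiv)

end General

variable {I W Y F ι : Type*} [Fintype I] [DecidableEq I] [Group W] [Group Y] [Field F] {M : CoxeterMatrix I}
  {cs : CoxeterSystem M W} {A : I → I → ℤ} {h : IsCartan M A} {p : ℕ} {T : Subgroup Y} {n : I → Y}
  {X : (I → ℤ) → Subgroup Y} {LR : Set (I → ℤ)} {e : (I → ℤ) → F → Y} {φ : (I → ℤ) → SL2 F →* Y}
  {ζ : (I → ℤ) → (I → ℤ) → ZMod 2} {w₀ : W} {β : ι → (I → ℤ)}

theorem rp_pow {hN : NSys M T n} {w : W} {g : Y} (hg : Rp cs hN w g) (k : ℕ) : Rp cs hN (w ^ k) (g ^ k) := by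
  induction k with
  | zero => rw [pow_zero, pow_zero]; exact rp_one
  | succ k ih => rw [pow_succ, pow_succ]; exact ih.mul hg

section

variable (R : RGD cs h p T n X) (L : Long cs h T n X LR e φ ζ) (C : Comb cs h LR ζ w₀ β)

include L in
theorem range_neg {x : I → ℤ} (hx : x ∈ LR) : (φ (-x)).range ≤ (φ x).range := by
  rw [MonoidHom.range_eq_map, ← closure_up_lo (F := F), MonoidHom.map_closure, Subgroup.closure_le]
  rintro _ ⟨_, ⟨c, rfl⟩ | ⟨c, rfl⟩, rfl⟩
  · exact ⟨lo c, by rw [L.lo x hx, L.up _ (L.neg x hx)]⟩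
  · exact ⟨up c, by rw [L.up x hx, L.lo _ (L.neg x hx), neg_neg]⟩

include C in
theorem perm_pow (k : ℕ) (j : ι) : ∃ l, rep cs h (w₀ ^ k) (β j) = β l ∨ rep cs h (w₀ ^ k) (β j) = -β l := by
  induction k with
  | zero => exact ⟨j, Or.inl (by rw [pow_zero, map_one, Module.End.one_apply])⟩
  | succ k ih =>
    obtain ⟨l, hl⟩ := ih
    obtain ⟨m, hm⟩ := C.perm l
    refine ⟨m, ?_⟩
    rw [pow_succ', rep_mul_apply]
    rcases hl with hl | hl <;> rcases hm with hm | hm
    · left; rw [hl, hm]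
    · right; rw [hl, hm]
    · right; rw [hl, map_neg, hm]
    · left; rw [hl, map_neg, hm, neg_neg]

include R L in
theorem cj_range {w : W} {g : Y} (hg : Rp cs R.nsys w g) {x : I → ℤ} (hx : x ∈ LR) :
    cj g (φ x).range ≤ (φ (rep cs h w x)).range := by
  obtain ⟨a, ha, h1⟩ := conj_phi R L hg hx
  intro y hy
  rw [mem_cj] at hy
  obtain ⟨N, hN⟩ := hy
  refine ⟨dl a ha N, ?_⟩
  rw [← h1, hN]; group

include R L C in
theorem norm_of_perm [Finite Y] {w : W} {g : Y} (hg : Rp cs R.nsys w g)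
    (hw : ∀ j, ∃ l, rep cs h w (β j) = β l ∨ rep cs h w (β j) = -β l) :
    g ∈ Subgroup.normalizer ((⨆ j, (φ (β j)).range : Subgroup Y) : Set Y) := by
  apply mem_normalizer_of_cj_le
  rw [cj_iSup]
  refine iSup_le fun j => ?_
  refine (cj_range R L hg (C.mem j)).trans ?_
  obtain ⟨l, hl | hl⟩ := hw j
  · rw [hl]; exact le_iSup (fun j => (φ (β j)).range) l
  · rw [hl]; exact (range_neg L (C.mem l)).trans (le_iSup (fun j => (φ (β j)).range) l)

/-- **A 2-subgroup of the group which centralises at most one involution.** -/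
theorem exists_E [Finite W] [Finite Y] [Finite F] [Fact p.Prime] [Nonempty ι] (R : RGD cs h p T n X)
    (L : Long cs h T n X LR e φ ζ) (C : Comb cs h LR ζ w₀ β) (hp2 : p ≠ 2) (h2 : (2 : F) ≠ 0) (hG : GG cs h T X = ⊤)
    (hcomm : ∀ j k, j ≠ k → ∀ N N', φ (β j) N * φ (β k) N' = φ (β k) N' * φ (β j) N) :
    ∃ E : Subgroup Y, IsPGroup 2 E ∧ OneInv E := by
  -- the 2-element over a power of `w₀`
  obtain ⟨k₀, hk₀⟩ := exists_rp cs R.nsys w₀
  obtain ⟨s, hs⟩ := C.pow
  obtain ⟨a, m, hm2, hm⟩ := Nat.exists_eq_two_pow_mul_odd (orderOf_pos k₀).ne'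
  set n₀ : Y := k₀ ^ m with hn₀
  have hn₀R : Rp cs R.nsys (w₀ ^ m) n₀ := rp_pow hk₀ m
  have hn₀2 : n₀ ^ 2 ^ a = 1 := by
    rw [hn₀, ← pow_mul, mul_comm, ← hm, pow_orderOf_eq_one]
  obtain ⟨m', hm'⟩ : ∃ m', (w₀ ^ m) ^ m' = w₀ := by
    have hco : Nat.Coprime m (orderOf w₀) := by
      have h3 : orderOf w₀ ∣ 2 ^ s := orderOf_dvd_of_pow_eq_one hs
      exact Nat.Coprime.coprime_dvd_right h3 (Nat.Coprime.pow_right s hm2.coprime_two_right)
    exact exists_pow_eq_self_of_coprime hco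
  have hn' : Rp cs R.nsys w₀ (n₀ ^ m') := by
    have := rp_pow hn₀R m'
    rwa [hm'] at this
  -- the group generated by the central involutions
  set S : Set Y := zz e '' LR with hS
  have hSinv : ∀ {w : W} {g : Y}, Rp cs R.nsys w g → ∀ z ∈ Subgroup.closure S, g * z * g⁻¹ ∈ Subgroup.closure S := by
    intro w g hg z hz
    have h3 : Subgroup.closure S ≤ (Subgroup.closure S).comap (MulAut.conj g).toMonoidHom := by
      rw [Subgroup.closure_le]
      rintro _ ⟨x, hx, rfl⟩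
      show g * zz e x * g⁻¹ ∈ Subgroup.closure S
      rw [conj_zz R L hg hx]
      exact Subgroup.subset_closure ⟨_, L.act w x hx, rfl⟩
    exact h3 hz
  have hZT : Subgroup.closure S ≤ T := by
    rw [Subgroup.closure_le]
    exact S_sub L
  have hZ2 : ∀ z ∈ Subgroup.closure S, z * z = 1 := by
    intro z hz
    induction hz using Subgroup.closure_induction with
    | mem z hz =>
      obtain ⟨x, hx, rfl⟩ := hz
      exact zz_sq L hx
    | one => exact one_mul 1
    | mul a b ha hb iha ihb =>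
      have h3 := L.tcomm a (hZT ha) b (hZT hb)
      have h4 : a * b * (a * b) = (a * a) * (b * b) := by
        calc a * b * (a * b) = a * (b * a) * b := by group
          _ = a * (a * b) * b := by rw [h3]
          _ = _ := by group
      rw [h4, iha, ihb, one_mul]
    | inv a ha iha =>
      have h4 : a⁻¹ * a⁻¹ = (a * a)⁻¹ := by group
      rw [h4, iha, inv_one]
  have hZp : IsPGroup 2 (Subgroup.closure S) := by
    rintro ⟨z, hz⟩
    refine ⟨1, Subtype.ext ?_⟩
    show z ^ 2 ^ 1 = 1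
    rw [pow_one, pow_two, hZ2 z hz]
  have hnp : IsPGroup 2 (Subgroup.zpowers n₀) := by
    rintro ⟨z, k, rfl⟩
    refine ⟨a, Subtype.ext ?_⟩
    show (n₀ ^ k) ^ 2 ^ a = 1
    rw [← zpow_natCast, ← zpow_mul, mul_comm, zpow_mul]
    have : n₀ ^ ((2 ^ a : ℕ) : ℤ) = 1 := by rw [zpow_natCast, hn₀2]
    rw [this, one_zpow]
  have hR2 : IsPGroup 2 (Subgroup.closure S ⊔ Subgroup.zpowers n₀ : Subgroup Y) := by
    refine IsPGroup.to_sup_of_normal_left' hZp hnp ?_
    rw [Subgroup.zpowers_le]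
    exact mem_normalizer_of_cj_le (fun y hy => by
      rw [mem_cj] at hy
      have h3 := hSinv hn₀R _ hy
      have h4 : n₀ * (n₀⁻¹ * y * n₀) * n₀⁻¹ = y := by group
      rwa [h4] at h3)
  set K : Subgroup Y := ⨆ j, (φ (β j)).range with hK
  have hRK : (Subgroup.closure S ⊔ Subgroup.zpowers n₀ : Subgroup Y) ≤ Subgroup.normalizer (K : Set Y) := by
    refine sup_le ?_ ?_
    · rw [Subgroup.closure_le]
      rintro _ ⟨x, hx, rfl⟩
      refine norm_of_perm R L C (rp_of_mem (L.zT x hx)) fun j => ⟨j, Or.inl ?_⟩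
      rw [map_one, Module.End.one_apply]
    · rw [Subgroup.zpowers_le]
      exact norm_of_perm R L C hn₀R (perm_pow C m)
  obtain ⟨E, hE2, hRE, hE⟩ := exists_sylow hRK hR2
  refine ⟨E, hE2, oneInv_of R L C hp2 h2 hG (fun x hx => hRE (Subgroup.mem_sup_left
    (Subgroup.subset_closure ⟨x, hx, rfl⟩))) ⟨n₀ ^ m', hRE (Subgroup.mem_sup_right
    (Subgroup.npow_mem_zpowers n₀ m')), hn'⟩ fun j => ?_⟩
  obtain ⟨x, y, hxy, hp'⟩ := exists_pair h2
  have hDK : (Subgroup.closure {x, y}).map (φ (β j)) ≤ K := by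
    rintro _ ⟨z, -, rfl⟩
    exact (le_iSup (fun j => (φ (β j)).range) j) ⟨z, rfl⟩
  obtain ⟨l, hl, hlD⟩ := hE _ hDK (hp'.map _)
  have hnorm : K ≤ Subgroup.normalizer ((φ (β j)).range : Set Y) := by
    rw [hK]
    refine iSup_le fun k => ?_
    by_cases hjk : j = k
    · subst hjk; exact Subgroup.le_normalizer
    · rintro _ ⟨N', rfl⟩
      rw [Subgroup.mem_normalizer_iff]
      intro z
      constructor
      · rintro ⟨N, rfl⟩
        rw [← hcomm j k hjk, mul_inv_cancel_right]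
        exact ⟨N, rfl⟩
      · rintro ⟨N, hN⟩
        have h3 : z = (φ (β k) N')⁻¹ * φ (β j) N * φ (β k) N' := by rw [hN]; group
        rw [h3, mul_assoc, hcomm j k hjk, inv_mul_cancel_left]
        exact ⟨N, rfl⟩
  have key : ∀ z ∈ Subgroup.closure {x, y}, ∃ z' : SL2 F, l * φ (β j) z * l⁻¹ = φ (β j) z' ∧ φ (β j) z' ∈ E := by
    intro z hz
    obtain ⟨z', hz'⟩ := (Subgroup.mem_normalizer_iff.1 (hnorm hl) (φ (β j) z)).1 ⟨z, rfl⟩
    exact ⟨z', hz'.symm, by rw [hz']; exact hlD _ ⟨z, hz, rfl⟩⟩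
  obtain ⟨x', hx', hxE⟩ := key x (Subgroup.subset_closure (Set.mem_insert _ _))
  obtain ⟨y', hy', hyE⟩ := key y (Subgroup.subset_closure (Set.mem_insert_of_mem _ rfl))
  refine ⟨x', y', fun h3 => hxy ?_, hxE, hyE⟩
  apply L.inj _ (C.mem j)
  have h4 : φ (β j) x' * φ (β j) y' = φ (β j) y' * φ (β j) x' := by rw [← map_mul, h3, map_mul]
  rw [← hx', ← hy'] at h4
  rw [map_mul, map_mul]
  have h5 : φ (β j) x * φ (β j) y = l⁻¹ * (l * φ (β j) x * l⁻¹ * (l * φ (β j) y * l⁻¹)) * l := by group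
  rw [h5, h4]; group

end

end Cfsg.Agent.Omega.Lie.CenRGD

end

section


/-!
# (ZS) rows: long root data (`CenRGD.Long`) of the Chevalley groups `D.group K` of odd characteristic
-/

set_option autoImplicit false
set_option linter.unusedSectionVars false

namespace Cfsg.Agent.Omega.Lie.CenChev

open CoxeterSystem Cfsg.Agent.ChevalleyStructure.CoxeterGeom Cfsg.Agent.Tits.Roots Cfsg.Agent.Tits.Core
  Cfsg.Agent.Nodes Cfsg.Agent.Nodes.Reps Cfsg.Agent.Nodes.BNOf Cfsg.Agent.Nodes.Coroot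
  Cfsg.Agent.Nodes.RGDChev Cfsg.Agent.KFacts.RgdChevCoord
  Cfsg.Agent.Omega.Lie.CenSL Cfsg.Agent.Omega.Lie.CenRGD
open Cfsg.Lie Cfsg.Agent.ChevalleyStructure Cfsg.Agent.ChevalleyStructure.Elts
  Cfsg.Agent.ChevalleyStructure.NPerm Cfsg.Agent.ChevalleyStructure.CoxeterGeomTypes
  Cfsg.Agent.ChevalleyStructure.SL2Rep
open scoped commutatorElement

universe u

theorem prod_zpow_sum {G ι : Type*} [CommGroup G] (g : G) (f : ι → ℤ) (s : Finset ι) :
    ∏ j ∈ s, g ^ f j = g ^ ∑ j ∈ s, f j := by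
  classical
  induction s using Finset.induction_on with
  | empty => simp
  | insert a s ha ih => rw [Finset.prod_insert ha, Finset.sum_insert ha, zpow_add, ih]

section

variable {D : ChevalleyDatum} {l : ℕ} {M : CoxeterMatrix (Fin l)} (hp : IsType D l M) {K : Type u} [Field K]

/-! ### the homomorphisms from `SL₂` -/

theorem goodR (hp : IsType D l M) {r : ℕ} (hr : r < D.nroots) : Good D r := SL2All.good_of_mem D hp.inList r hr

theorem phi_mem (hp : IsType D l M) {r : ℕ} (hr : r < D.nroots) (N : SL2 K) :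
    SL2Hom.phi (goodR hp hr) K N ∈ D.group K := by
  have h1 : (SL2Hom.phi (goodR hp hr) K).range ≤ D.group K := by
    rw [SL2Hom.range_phi (goodR hp hr)]
    refine sup_le ?_ ?_
    · intro g hg
      obtain ⟨t, rfl⟩ := (mem_rootSubgroup_iff hp.inList r g).1 hg
      exact xG_mem_group hp.inList r t
    · intro g hg
      obtain ⟨t, rfl⟩ := (mem_rootSubgroup_iff hp.inList _ g).1 hg
      exact xG_mem_group hp.inList _ t
  exact h1 ⟨N, rfl⟩

/-- `SL₂(K) → D.group K` for the root with number `r` -/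
noncomputable def phiR (hp : IsType D l M) (K : Type u) [Field K] (r : ℕ) (hr : r < D.nroots) :
    SL2 K →* ↥(D.group K) :=
  (SL2Hom.phi (goodR hp hr) K).codRestrict (D.group K) (phi_mem hp hr)

theorem coe_phiR {r : ℕ} (hr : r < D.nroots) (N : SL2 K) :
    (((phiR hp K r hr N : ↥(D.group K)) : GL D.Idx K) : Matrix D.Idx D.Idx K) =
      Phi D r (N.1 0 0) (N.1 0 1) (N.1 1 0) (N.1 1 1) := rfl

open Classical in
/-- `SL₂(K) → D.group K` for the vector `x` -/
noncomputable def phiV (hp : IsType D l M) (K : Type u) [Field K] (x : Fin l → ℤ) : SL2 K →* ↥(D.group K) :=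
  if h : idx D l x < D.nroots then phiR hp K (idx D l x) h else 1

theorem phiV_vec {r : ℕ} (hr : r < D.nroots) : phiV hp K (vec D l r) = phiR hp K r hr := by
  have e := idx_vec hp hr
  unfold phiV
  have h : idx D l (vec D l r) < D.nroots := by rw [e]; exact hr
  rw [dif_pos h]
  congr 1

theorem phiV_up {r : ℕ} (hr : r < D.nroots) (c : K) : phiV hp K (vec D l r) (up c) = xc hp (vec D l r) c := by
  rw [phiV_vec hp hr]
  apply Subtype.ext
  rw [coe_xc hp hr]
  apply Units.ext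
  rw [coe_xG]
  exact SL2Hom.phi_upper (goodR hp hr) (up c) c rfl

theorem phiV_lo {r : ℕ} (hr : r < D.nroots) (c : K) : phiV hp K (vec D l r) (lo c) = xc hp (-vec D l r) c := by
  have hn := neg_lt hp.inList hr
  rw [phiV_vec hp hr, ← vec_neg hp hr]
  apply Subtype.ext
  rw [coe_xc hp hn]
  apply Units.ext
  rw [coe_xG]
  exact SL2Hom.phi_lower (goodR hp hr) (lo c) c rfl

/-! ### the central involution of `SL₂` -/

theorem additive_car (hp : IsType D l M) (r : ℕ) : TorusConj.IsAdditive D (fun s => Strings.cartanR D r s) := by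
  refine ⟨fun j => ∑ i ∈ Finset.range D.rank, Strings.co D r i * D.cartan i (D.simple j), fun s hs => ?_⟩
  show ∑ i ∈ Finset.range D.rank, _ * D.cartan i s = _
  simp only [Finset.sum_mul]
  rw [Finset.sum_comm]
  refine Finset.sum_congr rfl fun i hi => ?_
  rw [RootVec.cartan_eq_sum hp.checked (Finset.mem_range.1 hi) hs, Finset.mul_sum]
  refine Finset.sum_congr rfl fun j _ => ?_
  ring

theorem coe_neg1 {r : ℕ} (hr : r < D.nroots) :
    (((phiV hp K (vec D l r) neg1 : ↥(D.group K)) : GL D.Idx K) : Matrix D.Idx D.Idx K) =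
      TorusConj.torus D K (fun s => Strings.cartanR D r s) (-1) := by
  obtain ⟨h1, h2, h3, h4⟩ := neg1_ent (F := K)
  have h0 : (-1 : K) ≠ 0 := neg_ne_zero.2 one_ne_zero
  rw [phiV_vec hp hr, coe_phiR, h1, h2, h3, h4, TorusConj.torus_def,
    ← StringMem.hMat_eq hp.inList hr h0, HMatDiagAll.hMat_eq_Phi (goodR hp hr) h0, inv_neg, inv_one]

theorem neg1_mem {r : ℕ} (hr : r < D.nroots) : phiV hp K (vec D l r) neg1 ∈ TT D K := by
  have h0 : (-1 : K) ≠ 0 := neg_ne_zero.2 one_ne_zero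
  rw [Subgroup.mem_subgroupOf]
  have h1 : ((phiV hp K (vec D l r) neg1 : ↥(D.group K)) : GL D.Idx K) = hG hp.inList r (-1) := by
    apply Units.ext
    rw [coe_neg1 hp hr, coe_hG, StringMem.hMat_eq hp.inList hr h0]
    rfl
  rw [h1]
  exact hG_mem_diagonal hp.inList hr h0

theorem neg1_conj {r s : ℕ} (hr : r < D.nroots) (hs : s < D.nroots) (b : K) :
    phiV hp K (vec D l r) neg1 * xc hp (vec D l s) b * (phiV hp K (vec D l r) neg1)⁻¹ =
      xc hp (vec D l s) ((-1) ^ Strings.cartanR D r s * b) := by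
  have h0 : (-1 : K) ≠ 0 := neg_ne_zero.2 one_ne_zero
  rw [mul_inv_eq_iff_eq_mul]
  apply Subtype.ext
  rw [Subgroup.coe_mul, Subgroup.coe_mul, coe_xc hp hs, coe_xc hp hs]
  apply Units.ext
  rw [Units.val_mul, Units.val_mul, coe_xG, coe_xG, coe_neg1 hp hr]
  exact TorusConj.torus_mul_x hp.checked (additive_car hp r) h0 s b hs

theorem mem_XX {r : ℕ} (hr : r < D.nroots) (y : ↥(D.group K)) :
    y ∈ XX D l K (vec D l r) ↔ ∃ a, y = xc hp (vec D l r) a := by
  rw [Subgroup.mem_subgroupOf, XV_vec hp K hr, mem_rootSubgroup_iff hp.inList]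
  constructor
  · rintro ⟨a, ha⟩
    exact ⟨a, Subtype.ext (by rw [coe_xc hp hr, ha])⟩
  · rintro ⟨a, rfl⟩
    exact ⟨a, coe_xc hp hr a⟩

theorem xc_neg {r : ℕ} (hr : r < D.nroots) (a : K) : (xc hp (vec D l r) a)⁻¹ = xc hp (vec D l r) (-a) := by
  apply Subtype.ext
  rw [Subgroup.coe_inv, coe_xc hp hr, coe_xc hp hr, xG_inv]

theorem neg1_conj' {r s : ℕ} (hr : r < D.nroots) (hs : s < D.nroots) {y : ↥(D.group K)} (hy : y ∈ XX D l K (vec D l s)) :
    phiV hp K (vec D l r) neg1 * y * (phiV hp K (vec D l r) neg1)⁻¹ =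
      if ((RootCombGood.car D r s : ℤ) : ZMod 2) = 0 then y else y⁻¹ := by
  obtain ⟨b, rfl⟩ := (mem_XX hp hs y).1 hy
  rw [neg1_conj hp hr hs]
  have e : Strings.cartanR D r s = RootCombGood.car D r s := rfl
  rw [e]
  by_cases h : ((RootCombGood.car D r s : ℤ) : ZMod 2) = 0
  · rw [if_pos h]
    rw [ZMod.intCast_zmod_eq_zero_iff_dvd] at h
    have h2 : Even (RootCombGood.car D r s) := by
      rw [even_iff_two_dvd]; exact_mod_cast h
    rw [h2.neg_one_zpow, one_mul]
  · rw [if_neg h]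
    have h2 : Odd (RootCombGood.car D r s) := by
      rw [← Int.not_even_iff_odd, even_iff_two_dvd]
      intro h3
      apply h
      rw [ZMod.intCast_zmod_eq_zero_iff_dvd]
      exact_mod_cast h3
    rw [h2.neg_one_zpow, neg_one_mul, xc_neg hp hs]

/-! ### injectivity -/

theorem phiV_inj {r : ℕ} (hr : r < D.nroots) (hodd : ∃ s < D.nroots, ((RootCombGood.car D r s : ℤ) : ZMod 2) ≠ 0)
    (h2 : (2 : K) ≠ 0) : Function.Injective (phiV hp K (vec D l r)) := by
  rw [injective_iff_map_eq_one]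
  intro N hN
  have hG := goodR hp hr
  have hM : Phi D r (N.1 0 0) (N.1 0 1) (N.1 1 0) (N.1 1 1) = (1 : Matrix D.Idx D.Idx K) := by
    rw [← coe_phiR hp hr, ← phiV_vec hp hr, hN]
    rfl
  have hnr := hG.neg_lt
  have hne := hG.neg_ne
  have hdet := det_ent N
  have key : ∀ s : ℕ, ∀ hs : s < D.nroots, ∀ v : ℕ, ∀ hv : v < D.nroots,
      colE D r (N.1 0 0) (N.1 0 1) (N.1 1 0) (N.1 1 1) s (Sum.inr ⟨v, hv⟩) = if v = s then 1 else 0 := by
    intro s hs v hv
    have h1 := congrFun (congrFun hM (Sum.inr ⟨v, hv⟩)) (Sum.inr ⟨s, hs⟩)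
    have h3 : Phi D r (N.1 0 0) (N.1 0 1) (N.1 1 0) (N.1 1 1) (Sum.inr ⟨v, hv⟩) (Sum.inr ⟨s, hs⟩) =
      colE D r (N.1 0 0) (N.1 0 1) (N.1 1 0) (N.1 1 1) s (Sum.inr ⟨v, hv⟩) := rfl
    rw [← h3, h1, Matrix.one_apply]
    simp only [Sum.inr.injEq, Fin.mk.injEq]
  have k1 := key r hr r hr
  have k2 := key r hr (D.neg r) hnr
  have k3 := key (D.neg r) hnr r hr
  have k4 := key (D.neg r) hnr (D.neg r) hnr
  simp [colE, eV, hR, hne, hne.symm] at k1 k2 k3 k4
  have hcases : N.1 0 0 = 1 ∨ N.1 0 0 = -1 := by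
    rcases k1 with h | h <;> simp [h]
  have hc : N.1 1 0 = 0 := k2
  have hb : N.1 0 1 = 0 := k3
  rw [hb, hc, mul_zero, sub_zero] at hdet
  rcases hcases with ha | ha
  · have hd : N.1 1 1 = 1 := by rw [ha, one_mul] at hdet; exact hdet
    apply ext2
    · rw [ha]; rfl
    · rw [hb]; rfl
    · rw [hc]; rfl
    · rw [hd]; rfl
  · exfalso
    have hd : N.1 1 1 = -1 := by
      rw [ha, neg_one_mul] at hdet
      exact neg_eq_iff_eq_neg.1 hdet
    have hN1 : N = neg1 := by
      obtain ⟨h1, h2, h3, h4⟩ := neg1_ent (F := K)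
      apply ext2
      · rw [ha, h1]
      · rw [hb, h2]
      · rw [hc, h3]
      · rw [hd, h4]
    obtain ⟨s, hs, hodd⟩ := hodd
    have h3 := neg1_conj' hp (K := K) hr hs (y := xc hp (vec D l s) 1) ((mem_XX hp hs _).2 ⟨1, rfl⟩)
    rw [if_neg hodd, ← hN1, hN, one_mul, inv_one, mul_one, xc_neg hp hs] at h3
    have h4 := xc_inj hp hs h3
    apply h2
    rw [← one_add_one_eq_two]
    nth_rw 1 [h4]
    rw [neg_add_cancel]

/-! ### the torus -/

include hp in
theorem tt_comm {s t : ↥(D.group K)} (hs : s ∈ TT D K) (ht : t ∈ TT D K) : s * t = t * s := by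
  obtain ⟨χ, hχ⟩ := HMatDiagAll.mem_torus.1 (HMatDiagAll.diagonalSubgroup_le_torus hp.inList (Subgroup.mem_subgroupOf.1 hs))
  obtain ⟨ψ, hψ⟩ := HMatDiagAll.mem_torus.1 (HMatDiagAll.diagonalSubgroup_le_torus hp.inList (Subgroup.mem_subgroupOf.1 ht))
  apply Subtype.ext
  rw [Subgroup.coe_mul, Subgroup.coe_mul]
  apply Units.ext
  rw [Units.val_mul, Units.val_mul, hχ, hψ, Matrix.diagonal_mul_diagonal, Matrix.diagonal_mul_diagonal]
  congr 1
  funext i
  exact mul_comm _ _

/-- The scalars of a torus element on the root groups. -/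
theorem exists_char {t : ↥(D.group K)} (ht : t ∈ TT D K) :
    ∃ u : ℕ → Kˣ, ∀ s < D.nroots, ∀ b : K, t * xc hp (vec D l s) b * t⁻¹ =
      xc hp (vec D l s) (((∏ j ∈ Finset.range D.rank, u j ^ RootVec.rt D s j : Kˣ) : K) * b) := by
  classical
  obtain ⟨c, hc, hw⟩ := S1034.result D hp.inList (t : GL D.Idx K) (Subgroup.mem_subgroupOf.1 ht)
  -- the coefficients as units
  let c' : ℕ → Kˣ := fun i => if h : c i = 0 then 1 else Units.mk0 (c i) h
  have hc' : ∀ i < D.rank, ((c' i : Kˣ) : K) = c i := by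
    intro i hi
    show (((if h : c i = 0 then 1 else Units.mk0 (c i) h : Kˣ)) : K) = c i
    rw [dif_neg (hc i hi)]
    rfl
  refine ⟨fun j => ∏ i ∈ Finset.range D.rank, c' i ^ D.cartan i (D.simple j), fun s hs b => ?_⟩
  have key : ∀ L : List ℕ, (∀ i ∈ L, i < D.rank) → ∀ b : K,
      D.wordMat K (L.flatMap fun i => D.hWord (D.simple i) (c i)) * D.x K s b =
        D.x K s (((L.map fun i => c' i ^ D.cartan i s).prod : Kˣ) * b) *
          D.wordMat K (L.flatMap fun i => D.hWord (D.simple i) (c i)) := by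
    intro L
    induction L with
    | nil =>
      intro _ b
      rw [List.flatMap_nil, wordMat_nil, one_mul, mul_one, List.map_nil, List.prod_nil, Units.val_one, one_mul]
    | cons i L ih =>
      intro hL b
      have hi := hL i List.mem_cons_self
      have h1 : ∀ b : K, D.wordMat K (D.hWord (D.simple i) (c i)) * D.x K s b =
          D.x K s (c i ^ D.cartan i s * b) * D.wordMat K (D.hWord (D.simple i) (c i)) :=
        S1032.result D hp.inList i s hi hs (c i) (hc i hi)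
      rw [List.flatMap_cons, wordMat_append, mul_assoc, ih (fun j hj => hL j (List.mem_cons_of_mem _ hj)) b,
        ← mul_assoc, h1, mul_assoc, List.map_cons, List.prod_cons, Units.val_mul, Units.val_zpow_eq_zpow_val,
        hc' i hi, mul_assoc (c i ^ D.cartan i s)]
  have h1 := key (List.range D.rank) (fun i hi => List.mem_range.1 hi) b
  have h2 : ((List.range D.rank).map fun i => c' i ^ D.cartan i s).prod =
      ∏ j ∈ Finset.range D.rank, (∏ i ∈ Finset.range D.rank, c' i ^ D.cartan i (D.simple j)) ^ RootVec.rt D s j := by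
    have h3 : ((List.range D.rank).map fun i => c' i ^ D.cartan i s).prod =
        ∏ i ∈ Finset.range D.rank, c' i ^ D.cartan i s := rfl
    rw [h3]
    have h4 : ∀ j ∈ Finset.range D.rank,
        (∏ i ∈ Finset.range D.rank, c' i ^ D.cartan i (D.simple j)) ^ RootVec.rt D s j =
        ∏ i ∈ Finset.range D.rank, c' i ^ (RootVec.rt D s j * D.cartan i (D.simple j)) := by
      intro j _
      rw [← Finset.prod_zpow]
      refine Finset.prod_congr rfl fun i _ => ?_
      rw [← zpow_mul, mul_comm]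
    rw [Finset.prod_congr rfl h4, Finset.prod_comm]
    refine Finset.prod_congr rfl fun i hi => ?_
    rw [prod_zpow_sum, ← RootVec.cartan_eq_sum hp.checked (Finset.mem_range.1 hi) hs]
  rw [mul_inv_eq_iff_eq_mul]
  apply Subtype.ext
  rw [Subgroup.coe_mul, Subgroup.coe_mul, coe_xc hp hs, coe_xc hp hs]
  apply Units.ext
  rw [Units.val_mul, Units.val_mul, coe_xG, coe_xG, hw, h1, h2]

theorem unit_sq {u : Kˣ} (h : u * u = 1) : u = 1 ∨ u = -1 := by
  have h1 : (u : K) * u = 1 := by rw [← Units.val_mul, h, Units.val_one]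
  rcases mul_self_eq_one_iff.1 h1 with h2 | h2
  · left; exact Units.ext h2
  · right; exact Units.ext h2

include hp in
theorem sgn (h2 : (2 : K) ≠ 0) {t : ↥(D.group K)} (ht : t ∈ TT D K) (htt : t * t = 1) :
    ∃ ε : (Fin l → ℤ) →+ ZMod 2, ∀ s < D.nroots, ∀ y ∈ XX D l K (vec D l s),
      t * y * t⁻¹ = if ε (vec D l s) = 0 then y else y⁻¹ := by
  classical
  obtain ⟨u, hu⟩ := exists_char hp ht
  have hne : (1 : Kˣ) ≠ -1 := by
    intro h
    have h1 := congrArg (fun u : Kˣ => (u : K)) h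
    simp only [Units.val_one, Units.val_neg] at h1
    apply h2
    rw [← one_add_one_eq_two]
    nth_rw 1 [h1]
    rw [neg_add_cancel]
  let χ : (Fin l → ℤ) → Kˣ := fun v => ∏ j : Fin l, u j ^ v j
  have hχ : ∀ s < D.nroots, ∏ j ∈ Finset.range D.rank, u j ^ RootVec.rt D s j = χ (vec D l s) := by
    intro s _
    rw [hp.rank_eq, ← Fin.prod_univ_eq_prod_range (fun j => u j ^ RootVec.rt D s j)]
    rfl
  have hadd : ∀ v w, χ (v + w) = χ v * χ w := by
    intro v w
    show ∏ j : Fin l, u j ^ (v j + w j) = (∏ j : Fin l, u j ^ v j) * ∏ j : Fin l, u j ^ w j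
    rw [← Finset.prod_mul_distrib]
    exact Finset.prod_congr rfl fun j _ => zpow_add _ _ _
  have hu2 : ∀ j : Fin l, u j * u j = 1 := by
    intro j
    have hs := simple_lt hp.inList (lt_rank hp j)
    have h3 := hu _ hs 1
    have h4 := hu _ hs (((∏ j ∈ Finset.range D.rank, u j ^ RootVec.rt D (D.simple j) j : Kˣ) : K) * 1)
    have h5 := hu _ hs (((∏ i ∈ Finset.range D.rank, u i ^ RootVec.rt D (D.simple j) i : Kˣ) : K) * 1)
    rw [← h3] at h5
    have h6 : t * (t * xc hp (vec D l (D.simple j)) 1 * t⁻¹) * t⁻¹ = xc hp (vec D l (D.simple j)) 1 := by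
      calc t * (t * xc hp (vec D l (D.simple j)) 1 * t⁻¹) * t⁻¹ =
          (t * t) * xc hp (vec D l (D.simple j)) 1 * (t * t)⁻¹ := by group
        _ = _ := by rw [htt, one_mul, inv_one, mul_one]
    rw [h6] at h5
    have h7 := xc_inj hp hs h5
    have h8 : ∏ i ∈ Finset.range D.rank, u i ^ RootVec.rt D (D.simple j) i = u j := by
      rw [Finset.prod_eq_single_of_mem (j : ℕ) (Finset.mem_range.2 (lt_rank hp j))]
      · rw [RootVec.rt_simple hp.checked (lt_rank hp j), if_pos rfl, zpow_one]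
      · intro i _ hij
        rw [RootVec.rt_simple hp.checked (lt_rank hp j), if_neg hij, zpow_zero]
    rw [h8, mul_one] at h7
    exact Units.ext (by rw [Units.val_mul, ← h7, Units.val_one])
  have hsq : ∀ v, χ v * χ v = 1 := by
    intro v
    show (∏ j : Fin l, u j ^ v j) * ∏ j : Fin l, u j ^ v j = 1
    rw [← Finset.prod_mul_distrib]
    refine Finset.prod_eq_one fun j _ => ?_
    rw [← mul_zpow, hu2, one_zpow]
  refine ⟨⟨⟨fun v => if χ v = 1 then 0 else 1, ?_⟩, ?_⟩, ?_⟩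
  · show (if χ 0 = 1 then (0 : ZMod 2) else 1) = 0
    have h3 : χ 0 = 1 := by
      show ∏ j : Fin l, u j ^ (0 : ℤ) = 1
      exact Finset.prod_eq_one fun j _ => zpow_zero _
    rw [if_pos h3]
  · intro v w
    show (if χ (v + w) = 1 then (0 : ZMod 2) else 1) = (if χ v = 1 then 0 else 1) + (if χ w = 1 then 0 else 1)
    rw [hadd]
    rcases unit_sq (hsq v) with h3 | h3 <;> rcases unit_sq (hsq w) with h4 | h4 <;> rw [h3, h4]
    · simp
    · simp [hne.symm]
    · simp [hne.symm]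
    · simp [hne.symm]; decide
  · intro s hs y hy
    obtain ⟨b, rfl⟩ := (mem_XX hp hs y).1 hy
    rw [hu s hs, hχ s hs]
    show _ = if (if χ (vec D l s) = 1 then (0 : ZMod 2) else 1) = 0 then _ else _
    rcases unit_sq (hsq (vec D l s)) with h3 | h3
    · rw [h3]; simp
    · rw [h3]; simp [hne.symm, xc_neg hp hs]

/-! ### the long root data -/

/-- the long roots given by a Boolean table -/
def LR (D : ChevalleyDatum) (l : ℕ) (lg : ℕ → Bool) : Set (Fin l → ℤ) :=
  {x | ∃ r, r < D.nroots ∧ lg r = true ∧ vec D l r = x}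

/-- the parity of the Cartan integers -/
noncomputable def zet {W : Type*} [Group W] (cs : CoxeterSystem M W) (hp : IsType D l M) (x y : Fin l → ℤ) : ZMod 2 :=
  ((cpr cs hp.isCartan y x : ℤ) : ZMod 2)

variable {W : Type*} [Group W] (cs : CoxeterSystem M W)

theorem zet_vec {r s : ℕ} (hr : r < D.nroots) (hs : s < D.nroots) :
    zet cs hp (vec D l r) (vec D l s) = ((RootCombGood.car D r s : ℤ) : ZMod 2) := by
  unfold zet
  rw [KFacts.ChevTwoInst.cpr_vec hp cs hr s hs]

theorem zz_eq {r : ℕ} (hr : r < D.nroots) : zz (xc (K := K) hp) (vec D l r) = phiV hp K (vec D l r) neg1 := by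
  unfold neg1 zz
  simp only [map_mul, phiV_up hp hr, phiV_lo hp hr]

/-- **The long root data of `D.group K`.** -/
theorem long {lg : ℕ → Bool} (hinv : ∀ i < D.rank, ∀ r < D.nroots, lg r = true → lg (D.reflectRoot i r) = true)
    (hneg : ∀ r < D.nroots, lg r = true → lg (D.neg r) = true)
    (hodd : ∀ r < D.nroots, lg r = true → ∃ s < D.nroots, ((RootCombGood.car D r s : ℤ) : ZMod 2) ≠ 0)
    (h2 : (2 : K) ≠ 0) :
    Long cs hp.isCartan (TT D K) (nc hp K) (XX D l K) (LR D l lg) (xc hp) (phiV hp K) (zet cs hp) where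
  root := by
    rintro _ ⟨r, hr, -, rfl⟩
    exact isRoot_vec hp cs hr
  act := by
    rintro w _ ⟨r, hr, hl, rfl⟩
    obtain ⟨ω, rfl⟩ := cs.wordProd_surjective w
    induction ω with
    | nil =>
      rw [wordProd_nil, map_one, Module.End.one_apply]
      exact ⟨r, hr, hl, rfl⟩
    | cons i ω ih =>
      obtain ⟨s, hs, hls, e⟩ := ih
      rw [wordProd_cons, rep_mul_apply, ← e, rep_vec hp cs i hs]
      exact ⟨_, reflectRoot_lt hp.inList (lt_rank hp i) hs, hinv _ (lt_rank hp i) _ hs hls, rfl⟩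
  neg := by
    rintro _ ⟨r, hr, hl, rfl⟩
    exact ⟨D.neg r, neg_lt hp.inList hr, hneg r hr hl, vec_neg hp hr⟩
  inj := by
    rintro _ ⟨r, hr, hl, rfl⟩
    exact phiV_inj hp hr (hodd r hr hl) h2
  up := by
    rintro _ ⟨r, hr, hl, rfl⟩ c
    exact phiV_up hp hr c
  lo := by
    rintro _ ⟨r, hr, hl, rfl⟩ c
    exact phiV_lo hp hr c
  tor := by
    rintro _ ⟨r, hr, hl, rfl⟩ t ht
    exact ⟨_, (act hp hr ht).2⟩
  nn := by
    rintro i _ ⟨r, hr, hl, rfl⟩
    obtain ⟨c, -, hc⟩ := nact hp (K := K) (i := i) hr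
    refine ⟨c, fun b => ?_⟩
    rw [rep_vec hp cs i hr]
    exact hc b
  memX := by
    rintro _ ⟨r, hr, hl, rfl⟩ b
    exact (mem_XX hp hr _).2 ⟨b, rfl⟩
  zT := by
    rintro _ ⟨r, hr, hl, rfl⟩
    rw [zz_eq hp hr]
    exact neg1_mem hp hr
  zact := by
    rintro _ ⟨r, hr, hl, rfl⟩ y hy u hu
    obtain ⟨s, hs, rfl⟩ := (isRoot_iff hp cs y).1 hy
    rw [zz_eq hp hr, zet_vec hp cs hr hs]
    exact neg1_conj' hp hr hs hu
  sgn := by
    intro c hc hcc
    obtain ⟨ε, hε⟩ := sgn hp h2 hc hcc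
    refine ⟨ε, fun y hy u hu => ?_⟩
    obtain ⟨s, hs, rfl⟩ := (isRoot_iff hp cs y).1 hy
    exact hε s hs u hu
  cen := by
    intro t ht _ h1
    rw [← Subgroup.mem_bot, ← S1077.center_group_eq_bot (K := K) hp.inList, Subgroup.mem_center_iff]
    have h2 : RGDLib.G1 cs hp.isCartan (XX D l K) ≤ Subgroup.centralizer {t} := by
      unfold RGDLib.G1
      refine iSup_le ?_
      rintro ⟨y, hy⟩ a ha
      rw [Subgroup.mem_centralizer_singleton_iff]
      have := h1 y hy a ha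
      rw [mul_inv_eq_iff_eq_mul] at this
      exact this.symm
    rw [G1_eq_top hp cs] at h2
    intro g
    have h3 := h2 (Subgroup.mem_top g)
    rw [Subgroup.mem_centralizer_singleton_iff] at h3
    exact h3
  tcomm := fun s hs t ht => tt_comm hp hs ht

/-! ### commuting root groups -/

theorem xc_comm {r s : ℕ} (hr : r < D.nroots) (hs : s < D.nroots) (hne : s ≠ r) (hneg : s ≠ D.neg r)
    (h : D.commTerms r s = []) (a b : K) :
    xc hp (vec D l s) a * xc hp (vec D l r) b = xc hp (vec D l r) b * xc hp (vec D l s) a := by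
  apply Subtype.ext
  rw [Subgroup.coe_mul, Subgroup.coe_mul, coe_xc hp hs, coe_xc hp hr]
  have e := comm_xG (K := K) hp hr hs hne hneg (-b) (-a)
  have hemp : D.commWord K r s (-b) (-a) = [] := by
    show (D.commTerms r s).map _ = []
    rw [h, List.map_nil]
  rw [hemp] at e
  have e4 : wordG (F := K) hp.inList [] = 1 := by
    apply Units.ext
    rw [coe_wordG]
    rfl
  rw [e4, commutatorElement_eq_one_iff_mul_comm, xG_inv, xG_inv, _root_.neg_neg, _root_.neg_neg] at e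
  exact e

theorem phi_comm {r s : ℕ} (hr : r < D.nroots) (hs : s < D.nroots) (hne : s ≠ r) (hneg : s ≠ D.neg r)
    (h1 : D.commTerms r s = []) (h2 : D.commTerms r (D.neg s) = []) (h3 : D.commTerms (D.neg r) s = [])
    (h4 : D.commTerms (D.neg r) (D.neg s) = []) (N N' : SL2 K) :
    phiV hp K (vec D l s) N * phiV hp K (vec D l r) N' = phiV hp K (vec D l r) N' * phiV hp K (vec D l s) N := by
  have hnr := neg_lt hp.inList hr
  have hns := neg_lt hp.inList hs
  have hnn : D.neg (D.neg r) = r := RootVec.neg_neg hp.checked hr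
  have hnn' : D.neg (D.neg s) = s := RootVec.neg_neg hp.checked hs
  have e1 : D.neg s ≠ r := fun h => hneg (by rw [← h, hnn'])
  have e2 : D.neg s ≠ D.neg r := fun h => hne (by rw [← hnn', h, hnn])
  -- the generators
  have hg : ∀ x ∈ Set.range (up (F := K)) ∪ Set.range (lo (F := K)), ∀ y ∈ Set.range (up (F := K)) ∪
      Set.range (lo (F := K)), phiV hp K (vec D l s) x * phiV hp K (vec D l r) y =
        phiV hp K (vec D l r) y * phiV hp K (vec D l s) x := by
    rintro _ (⟨a, rfl⟩ | ⟨a, rfl⟩) _ (⟨b, rfl⟩ | ⟨b, rfl⟩)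
    · rw [phiV_up hp hs, phiV_up hp hr]
      exact xc_comm hp hr hs hne hneg h1 a b
    · rw [phiV_up hp hs, phiV_lo hp hr, ← vec_neg hp hr]
      exact xc_comm hp hnr hs hneg (by rw [hnn]; exact hne) h3 a b
    · rw [phiV_lo hp hs, phiV_up hp hr, ← vec_neg hp hs]
      exact xc_comm hp hr hns e1 e2 h2 a b
    · rw [phiV_lo hp hs, phiV_lo hp hr, ← vec_neg hp hs, ← vec_neg hp hr]
      exact xc_comm hp hnr hns e2 (by rw [hnn]; exact e1) h4 a b
  have h5 : ∀ x ∈ Set.range (up (F := K)) ∪ Set.range (lo (F := K)), ∀ N' : SL2 K,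
      phiV hp K (vec D l s) x * phiV hp K (vec D l r) N' = phiV hp K (vec D l r) N' * phiV hp K (vec D l s) x := by
    intro x hx N'
    have h6 : (⊤ : Subgroup (SL2 K)) ≤ (Subgroup.centralizer {phiV hp K (vec D l s) x}).comap (phiV hp K (vec D l r)) := by
      rw [← closure_up_lo, Subgroup.closure_le]
      intro y hy
      show phiV hp K (vec D l r) y ∈ Subgroup.centralizer _
      rw [Subgroup.mem_centralizer_singleton_iff]
      exact (hg x hx y hy).symm
    have h7 := h6 (Subgroup.mem_top N')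
    rw [Subgroup.mem_comap, Subgroup.mem_centralizer_singleton_iff] at h7
    exact h7.symm
  have h6 : (⊤ : Subgroup (SL2 K)) ≤ (Subgroup.centralizer {phiV hp K (vec D l r) N'}).comap (phiV hp K (vec D l s)) := by
    rw [← closure_up_lo, Subgroup.closure_le]
    intro y hy
    show phiV hp K (vec D l s) y ∈ Subgroup.centralizer _
    rw [Subgroup.mem_centralizer_singleton_iff]
    exact h5 y hy N'
  have h7 := h6 (Subgroup.mem_top N)
  rw [Subgroup.mem_comap, Subgroup.mem_centralizer_singleton_iff] at h7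
  exact h7

end

end Cfsg.Agent.Omega.Lie.CenChev

end

section


/-!
# (ZS) rows: the combinatorial data `CenRGD.Comb` from kernel checks on the tables of a Chevalley datum
-/

set_option autoImplicit false
set_option linter.unusedSectionVars false

namespace Cfsg.Agent.Omega.Lie.CenTab

open CoxeterSystem Cfsg.Agent.ChevalleyStructure.CoxeterGeom Cfsg.Agent.Tits.Roots Cfsg.Agent.Tits.Core
  Cfsg.Agent.Nodes Cfsg.Agent.Nodes.Reps Cfsg.Agent.Nodes.BNOf Cfsg.Agent.Nodes.Coroot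
  Cfsg.Agent.Nodes.RGDChev Cfsg.Agent.KFacts.RgdChevCoord
  Cfsg.Agent.Omega.Lie.CenSL Cfsg.Agent.Omega.Lie.CenRGD Cfsg.Agent.Omega.Lie.CenChev
open Cfsg.Lie Cfsg.Agent.ChevalleyStructure Cfsg.Agent.ChevalleyStructure.RootCombGood
  Cfsg.Agent.ChevalleyStructure.NPerm

/-- the action of a word on the numbers of the roots -/
def actD (D : ChevalleyDatum) {l : ℕ} (ω : List (Fin l)) (r : ℕ) : ℕ := ω.foldr (fun i s => D.reflectRoot i s) r

/-- connectedness of a list of roots, in the given order -/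
def conn (nz : ℕ → ℕ → Bool) : List ℕ → List ℕ → Bool
  | _, [] => true
  | seen, b :: rest => seen.any (fun c => nz c b) && conn nz (b :: seen) rest

/-- The combinatorial data of a Chevalley datum: a set of long roots, a word, orthogonal long roots `β`, a connected
generating set `bs` of long roots. -/
structure CD (D : ChevalleyDatum) (l : ℕ) (lg : ℕ → Bool) (ω : List (Fin l)) (β bs : List ℕ) (b₀ : ℕ)
    (f₀ : Fin l → ZMod 2) (s : ℕ) : Prop where
  inv : ∀ i < D.rank, ∀ r < D.nroots, lg r = true → lg (D.reflectRoot i r) = true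
  neg : ∀ r < D.nroots, lg r = true → lg (D.neg r) = true
  mem : ∀ r ∈ β, r < D.nroots ∧ lg r = true
  memb : ∀ r ∈ b₀ :: bs, r < D.nroots ∧ lg r = true
  perm : ∀ r ∈ β, ∃ k ∈ β, actD D ω r = k ∨ actD D ω r = D.neg k
  pow : ∀ i : Fin l, (actD D ω)^[2 ^ s] (D.simple i) = D.simple i
  odd : ∀ s < D.nroots, ∃ r < D.nroots, lg r = true ∧ ((car D r s : ℤ) : ZMod 2) ≠ 0
  odd' : ∀ r < D.nroots, lg r = true → ∃ s < D.nroots, ((car D r s : ℤ) : ZMod 2) ≠ 0
  uniq : ∀ b ∈ b₀ :: bs, ∀ r < D.nroots, lg r = true →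
    (∀ j : Fin l, ((car D r (D.simple j) : ℤ) : ZMod 2) = ((car D b (D.simple j) : ℤ) : ZMod 2)) →
      r = b ∨ r = D.neg b
  con : conn (fun r s => decide (car D r s ≠ 0)) [b₀] bs = true
  span : ∀ i : Fin l, ∃ r s : ℕ, ∃ m : ℤ, (r ∈ b₀ :: bs ∨ ∃ r' ∈ b₀ :: bs, r = D.neg r') ∧
    (s ∈ b₀ :: bs ∨ ∃ s' ∈ b₀ :: bs, s = D.neg s') ∧ m ≠ 0 ∧ vec D l r + vec D l s = m • sr i
  one : ∀ f : Fin l → ZMod 2, (∀ r ∈ β, ∑ i, ((vec D l r i : ℤ) : ZMod 2) * f i = 0) →
    (∀ i : Fin l, ∑ k, ((vec D l (actD D ω (D.simple i)) k : ℤ) : ZMod 2) * f k = f i) → f = 0 ∨ f = f₀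

section

variable {D : ChevalleyDatum} {l : ℕ} {M : CoxeterMatrix (Fin l)} (hp : IsType D l M)
  {W : Type*} [Group W] (cs : CoxeterSystem M W)

theorem actD_lt (hp : IsType D l M) (ω : List (Fin l)) {r : ℕ} (hr : r < D.nroots) : actD D ω r < D.nroots := by
  induction ω with
  | nil => exact hr
  | cons i ω ih => exact reflectRoot_lt hp.inList (lt_rank hp i) ih

theorem rep_word (ω : List (Fin l)) {r : ℕ} (hr : r < D.nroots) :
    rep cs hp.isCartan (cs.wordProd ω) (vec D l r) = vec D l (actD D ω r) := by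
  induction ω with
  | nil => rw [wordProd_nil, map_one, Module.End.one_apply]; rfl
  | cons i ω ih =>
    rw [wordProd_cons, rep_mul_apply, ih, rep_vec hp cs i (actD_lt hp ω hr)]
    rfl

theorem rep_word_pow (ω : List (Fin l)) (k : ℕ) {r : ℕ} (hr : r < D.nroots) :
    (actD D ω)^[k] r < D.nroots ∧ rep cs hp.isCartan (cs.wordProd ω ^ k) (vec D l r) = vec D l ((actD D ω)^[k] r) := by
  induction k with
  | zero =>
    refine ⟨hr, ?_⟩
    rw [pow_zero, map_one, Module.End.one_apply]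
    rfl
  | succ k ih =>
    rw [Function.iterate_succ_apply']
    refine ⟨actD_lt hp ω ih.1, ?_⟩
    rw [pow_succ', rep_mul_apply, ih.2, rep_word hp cs ω ih.1]

theorem hom_eq (ε : (Fin l → ℤ) →+ ZMod 2) (v : Fin l → ℤ) : ε v = ∑ i, ((v i : ℤ) : ZMod 2) * ε (sr i) := by
  have h1 : v = ∑ i, v i • (sr i : Fin l → ℤ) := by
    funext j
    rw [Finset.sum_apply, Finset.sum_eq_single j]
    · rw [Pi.smul_apply, sr_self, smul_eq_mul, mul_one]
    · intro i _ hij
      rw [Pi.smul_apply, sr_ne hij.symm, smul_zero]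
    · intro h
      exact absurd (Finset.mem_univ _) h
  conv_lhs => rw [h1]
  rw [map_sum]
  refine Finset.sum_congr rfl fun i _ => ?_
  rw [map_zsmul, zsmul_eq_mul]

theorem smul_cancel {m : ℤ} (hm : m ≠ 0) {x y : Fin l → ℤ} (h : m • x = m • y) : x = y := by
  funext i
  have h1 := congrFun h i
  rw [Pi.smul_apply, Pi.smul_apply, smul_eq_mul, smul_eq_mul] at h1
  exact mul_left_cancel₀ hm h1

variable {lg : ℕ → Bool} {ω : List (Fin l)} {β bs : List ℕ} {b₀ : ℕ} {f₀ : Fin l → ZMod 2} {s : ℕ}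

/-- signs along a connected list -/
theorem conn_sign {nz : ℕ → ℕ → Bool} {P : ℕ → Prop} {L : List ℕ} (hstep : ∀ c, ∀ b ∈ L, nz c b = true → P c → P b) :
    ∀ (rest seen : List ℕ), (∀ b ∈ rest, b ∈ L) → conn nz seen rest = true → (∀ c ∈ seen, P c) →
      ∀ b ∈ rest, P b := by
  intro rest
  induction rest with
  | nil => intro seen _ _ _ b hb; cases hb
  | cons a rest ih =>
    intro seen hL h hs b hb
    have h' : (seen.any (fun c => nz c a) && conn nz (a :: seen) rest) = true := h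
    rw [Bool.and_eq_true, List.any_eq_true] at h'
    obtain ⟨⟨c, hc, hca⟩, h2⟩ := h'
    have ha : P a := hstep c a (hL a List.mem_cons_self) hca (hs c hc)
    have hs' : ∀ c ∈ a :: seen, P c := by
      intro c hc
      rcases List.mem_cons.1 hc with rfl | hc
      · exact ha
      · exact hs c hc
    rcases List.mem_cons.1 hb with rfl | hb
    · exact ha
    · exact ih (a :: seen) (fun b hb => hL b (List.mem_cons_of_mem _ hb)) h2 hs' b hb

theorem par (C : CD D l lg ω β bs b₀ f₀ s) (w : W)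
    (hw : ∀ x ∈ LR D l lg, ∀ y, IsRoot cs hp.isCartan y → zet cs hp (rep cs hp.isCartan w x) y = zet cs hp x y) :
    w = 1 ∨ ∀ x ∈ LR D l lg, rep cs hp.isCartan w x = -x := by
  classical
  have : Finite W := finite_W hp cs
  -- the members of `bs`
  have h1 : ∀ b ∈ b₀ :: bs, rep cs hp.isCartan w (vec D l b) = vec D l b ∨
      rep cs hp.isCartan w (vec D l b) = -vec D l b := by
    intro b hb
    obtain ⟨hbn, hbl⟩ := C.memb b hb
    have hroot : IsRoot cs hp.isCartan (rep cs hp.isCartan w (vec D l b)) := (isRoot_vec hp cs hbn).act w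
    -- the image is a long root
    have himg : rep cs hp.isCartan w (vec D l b) ∈ LR D l lg := by
      obtain ⟨ω', rfl⟩ := cs.wordProd_surjective w
      clear hw hroot
      induction ω' with
      | nil =>
        rw [wordProd_nil, map_one, Module.End.one_apply]
        exact ⟨b, hbn, hbl, rfl⟩
      | cons i ω' ih =>
        obtain ⟨t, ht, hlt, e⟩ := ih
        rw [wordProd_cons, rep_mul_apply, ← e, rep_vec hp cs i ht]
        exact ⟨_, reflectRoot_lt hp.inList (lt_rank hp i) ht, C.inv _ (lt_rank hp i) _ ht hlt, rfl⟩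
    obtain ⟨r, hr, hlr, e⟩ := himg
    rcases C.uniq b hb r hr hlr (fun j => by
      have hj := simple_lt hp.inList (lt_rank hp j)
      have h2 := hw _ ⟨b, hbn, hbl, rfl⟩ (vec D l (D.simple j)) (isRoot_vec hp cs hj)
      rw [← e, zet_vec hp cs hr hj, zet_vec hp cs hbn hj] at h2
      exact h2) with h3 | h3
    · left; rw [← e, h3]
    · right; rw [← e, h3, vec_neg hp hbn]
  -- one sign for all
  have h2 : ∃ ε : ℤ, (ε = 1 ∨ ε = -1) ∧ ∀ b ∈ b₀ :: bs, rep cs hp.isCartan w (vec D l b) = ε • vec D l b := by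
    have key : ∀ ε : ℤ, (ε = 1 ∨ ε = -1) → rep cs hp.isCartan w (vec D l b₀) = ε • vec D l b₀ →
        ∀ b ∈ b₀ :: bs, rep cs hp.isCartan w (vec D l b) = ε • vec D l b := by
      intro ε hε h0
      have h3 := C.con
      have h4 := conn_sign (P := fun c => c ∈ b₀ :: bs ∧ rep cs hp.isCartan w (vec D l c) = ε • vec D l c)
        (L := bs) (fun c b hb hcb hP => by
          obtain ⟨hc, hP⟩ := hP
          have hb' : b ∈ b₀ :: bs := List.mem_cons_of_mem _ hb
          refine ⟨hb', ?_⟩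
          have hcar : car D c b ≠ 0 := of_decide_eq_true hcb
          obtain ⟨hcn, -⟩ := C.memb c hc
          obtain ⟨hbn, -⟩ := C.memb b hb'
          have e1 := cpr_rep cs hp.isCartan w (vec D l b) (isRoot_vec hp cs hcn)
          rw [KFacts.ChevTwoInst.cpr_vec hp cs hcn b hbn, hP] at e1
          rcases hε with rfl | rfl
          · rcases h1 b hb' with h5 | h5
            · rw [h5, one_smul]
            · exfalso
              rw [h5, one_smul, cpr_neg _ _ _ (isRoot_vec hp cs hcn),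
                KFacts.ChevTwoInst.cpr_vec hp cs hcn b hbn] at e1
              omega
          · rcases h1 b hb' with h5 | h5
            · exfalso
              rw [h5, neg_smul, one_smul, cpr_neg_right _ _ _ (isRoot_vec hp cs hcn),
                KFacts.ChevTwoInst.cpr_vec hp cs hcn b hbn] at e1
              omega
            · rw [h5, neg_smul, one_smul]) bs [b₀] (fun b hb => hb) h3 (fun c hc => by
          rw [List.mem_singleton] at hc
          subst hc
          exact ⟨List.mem_cons_self, h0⟩)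
      intro b hb
      rcases List.mem_cons.1 hb with rfl | hb
      · exact h0
      · exact (h4 b hb).2
    rcases h1 b₀ List.mem_cons_self with h0 | h0
    · exact ⟨1, Or.inl rfl, key 1 (Or.inl rfl) (by rw [h0, one_smul])⟩
    · exact ⟨-1, Or.inr rfl, key (-1) (Or.inr rfl) (by rw [h0, neg_smul, one_smul])⟩
  obtain ⟨ε, hε, h3⟩ := h2
  have h4 : ∀ r, (r ∈ b₀ :: bs ∨ ∃ r' ∈ b₀ :: bs, r = D.neg r') →
      rep cs hp.isCartan w (vec D l r) = ε • vec D l r := by
    rintro r (hr | ⟨r', hr', rfl⟩)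
    · exact h3 r hr
    · rw [vec_neg hp (C.memb r' hr').1, map_neg, h3 r' hr', smul_neg]
  have h5 : ∀ i : Fin l, rep cs hp.isCartan w (sr i) = ε • (sr i : Fin l → ℤ) := by
    intro i
    obtain ⟨r, s, m, hr, hs, hm, e⟩ := C.span i
    apply smul_cancel hm
    rw [← map_zsmul, ← e, map_add, h4 r hr, h4 s hs, ← smul_add, e, smul_comm]
  rcases hε with rfl | rfl
  · left
    exact eq_one_of_fix cs hp.isCartan w fun i => (h5 i).trans (one_smul _ _)
  · right
    rintro x -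
    have h6 : rep cs hp.isCartan w = -LinearMap.id := by
      apply LinearMap.pi_ext'
      intro i
      apply LinearMap.ext_ring
      show rep cs hp.isCartan w (Pi.single i 1) = -(Pi.single i 1)
      have h7 := h5 i
      rw [neg_smul, one_smul] at h7
      exact h7
    rw [h6]
    rfl

/-- **The combinatorial data.** -/
theorem comb (C : CD D l lg ω β bs b₀ f₀ s) :
    Comb cs hp.isCartan (LR D l lg) (zet cs hp) (cs.wordProd ω) (fun j : {r : ℕ // r ∈ β} => vec D l j.1) where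
  mem j := ⟨j.1, (C.mem j.1 j.2).1, (C.mem j.1 j.2).2, rfl⟩
  perm j := by
    obtain ⟨hr, -⟩ := C.mem j.1 j.2
    obtain ⟨k, hk, h1⟩ := C.perm j.1 j.2
    refine ⟨⟨k, hk⟩, ?_⟩
    rw [rep_word hp cs ω hr]
    rcases h1 with h1 | h1
    · left; rw [h1]
    · right; rw [h1, vec_neg hp (C.mem k hk).1]
  pow := by
    refine ⟨s, eq_one_of_fix cs hp.isCartan _ fun i => ?_⟩
    have hi := simple_lt hp.inList (lt_rank hp i)
    show rep cs hp.isCartan (cs.wordProd ω ^ 2 ^ s) (sr i) = sr i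
    rw [← vec_simple hp i, (rep_word_pow hp cs ω (2 ^ s) hi).2, C.pow i]
  one := by
    let ε₀ : (Fin l → ℤ) →+ ZMod 2 :=
      { toFun := fun v => ∑ i, ((v i : ℤ) : ZMod 2) * f₀ i
        map_zero' := by simp
        map_add' := fun v w => by
          rw [← Finset.sum_add_distrib]
          refine Finset.sum_congr rfl fun i _ => ?_
          rw [Pi.add_apply, Int.cast_add, add_mul] }
    refine ⟨ε₀, fun ε h1 h2 => ?_⟩
    have h3 := C.one (fun i => ε (sr i)) (fun r hr => by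
      rw [← hom_eq]
      exact h1 ⟨r, hr⟩) (fun i => by
      have hi := simple_lt hp.inList (lt_rank hp i)
      rw [← hom_eq, ← rep_word hp cs ω hi, vec_simple hp i]
      exact h2 _ (isRoot_sr cs hp.isCartan i))
    rcases h3 with h3 | h3
    · left
      intro y _
      rw [hom_eq]
      refine Finset.sum_eq_zero fun i _ => ?_
      rw [show ε (sr i) = 0 from congrFun h3 i, mul_zero]
    · right
      intro y _
      rw [hom_eq]
      show _ = ∑ i, ((y i : ℤ) : ZMod 2) * f₀ i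
      refine Finset.sum_congr rfl fun i _ => ?_
      rw [show ε (sr i) = f₀ i from congrFun h3 i]
  par := par hp cs C
  odd y hy := by
    obtain ⟨t, ht, rfl⟩ := (isRoot_iff hp cs y).1 hy
    obtain ⟨r, hr, hlr, h1⟩ := C.odd t ht
    refine ⟨_, ⟨r, hr, hlr, rfl⟩, ?_⟩
    rw [zet_vec hp cs hr ht]
    exact h1

end

end Cfsg.Agent.Omega.Lie.CenTab

end

section


/-!
# (ZS) rows: change of the index set in `CenRGD.Comb`
-/

set_option autoImplicit false
set_option linter.unusedSectionVars false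

namespace Cfsg.Agent.Omega.Lie.CenRGD

open CoxeterSystem Cfsg.Agent.ChevalleyStructure.CoxeterGeom Cfsg.Agent.Tits.Roots Cfsg.Agent.Tits.Core
  Cfsg.Agent.Nodes.Reps Cfsg.Agent.Nodes.BNOf Cfsg.Agent.Nodes.Reindex

variable {I J W ι : Type*} [Fintype I] [DecidableEq I] [Fintype J] [DecidableEq J] [Group W]
  {M : CoxeterMatrix I} {M' : CoxeterMatrix J} {cs : CoxeterSystem M W} {cs' : CoxeterSystem M' W}
  {A : I → I → ℤ} {A' : J → J → ℤ} {h : IsCartan M A} {h' : IsCartan M' A'} {e : I ≃ J}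

theorem rep_comp (hA : ∀ i j, A i j = A' (e i) (e j)) (hs : ∀ i, cs'.simple (e i) = cs.simple i) (w : W)
    (x : J → ℤ) : rep cs' h' w x ∘ e = rep cs h w (x ∘ e) := by
  have h1 := rep_reindex (cs := cs) (cs' := cs') (h := h) (h' := h') hA hs w (x ∘ e)
  rw [comp_symm] at h1
  rw [h1, comp_symm']

theorem isRoot_comp (hA : ∀ i j, A i j = A' (e i) (e j)) (hs : ∀ i, cs'.simple (e i) = cs.simple i) {x : J → ℤ} :
    IsRoot cs h (x ∘ e) ↔ IsRoot cs' h' x := by
  have h1 := isRoot_reindex (cs := cs) (cs' := cs') (h := h) (h' := h') hA hs (x := x ∘ e)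
  rw [comp_symm] at h1
  exact h1.symm

/-- composition with `e` -/
def compHom (e : I ≃ J) : (J → ℤ) →+ (I → ℤ) where
  toFun x := x ∘ e
  map_zero' := rfl
  map_add' _ _ := rfl

/-- composition with `e.symm` -/
def compHom' (e : I ≃ J) : (I → ℤ) →+ (J → ℤ) where
  toFun x := x ∘ e.symm
  map_zero' := rfl
  map_add' _ _ := rfl

theorem Comb.reindex {LR : Set (I → ℤ)} {ζ : (I → ℤ) → (I → ℤ) → ZMod 2} {w₀ : W} {β : ι → (I → ℤ)}
    (C : Comb cs h LR ζ w₀ β) (hA : ∀ i j, A i j = A' (e i) (e j)) (hs : ∀ i, cs'.simple (e i) = cs.simple i) :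
    Comb cs' h' {x | x ∘ e ∈ LR} (fun x y => ζ (x ∘ e) (y ∘ e)) w₀ (fun j => β j ∘ e.symm) where
  mem j := by
    show (β j ∘ e.symm) ∘ e ∈ LR
    rw [comp_symm']
    exact C.mem j
  perm j := by
    obtain ⟨k, hk⟩ := C.perm j
    refine ⟨k, ?_⟩
    rw [rep_reindex (cs := cs) (cs' := cs') (h := h) (h' := h') hA hs]
    rcases hk with hk | hk
    · left; rw [hk]
    · right; rw [hk]; rfl
  pow := C.pow
  one := by
    obtain ⟨ε₀, h0⟩ := C.one
    refine ⟨ε₀.comp (compHom e), fun ε h1 h2 => ?_⟩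
    rcases h0 (ε.comp (compHom' e)) h1 (fun y hy => by
      show ε (rep cs h w₀ y ∘ e.symm) = ε (y ∘ e.symm)
      rw [← rep_reindex (cs := cs) (cs' := cs') (h := h) (h' := h') hA hs]
      exact h2 _ ((isRoot_reindex (cs := cs) (cs' := cs') (h := h) (h' := h') hA hs).2 hy)) with h3 | h3
    · left
      intro y hy
      have h4 := h3 (y ∘ e) ((isRoot_comp (cs := cs) (h := h) hA hs).2 hy)
      have h5 : ε ((y ∘ e) ∘ e.symm) = 0 := h4
      rwa [comp_symm] at h5
    · right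
      intro y hy
      have h4 := h3 (y ∘ e) ((isRoot_comp (cs := cs) (h := h) hA hs).2 hy)
      have h5 : ε ((y ∘ e) ∘ e.symm) = ε₀ (y ∘ e) := h4
      rwa [comp_symm] at h5
  par w hw := by
    rcases C.par w (fun x hx y hy => by
      have h1 := hw (x ∘ e.symm) (by show (x ∘ e.symm) ∘ e ∈ LR; rw [comp_symm']; exact hx) (y ∘ e.symm)
        ((isRoot_reindex (cs := cs) (cs' := cs') (h := h) (h' := h') hA hs).2 hy)
      have h2 : ζ (rep cs' h' w (x ∘ e.symm) ∘ e) ((y ∘ e.symm) ∘ e) = ζ ((x ∘ e.symm) ∘ e) ((y ∘ e.symm) ∘ e) := h1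
      rw [rep_comp (cs := cs) (h := h) hA hs, comp_symm', comp_symm'] at h2
      exact h2) with h3 | h3
    · exact Or.inl h3
    · right
      intro x hx
      have h4 := h3 (x ∘ e) hx
      rw [← rep_comp (cs := cs) (cs' := cs') (h := h) (h' := h') hA hs] at h4
      funext j
      have h5 := congrFun h4 (e.symm j)
      simpa using h5
  odd y hy := by
    obtain ⟨x, hx, h1⟩ := C.odd (y ∘ e) ((isRoot_comp (cs := cs) (h := h) hA hs).2 hy)
    refine ⟨x ∘ e.symm, by show (x ∘ e.symm) ∘ e ∈ LR; rw [comp_symm']; exact hx, ?_⟩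
    show ζ ((x ∘ e.symm) ∘ e) (y ∘ e) ≠ 0
    rw [comp_symm']
    exact h1

end Cfsg.Agent.Omega.Lie.CenRGD

end

section


/-!
# (ZS) rows: long root data (`CenRGD.Long`) of the twisted groups obtained by folding (`RGDFold`)
-/

set_option autoImplicit false
set_option linter.unusedSectionVars false

namespace Cfsg.Agent.Omega.Lie.CenFold

open CoxeterSystem Cfsg.Agent.ChevalleyStructure.CoxeterGeom Cfsg.Agent.Tits.Roots Cfsg.Agent.Tits.Core
  Cfsg.Agent.Nodes Cfsg.Agent.Nodes.Reps Cfsg.Agent.Nodes.BNOf Cfsg.Agent.Nodes.Coroot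
  Cfsg.Agent.Nodes.RGDChev Cfsg.Agent.KFacts.RgdChevCoord Cfsg.Agent.Nodes.RGDFold Cfsg.Agent.Nodes.RGDTwGen
  Cfsg.Agent.Omega.Lie.CenSL Cfsg.Agent.Omega.Lie.CenRGD Cfsg.Agent.Omega.Lie.CenChev
open Cfsg.Lie Cfsg.Agent.ChevalleyStructure Cfsg.Agent.ChevalleyStructure.Elts Cfsg.Agent.ChevalleyStructure.CoxeterGeomTypes
  Cfsg.Agent.ChevalleyStructure.NPerm Cfsg.Agent.ChevalleyStructure.TwistedU
  Cfsg.Agent.ChevalleyStructure.TwistedFix Cfsg.Agent.ChevalleyStructure.RootCombGood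
open scoped commutatorElement

universe u

/-- The table facts of a folding of `D` onto `D₀`. -/
structure FT (D : ChevalleyDatum) (l : ℕ) (D₀ : ChevalleyDatum) (m : ℕ) (J : Fin m → List (Fin l))
    (e : Fin m ≃ Fin m) (ρ : ℕ → ℕ) (ε : ℕ → ℤ) (lg lg₀ : ℕ → Bool) (κ : ℕ → ℕ) : Prop where
  kap : ∀ s < D.nroots, κ s < D₀.nroots ∧ ∀ i, vec D₀ m (κ s) i = V D J s (e i)
  fx : ∀ r < D.nroots, lg r = true → ρ r = r ∧ ε r = 1
  inv : ∀ i, ∀ r < D.nroots, lg r = true → lg (wp D (J i) r) = true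
  neg : ∀ r < D.nroots, lg r = true → lg (D.neg r) = true
  one : ∀ r < D.nroots, lg r = true → ∀ s < D.nroots, κ s = κ r → s = r
  lg0 : ∀ r < D.nroots, lg r = true → lg₀ (κ r) = true
  lg1 : ∀ k < D₀.nroots, lg₀ k = true → ∃ r < D.nroots, lg r = true ∧ κ r = k
  crt : ∀ r < D.nroots, lg r = true → ∀ s < D.nroots, car D r s = car D₀ (κ r) (κ s)
  odd' : ∀ r < D.nroots, lg r = true → ∃ s < D.nroots, ((car D r s : ℤ) : ZMod 2) ≠ 0
  cls : ∀ r < D.nroots, ∀ s < D.nroots, κ r = κ s → r = s ∨ (s ≠ D.neg r ∧ D.commTerms r s = [])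
  rlt : ∀ r < D.nroots, ρ r < D.nroots ∧ (ε r = 1 ∨ ε r = -1)
  orb : ∀ i, ∀ j ∈ J i, ∀ j' ∈ J i, ∃ n < 3, ρ^[n] (D.simple (j : ℕ)) = D.simple (j' : ℕ)
  part : ∀ g : Fin l → ZMod 2, ∑ j, g j = ∑ i, ((J i).map g).sum

/-- the fixed field -/
abbrev FF {K : Type u} [Field K] (φ : K →+* K) : Subfield K := φ.eqLocusField (RingHom.id K)

section

variable {D : ChevalleyDatum} {l : ℕ} {M' : CoxeterMatrix (Fin l)} (hp : IsType D l M')
  {D₀ : ChevalleyDatum} {m : ℕ} {M₀ : CoxeterMatrix (Fin m)} (hp₀ : IsType D₀ m M₀)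
  {K : Type u} [Field K] {M : CoxeterMatrix (Fin m)} {W : Type*} [Group W] (cs : CoxeterSystem M W)
  {A : Fin m → Fin m → ℤ} (h : IsCartan M A)
  {J : Fin m → List (Fin l)} {L : List (List ℕ)} {σ : GL D.Idx K →* GL D.Idx K} {ρ ρ' : ℕ → ℕ}
  {f : ℕ → K → K} {G : Subgroup (GL D.Idx K)} {φ : K →+* K} {ε : ℕ → ℤ}
  {e : Fin m ≃ Fin m} {lg lg₀ : ℕ → Bool} {κ : ℕ → ℕ}

theorem mem_FF {a : K} : a ∈ FF φ ↔ φ a = a := Iff.rfl

/-! ### the homomorphisms -/

/-- `SL₂(F) → GL` for the root `r`. -/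
noncomputable def psi (hp : IsType D l M') (φ : K →+* K) (r : ℕ) (hr : r < D.nroots) : SL2 ↥(FF φ) →* GL D.Idx K :=
  (SL2Hom.phi (goodR hp hr) K).comp (Matrix.SpecialLinearGroup.map (FF φ).subtype)

theorem psi_eq {r : ℕ} (hr : r < D.nroots) (N : SL2 ↥(FF φ)) : psi hp φ r hr N =
    ((phiV hp K (vec D l r) (Matrix.SpecialLinearGroup.map (FF φ).subtype N) : ↥(D.group K)) : GL D.Idx K) := by
  rw [phiV_vec hp hr]
  rfl

theorem map_up (c : ↥(FF φ)) : Matrix.SpecialLinearGroup.map (FF φ).subtype (up c) = up (c : K) := by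
  apply ext2
  · show (FF φ).subtype ((up c).1 0 0) = _
    simp
  · show (FF φ).subtype ((up c).1 0 1) = _
    simp
  · show (FF φ).subtype ((up c).1 1 0) = _
    simp
  · show (FF φ).subtype ((up c).1 1 1) = _
    simp

theorem map_lo (c : ↥(FF φ)) : Matrix.SpecialLinearGroup.map (FF φ).subtype (lo c) = lo (c : K) := by
  apply ext2
  · show (FF φ).subtype ((lo c).1 0 0) = _
    simp [lo]
  · show (FF φ).subtype ((lo c).1 0 1) = _
    simp [lo]
  · show (FF φ).subtype ((lo c).1 1 0) = _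
    simp [lo]
  · show (FF φ).subtype ((lo c).1 1 1) = _
    simp [lo]

theorem psi_up {r : ℕ} (hr : r < D.nroots) (c : ↥(FF φ)) : psi hp φ r hr (up c) = xG hp.inList r (c : K) := by
  rw [psi_eq, map_up, phiV_up hp hr, coe_xc hp hr]

theorem psi_lo {r : ℕ} (hr : r < D.nroots) (c : ↥(FF φ)) :
    psi hp φ r hr (lo c) = xG hp.inList (D.neg r) (c : K) := by
  rw [psi_eq, map_lo, phiV_lo hp hr, ← vec_neg hp hr, coe_xc hp (neg_lt hp.inList hr)]

theorem map_inj : Function.Injective (Matrix.SpecialLinearGroup.map (n := Fin 2) (FF φ).subtype) := by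
  intro N N' hN
  have key : ∀ i j, ((N.1 i j : ↥(FF φ)) : K) = ((N'.1 i j : ↥(FF φ)) : K) := by
    intro i j
    have h1 := congrArg (fun g : SL2 K => g.1 i j) hN
    exact h1
  apply ext2 <;> exact Subtype.ext (key _ _)

theorem psi_inj {r : ℕ} (hr : r < D.nroots) (hodd : ∃ s < D.nroots, ((car D r s : ℤ) : ZMod 2) ≠ 0)
    (h2 : (2 : K) ≠ 0) : Function.Injective (psi hp φ r hr) := by
  intro N N' hN
  rw [psi_eq, psi_eq] at hN
  exact map_inj (phiV_inj hp hr hodd h2 (Subtype.ext hN))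

open Classical in
/-- the fixed root of a vector -/
noncomputable def ix (D : ChevalleyDatum) (J : Fin m → List (Fin l)) (lg : ℕ → Bool) (z : Fin m → ℤ) : ℕ :=
  if hz : ∃ r, r < D.nroots ∧ lg r = true ∧ V D J r = z then hz.choose else 0

include hp₀ in
theorem FT.V_inj (F : FT D l D₀ m J e ρ ε lg lg₀ κ) {r s : ℕ} (hr : r < D.nroots) (hs : s < D.nroots)
    (hV : V D J s = V D J r) : κ s = κ r := by
  apply vec_inj hp₀ (F.kap s hs).1 (F.kap r hr).1
  funext i
  rw [(F.kap s hs).2, (F.kap r hr).2, hV]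

include hp₀ in
theorem FT.ix_V (F : FT D l D₀ m J e ρ ε lg lg₀ κ) {r : ℕ} (hr : r < D.nroots) (hl : lg r = true) :
    ix D J lg (V D J r) = r := by
  have hz : ∃ s, s < D.nroots ∧ lg s = true ∧ V D J s = V D J r := ⟨r, hr, hl, rfl⟩
  unfold ix
  rw [dif_pos hz]
  exact F.one r hr hl _ hz.choose_spec.1 (F.V_inj hp₀ hr hz.choose_spec.1 hz.choose_spec.2.2)

open Classical in
/-- the root elements of the long relative roots -/
noncomputable def ee (hp : IsType D l M') (J : Fin m → List (Fin l)) (lg : ℕ → Bool) (φ : K →+* K)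
    (G : Subgroup (GL D.Idx K)) (z : Fin m → ℤ) (a : ↥(FF φ)) : ↥G :=
  if hm : xG hp.inList (ix D J lg z) (a : K) ∈ G then ⟨_, hm⟩ else 1

open Classical in
/-- the homomorphisms of the long relative roots -/
noncomputable def pp (hp : IsType D l M') (J : Fin m → List (Fin l)) (lg : ℕ → Bool) (φ : K →+* K)
    (G : Subgroup (GL D.Idx K)) (z : Fin m → ℤ) : SL2 ↥(FF φ) →* ↥G :=
  if hr : ix D J lg z < D.nroots then
    (if hm : ∀ N, psi hp φ (ix D J lg z) hr N ∈ G then (psi hp φ (ix D J lg z) hr).codRestrict G hm else 1) else 1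

section Main

variable (F : FT D l D₀ m J e ρ ε lg lg₀ κ) (FD : FoldData D M A J L) (FG : FoldGrp hp K J L σ ρ ρ' f G)
  (hsig : ∀ r < D.nroots, ∀ t : K, σ (xG hp.inList r t) = xG hp.inList (ρ r) (((ε r : ℤ) : K) * φ t))

include F hsig in
theorem x_mem_R {r : ℕ} (hr : r < D.nroots) (hl : lg r = true) {a : K} (ha : φ a = a) :
    xG hp.inList r a ∈ R D hp K J σ (V D J r) := by
  refine ⟨mem_rspan (xG (F := K) hp.inList) (S := {k | k < D.nroots ∧ V D J k = V D J r}) ⟨hr, rfl⟩ a, ?_⟩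
  show σ (xG hp.inList r a) = xG hp.inList r a
  obtain ⟨h1, h2⟩ := F.fx r hr hl
  rw [hsig r hr, h1, h2, Int.cast_one, one_mul, ha]

include hp FD in
theorem root_V {r : ℕ} (hr : r < D.nroots) : IsRoot cs h (V D J r) :=
  (FD.isRoot_iff (cs := cs) (h := h) hp.checked (fun i _ hr => wp_lt hp (J i) hr) _).2 ⟨r, hr, rfl⟩

include F hsig cs h FD FG in
theorem x_mem_G [Finite K] {r : ℕ} (hr : r < D.nroots) (hl : lg r = true) {a : K} (ha : φ a = a) :
    xG hp.inList r a ∈ G := by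
  obtain ⟨p, hchar⟩ := CharP.exists K
  have : Fact p.Prime := ⟨CharP.char_is_prime K p⟩
  exact R_le cs h FD FG p (root_V hp cs h FD hr) (x_mem_R hp F hsig hr hl ha)

include F hsig cs h FD FG in
theorem psi_mem [Finite K] {r : ℕ} (hr : r < D.nroots) (hl : lg r = true) (N : SL2 ↥(FF φ)) :
    psi hp φ r hr N ∈ G := by
  have h1 : (⊤ : Subgroup (SL2 ↥(FF φ))) ≤ G.comap (psi hp φ r hr) := by
    rw [← closure_up_lo, Subgroup.closure_le]
    rintro _ (⟨c, rfl⟩ | ⟨c, rfl⟩)
    · show psi hp φ r hr (up c) ∈ G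
      rw [psi_up]
      exact x_mem_G hp cs h F FD FG hsig hr hl c.2
    · show psi hp φ r hr (lo c) ∈ G
      rw [psi_lo]
      exact x_mem_G hp cs h F FD FG hsig (neg_lt hp.inList hr) (F.neg r hr hl) c.2
  exact h1 (Subgroup.mem_top N)

include F hp₀ hsig cs h FD FG in
theorem coe_ee [Finite K] {r : ℕ} (hr : r < D.nroots) (hl : lg r = true) (a : ↥(FF φ)) :
    ((ee hp J lg φ G (V D J r) a : ↥G) : GL D.Idx K) = xG hp.inList r (a : K) := by
  have e1 := F.ix_V hp₀ hr hl
  have hm : xG hp.inList (ix D J lg (V D J r)) (a : K) ∈ G := by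
    rw [e1]; exact x_mem_G hp cs h F FD FG hsig hr hl a.2
  unfold ee
  rw [dif_pos hm]
  show xG hp.inList (ix D J lg (V D J r)) (a : K) = _
  rw [e1]

include F hp₀ hsig cs h FD FG in
theorem coe_pp [Finite K] {r : ℕ} (hr : r < D.nroots) (hl : lg r = true) (N : SL2 ↥(FF φ)) :
    ((pp hp J lg φ G (V D J r) N : ↥G) : GL D.Idx K) = psi hp φ r hr N := by
  have e1 := F.ix_V hp₀ hr hl
  have key : ∀ s, s = r → ∀ hs : s < D.nroots, psi hp φ s hs N = psi hp φ r hr N := by
    rintro s rfl hs; rfl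
  have hr' : ix D J lg (V D J r) < D.nroots := by rw [e1]; exact hr
  have hm : ∀ N, psi hp φ (ix D J lg (V D J r)) hr' N ∈ G := by
    intro N
    have hl' : lg (ix D J lg (V D J r)) = true := by rw [e1]; exact hl
    exact psi_mem hp cs h F FD FG hsig hr' hl' N
  unfold pp
  rw [dif_pos hr', dif_pos hm]
  exact key _ e1 hr'

/-! ### the action on the classes -/

theorem class_fix {Γ ι : Type*} [Group Γ] {x : ι → K → Γ} {S : Set ι} {z : Γ}
    (hz : ∀ k ∈ S, ∀ t, z * x k t * z⁻¹ = x k t) {u : Γ} (hu : u ∈ rspan x S) : z * u * z⁻¹ = u := by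
  have h1 : rspan x S ≤ Subgroup.centralizer {z} := by
    refine rspan_le x fun k hk t => ?_
    rw [Subgroup.mem_centralizer_singleton_iff]
    have := hz k hk t
    rw [mul_inv_eq_iff_eq_mul] at this
    exact this.symm
  have h2 := h1 hu
  rw [Subgroup.mem_centralizer_singleton_iff] at h2
  rw [← h2, mul_inv_cancel_right]

theorem class_comm {Γ ι : Type*} [Group Γ] {x : ι → K → Γ} {S : Set ι}
    (hc : ∀ k ∈ S, ∀ k' ∈ S, ∀ t t', x k t * x k' t' = x k' t' * x k t) {u v : Γ} (hu : u ∈ rspan x S)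
    (hv : v ∈ rspan x S) : u * v = v * u := by
  have h1 : ∀ k ∈ S, ∀ t, ∀ v ∈ rspan x S, x k t * v = v * x k t := by
    intro k hk t v hv
    have h2 : rspan x S ≤ Subgroup.centralizer {x k t} := by
      refine rspan_le x fun k' hk' t' => ?_
      rw [Subgroup.mem_centralizer_singleton_iff]
      exact hc k' hk' k hk t' t
    have h3 := h2 hv
    rw [Subgroup.mem_centralizer_singleton_iff] at h3
    exact h3.symm
  have h2 : rspan x S ≤ Subgroup.centralizer {v} := by
    refine rspan_le x fun k hk t => ?_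
    rw [Subgroup.mem_centralizer_singleton_iff]
    exact h1 k hk t v hv
  have h3 := h2 hu
  rwa [Subgroup.mem_centralizer_singleton_iff] at h3

theorem class_inv {Γ ι : Type*} [Group Γ] {x : ι → K → Γ} {S : Set ι} {z : Γ}
    (hc : ∀ k ∈ S, ∀ k' ∈ S, ∀ t t', x k t * x k' t' = x k' t' * x k t)
    (hz : ∀ k ∈ S, ∀ t, z * x k t * z⁻¹ = (x k t)⁻¹) {u : Γ} (hu : u ∈ rspan x S) : z * u * z⁻¹ = u⁻¹ := by
  have hu' : u ∈ Subgroup.closure {g | ∃ r ∈ S, ∃ t, g = x r t} := hu
  induction hu' using Subgroup.closure_induction with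
  | mem y hy =>
    obtain ⟨k, hk, t, rfl⟩ := hy
    exact hz k hk t
  | one => rw [mul_one, mul_inv_cancel, inv_one]
  | mul a b ha hb iha ihb =>
    have h1 : z * (a * b) * z⁻¹ = (z * a * z⁻¹) * (z * b * z⁻¹) := by group
    rw [h1, iha ha, ihb hb, ← mul_inv_rev, class_comm hc hb ha]
  | inv a ha iha =>
    have h1 : z * a⁻¹ * z⁻¹ = (z * a * z⁻¹)⁻¹ := by group
    rw [h1, iha ha]

include F hp hp₀ in
theorem cls_comm {y : Fin m → ℤ} : ∀ k ∈ {k | k < D.nroots ∧ V D J k = y}, ∀ k' ∈ {k | k < D.nroots ∧ V D J k = y},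
    ∀ t t' : K, xG hp.inList k t * xG hp.inList k' t' = xG hp.inList k' t' * xG hp.inList k t := by
  rintro k ⟨hk, hky⟩ k' ⟨hk', hky'⟩ t t'
  have h1 : κ k = κ k' := F.V_inj hp₀ hk' hk (by rw [hky, hky'])
  rcases F.cls k hk k' hk' h1 with rfl | ⟨h2, h3⟩
  · rw [xG_add, xG_add, add_comm]
  · by_cases he : k = k'
    · subst he
      rw [xG_add, xG_add, add_comm]
    · exact (commute_of_nil hp hk hk' (Ne.symm he) h2 h3 t t').eq

/-! ### the involutions -/

include FG in
theorem G_le_group [Finite K] : G ≤ D.group K := by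
  refine FG.gen.trans (iSup_le fun i => sup_le ?_ ?_) <;>
  · refine inf_le_left.trans (rspan_le _ fun k _ t => xG_mem_group hp.inList k t)

/-- the parity of the Cartan integers, through `D₀` -/
noncomputable def zeta (hp₀ : IsType D₀ m M₀) {W : Type*} [Group W] (cs₀ : CoxeterSystem M₀ W) (e : Fin m ≃ Fin m)
    (x y : Fin m → ℤ) : ZMod 2 := zet cs₀ hp₀ (x ∘ e) (y ∘ e)

include F in
theorem zeta_V (cs₀ : CoxeterSystem M₀ W) {r s : ℕ} (hr : r < D.nroots) (hl : lg r = true) (hs : s < D.nroots) :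
    zeta hp₀ cs₀ e (V D J r) (V D J s) = ((car D r s : ℤ) : ZMod 2) := by
  have e1 : V D J r ∘ e = vec D₀ m (κ r) := funext fun i => ((F.kap r hr).2 i).symm
  have e2 : V D J s ∘ e = vec D₀ m (κ s) := funext fun i => ((F.kap s hs).2 i).symm
  unfold zeta
  rw [e1, e2, zet_vec hp₀ cs₀ (F.kap r hr).1 (F.kap s hs).1, F.crt r hr hl s hs]

include F hp hp₀ in
theorem act_class {g : GL D.Idx K} {δ : ZMod 2} {y : Fin m → ℤ}
    (hg : ∀ k < D.nroots, V D J k = y → ∀ t : K, g * xG hp.inList k t * g⁻¹ = if δ = 0 then xG hp.inList k t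
      else (xG hp.inList k t)⁻¹) {u : GL D.Idx K} (hu : u ∈ R D hp K J σ y) :
    g * u * g⁻¹ = if δ = 0 then u else u⁻¹ := by
  have hu1 : u ∈ rspan (xG (F := K) hp.inList) {k | k < D.nroots ∧ V D J k = y} := hu.1
  by_cases hδ : δ = 0
  · rw [if_pos hδ]
    refine class_fix (fun k hk t => ?_) hu1
    rw [hg k hk.1 hk.2 t, if_pos hδ]
  · rw [if_neg hδ]
    refine class_inv (cls_comm hp hp₀ F) (fun k hk t => ?_) hu1
    rw [hg k hk.1 hk.2 t, if_neg hδ]

include F hp₀ hsig cs h FD FG in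
theorem zz_ee [Finite K] {r : ℕ} (hr : r < D.nroots) (hl : lg r = true) :
    ((zz (ee hp J lg φ G) (V D J r) : ↥G) : GL D.Idx K) =
      ((phiV hp K (vec D l r) neg1 : ↥(D.group K)) : GL D.Idx K) := by
  have hn := neg_lt hp.inList hr
  have e1 : -V D J r = V D J (D.neg r) := (V_neg hp.checked hr).symm
  rw [← zz_eq hp hr]
  unfold zz
  rw [e1, ← vec_neg hp hr]
  simp only [Subgroup.coe_mul, coe_ee hp hp₀ cs h F FD FG hsig hr hl,
    coe_ee hp hp₀ cs h F FD FG hsig hn (F.neg r hr hl), coe_xc hp hr, coe_xc hp hn]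
  simp

theorem coe_inv_if {H : Subgroup (GL D.Idx K)} (u : ↥H) (δ : ZMod 2) :
    ((if δ = 0 then u else u⁻¹ : ↥H) : GL D.Idx K) = if δ = 0 then (u : GL D.Idx K) else (u : GL D.Idx K)⁻¹ := by
  by_cases h : δ = 0
  · rw [if_pos h, if_pos h]
  · rw [if_neg h, if_neg h]; rfl

include F hp₀ hsig cs h FD FG in
theorem zact [Finite K] (cs₀ : CoxeterSystem M₀ W) {r : ℕ} (hr : r < D.nroots) (hl : lg r = true) {y : Fin m → ℤ}
    (hy : IsRoot cs h y) {u : ↥G} (hu : (u : GL D.Idx K) ∈ R D hp K J σ y) :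
    zz (ee hp J lg φ G) (V D J r) * u * (zz (ee hp J lg φ G) (V D J r))⁻¹ =
      if zeta hp₀ cs₀ e (V D J r) y = 0 then u else u⁻¹ := by
  apply Subtype.ext
  rw [coe_inv_if, Subgroup.coe_mul, Subgroup.coe_mul, Subgroup.coe_inv, zz_ee hp hp₀ cs h F FD FG hsig hr hl]
  refine act_class hp hp₀ F (fun k hk hky t => ?_) hu
  subst hky
  rw [zeta_V hp₀ F cs₀ hr hl hk]
  have h1 := neg1_conj' hp (K := K) hr hk (y := xc hp (vec D l k) t) ((mem_XX hp hk _).2 ⟨t, rfl⟩)
  have h2 := congrArg (fun g : ↥(D.group K) => (g : GL D.Idx K)) h1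
  simp only [coe_inv_if] at h2
  rw [Subgroup.coe_mul, Subgroup.coe_mul, Subgroup.coe_inv, coe_xc hp hk] at h2
  exact h2

include F hp₀ hsig cs h FD FG in
theorem sgn_fold [Finite K] (h2 : (2 : K) ≠ 0) {t : ↥G} (ht : (t : GL D.Idx K) ∈ D.diagonalSubgroup K)
    (htt : t * t = 1) : ∃ η : (Fin l → ℤ) →+ ZMod 2, ∃ ε' : (Fin m → ℤ) →+ ZMod 2,
      (∀ k < D.nroots, ∀ b : K, (t : GL D.Idx K) * xG hp.inList k b * (t : GL D.Idx K)⁻¹ =
        if η (vec D l k) = 0 then xG hp.inList k b else (xG hp.inList k b)⁻¹) ∧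
      (∀ k < D.nroots, ε' (V D J k) = η (vec D l k)) := by
  classical
  have htG : (t : GL D.Idx K) ∈ D.group K := G_le_group hp FG t.2
  have htσ : σ (t : GL D.Idx K) = t := FG.G_le t.2
  have htt' : (t : GL D.Idx K) * (t : GL D.Idx K) = 1 := congrArg (Subtype.val : ↥G → GL D.Idx K) htt
  obtain ⟨η, hη⟩ := sgn hp h2 (t := ⟨(t : GL D.Idx K), htG⟩) (Subgroup.mem_subgroupOf.2 ht) (Subtype.ext htt')
  have key : ∀ k < D.nroots, ∀ b : K, (t : GL D.Idx K) * xG hp.inList k b * (t : GL D.Idx K)⁻¹ =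
        if η (vec D l k) = 0 then xG hp.inList k b else (xG hp.inList k b)⁻¹ := by
    intro k hk b
    have h1 := hη k hk (xc hp (vec D l k) b) ((mem_XX hp hk _).2 ⟨b, rfl⟩)
    have h3 := congrArg (fun g : ↥(D.group K) => (g : GL D.Idx K)) h1
    simp only [coe_inv_if] at h3
    rw [Subgroup.coe_mul, Subgroup.coe_mul, Subgroup.coe_inv, coe_xc hp hk] at h3
    exact h3
  have key' : ∀ k < D.nroots, ∀ b : K, (t : GL D.Idx K) * xG hp.inList k b * (t : GL D.Idx K)⁻¹ =
        xG hp.inList k ((if η (vec D l k) = 0 then 1 else -1) * b) := by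
    intro k hk b
    rw [key k hk b]
    by_cases h3 : η (vec D l k) = 0
    · rw [if_pos h3, if_pos h3, one_mul]
    · rw [if_neg h3, if_neg h3, neg_one_mul, xG_inv]
  have hne : (1 : K) ≠ -1 := by
    intro h1
    apply h2
    rw [← one_add_one_eq_two]
    nth_rw 1 [h1]
    rw [neg_add_cancel]
  have hsq : ∀ x y : ZMod 2, ((if x = 0 then (1 : K) else -1) = if y = 0 then 1 else -1) → x = y := by
    intro x y hxy
    have h01 : ∀ z : ZMod 2, z = 0 ∨ z = 1 := by decide
    rcases h01 x with rfl | rfl <;> rcases h01 y with rfl | rfl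
    · rfl
    · rw [if_pos rfl, if_neg one_ne_zero] at hxy
      exact absurd hxy hne
    · rw [if_pos rfl, if_neg one_ne_zero] at hxy
      exact absurd hxy.symm hne
    · rfl
  -- the character is `ρ`-invariant
  have hρ : ∀ k < D.nroots, η (vec D l (ρ k)) = η (vec D l k) := by
    intro k hk
    obtain ⟨hρk, hε⟩ := F.rlt k hk
    have h3 := congrArg σ (key' k hk 1)
    rw [map_mul, map_mul, map_inv, htσ, hsig k hk, hsig k hk, mul_one, key' (ρ k) hρk] at h3
    have h4 := xG_injective hp.inList hρk h3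
    apply hsq
    have hφ : φ (if η (vec D l k) = 0 then (1 : K) else -1) = if η (vec D l k) = 0 then (1 : K) else -1 := by
      by_cases h5 : η (vec D l k) = 0
      · rw [if_pos h5, map_one]
      · rw [if_neg h5, map_neg, map_one]
    rw [hφ, map_one, mul_one] at h4
    rcases hε with h5 | h5
    · rw [h5, Int.cast_one, mul_one, one_mul] at h4
      exact h4
    · rw [h5, Int.cast_neg, Int.cast_one, mul_neg_one, neg_one_mul, neg_inj] at h4
      exact h4
  have hρn : ∀ n, ∀ k < D.nroots, ρ^[n] k < D.nroots ∧ η (vec D l (ρ^[n] k)) = η (vec D l k) := by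
    intro n
    induction n with
    | zero => intro k hk; exact ⟨hk, rfl⟩
    | succ n ih =>
      intro k hk
      rw [Function.iterate_succ_apply']
      obtain ⟨h3, h4⟩ := ih k hk
      exact ⟨(F.rlt _ h3).1, (hρ _ h3).trans h4⟩
  have horb : ∀ i, ∀ j ∈ J i, ∀ j' ∈ J i, η (sr j') = η (sr j) := by
    intro i j hj j' hj'
    obtain ⟨n, -, hn⟩ := F.orb i j hj j' hj'
    have h3 := (hρn n _ (simple_lt hp.inList (lt_rank hp j))).2
    rw [hn, vec_simple hp, vec_simple hp] at h3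
    exact h3
  let g : Fin m → ZMod 2 := fun i => if hJ : ∃ j, j ∈ J i then η (sr hJ.choose) else 0
  have hg : ∀ i, ∀ j ∈ J i, η (sr j) = g i := by
    intro i j hj
    have hJ : ∃ j, j ∈ J i := ⟨j, hj⟩
    show _ = if hJ : ∃ j, j ∈ J i then η (sr hJ.choose) else 0
    rw [dif_pos hJ]
    exact horb i _ hJ.choose_spec j hj
  refine ⟨η, { toFun := fun v => ∑ i, ((v i : ℤ) : ZMod 2) * g i
               map_zero' := by simp
               map_add' := fun v w => by
                rw [← Finset.sum_add_distrib]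
                refine Finset.sum_congr rfl fun i _ => ?_
                rw [Pi.add_apply, Int.cast_add, add_mul] }, key, fun k hk => ?_⟩
  show ∑ i, ((V D J k i : ℤ) : ZMod 2) * g i = η (vec D l k)
  rw [CenTab.hom_eq η, F.part]
  refine Finset.sum_congr rfl fun i _ => ?_
  rw [V_apply]
  have h3 : ∀ o : List (Fin l), (∀ j ∈ o, η (sr j) = g i) →
      (((o.map fun j : Fin l => RootVec.rt D k (j : ℕ)).sum : ℤ) : ZMod 2) * g i =
        (o.map fun j => ((vec D l k j : ℤ) : ZMod 2) * η (sr j)).sum := by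
    intro o
    induction o with
    | nil => intro _; simp
    | cons j o ih =>
      intro ho
      rw [List.map_cons, List.sum_cons, List.map_cons, List.sum_cons, Int.cast_add, add_mul,
        ih (fun j' hj' => ho j' (List.mem_cons_of_mem _ hj')), ho j List.mem_cons_self]
      rfl
  exact h3 (J i) (fun j hj => hg i j hj)

/-! ### the long root data -/

include hp F hsig in
/-- the reflections act on the fixed root elements by fixed scalars -/
theorem nn_fix {r r' : ℕ} (hr : r < D.nroots) (hl : lg r = true) (hr' : r' < D.nroots) (hl' : lg r' = true)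
    {g : GL D.Idx K} (hg : σ g = g) (hc : ∃ c : K, ∀ b : K, g * xG hp.inList r b * g⁻¹ = xG hp.inList r' (c * b)) :
    ∃ c : ↥(FF φ), ∀ b : ↥(FF φ), g * xG hp.inList r (b : K) * g⁻¹ = xG hp.inList r' ((c * b : ↥(FF φ)) : K) := by
  obtain ⟨c, hc⟩ := hc
  have h1 := congrArg σ (hc 1)
  obtain ⟨h2, h3⟩ := F.fx r hr hl
  obtain ⟨h4, h5⟩ := F.fx r' hr' hl'
  rw [map_mul, map_mul, map_inv, hg, hsig r hr, hsig r' hr', h2, h3, h4, h5, Int.cast_one, one_mul, one_mul,
    map_one, mul_one, hc 1, mul_one] at h1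
  have h6 := xG_injective hp.inList hr' h1
  exact ⟨⟨c, h6.symm⟩, fun b => hc b⟩

include F hp₀ hsig cs h FD FG in
theorem ee_conj [Finite K] {r r' : ℕ} (hr : r < D.nroots) (hl : lg r = true) (hr' : r' < D.nroots) (hl' : lg r' = true)
    {g : ↥G} (hc : ∃ c : K, ∀ b : K, (g : GL D.Idx K) * xG hp.inList r b * (g : GL D.Idx K)⁻¹ =
      xG hp.inList r' (c * b)) :
    ∃ c : ↥(FF φ), ∀ b : ↥(FF φ), g * ee hp J lg φ G (V D J r) b * g⁻¹ = ee hp J lg φ G (V D J r') (c * b) := by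
  obtain ⟨c, hc⟩ := nn_fix hp F hsig hr hl hr' hl' (FG.G_le g.2) hc
  refine ⟨c, fun b => Subtype.ext ?_⟩
  rw [Subgroup.coe_mul, Subgroup.coe_mul, Subgroup.coe_inv, coe_ee hp hp₀ cs h F FD FG hsig hr hl,
    coe_ee hp hp₀ cs h F FD FG hsig hr' hl']
  exact hc b

/-- the long relative roots -/
def LRf (D₀ : ChevalleyDatum) (e : Fin m ≃ Fin m) (lg₀ : ℕ → Bool) : Set (Fin m → ℤ) :=
  {x | x ∘ e ∈ LR D₀ m lg₀}

include F hp₀ in
theorem mem_LRf (x : Fin m → ℤ) : x ∈ LRf D₀ e lg₀ ↔ ∃ r, r < D.nroots ∧ lg r = true ∧ V D J r = x := by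
  constructor
  · rintro ⟨k, hk, hlk, hx⟩
    obtain ⟨r, hr, hlr, rfl⟩ := F.lg1 k hk hlk
    refine ⟨r, hr, hlr, ?_⟩
    funext i
    have h1 := (F.kap r hr).2 (e.symm i)
    have h2 := congrFun hx (e.symm i)
    rw [e.apply_symm_apply] at h1
    rw [Function.comp_apply, e.apply_symm_apply] at h2
    rw [← h1, h2]
  · rintro ⟨r, hr, hlr, rfl⟩
    refine ⟨κ r, (F.kap r hr).1, F.lg0 r hr hlr, ?_⟩
    funext i
    exact (F.kap r hr).2 i

include F hp₀ hsig h FD FG in
/-- **The long root data of the twisted group.** -/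
theorem long_fold [Finite K] (cs₀ : CoxeterSystem M₀ W) (h2 : (2 : K) ≠ 0) :
    Long cs h ((D.diagonalSubgroup K ⊓ G).subgroupOf G) (fun i => (⟨nI hp K (J i), FG.nG i⟩ : ↥G))
      (fun z => (R D hp K J σ z).subgroupOf G) (LRf D₀ e lg₀) (ee hp J lg φ G) (pp hp J lg φ G)
      (zeta hp₀ cs₀ e) where
  root x hx := by
    obtain ⟨r, hr, -, rfl⟩ := (mem_LRf hp₀ F x).1 hx
    exact root_V hp cs h FD hr
  act w x hx := by
    obtain ⟨r, hr, hl, rfl⟩ := (mem_LRf hp₀ F x).1 hx
    obtain ⟨ω, rfl⟩ := cs.wordProd_surjective w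
    induction ω with
    | nil =>
      rw [wordProd_nil, map_one, Module.End.one_apply]
      exact hx
    | cons i ω ih =>
      obtain ⟨s, hs, hls, e1⟩ := (mem_LRf hp₀ F _).1 ih
      rw [wordProd_cons, rep_mul_apply, ← e1, rep_refl, ← FD.wp_V s hs]
      exact (mem_LRf hp₀ F _).2 ⟨_, wp_lt hp (J i) hs, F.inv i s hs hls, rfl⟩
  neg x hx := by
    obtain ⟨r, hr, hl, rfl⟩ := (mem_LRf hp₀ F x).1 hx
    exact (mem_LRf hp₀ F _).2 ⟨D.neg r, neg_lt hp.inList hr, F.neg r hr hl, V_neg hp.checked hr⟩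
  inj x hx := by
    obtain ⟨r, hr, hl, rfl⟩ := (mem_LRf hp₀ F x).1 hx
    intro N N' hN
    have h1 := congrArg (fun g : ↥G => (g : GL D.Idx K)) hN
    simp only [coe_pp hp hp₀ cs h F FD FG hsig hr hl] at h1
    exact psi_inj hp hr (F.odd' r hr hl) h2 h1
  up x hx c := by
    obtain ⟨r, hr, hl, rfl⟩ := (mem_LRf hp₀ F x).1 hx
    apply Subtype.ext
    rw [coe_pp hp hp₀ cs h F FD FG hsig hr hl, coe_ee hp hp₀ cs h F FD FG hsig hr hl, psi_up]
  lo x hx c := by
    obtain ⟨r, hr, hl, rfl⟩ := (mem_LRf hp₀ F x).1 hx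
    apply Subtype.ext
    rw [coe_pp hp hp₀ cs h F FD FG hsig hr hl, ← V_neg hp.checked hr,
      coe_ee hp hp₀ cs h F FD FG hsig (neg_lt hp.inList hr) (F.neg r hr hl), psi_lo]
  tor x hx t ht := by
    obtain ⟨r, hr, hl, rfl⟩ := (mem_LRf hp₀ F x).1 hx
    refine ee_conj hp hp₀ cs h F FD FG hsig hr hl hr hl ?_
    obtain ⟨c, -, hc⟩ := BNChev.diagonal_conj hp.inList (F := K) (h := t) (Subgroup.mem_subgroupOf.1 ht).1 hr
    exact ⟨c, hc⟩
  nn i x hx := by
    obtain ⟨r, hr, hl, rfl⟩ := (mem_LRf hp₀ F x).1 hx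
    rw [rep_refl, ← FD.wp_V r hr]
    refine ee_conj hp hp₀ cs h F FD FG hsig hr hl (wp_lt hp (J i) hr) (F.inv i r hr hl) ?_
    have key : ∀ o : List (Fin l), ∃ c : K, ∀ b : K, nI hp K o * xG hp.inList r b * (nI hp K o)⁻¹ =
        xG hp.inList (wp D o r) (c * b) := by
      intro o
      induction o with
      | nil => exact ⟨1, fun b => by rw [one_mul]; show 1 * _ * 1⁻¹ = _; rw [one_mul, inv_one, mul_one]; rfl⟩
      | cons j o ih =>
        obtain ⟨c, hc⟩ := ih
        obtain ⟨c', -, hc'⟩ := nact hp (K := K) (i := j) (wp_lt hp o hr)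
        refine ⟨c' * c, fun b => ?_⟩
        have h3 := congrArg (fun g : ↥(D.group K) => (g : GL D.Idx K)) (hc' (c * b))
        simp only [Subgroup.coe_mul, Subgroup.coe_inv] at h3
        rw [coe_xc hp (wp_lt hp o hr), coe_xc hp (reflectRoot_lt hp.inList (lt_rank hp j) (wp_lt hp o hr))] at h3
        have h4 : nI hp K (j :: o) * xG hp.inList r b * (nI hp K (j :: o))⁻¹ =
            nn hp K j * (nI hp K o * xG hp.inList r b * (nI hp K o)⁻¹) * (nn hp K j)⁻¹ := by
          rw [nI_cons]; group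
        rw [h4, hc, mul_assoc c']
        exact h3
    exact key (J i)
  memX x hx b := by
    obtain ⟨r, hr, hl, rfl⟩ := (mem_LRf hp₀ F x).1 hx
    rw [Subgroup.mem_subgroupOf, coe_ee hp hp₀ cs h F FD FG hsig hr hl]
    exact x_mem_R hp F hsig hr hl b.2
  zT x hx := by
    obtain ⟨r, hr, hl, rfl⟩ := (mem_LRf hp₀ F x).1 hx
    rw [Subgroup.mem_subgroupOf]
    refine ⟨?_, (zz (ee hp J lg φ G) (V D J r)).2⟩
    rw [zz_ee hp hp₀ cs h F FD FG hsig hr hl]
    exact Subgroup.mem_subgroupOf.1 (neg1_mem hp hr)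
  zact x hx y hy u hu := by
    obtain ⟨r, hr, hl, rfl⟩ := (mem_LRf hp₀ F x).1 hx
    exact zact hp hp₀ cs h F FD FG hsig cs₀ hr hl hy (Subgroup.mem_subgroupOf.1 hu)
  sgn c hc hcc := by
    obtain ⟨η, ε', h3, h4⟩ := sgn_fold hp hp₀ cs h F FD FG hsig h2 (Subgroup.mem_subgroupOf.1 hc).1 hcc
    refine ⟨ε', fun y hy u hu => ?_⟩
    apply Subtype.ext
    rw [coe_inv_if, Subgroup.coe_mul, Subgroup.coe_mul, Subgroup.coe_inv]
    refine act_class hp hp₀ F (fun k hk hky t => ?_) (Subgroup.mem_subgroupOf.1 hu)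
    subst hky
    rw [h4 k hk]
    exact h3 k hk t
  cen c hc hcc hfix := by
    obtain ⟨η, ε', h3, h4⟩ := sgn_fold hp hp₀ cs h F FD FG hsig h2 (Subgroup.mem_subgroupOf.1 hc).1 hcc
    obtain ⟨p, hchar⟩ := CharP.exists K
    have hpp : Fact p.Prime := ⟨CharP.char_is_prime K p⟩
    have hp2 : p ≠ 2 := by
      rintro rfl
      exact h2 (by exact_mod_cast CharP.cast_eq_zero K 2)
    have hW : Finite W := RGDFold.finite_W (hp := hp) cs h FD
    have R := RGDFold.rgd cs h FD FG p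
    -- the character is trivial
    have hη : ∀ k < D.nroots, η (vec D l k) = 0 := by
      intro k hk
      by_contra hne
      have hy := root_V hp cs h FD hk
      obtain ⟨u, hu, hu1⟩ := exists_X R hy
      apply hu1
      apply odd_inv R hp2 hy hu
      have h5 := hfix _ hy u hu
      have h6 : c * u * c⁻¹ = u⁻¹ := by
        apply Subtype.ext
        rw [Subgroup.coe_mul, Subgroup.coe_mul, Subgroup.coe_inv, Subgroup.coe_inv]
        have h7 := act_class hp hp₀ F (g := (c : GL D.Idx K)) (δ := η (vec D l k)) (y := V D J k) (σ := σ)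
          (fun k' hk' hky t => by
            rw [h3 k' hk' t, ← h4 k' hk', hky, h4 k hk]) (Subgroup.mem_subgroupOf.1 hu)
        rw [if_neg hne] at h7
        exact h7
      rw [h5] at h6
      exact h6
    have hcG : (c : GL D.Idx K) ∈ D.group K := G_le_group hp FG c.2
    have hcen : (⟨(c : GL D.Idx K), hcG⟩ : ↥(D.group K)) ∈ Subgroup.center ↥(D.group K) := by
      rw [Subgroup.mem_center_iff]
      rintro ⟨g, hg⟩
      have h5 : D.group K ≤ Subgroup.centralizer {(c : GL D.Idx K)} := by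
        rw [group_le_iff hp.inList]
        intro k hk b
        rw [Subgroup.mem_centralizer_singleton_iff]
        have h6 := h3 k hk b
        rw [if_pos (hη k hk), mul_inv_eq_iff_eq_mul] at h6
        exact h6.symm
      have h6 := h5 hg
      rw [Subgroup.mem_centralizer_singleton_iff] at h6
      exact Subtype.ext h6
    rw [S1077.center_group_eq_bot (K := K) hp.inList, Subgroup.mem_bot] at hcen
    exact Subtype.ext (congrArg (Subtype.val : ↥(D.group K) → GL D.Idx K) hcen)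
  tcomm s hs t ht := by
    have h3 := tt_comm hp (K := K) (s := ⟨(s : GL D.Idx K), G_le_group hp FG s.2⟩)
      (t := ⟨(t : GL D.Idx K), G_le_group hp FG t.2⟩)
      (Subgroup.mem_subgroupOf.2 (Subgroup.mem_subgroupOf.1 hs).1)
      (Subgroup.mem_subgroupOf.2 (Subgroup.mem_subgroupOf.1 ht).1)
    exact Subtype.ext (congrArg (Subtype.val : ↥(D.group K) → GL D.Idx K) h3)

include F hp₀ hsig h FD FG in
/-- **(ZS) for a twisted group.** -/
theorem exists_E_fold [Finite K] (cs₀ : CoxeterSystem M₀ W) (h2 : (2 : K) ≠ 0)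
    (hcs : ∀ i, cs.simple (e i) = cs₀.simple i) (hA : ∀ i j, cartanOf D₀ m i j = A (e i) (e j))
    {ι : Type*} [Nonempty ι] {w₀ : W} {β : ι → ℕ}
    (hβ : ∀ j, β j < D₀.nroots) (C : Comb cs₀ hp₀.isCartan (LR D₀ m lg₀) (zet cs₀ hp₀) w₀ (fun j => vec D₀ m (β j)))
    (hc : ∀ j k, j ≠ k → ∀ r < D.nroots, ∀ s < D.nroots, lg r = true → lg s = true → κ r = β j → κ s = β k →
      r ≠ s ∧ r ≠ D.neg s ∧ D.commTerms s r = [] ∧ D.commTerms s (D.neg r) = [] ∧ D.commTerms (D.neg s) r = [] ∧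
        D.commTerms (D.neg s) (D.neg r) = []) :
    ∃ E : Subgroup ↥G, IsPGroup 2 E ∧ CenExp.OneInv E := by
  obtain ⟨p, hchar⟩ := CharP.exists K
  have hpp : Fact p.Prime := ⟨CharP.char_is_prime K p⟩
  have hp2 : p ≠ 2 := by
    rintro rfl
    exact h2 (by exact_mod_cast CharP.cast_eq_zero K 2)
  have hW : Finite W := RGDFold.finite_W (hp := hp) cs h FD
  have R := RGDFold.rgd cs h FD FG p
  have L' := long_fold hp hp₀ cs h F FD FG hsig cs₀ h2
  have C' := C.reindex (h' := h) hA hcs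
  have hG : Bruhat.GG cs h ((D.diagonalSubgroup K ⊓ G).subgroupOf G) (fun z => (RGDFold.R D hp K J σ z).subgroupOf G) = ⊤ := by
    rw [eq_top_iff, ← RGDFold.G1_eq_top cs h FD FG p]
    exact le_sup_right
  have h2' : (2 : ↥(FF φ)) ≠ 0 := by
    intro h0
    apply h2
    have := congrArg (Subtype.val : ↥(FF φ) → K) h0
    exact this
  refine exists_E R L' C' hp2 h2' hG ?_
  intro j k hjk N N'
  obtain ⟨r, hr, hlr, hrj⟩ := (mem_LRf (e := e) hp₀ F _).1 (C'.mem j)
  obtain ⟨s, hs, hls, hsk⟩ := (mem_LRf (e := e) hp₀ F _).1 (C'.mem k)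
  have e1 : ∀ (t : ℕ) (ht : t < D.nroots) (i : ι), V D J t = vec D₀ m (β i) ∘ e.symm → κ t = β i := by
    intro t ht i hti
    apply vec_inj hp₀ (F.kap t ht).1 (hβ i)
    funext x
    rw [(F.kap t ht).2, hti, Function.comp_apply, e.symm_apply_apply]
  obtain ⟨h3, h4, h5, h6, h7, h8⟩ := hc j k hjk r hr s hs hlr hls (e1 r hr j hrj) (e1 s hs k hsk)
  apply Subtype.ext
  rw [← hrj, ← hsk, Subgroup.coe_mul, Subgroup.coe_mul, coe_pp hp hp₀ cs h F FD FG hsig hr hlr,
    coe_pp hp hp₀ cs h F FD FG hsig hs hls, psi_eq, psi_eq]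
  have h9 := phi_comm hp (K := K) hs hr h3 h4 h5 h6 h7 h8 (Matrix.SpecialLinearGroup.map (FF φ).subtype N)
    (Matrix.SpecialLinearGroup.map (FF φ).subtype N')
  exact congrArg (Subtype.val : ↥(D.group K) → GL D.Idx K) h9

end Main

end

end Cfsg.Agent.Omega.Lie.CenFold

end

section


/-!
# (ZS) rows: the kernel check for `CenTab.CD`
-/

set_option autoImplicit false
set_option linter.unusedSectionVars false

namespace Cfsg.Agent.Omega.Lie.CenTab

open CoxeterSystem Cfsg.Agent.ChevalleyStructure.CoxeterGeom Cfsg.Agent.Tits.Roots Cfsg.Agent.Tits.Core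
  Cfsg.Agent.Nodes Cfsg.Agent.Nodes.Reps
  Cfsg.Agent.Nodes.RGDChev
open Cfsg.Lie Cfsg.Agent.ChevalleyStructure Cfsg.Agent.ChevalleyStructure.RootCombGood
  Cfsg.Agent.ChevalleyStructure.RootCombBase Cfsg.Agent.ChevalleyStructure.RootCombBridge

/-- parity of an integer -/
def pz (z : ℤ) : Bool := Nat.beq (Nat.mod (Int.natAbs z) 2) 1

theorem pz_iff (z : ℤ) : pz z = true ↔ ((z : ℤ) : ZMod 2) ≠ 0 := by
  have h1 : pz z = true ↔ z.natAbs % 2 = 1 := by
    unfold pz
    rw [Nat.beq_eq]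
    rfl
  rw [h1, Ne, ZMod.intCast_zmod_eq_zero_iff_dvd]
  omega

theorem pz_eq_iff {a b : ℤ} : ((a : ℤ) : ZMod 2) = ((b : ℤ) : ZMod 2) ↔ pz a = pz b := by
  have key : ∀ x y : ZMod 2, (x ≠ 0 ↔ y ≠ 0) → x = y := by decide
  constructor
  · intro h
    have := pz_iff a
    have := pz_iff b
    by_cases ha : pz a = true
    · have h1 := (pz_iff a).1 ha
      rw [h] at h1
      rw [ha, (pz_iff b).2 h1]
    · have h2 : ¬ pz b = true := fun h3 => ha ((pz_iff a).2 (by rw [h]; exact (pz_iff b).1 h3))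
      rw [Bool.not_eq_true] at ha h2
      rw [ha, h2]
  · intro h
    apply key
    rw [← pz_iff, ← pz_iff, h]

/-- `Bool` to `ZMod 2` -/
def toZ (b : Bool) : ZMod 2 := bif b then 1 else 0

theorem toZ_pz (z : ℤ) : ((z : ℤ) : ZMod 2) = toZ (pz z) := by
  have key : ∀ x : ZMod 2, x ≠ 0 → x = 1 := by decide
  by_cases h : pz z = true
  · rw [h]
    exact key _ ((pz_iff z).1 h)
  · have h1 : ((z : ℤ) : ZMod 2) = 0 := by
      by_contra h2
      exact h ((pz_iff z).2 h2)
    rw [Bool.not_eq_true] at h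
    rw [h, h1]
    rfl

/-- the parity of `∑ m k F k` -/
def evB (m F : ℕ → Bool) (n : ℕ) : Bool :=
  Nat.rec (motive := fun _ => Bool) false (fun k ih => xor (and (m k) (F k)) ih) n

theorem evB_eq (m F : ℕ → Bool) (n : ℕ) : ∑ k ∈ Finset.range n, toZ (m k) * toZ (F k) = toZ (evB m F n) := by
  induction n with
  | zero => rfl
  | succ n ih =>
    rw [Finset.sum_range_succ, ih]
    have : evB m F (n + 1) = xor (and (m n) (F n)) (evB m F n) := rfl
    rw [this]
    cases m n <;> cases F n <;> cases evB m F n <;> decide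

/-- all Boolean functions on `{0, …, n-1}` -/
def allB : ℕ → ((ℕ → Bool) → Bool) → Bool
  | 0, P => P (fun _ => false)
  | n + 1, P => and (allB n (fun f => P (fun k => bif Nat.beq k n then false else f k)))
      (allB n (fun f => P (fun k => bif Nat.beq k n then true else f k)))

theorem allB_spec : ∀ (n : ℕ) (P : (ℕ → Bool) → Bool), allB n P = true → ∀ f : ℕ → Bool, (∀ k, n ≤ k → f k = false) →
    P f = true := by
  intro n
  induction n with
  | zero =>
    intro P h f hf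
    have : f = fun _ => false := funext fun k => hf k (Nat.zero_le k)
    rw [this]
    exact h
  | succ n ih =>
    intro P h f hf
    have h' : (allB n (fun f => P (fun k => bif Nat.beq k n then false else f k)) &&
      allB n (fun f => P (fun k => bif Nat.beq k n then true else f k))) = true := h
    rw [Bool.and_eq_true] at h'
    let g : ℕ → Bool := fun k => bif Nat.beq k n then false else f k
    have hg : ∀ k, n ≤ k → g k = false := by
      intro k hk
      by_cases hkn : k = n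
      · show (bif Nat.beq k n then false else f k) = false
        subst hkn
        have : Nat.beq k k = true := Nat.beq_refl k
        rw [this]; rfl
      · show (bif Nat.beq k n then false else f k) = false
        rw [hf k (by omega)]
        cases Nat.beq k n <;> rfl
    have hfn : f = fun k => bif Nat.beq k n then f n else g k := by
      funext k
      by_cases hkn : k = n
      · subst hkn
        have : Nat.beq k k = true := Nat.beq_refl k
        show f k = (bif Nat.beq k k then f k else g k)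
        rw [this]; rfl
      · have : Nat.beq k n = false := by
          rw [← Bool.not_eq_true]
          intro h
          exact hkn (Nat.eq_of_beq_eq_true h)
        show f k = (bif Nat.beq k n then f n else (bif Nat.beq k n then false else f k))
        rw [this]; rfl
    cases hc : f n with
    | false =>
      have h1 := ih _ h'.1 g hg
      rw [hfn, hc]
      exact h1
    | true =>
      have h1 := ih _ h'.2 g hg
      rw [hfn, hc]
      exact h1

/-- some member of the list -/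
def anyL {α : Type} (f : α → Bool) (l : List α) : Bool :=
  List.rec (motive := fun _ => Bool) false (fun a _ ih => or (f a) ih) l

theorem anyL_spec {α : Type} {f : α → Bool} : ∀ {l : List α}, anyL f l = true → ∃ a ∈ l, f a = true
  | [], h => by cases h
  | b :: l, h => by
    have h' : (f b || anyL f l) = true := h
    rw [Bool.or_eq_true] at h'
    rcases h' with h' | h'
    · exact ⟨b, List.mem_cons_self, h'⟩
    · obtain ⟨a, ha, h''⟩ := anyL_spec h'
      exact ⟨a, List.mem_cons_of_mem _ ha, h''⟩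

theorem anyL_of {α : Type} {f : α → Bool} : ∀ {l : List α} {a : α}, a ∈ l → f a = true → anyL f l = true
  | b :: l, a, ha, h => by
    show (f b || anyL f l) = true
    rw [Bool.or_eq_true]
    rcases List.mem_cons.1 ha with rfl | ha
    · exact Or.inl h
    · exact Or.inr (anyL_of ha h)

/-- the input of the check -/
structure Inp where
  /-- bit mask of the long roots -/
  lg : ℕ
  ω : List ℕ
  β : List ℕ
  b₀ : ℕ
  bs : List ℕ
  s : ℕ
  f₀ : ℕ
  sp : List (ℤ × ℕ × ℕ)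

namespace Inp

variable (T : Tab) (D : ChevalleyDatum) (P : Inp)

def lgB (r : ℕ) : Bool := bit P.lg r
def carT (r s : ℕ) : ℤ := isum (fun k => Int.mul (T.coroZ r k) (T.cartZ k s)) T.l
def actT (r : ℕ) : ℕ := List.rec (motive := fun _ => ℕ) r (fun i _ ih => T.reflN i ih) P.ω
def iter (f : ℕ → ℕ) (k r : ℕ) : ℕ := Nat.rec (motive := fun _ => ℕ) r (fun _ ih => f ih) k

def c1 : Bool := allLt (fun i => allLt (fun r => or (not (P.lgB r)) (P.lgB (T.reflN i r))) T.n) T.l
def c2 : Bool := allLt (fun r => or (not (P.lgB r)) (P.lgB (T.negN r))) T.n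
def c3 : Bool := allL (fun r => and (Nat.ble (Nat.succ r) T.n) (P.lgB r)) P.β
def c4 : Bool := allL (fun r => and (Nat.ble (Nat.succ r) T.n) (P.lgB r)) (P.b₀ :: P.bs)
def c5 : Bool := allL (fun r => anyL (fun k => or (Nat.beq (P.actT T r) k) (Nat.beq (P.actT T r) (T.negN k))) P.β) P.β
def c6 : Bool := allLt (fun i => Nat.beq (iter (P.actT T) (Nat.pow 2 P.s) (T.simpN i)) (T.simpN i)) T.l
def c7 : Bool := allLt (fun s => anyLt (fun r => and (P.lgB r) (pz (carT T r s))) T.n) T.n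
def c8 : Bool := allLt (fun r => or (not (P.lgB r)) (anyLt (fun s => pz (carT T r s)) T.n)) T.n
def c9 : Bool := allL (fun b => allLt (fun r => or (not (P.lgB r)) (or (Nat.beq r b) (or (Nat.beq r (T.negN b))
  (anyLt (fun j => xor (pz (carT T r (T.simpN j))) (pz (carT T b (T.simpN j)))) T.l)))) T.n) (P.b₀ :: P.bs)
def c10 : Bool := conn (fun c b => not (ieq (carT T c b) 0)) [P.b₀] P.bs
def memB (r : ℕ) : Bool := anyL (fun b => or (Nat.beq r b) (Nat.beq r (T.negN b))) (P.b₀ :: P.bs)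
def c11 : Bool := allLt (fun i =>
  let q := P.sp.getD i (0, 0, 0)
  and (and (P.memB T q.2.1) (P.memB T q.2.2)) (and (not (ieq q.1 0))
    (allLt (fun j => ieq (Int.add (RootVec.rt D q.2.1 j) (RootVec.rt D q.2.2 j)) (bif Nat.beq i j then q.1 else 0)) T.l))) T.l
def c12 : Bool := allB T.l (fun F =>
  or (anyL (fun r => evB (fun k => pz (RootVec.rt D r k)) F T.l) P.β) <|
  or (anyLt (fun i => xor (evB (fun k => pz (RootVec.rt D (P.actT T (T.simpN i)) k)) F T.l) (F i)) T.l) <|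
  or (allLt (fun i => not (F i)) T.l) (allLt (fun i => not (xor (F i) (bit P.f₀ i))) T.l))
def c13 : Bool := allL (fun i => Nat.ble (Nat.succ i) T.l) P.ω

/-- the check -/
def chk : Bool := and (P.c1 T) <| and (P.c2 T) <| and (P.c3 T) <| and (P.c4 T) <| and (P.c5 T) <| and (P.c6 T) <|
  and (P.c7 T) <| and (P.c8 T) <| and (P.c9 T) <| and (P.c10 T) <| and (P.c11 T D) <| and (P.c12 T D) (P.c13 T)

end Inp

section

variable {T : Tab} {D : ChevalleyDatum} {P : Inp} (B : Bridged D T)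

include B

theorem carT_eq {r s : ℕ} (hr : r < T.n) (hs : s < T.n) : Inp.carT T r s = car D r s := by
  unfold Inp.carT car
  rw [isum_eq, B.rank]
  refine Finset.sum_congr rfl fun k hk => ?_
  have hk := Finset.mem_range.1 hk
  show T.coroZ r k * T.cartZ k s = co D r k * D.cartan k s
  rw [B.cartan k hk s hs]
  congr 1
  exact (B.co r hr k hk).symm

theorem refl_lt' {i r : ℕ} (hD : Good D) (hi : i < T.l) (hr : r < T.n) : T.reflN i r < T.n := by
  rw [← B.refl i hi r hr, ← B.nroots]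
  exact hD.reflect_lt (by rw [B.rank]; exact hi) (by rw [B.nroots]; exact hr)

/-- the word as a list over `Fin l` -/
def wd (l : ℕ) (L : List ℕ) (h : ∀ i ∈ L, i < l) : List (Fin l) := L.pmap (fun i hi => ⟨i, hi⟩) h

omit B in
theorem wd_cons (l : ℕ) (i : ℕ) (L : List ℕ) (h : ∀ j ∈ i :: L, j < l) :
    wd l (i :: L) h = ⟨i, h i List.mem_cons_self⟩ :: wd l L (fun j hj => h j (List.mem_cons_of_mem _ hj)) := rfl

theorem actT_aux (hD : Good D) {l : ℕ} (hl : T.l = l) : ∀ (L : List ℕ) (h : ∀ i ∈ L, i < l) {r : ℕ}, r < T.n →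
    (List.rec (motive := fun _ => ℕ) r (fun i _ ih => T.reflN i ih) L : ℕ) < T.n ∧
    (List.rec (motive := fun _ => ℕ) r (fun i _ ih => T.reflN i ih) L : ℕ) = actD D (wd l L h) r := by
  intro L
  induction L with
  | nil => intro h r hr; exact ⟨hr, rfl⟩
  | cons i L ih =>
    intro h r hr
    obtain ⟨h1, h2⟩ := ih (fun j hj => h j (List.mem_cons_of_mem _ hj)) hr
    have hi : i < T.l := by rw [hl]; exact h i List.mem_cons_self
    refine ⟨refl_lt' B hD hi h1, ?_⟩
    rw [wd_cons]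
    show T.reflN i (List.rec (motive := fun _ => ℕ) r (fun i _ ih => T.reflN i ih) L) =
      D.reflectRoot i (actD D (wd l L _) r)
    rw [← h2, B.refl i hi _ h1]

theorem iter_aux (hD : Good D) {l : ℕ} (hl : T.l = l) (hω : ∀ i ∈ P.ω, i < l) (k : ℕ) {r : ℕ} (hr : r < T.n) :
    Inp.iter (P.actT T) k r < T.n ∧ Inp.iter (P.actT T) k r = (actD D (wd l P.ω hω))^[k] r := by
  induction k with
  | zero => exact ⟨hr, rfl⟩
  | succ k ih =>
    rw [Function.iterate_succ_apply', ← ih.2]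
    exact actT_aux B hD hl P.ω hω ih.1

omit B in
theorem conn_mono {f g : ℕ → ℕ → Bool} {Q : ℕ → Prop} (hfg : ∀ c b, Q c → Q b → f c b = true → g c b = true) :
    ∀ (rest seen : List ℕ), (∀ b ∈ rest, Q b) → (∀ b ∈ seen, Q b) → conn f seen rest = true →
      conn g seen rest = true := by
  intro rest
  induction rest with
  | nil => intro seen _ _ _; rfl
  | cons a rest ih =>
    intro seen hr hs h
    have h' : (seen.any (fun c => f c a) && conn f (a :: seen) rest) = true := h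
    show (seen.any (fun c => g c a) && conn g (a :: seen) rest) = true
    rw [Bool.and_eq_true, List.any_eq_true] at h' ⊢
    obtain ⟨⟨c, hc, hca⟩, h2⟩ := h'
    have ha := hr a List.mem_cons_self
    refine ⟨⟨c, hc, hfg c a (hs c hc) ha hca⟩, ih _ (fun b hb => hr b (List.mem_cons_of_mem _ hb)) ?_ h2⟩
    intro b hb
    rcases List.mem_cons.1 hb with rfl | hb
    · exact ha
    · exact hs b hb

omit B in
theorem or_not {a b : Bool} (h : or (not a) b = true) (ha : a = true) : b = true := by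
  subst ha; exact h

/-- **Soundness of the check.** -/
theorem cd_of_chk {l : ℕ} {M : CoxeterMatrix (Fin l)} (hp : IsType D l M) (h : P.chk T D = true)
    (hω : ∀ i ∈ P.ω, i < l) :
    CD D l P.lgB (wd l P.ω hω) P.β P.bs P.b₀ (fun i => toZ (bit P.f₀ i)) P.s := by
  unfold Inp.chk at h
  simp only [Bool.and_eq_true] at h
  obtain ⟨h1, h2, h3, h4, h5, h6, h7, h8, h9, h10, h11, h12, -⟩ := h
  have hD : Good D := RootComb.good_of_mem hp.inList
  have hn := B.nroots
  have hl : T.l = l := by rw [← B.rank]; exact hp.rank_eq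
  have hsimp : ∀ i < l, D.simple i = T.simpN i := fun i hi => B.simple i (by rw [hl]; exact hi)
  have hslt : ∀ i < l, T.simpN i < T.n := fun i hi => by
    rw [← hsimp i hi, ← hn]
    exact hD.simple_lt (by rw [hp.rank_eq]; exact hi)
  have hneg : ∀ r < T.n, D.neg r = T.negN r := B.neg
  have m3 : ∀ r ∈ P.β, r < T.n ∧ P.lgB r = true := by
    intro r hr
    have := allL_spec h3 r hr
    rw [Bool.and_eq_true] at this
    exact ⟨Nat.le_of_ble_eq_true this.1, this.2⟩
  have m4 : ∀ r ∈ P.b₀ :: P.bs, r < T.n ∧ P.lgB r = true := by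
    intro r hr
    have := allL_spec h4 r hr
    rw [Bool.and_eq_true] at this
    exact ⟨Nat.le_of_ble_eq_true this.1, this.2⟩
  have hmemB : ∀ r, P.memB T r = true → (r ∈ P.b₀ :: P.bs ∨ ∃ r' ∈ P.b₀ :: P.bs, r = D.neg r') := by
    intro r hr
    obtain ⟨b, hb, h⟩ := anyL_spec hr
    rw [Bool.or_eq_true] at h
    rcases h with h | h
    · left
      rw [Nat.eq_of_beq_eq_true h]; exact hb
    · right
      exact ⟨b, hb, by rw [Nat.eq_of_beq_eq_true h, hneg b (m4 b hb).1]⟩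
  refine ⟨?_, ?_, ?_, ?_, ?_, ?_, ?_, ?_, ?_, ?_, ?_, ?_⟩
  · -- inv
    intro i hi r hr hlr
    rw [B.rank] at hi
    rw [hn] at hr
    rw [B.refl i hi r hr]
    exact or_not (allLt_spec (allLt_spec h1 i hi) r hr) hlr
  · -- neg
    intro r hr hlr
    rw [hn] at hr
    rw [hneg r hr]
    exact or_not (allLt_spec h2 r hr) hlr
  · intro r hr; rw [hn]; exact m3 r hr
  · intro r hr; rw [hn]; exact m4 r hr
  · -- perm
    intro r hr
    obtain ⟨k, hk, h⟩ := anyL_spec (allL_spec h5 r hr)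
    refine ⟨k, hk, ?_⟩
    rw [← (actT_aux B hD hl P.ω hω (m3 r hr).1).2]
    rw [Bool.or_eq_true] at h
    rcases h with h | h
    · left; exact Nat.eq_of_beq_eq_true h
    · right; rw [hneg k (m3 k hk).1]; exact Nat.eq_of_beq_eq_true h
  · -- pow
    intro i
    rw [hsimp i i.2, ← (iter_aux B hD hl hω (2 ^ P.s) (hslt i i.2)).2]
    exact Nat.eq_of_beq_eq_true (allLt_spec h6 i (by rw [hl]; exact i.2))
  · -- odd
    intro s hs
    rw [hn] at hs
    obtain ⟨r, hr, h⟩ := anyLt_spec (allLt_spec h7 s hs)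
    rw [Bool.and_eq_true] at h
    refine ⟨r, by rw [hn]; exact hr, h.1, ?_⟩
    rw [← carT_eq B hr hs]
    exact (pz_iff _).1 h.2
  · -- odd'
    intro r hr hlr
    rw [hn] at hr
    obtain ⟨s, hs, h⟩ := anyLt_spec (or_not (allLt_spec h8 r hr) hlr)
    refine ⟨s, by rw [hn]; exact hs, ?_⟩
    rw [← carT_eq B hr hs]
    exact (pz_iff _).1 h
  · -- uniq
    intro b hb r hr hlr hpar
    rw [hn] at hr
    have hbn := (m4 b hb).1
    have h := or_not (allLt_spec (allL_spec h9 b hb) r hr) hlr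
    rw [Bool.or_eq_true, Bool.or_eq_true] at h
    rcases h with h | h | h
    · left; exact Nat.eq_of_beq_eq_true h
    · right; rw [hneg b hbn]; exact Nat.eq_of_beq_eq_true h
    · exfalso
      obtain ⟨j, hj, h⟩ := anyLt_spec h
      rw [hl] at hj
      have h9 := hpar ⟨j, hj⟩
      rw [pz_eq_iff] at h9
      have e : D.simple ((⟨j, hj⟩ : Fin l) : ℕ) = T.simpN j := hsimp j hj
      rw [e, ← carT_eq B hr (hslt j hj), ← carT_eq B hbn (hslt j hj)] at h9
      rw [h9, Bool.xor_self] at h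
      exact Bool.noConfusion h
  · -- con
    refine conn_mono (Q := fun r => r < T.n) (fun c b hc hb h => ?_) P.bs [P.b₀]
      (fun b hb => (m4 b (List.mem_cons_of_mem _ hb)).1) (fun b hb => ?_) h10
    · apply decide_eq_true
      rw [← carT_eq B hc hb]
      intro h0
      rw [h0] at h
      exact Bool.noConfusion h
    · rw [List.mem_singleton] at hb
      subst hb
      exact (m4 _ List.mem_cons_self).1
  · -- span
    intro i
    have h := allLt_spec h11 i (by rw [hl]; exact i.2)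
    simp only [Bool.and_eq_true] at h
    obtain ⟨⟨ha, hb⟩, hc, hd⟩ := h
    refine ⟨_, _, (P.sp.getD i (0, 0, 0)).1, hmemB _ ha, hmemB _ hb, ?_, ?_⟩
    · intro h0
      rw [h0] at hc
      exact Bool.noConfusion hc
    · funext j
      have h := ieq_spec (allLt_spec hd j (by rw [hl]; exact j.2))
      have h' : RootVec.rt D (P.sp.getD i (0, 0, 0)).2.1 j + RootVec.rt D (P.sp.getD i (0, 0, 0)).2.2 j =
        (bif Nat.beq i j then (P.sp.getD i (0, 0, 0)).1 else 0) := h
      rw [Pi.add_apply, vec_apply, vec_apply, h', Pi.smul_apply, smul_eq_mul]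
      by_cases hij : j = i
      · subst hij
        rw [sr_self, mul_one, Nat.beq_refl]
        rfl
      · rw [sr_ne hij, mul_zero]
        have : Nat.beq i j = false := by
          rw [← Bool.not_eq_true]
          intro h
          exact hij (Fin.ext (Nat.eq_of_beq_eq_true h)).symm
        rw [this]
        rfl
  · -- one
    intro f hf1 hf2
    let F : ℕ → Bool := fun k => if h : k < l then decide (f ⟨k, h⟩ ≠ 0) else false
    have hF : ∀ k (h : k < l), f ⟨k, h⟩ = toZ (F k) := by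
      intro k h
      have key : ∀ x : ZMod 2, x = toZ (decide (x ≠ 0)) := by decide
      show _ = toZ (if h : k < l then decide (f ⟨k, h⟩ ≠ 0) else false)
      rw [dif_pos h]
      exact key _
    have hsum : ∀ r, ∑ i : Fin l, ((vec D l r i : ℤ) : ZMod 2) * f i =
        toZ (evB (fun k => pz (RootVec.rt D r k)) F T.l) := by
      intro r
      rw [hl, ← evB_eq, ← Fin.sum_univ_eq_sum_range (fun k => toZ (pz (RootVec.rt D r k)) * toZ (F k))]
      refine Finset.sum_congr rfl fun i _ => ?_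
      rw [vec_apply, toZ_pz, hF i i.2]
    have htoZ : ∀ b : Bool, toZ b = 0 → b = false := by decide
    have htoZ2 : ∀ a b : Bool, toZ a = toZ b → a = b := by decide
    have h := allB_spec T.l _ h12 F (fun k hk => by
      show (if h : k < l then decide (f ⟨k, h⟩ ≠ 0) else false) = false
      rw [dif_neg (by rw [hl] at hk; omega)])
    rw [Bool.or_eq_true, Bool.or_eq_true, Bool.or_eq_true] at h
    rcases h with h | h | h | h
    · exfalso
      obtain ⟨r, hr, h⟩ := anyL_spec h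
      have h' := hf1 r hr
      rw [hsum] at h'
      rw [htoZ _ h'] at h
      exact Bool.noConfusion h
    · exfalso
      obtain ⟨i, hi, h⟩ := anyLt_spec h
      rw [hl] at hi
      have h' := hf2 ⟨i, hi⟩
      rw [hsum, hF i hi] at h'
      have h'' := htoZ2 _ _ h'
      have e : actD D (wd l P.ω hω) (D.simple ((⟨i, hi⟩ : Fin l) : ℕ)) = P.actT T (T.simpN i) := by
        rw [show D.simple ((⟨i, hi⟩ : Fin l) : ℕ) = T.simpN i from hsimp i hi]
        exact (actT_aux B hD hl P.ω hω (hslt i hi)).2.symm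
      rw [e] at h''
      rw [h'', Bool.xor_self] at h
      exact Bool.noConfusion h
    · left
      funext i
      have h' := allLt_spec h i (by rw [hl]; exact i.2)
      rw [hF i i.2]
      have : F i = false := by
        cases hFi : F i with
        | false => rfl
        | true => rw [hFi] at h'; exact Bool.noConfusion h'
      show toZ (F i) = 0
      rw [this]; rfl
    · right
      funext i
      have h' := allLt_spec h i (by rw [hl]; exact i.2)
      rw [hF i i.2]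
      show toZ (F i) = toZ (bit P.f₀ i)
      congr 1
      revert h'
      cases F i <;> cases bit P.f₀ i <;> decide

end

end Cfsg.Agent.Omega.Lie.CenTab

end

section


/-!
# (ZS) rows: `NoCenMove` for the Chevalley groups `G₂, F₄, E₆, E₇, E₈` over a finite field of odd characteristic
-/

set_option autoImplicit false
set_option maxRecDepth 10000

namespace Cfsg.Agent.Omega.Lie.CenTab

open CoxeterSystem Cfsg.Agent.ChevalleyStructure.CoxeterGeom Cfsg.Agent.Tits.Roots Cfsg.Agent.Tits.Core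
  Cfsg.Agent.Nodes Cfsg.Agent.Nodes.Reps
  Cfsg.Agent.Nodes.RGDChev Cfsg.Agent.KFacts.RgdChevCoord
  Cfsg.Agent.Omega.Lie.CenSL Cfsg.Agent.Omega.Lie.CenRGD Cfsg.Agent.Omega.Lie.CenChev
  Cfsg.Agent.Omega.Lie.CenExp Cfsg.Agent.Omega.Lie.CenTwo
open Cfsg.Lie Cfsg.Agent.ChevalleyStructure Cfsg.Agent.ChevalleyStructure.RootCombGood
  Cfsg.Agent.ChevalleyStructure.RootCombBase Cfsg.Agent.ChevalleyStructure.RootCombBridge
  Cfsg.Agent.ChevalleyStructure.RootCombTab

universe u

/-- the data of type G2 -/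
def inpG2 : Inp where
  lg := 3171
  ω := []
  β := [11]
  b₀ := 6
  bs := [10]
  s := 0
  f₀ := 2
  sp := [(3, 10, 5), (2, 6, 6)]

/-- the data of type F4 -/
def inpF4 : Inp where
  lg := 261691415953527
  ω := [3, 2, 0, 1, 2, 3, 1]
  β := [47, 41, 30, 25]
  b₀ := 24
  bs := [25, 30, 41]
  s := 2
  f₀ := 2
  sp := [(2, 41, 17), (2, 30, 22), (2, 25, 25), (2, 24, 24)]

/-- the data of type E6 -/
def inpE6 : Inp where
  lg := 4722366482869645213695
  ω := [1, 3, 4, 5, 2, 3, 4, 0, 2, 1]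
  β := [71, 60, 44, 39]
  b₀ := 56
  bs := [42, 39, 46, 37, 36]
  s := 2
  f₀ := 53
  sp := [(2, 56, 56), (2, 46, 46), (2, 42, 42), (2, 39, 39), (2, 37, 37), (2, 36, 36)]

/-- the data of type E7 -/
def inpE7 : Inp where
  lg := 85070591730234615865843651857942052863
  ω := [5, 6, 3, 2, 1, 3, 4, 5]
  β := [125, 92, 87, 78, 73, 66, 63]
  b₀ := 93
  bs := [73, 69, 78, 66, 64, 63]
  s := 2
  f₀ := 1
  sp := [(2, 93, 93), (2, 78, 78), (2, 73, 73), (2, 69, 69), (2, 66, 66), (2, 64, 64), (2, 63, 63)]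

/-- the data of type E8 -/
def inpE8 : Inp where
  lg := 1766847064778384329583297500742918515827483896875618958121606201292619775
  ω := [5, 6, 7, 4, 5, 6, 0, 2, 3, 4, 5, 1, 3, 4, 2, 3, 0, 2, 1, 3, 4, 5, 6, 7]
  β := [239, 226, 159, 152, 141, 135, 126, 121]
  b₀ := 162
  bs := [135, 130, 141, 126, 123, 121, 120]
  s := 2
  f₀ := 137
  sp := [(2, 162, 162), (2, 141, 141), (2, 135, 135), (2, 130, 130), (2, 126, 126), (2, 123, 123), (2, 121, 121), (2, 120, 120)]

/-- the commutator terms of orthogonal roots -/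
def cc (D : ChevalleyDatum) (β : List ℕ) : Bool := allL (fun r => allL (fun s => or (Nat.beq s r)
  (and (not (Nat.beq s (D.neg r))) <| and (D.commTerms r s).isEmpty <| and (D.commTerms r (D.neg s)).isEmpty <|
    and (D.commTerms (D.neg r) s).isEmpty (D.commTerms (D.neg r) (D.neg s)).isEmpty)) β) β

theorem noCenMove_of_cd {D : ChevalleyDatum} {l : ℕ} {M : CoxeterMatrix (Fin l)} (hp : IsType D l M) (K : Type u)
    [Field K] [Finite K] (h2 : (2 : K) ≠ 0) {lg : ℕ → Bool} {ω : List (Fin l)} {β bs : List ℕ} {b₀ : ℕ}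
    {f₀ : Fin l → ZMod 2} {s : ℕ} (C : CD D l lg ω β bs b₀ f₀ s) (hβ : β ≠ []) (hc : cc D β = true) :
    NoCenMove ↥(D.group K) := by
  obtain ⟨p, hchar⟩ := CharP.exists K
  have hpp : Fact p.Prime := ⟨CharP.char_is_prime K p⟩
  have hp2 : p ≠ 2 := by
    rintro rfl
    exact h2 (by exact_mod_cast CharP.cast_eq_zero K 2)
  let cs := M.toCoxeterSystem
  have hW : Finite M.Group := finite_W hp cs
  have hne : Nonempty {r : ℕ // r ∈ β} := by
    obtain ⟨r, hr⟩ := List.exists_mem_of_ne_nil β hβ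
    exact ⟨⟨r, hr⟩⟩
  have L := long hp (K := K) cs C.inv C.neg C.odd' h2
  have hG : Nodes.Bruhat.GG cs hp.isCartan (TT D K) (XX D l K) = ⊤ := by
    rw [eq_top_iff, ← G1_eq_top hp (K := K) cs]
    exact le_sup_right
  obtain ⟨E, hE, hO⟩ := exists_E (rgd (K := K) hp cs p) L (comb hp cs C) hp2 h2 hG (by
    rintro ⟨s, hs⟩ ⟨r, hr⟩ hne N N'
    have h1 := allL_spec (allL_spec hc r hr) s hs
    simp only [Bool.or_eq_true, Bool.and_eq_true, Bool.not_eq_true', List.isEmpty_iff] at h1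
    have hsr : s ≠ r := fun h => hne (Subtype.ext h)
    rcases h1 with h1 | ⟨h1, h2, h3, h4, h5⟩
    · exact absurd (Nat.eq_of_beq_eq_true h1) hsr
    · have h1' : s ≠ D.neg r := by
        rintro h
        rw [← h, Nat.beq_refl] at h1
        exact Bool.noConfusion h1
      exact phi_comm hp (C.mem r hr).1 (C.mem s hs).1 hsr h1' h2 h3 h4 h5 N N')
  intro S t ht hS u hu hc hu2
  exact noMove hE hO S t hS u hu hc hu2

theorem bridgeG2 : Bridged chevG2 tabG2 :=
  bridged_of_check (by decide +kernel) (by decide +kernel) (by decide +kernel) (by decide +kernel)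

theorem isTypeG2 : IsType chevG2 2 CoxeterMatrix.G₂ := by simp [IsType, typeList]

theorem chkG2 : inpG2.chk tabG2 chevG2 = true := by decide +kernel

theorem ccG2 : cc chevG2 inpG2.β = true := by decide +kernel

/-- **(ZS)** for `G2(q)`, `q` odd. -/
theorem noCenMove_G2 (K : Type u) [Field K] [Finite K] (h2 : (2 : K) ≠ 0) : NoCenMove ↥(chevG2.group K) :=
  noCenMove_of_cd isTypeG2 K h2 (cd_of_chk bridgeG2 isTypeG2 chkG2 (by decide)) (by decide) ccG2

theorem bridgeF4 : Bridged chevF4 tabF4 :=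
  bridged_of_check (by decide +kernel) (by decide +kernel) (by decide +kernel) (by decide +kernel)

theorem isTypeF4 : IsType chevF4 4 CoxeterMatrix.F₄ := by simp [IsType, typeList]

theorem chkF4 : inpF4.chk tabF4 chevF4 = true := by decide +kernel

theorem ccF4 : cc chevF4 inpF4.β = true := by decide +kernel

/-- **(ZS)** for `F4(q)`, `q` odd. -/
theorem noCenMove_F4 (K : Type u) [Field K] [Finite K] (h2 : (2 : K) ≠ 0) : NoCenMove ↥(chevF4.group K) :=
  noCenMove_of_cd isTypeF4 K h2 (cd_of_chk bridgeF4 isTypeF4 chkF4 (by decide)) (by decide) ccF4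

theorem bridgeE6 : Bridged chevE6 tabE6 :=
  bridged_of_check (by decide +kernel) (by decide +kernel) (by decide +kernel) (by decide +kernel)

theorem isTypeE6 : IsType chevE6 6 CoxeterMatrix.E₆ := by simp [IsType, typeList]

theorem chkE6 : inpE6.chk tabE6 chevE6 = true := by decide +kernel

theorem ccE6 : cc chevE6 inpE6.β = true := by decide +kernel

/-- **(ZS)** for `E6(q)`, `q` odd. -/
theorem noCenMove_E6 (K : Type u) [Field K] [Finite K] (h2 : (2 : K) ≠ 0) : NoCenMove ↥(chevE6.group K) :=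
  noCenMove_of_cd isTypeE6 K h2 (cd_of_chk bridgeE6 isTypeE6 chkE6 (by decide)) (by decide) ccE6

theorem bridgeE7 : Bridged chevE7 tabE7 :=
  bridged_of_check (by decide +kernel) (by decide +kernel) (by decide +kernel) (by decide +kernel)

theorem isTypeE7 : IsType chevE7 7 CoxeterMatrix.E₇ := by simp [IsType, typeList]

theorem chkE7 : inpE7.chk tabE7 chevE7 = true := by decide +kernel

theorem ccE7 : cc chevE7 inpE7.β = true := by decide +kernel

/-- **(ZS)** for `E7(q)`, `q` odd. -/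
theorem noCenMove_E7 (K : Type u) [Field K] [Finite K] (h2 : (2 : K) ≠ 0) : NoCenMove ↥(chevE7.group K) :=
  noCenMove_of_cd isTypeE7 K h2 (cd_of_chk bridgeE7 isTypeE7 chkE7 (by decide)) (by decide) ccE7

theorem bridgeE8 : Bridged chevE8 tabE8 :=
  bridged_of_check (by decide +kernel) (by decide +kernel) (by decide +kernel) (by decide +kernel)

theorem isTypeE8 : IsType chevE8 8 CoxeterMatrix.E₈ := by simp [IsType, typeList]

theorem chkE8 : inpE8.chk tabE8 chevE8 = true := by decide +kernel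

theorem ccE8 : cc chevE8 inpE8.β = true := by decide +kernel

/-- **(ZS)** for `E8(q)`, `q` odd. -/
theorem noCenMove_E8 (K : Type u) [Field K] [Finite K] (h2 : (2 : K) ≠ 0) : NoCenMove ↥(chevE8.group K) :=
  noCenMove_of_cd isTypeE8 K h2 (cd_of_chk bridgeE8 isTypeE8 chkE8 (by decide)) (by decide) ccE8

end Cfsg.Agent.Omega.Lie.CenTab

end

section


/-!
# `CenTwo` from the centraliser of a 2-subgroup (helper484)
-/

set_option autoImplicit false
set_option linter.dupNamespace false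

namespace Cfsg.Agent.Omega.Lie.CenTwo

open Subgroup Cfsg.Agent.Co2Type.Quad

variable {X Y : Type*} [Group X] [Group Y]

/-- `E` is a 2-subgroup and `C(E)` contains at most one involution -/
theorem cenTwo_of_centralizer [Finite X] {E : Subgroup X} (hE : IsPGroup 2 E) {z : X}
    (h : ∀ u : X, (∀ e ∈ E, e * u = u * e) → u * u = 1 → u = 1 ∨ u = z) : CenTwo X := by
  obtain ⟨S, hS⟩ := hE.exists_le_sylow
  exact ⟨S, z, fun u _ hc huu => h u (fun e he => hc e (hS he)) huu⟩

theorem isPGroup_of_large {Q : Subgroup X} {z : X} (h : Large Q z) : IsPGroup 2 Q := by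
  intro x
  refine ⟨2, Subtype.ext ?_⟩
  show (x : X) ^ (2 ^ 2) = 1
  have e : (x : X) ^ (2 ^ 2) = (x * x : X) * (x * x) := by
    rw [show (2 : ℕ) ^ 2 = 4 by norm_num, pow_succ, pow_succ, pow_succ, pow_one]; group
  rw [e]
  rcases h.sq x x.2 with h1 | h1
  · rw [h1, one_mul]
  · rw [h1, h.z_sq]

/-- a large extraspecial subgroup -/
theorem cenTwo_of_large [Finite X] {Q : Subgroup X} {z : X} (h : Large Q z) : CenTwo X := by
  refine cenTwo_of_centralizer (isPGroup_of_large h) (z := z) ?_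
  intro u hc _
  have huz : u * z = z * u := (hc z h.z_mem).symm
  have hu : ∀ x ∈ Q, u * x = x * u := fun x hx => (hc x hx).symm
  exact h.cent u (h.self u huz hu) hu

/-- a subgroup of odd index isomorphic to a group with `CenTwo` -/
theorem cenTwo_of_odd_iso [Finite X] [Finite Y] {C : Subgroup X} (hodd : ¬ 2 ∣ C.index) (e : Y ≃* C)
    (h : CenTwo Y) : CenTwo X :=
  cenTwo_of_subgroup hodd (h.map e)

/-- transport of the rows -/
theorem noCenMove_of_iso [Finite Y] (h : CenTwo Y) (e : Nonempty (X ≃* Y)) : NoCenMove X := by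
  obtain ⟨e⟩ := e
  have : Finite X := Finite.of_equiv Y e.symm.toEquiv
  exact h.noCenMove.map e.symm

/-- from a Sylow 2-subgroup isomorphic to a model -/
theorem cenTwo_of_sylow_equiv {S : Sylow 2 X} {T : Type*} [Group T] (e : (S : Subgroup X) ≃* T) {z : T}
    (h : ∀ u : T, (∀ x : T, x * u = u * x) → u * u = 1 → u = 1 ∨ u = z) : CenTwo X := by
  refine ⟨S, e.symm z, ?_⟩
  intro u hu hc huu
  rcases h (e ⟨u, hu⟩) (by
    intro x
    obtain ⟨y, rfl⟩ := e.surjective x
    rw [← map_mul, ← map_mul]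
    exact congrArg e (Subtype.ext (hc y y.2))) (by
    rw [← map_mul, ← map_one e]
    exact congrArg e (Subtype.ext huu)) with h1 | h1
  · left
    have h2 := e.injective (h1.trans (map_one e).symm)
    exact congrArg Subtype.val h2
  · right
    rw [← h1]
    simp

end Cfsg.Agent.Omega.Lie.CenTwo

end

section


/-!
# (ZS), the row `M12` (helper484)
-/

set_option autoImplicit false

namespace Cfsg.Agent.Omega.Lie.Cen

open Cfsg Cfsg.Agent.Omega.Lie.CenTwo Cfsg.Agent.ClassificationK.GTwoModel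

theorem m12_aux : ∀ (i j : ZMod 4) (e d : Bool),
    (1 + i = i + sg 4 e * (cond d 0 1)) → (j = j + sg 4 e * (cond d 1 0)) →
    (-(cond false j i) = i) → (-j = j) → (cond true j i = i) → e = false ∧ d = false ∧ ((i = 0 ∧ j = 0) ∨ (i = 2 ∧ j = 2)) := by
  decide +kernel

/-- the centre of `T 4` -/
theorem cen_T4 (u : T 4) (h : ∀ x : T 4, x * u = u * x) : u = 1 ∨ u = ⟨2, 2, false, false⟩ := by
  obtain ⟨i, j, e, d⟩ := u
  have h1 := h ⟨1, 0, false, false⟩
  have h2 := h ⟨0, 0, true, false⟩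
  have h3 := h ⟨0, 0, false, true⟩
  rw [T.mul_mk, T.mul_mk, T.mk.injEq] at h1 h2 h3
  have key := m12_aux i j e d (by simpa using h1.1) (by simpa using h1.2.1) (by
    have := h2.1
    simp at this
    exact this) (by
    have := h2.2.1
    simp at this
    exact this) (by
    have := h3.1
    simp at this
    exact this)
  obtain ⟨rfl, rfl, ⟨rfl, rfl⟩ | ⟨rfl, rfl⟩⟩ := key
  · left; rfl
  · right; rfl

theorem cenTwo_m12 : CenTwo.CenTwo Spor.M12 := by
  obtain ⟨S⟩ : Nonempty (Sylow 2 Spor.M12) := inferInstance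
  obtain ⟨f⟩ := MTwelveType.SylowModel.exists_equiv S
  exact cenTwo_of_sylow_equiv f.symm (z := (⟨2, 2, false, false⟩ : T 4)) fun u hu _ => cen_T4 u hu

theorem m12 {X : Type*} [Group X] (h : Spor.IsoM12 X) : NoCenMove X := noCenMove_of_iso cenTwo_m12 h

end Cfsg.Agent.Omega.Lie.Cen

end

section


/-!
# (ZS), the rows `M22`, `M23` (helper484)
-/

set_option autoImplicit false

namespace Cfsg.Agent.Omega.Lie.Cen

open Cfsg Cfsg.Agent.Omega.Lie.CenTwo

theorem cenTwo_of_mm {K : Type*} [Group K] [Finite K] {SK V W : Subgroup K} {z c : K} (h : OddHalf.MM.Sheet SK V W z c) :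
    CenTwo.CenTwo K := by
  obtain ⟨S, hS⟩ := h.two.exists_le_sylow
  have e : (S : Subgroup K) = SK := h.max S S.isPGroup' hS
  refine ⟨S, z, fun u hu hc _ => h.cen u (by rw [← e]; exact hu) fun s hs => hc s ?_⟩
  have : s ∈ (S : Subgroup K) := by rw [e]; exact hs
  exact this

theorem m22 {X : Type*} [Group X] (h : Spor.IsoM22 X) : NoCenMove X := by
  obtain ⟨SK, V, W, z, c, hs⟩ := KFacts.MM.Main.sheet22
  exact noCenMove_of_iso (cenTwo_of_mm hs) h

theorem m23 {X : Type*} [Group X] (h : Spor.IsoM23 X) : NoCenMove X := by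
  obtain ⟨SK, V, W, z, c, hs⟩ := KFacts.MM.Main.sheet23
  exact noCenMove_of_iso (cenTwo_of_mm hs) h

end Cfsg.Agent.Omega.Lie.Cen

end

section


/-!
# (ZS), the row `M24` (helper484)
-/

set_option autoImplicit false

namespace Cfsg.Agent.Omega.Lie.Cen

open Cfsg Cfsg.Agent.Omega.Lie.CenTwo

theorem cenTwo_m24 : CenTwo.CenTwo M24 := cenTwo_of_large KFacts.M24Two.QGroup.large

theorem m24 {X : Type*} [Group X] (h : Spor.IsoM24 X) : NoCenMove X := noCenMove_of_iso cenTwo_m24 h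

end Cfsg.Agent.Omega.Lie.Cen

end

section


/-!
# (ZS): the centre of the Sylow 2-subgroup of `J2`, `J3` (helper484)
-/

set_option autoImplicit false

namespace Cfsg.Agent.Omega.Lie.Cen

open Cfsg.Agent.Omega.Lie.CenTwo Cfsg.Agent.J2Sylow.Model Cfsg.Agent.J2Sylow.Model.F4

theorem cen_T : ∀ u : T, (⟨o, o, w, false⟩ : T) * u = u * ⟨o, o, w, false⟩ →
    (⟨e, o, o, false⟩ : T) * u = u * ⟨e, o, o, false⟩ → (⟨o, e, o, false⟩ : T) * u = u * ⟨o, e, o, false⟩ →
    (⟨o, o, o, true⟩ : T) * u = u * ⟨o, o, o, true⟩ → u = 1 ∨ u = ⟨o, o, e, false⟩ := by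
  decide +kernel

/-- groups with Sylow 2-subgroups of type `J2` -/
theorem cenTwo_of_typeJTwo {X : Type*} [Group X] {S : Sylow 2 X} (f : T ≃* (S : Subgroup X)) : CenTwo.CenTwo X :=
  cenTwo_of_sylow_equiv f.symm (z := ⟨o, o, e, false⟩) fun u hu _ => cen_T u (hu _) (hu _) (hu _) (hu _)

end Cfsg.Agent.Omega.Lie.Cen

end

section


/-!
# (ZS), the row `Co₁` (helper856)
-/

set_option autoImplicit false

namespace Cfsg.Agent.Omega.Lie.Cen

open Cfsg Cfsg.Agent.Omega.Lie.CenTwo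

theorem co1 {X : Type*} [Group X] (h : Spor.IsoCo1 X) : NoCenMove X := by
  obtain ⟨e⟩ := h
  obtain ⟨o, ho⟩ := Cfsg.Agent.CoOneType.ClosingCo1.exists_octad
  have : Finite Co0 := Cfsg.Agent.CoOneType.FrameFix.finite_co0
  have : Finite Spor.Co1 := by
    have : Finite (Co0 ⧸ Subgroup.center Co0) :=
      inferInstance
    exact this
  exact noCenMove_of_iso (cenTwo_of_large (Cfsg.Agent.KFacts.Co1.InCo1.large ho)) ⟨e⟩

end Cfsg.Agent.Omega.Lie.Cen

end
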