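import Cfsg.Agent.Mrg.Omega.Lie.HeisF
import Cfsg.Prelude.Def_LieTypeChar

section


/-!
# The K-fact (ZS) for the orthogonal groups in odd characteristic, II (helper676)

The centraliser of the monomial 2-group modulo scalars: sign vectors, constant on the blocks.
-/

set_option autoImplicit false

namespace Cfsg.Agent.Omega.Lie.CenOrthA

open QuadraticMap Cfsg.Agent.LieClassical.OrthCore Cfsg.Agent.LieClassical.OrthTrans
  Cfsg.Agent.Omega.Lie.CenPerm

variable {F V : Type*} [Field F] [AddCommGroup V] [Module F V] {Q : QuadraticForm F V}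

/-- `g` and `x` commute up to a scalar -/
def Sc (g x : V ≃ₗ[F] V) : Prop := ∃ c : F, ∀ v, g (x v) = c • x (g v)

theorem sc_of_comm (hG : Good Q) {g x : ↥(E Q)}
    (h : (QuotientGroup.mk x : ↥(E Q) ⧸ Subgroup.center ↥(E Q)) * QuotientGroup.mk g =
      QuotientGroup.mk g * QuotientGroup.mk x) : Sc (g : V ≃ₗ[F] V) (x : V ≃ₗ[F] V) := by
  have h1 : (QuotientGroup.mk (x * g) : ↥(E Q) ⧸ Subgroup.center ↥(E Q)) = QuotientGroup.mk (g * x) := h
  rw [QuotientGroup.eq] at h1
  obtain ⟨c, hc⟩ := Cfsg.Agent.AutOrth.Gen.scalar_of_center hG h1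
  refine ⟨c, fun v => ?_⟩
  have h2 : ((x * g : ↥(E Q)) : V ≃ₗ[F] V) ((((x * g)⁻¹ * (g * x) : ↥(E Q)) : V ≃ₗ[F] V) v) =
      ((g * x : ↥(E Q)) : V ≃ₗ[F] V) v := by
    change (((x * g : ↥(E Q)) * ((x * g)⁻¹ * (g * x)) : ↥(E Q)) : V ≃ₗ[F] V) v = _
    rw [mul_inv_cancel_left]
  rw [hc, map_smul] at h2
  exact h2.symm

variable {ι ν : Type} (A : Frame Q ι ν)

namespace Frame

/-- coordinates of a sign change -/
theorem coord_sg {i j : ι} {k : ι ⊕ ν} (hij : i ≠ j) (hi : k ≠ .inl i) (hj : k ≠ .inl j) (y : V) :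
    A.b.repr (A.sg i j y) k = A.b.repr y k := by
  have h : (A.b.coord k) ∘ₗ (A.sg i j).toLinearMap = A.b.coord k := by
    apply A.b.ext
    intro l
    show A.b.repr (A.sg i j (A.b l)) k = A.b.repr (A.b l) k
    by_cases hli : l = .inl i
    · subst hli
      rw [A.sg_left hij, map_neg, Finsupp.neg_apply, A.b.repr_self, Finsupp.single_eq_of_ne hi, neg_zero]
    by_cases hlj : l = .inl j
    · subst hlj
      rw [A.sg_right hij, map_neg, Finsupp.neg_apply, A.b.repr_self, Finsupp.single_eq_of_ne hj, neg_zero]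
    · rw [A.sg_other hli hlj]
  exact LinearMap.congr_fun h y

theorem coord_sg_left {i j : ι} (hij : i ≠ j) (y : V) :
    A.b.repr (A.sg i j y) (.inl i) = -A.b.repr y (.inl i) := by
  have h : (A.b.coord (.inl i)) ∘ₗ (A.sg i j).toLinearMap = -A.b.coord (.inl i) := by
    apply A.b.ext
    intro l
    show A.b.repr (A.sg i j (A.b l)) (.inl i) = -A.b.repr (A.b l) (.inl i)
    by_cases hli : l = .inl i
    · subst hli
      rw [A.sg_left hij, map_neg, Finsupp.neg_apply]
    by_cases hlj : l = .inl j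
    · subst hlj
      rw [A.sg_right hij, map_neg, Finsupp.neg_apply]
    · rw [A.sg_other hli hlj, A.b.repr_self, Finsupp.single_eq_of_ne (Ne.symm hli), neg_zero]
  exact LinearMap.congr_fun h y

theorem zero_of_self_neg (h2 : (2 : F) ≠ 0) {x : F} (h : x = -x) : x = 0 := by
  have : (2 : F) * x = 0 := by linear_combination h
  exact (mul_eq_zero.1 this).resolve_left h2

/-- the scalar of a sign change is one -/
theorem comm_sg (h2 : (2 : F) ≠ 0) [Fintype ι] [Fintype ν] (h5 : 5 ≤ Fintype.card (ι ⊕ ν)) {g : V ≃ₗ[F] V}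
    {i j : ι} (hij : i ≠ j) (h : Sc g (A.sg i j)) (v : V) : g (A.sg i j v) = A.sg i j (g v) := by
  classical
  obtain ⟨c, hc⟩ := h
  by_cases hc1 : c = 1
  · rw [hc, hc1, one_smul]
  exfalso
  have hss : ∀ v, A.sg i j (A.sg i j v) = v := by
    have : (A.sg i j).toLinearMap ∘ₗ (A.sg i j).toLinearMap = LinearMap.id := by
      apply A.b.ext
      intro l
      show A.sg i j (A.sg i j (A.b l)) = A.b l
      by_cases hli : l = .inl i
      · subst hli
        rw [A.sg_left hij, map_neg, A.sg_left hij, neg_neg]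
      by_cases hlj : l = .inl j
      · subst hlj
        rw [A.sg_right hij, map_neg, A.sg_right hij, neg_neg]
      · rw [A.sg_other hli hlj, A.sg_other hli hlj]
    exact fun v => LinearMap.congr_fun this v
  have hcc : c * c = 1 := by
    have h1 := hc (A.sg i j (A.b (.inl i)))
    rw [hss, hc, map_smul, hss, smul_smul] at h1
    have h3 : g (A.b (.inl i)) ≠ 0 := by
      intro h
      exact A.b.ne_zero _ ((LinearEquiv.map_eq_zero_iff g).1 h)
    have h4 : (c * c - 1) • g (A.b (.inl i)) = 0 := by rw [sub_smul, one_smul, ← h1, sub_self]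
    exact sub_eq_zero.1 ((smul_eq_zero.1 h4).resolve_right h3)
  have hcm : c = -1 := by
    rcases mul_self_eq_one_iff.1 hcc with h | h
    · exact absurd h hc1
    · exact h
  -- the images of the other basis vectors
  set W : Submodule F V := Submodule.span F (A.b '' {.inl i, .inl j}) with hW
  have h6 : ∀ l : ι ⊕ ν, l ≠ .inl i → l ≠ .inl j → g (A.b l) ∈ W := by
    intro l hli hlj
    rw [hW, Module.Basis.mem_span_image]
    have h7 : A.sg i j (g (A.b l)) = -g (A.b l) := by
      have := hc (A.b l)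
      rw [A.sg_other hli hlj, hcm, neg_one_smul] at this
      exact (neg_eq_iff_eq_neg.2 this).symm
    intro k hk
    by_contra hcon
    rw [Set.mem_insert_iff, Set.mem_singleton_iff, not_or] at hcon
    have h8 := A.coord_sg hij hcon.1 hcon.2 (g (A.b l))
    rw [h7, map_neg, Finsupp.neg_apply] at h8
    have h9 : A.b.repr (g (A.b l)) k = 0 := zero_of_self_neg h2 h8.symm
    exact (Finsupp.mem_support_iff.1 hk) h9
  have hli : LinearIndependent F (fun l : {l : ι ⊕ ν // l ≠ .inl i ∧ l ≠ .inl j} =>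
      (⟨g (A.b l), h6 l l.2.1 l.2.2⟩ : W)) := by
    have h7 : LinearIndependent F (fun l : {l : ι ⊕ ν // l ≠ .inl i ∧ l ≠ .inl j} => g (A.b l)) :=
      (A.b.linearIndependent.map' g.toLinearMap g.ker).comp Subtype.val Subtype.val_injective
    exact LinearIndependent.of_comp W.subtype h7
  have : Module.Finite F W := Module.Finite.span_of_finite F (Set.toFinite _)
  have h8 := hli.fintype_card_le_finrank
  have h9 : Module.finrank F W ≤ 2 := by
    refine (finrank_span_le_card _).trans ?_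
    rw [Set.toFinset_card]
    refine (Fintype.card_le_of_surjective (Set.imageFactorization A.b {.inl i, .inl j})
      Set.imageFactorization_surjective).trans ?_
    rw [← Set.toFinset_card, Set.toFinset_insert, Set.toFinset_singleton]
    exact Finset.card_le_two
  have h10 : Fintype.card {l : ι ⊕ ν // l ≠ .inl i ∧ l ≠ .inl j} = Fintype.card (ι ⊕ ν) - 2 := by
    rw [Fintype.card_subtype]
    have : (Finset.univ.filter fun l : ι ⊕ ν => l ≠ .inl i ∧ l ≠ .inl j) =
        ({.inl i, .inl j} : Finset (ι ⊕ ν))ᶜ := by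
      ext l
      simp
    rw [this, Finset.card_compl, Finset.card_pair (by simpa using hij)]
  omega

/-- an element which commutes with the sign changes is diagonal -/
theorem diag_of_comm (h2 : (2 : F) ≠ 0) [Subsingleton ν] (h3 : ∀ i j : ι, ∃ k, k ≠ i ∧ k ≠ j) {g : V ≃ₗ[F] V}
    (hg : ∀ i j : ι, i ≠ j → ∀ v, g (A.sg i j v) = A.sg i j (g v)) (k : ι ⊕ ν) :
    ∃ a : F, g (A.b k) = a • A.b k := by
  have key : ∀ l : ι ⊕ ν, l ≠ k → A.b.repr (g (A.b k)) l = 0 := by
    intro l hl
    rcases l with i | u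
    · -- choose `j ≠ i` with `inl j ≠ k`
      obtain ⟨j, hji, hjk⟩ : ∃ j : ι, j ≠ i ∧ k ≠ .inl j := by
        rcases k with k | u
        · obtain ⟨j, h4, h5⟩ := h3 i k
          exact ⟨j, h4, by simpa using h5.symm⟩
        · obtain ⟨j, h4, _⟩ := h3 i i
          exact ⟨j, h4, by simp⟩
      have h6 := A.coord_sg_left hji.symm (g (A.b k))
      rw [← hg i j hji.symm, A.sg_other hl.symm hjk] at h6
      exact zero_of_self_neg h2 h6
    · rcases k with i | w
      · obtain ⟨j, hj, -⟩ := h3 i i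
        have h6 := A.coord_sg (i := i) (j := j) (k := .inr u) hj.symm (by simp) (by simp) (g (A.b (.inl i)))
        rw [← hg i j hj.symm, A.sg_left hj.symm, map_neg, map_neg, Finsupp.neg_apply] at h6
        exact zero_of_self_neg h2 h6.symm
      · exact absurd (congrArg _ (Subsingleton.elim u w)) hl
  refine ⟨A.b.repr (g (A.b k)) k, ?_⟩
  apply A.b.repr.injective
  ext l
  rw [map_smul, Finsupp.smul_apply, A.b.repr_self, smul_eq_mul]
  by_cases hl : l = k
  · rw [hl, Finsupp.single_eq_same, mul_one]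
  · rw [key l hl, Finsupp.single_eq_of_ne hl, mul_zero]

theorem sq_of_diag {g : V ≃ₗ[F] V} (hg : g ∈ O Q) {k : ι ⊕ ν} {a : F} (h : g (A.b k) = a • A.b k) :
    a * a = 1 := by
  have h1 := mem_O.1 hg (A.b k)
  rw [h, QuadraticMap.map_smul] at h1
  have h4 : (a * a - 1) * Q (A.b k) = 0 := by
    rw [sub_mul, one_mul, sub_eq_zero]
    exact h1
  exact sub_eq_zero.1 ((mul_eq_zero.1 h4).resolve_right (A.ne k))

end Frame

/-! ### Blocks -/

variable {κ : Type} {e : κ → ℕ} {ν : Type} (A : Frame Q (Pt e) ν)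

namespace Frame

/-- the data of a sign vector which is constant on the blocks -/
structure Sgn (g : V ≃ₗ[F] V) (a : κ → F) (a' : F) : Prop where
  sq : ∀ k, a k * a k = 1
  sq' : a' * a' = 1
  inl : ∀ x : Pt e, g (A.b (.inl x)) = a x.1 • A.b (.inl x)
  inr : ∀ u, g (A.b (.inr u)) = a' • A.b (.inr u)

/-- **The centraliser.** -/
theorem exists_sgn (hG : Good Q) (h2 : (2 : F) ≠ 0) [Subsingleton ν] [Fintype ν] [Fintype κ] [DecidableEq κ]
    (h5 : 5 ≤ Fintype.card (Pt e ⊕ ν)) (h3 : ∀ i j : Pt e, ∃ k, k ≠ i ∧ k ≠ j) (hbig : ∃ l, 2 ≤ e l)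
    (hfix : Nonempty ν ∨ ∀ k : κ, ∃ l : κ, l ≠ k) {g : ↥(E Q)}
    (hg : ∀ x ∈ A.mono (PP e), Sc (g : V ≃ₗ[F] V) (x : V ≃ₗ[F] V)) :
    ∃ (a : κ → F) (a' : F), A.Sgn (g : V ≃ₗ[F] V) a a' := by
  classical
  have hcomm : ∀ i j : Pt e, i ≠ j → ∀ v, (g : V ≃ₗ[F] V) (A.sg i j v) = A.sg i j ((g : V ≃ₗ[F] V) v) :=
    fun i j hij => A.comm_sg h2 h5 hij (hg _ (A.sg_mem_mono hG (PP e) hij))
  choose a ha using fun k => A.diag_of_comm h2 h3 hcomm k
  have hsq : ∀ k, a k * a k = 1 := fun k => A.sq_of_diag (E_le_O g.2) (ha k)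
  obtain ⟨l₀, hl₀⟩ := hbig
  have hne : (⟨l₀, 0⟩ : Pt e) ≠ tr (dd e) ⟨l₀, 0⟩ := by
    intro h
    rw [tr_apply, zero_add] at h
    have := congrFun (eq_of_heq (Sigma.mk.inj_iff.1 h).2) ⟨0, by omega⟩
    simp [dd] at this
  have hinv : ∀ π ∈ PP e, Equiv.Perm.sign π = 1 → (Nonempty ν ∨ ∃ x, π x = x) → ∀ x : Pt e,
      a (.inl (π x)) = a (.inl x) := by
    intro π hπ hs hfx x
    have hE := A.pm_mem hG h2 hne hs
    obtain ⟨c, hc⟩ := hg _ (A.pm_mem_mono hπ hE)
    have h6 : ∀ y : Pt e, a (.inl (π y)) = c * a (.inl y) := by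
      intro y
      have h7 := hc (A.b (.inl y))
      change (g : V ≃ₗ[F] V) (A.pm π _) = c • A.pm π _ at h7
      rw [A.pm_inl, ha, ha, map_smul, A.pm_inl, smul_smul] at h7
      have h8 : (a (.inl (π y)) - c * a (.inl y)) • A.b (.inl (π y)) = 0 := by rw [sub_smul, h7, sub_self]
      exact sub_eq_zero.1 ((smul_eq_zero.1 h8).resolve_right (A.b.ne_zero _))
    have hnz : ∀ k, a k ≠ 0 := fun k h0 => by
      have := hsq k
      rw [h0, mul_zero] at this
      exact zero_ne_one this
    have hc1 : c = 1 := by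
      rcases hfx with ⟨⟨u⟩⟩ | ⟨y, hy⟩
      · have h7 := hc (A.b (.inr u))
        change (g : V ≃ₗ[F] V) (A.pm π _) = c • A.pm π _ at h7
        rw [A.pm_inr, ha, map_smul, A.pm_inr, smul_smul] at h7
        have h8 : (a (.inr u) - c * a (.inr u)) • A.b (.inr u) = 0 := by rw [sub_smul, ← h7, sub_self]
        have h9 := sub_eq_zero.1 ((smul_eq_zero.1 h8).resolve_right (A.b.ne_zero _))
        exact (mul_eq_right₀ (hnz _)).1 h9.symm
      · have h7 := h6 y
        rw [hy] at h7
        exact (mul_eq_right₀ (hnz _)).1 h7.symm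
    rw [h6, hc1, one_mul]
  have hconst : ∀ (k : κ) (v w : Fin (e k) → ZMod 2), a (.inl ⟨k, v⟩) = a (.inl ⟨k, w⟩) :=
    fun k v w => const_on_blocks (s := fun x : Pt e => a (.inl x)) hinv ⟨l₀, hl₀⟩ hfix k v w
  by_cases hν : Nonempty ν
  · obtain ⟨u⟩ := hν
    refine ⟨fun k => a (.inl ⟨k, 0⟩), a (.inr u), fun k => hsq _, hsq _, fun x => ?_, fun w => ?_⟩
    · rw [ha, hconst x.1 x.2 0]
    · rw [ha, Subsingleton.elim w u]
  · refine ⟨fun k => a (.inl ⟨k, 0⟩), 1, fun k => hsq _, one_mul 1, fun x => ?_, fun w => absurd ⟨w⟩ hν⟩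
    rw [ha, hconst x.1 x.2 0]

end Frame

end Cfsg.Agent.Omega.Lie.CenOrthA

end

section


/-!
# The K-fact (ZS) for the orthogonal groups in odd characteristic, III (helper676)

From a frame to `NoCenMove (E Q / Z)`.
-/

set_option autoImplicit false

namespace Cfsg.Agent.Omega.Lie.CenOrthA

open QuadraticMap Cfsg.Agent.LieClassical.OrthCore Cfsg.Agent.LieClassical.OrthTrans
  Cfsg.Agent.Omega.Lie.CenPerm Cfsg.Agent.Omega.Lie.CenTwo Cfsg.Agent.ClassicalGeometry.OrthSemi

variable {F V : Type*} [Field F] [AddCommGroup V] [Module F V] {Q : QuadraticForm F V}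

/-- the number of fixed vectors of a diagonal element -/
theorem card_fix {I : Type} [Fintype I] [Finite F] (b : Module.Basis I F V) (g : V ≃ₗ[F] V)
    (d : I → F) (hd : ∀ k, g (b k) = d k • b k) [Fintype {k // d k = 1}] :
    Nat.card {v : V // g v = v} = Nat.card F ^ Fintype.card {k // d k = 1} := by
  classical
  have : Module.Finite F V := Module.Finite.of_basis b
  set W : Submodule F V := Submodule.span F (Set.range fun k : {k // d k = 1} => b k) with hW
  have h1 : ∀ v, g v = v ↔ v ∈ W := by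
    intro v
    have h2 : ∀ k, b.repr (g v) k = d k * b.repr v k := by
      intro k
      have h3 : (b.coord k) ∘ₗ g.toLinearMap = d k • b.coord k := by
        apply b.ext
        intro l
        show b.repr (g (b l)) k = d k • b.repr (b l) k
        rw [hd, map_smul, Finsupp.smul_apply, b.repr_self]
        by_cases hl : k = l
        · rw [hl]
        · rw [Finsupp.single_eq_of_ne hl, smul_zero, smul_zero]
      exact LinearMap.congr_fun h3 v
    have h3 : (Set.range fun k : {k // d k = 1} => b k) = b '' {k | d k = 1} := by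
      rw [show (fun k : {k // d k = 1} => b k) = b ∘ Subtype.val from rfl, Set.range_comp,
        Subtype.range_coe_subtype]
    rw [hW, h3, Module.Basis.mem_span_image]
    constructor
    · intro h k hk
      have h4 := h2 k
      rw [h] at h4
      have h5 : (d k - 1) * b.repr v k = 0 := by rw [sub_mul, one_mul, ← h4, sub_self]
      exact sub_eq_zero.1 ((mul_eq_zero.1 h5).resolve_right (Finsupp.mem_support_iff.1 hk))
    · intro h
      apply b.repr.injective
      ext k
      rw [h2]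
      by_cases hk : b.repr v k = 0
      · rw [hk, mul_zero]
      · have : d k = 1 := h (Finsupp.mem_support_iff.2 hk)
        rw [this, one_mul]
  have h2 : Nat.card {v : V // g v = v} = Nat.card W := Nat.card_congr (Equiv.subtypeEquivRight h1)
  rw [h2, Module.natCard_eq_pow_finrank (K := F), hW]
  congr 1
  exact finrank_span_eq_card (b.linearIndependent.comp _ Subtype.val_injective)

variable {κ : Type} {e : κ → ℕ} {ν : Type} (A : Frame Q (Pt e) ν)

namespace Frame

variable {A}

theorem Sgn.ext {g h : V ≃ₗ[F] V} {a b : κ → F} {a' b' : F} (hg : A.Sgn g a a') (hh : A.Sgn h b b')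
    (hab : a = b) (hab' : Nonempty ν → a' = b') : g = h := by
  apply LinearEquiv.toLinearMap_injective
  apply A.b.ext
  rintro (x | u)
  · show g _ = h _
    rw [hg.inl, hh.inl, hab]
  · show g _ = h _
    rw [hg.inr, hh.inr, hab' ⟨u⟩]

theorem Sgn.card [Fintype κ] [DecidableEq κ] [Fintype ν] [Finite F] {g : V ≃ₗ[F] V} {a : κ → F} {a' : F}
    (hg : A.Sgn g a a') (h1 : Nonempty ν → a' = 1) (P : Finset κ) (hP : ∀ k, k ∈ P ↔ a k = 1) :
    Nat.card {v : V // g v = v} = Nat.card F ^ (∑ k ∈ P, 2 ^ e k + Fintype.card ν) := by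
  classical
  let d : Pt e ⊕ ν → F := Sum.elim (fun x => a x.1) fun _ => a'
  rw [card_fix A.b g d (by
    rintro (x | u)
    · exact hg.inl x
    · exact hg.inr u)]
  congr 1
  rw [Fintype.card_congr (Equiv.subtypeSum (p := fun k => d k = 1)), Fintype.card_sum]
  congr 1
  · rw [← card_union (e := e) P, Fintype.card_subtype]
    congr 1
    ext x
    simp only [Finset.mem_filter, Finset.mem_univ, true_and, hP]
    rfl
  · rw [Fintype.card_subtype]
    congr 1
    ext u
    simp only [Finset.mem_filter, Finset.mem_univ, true_and, iff_true]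
    exact h1 ⟨u⟩

theorem Sgn.eq_of_card [Fintype κ] [DecidableEq κ] [Fintype ν] [Finite F] (he : Function.Injective e)
    {g h : V ≃ₗ[F] V} {a b : κ → F} {a' b' : F} (hg : A.Sgn g a a') (hh : A.Sgn h b b')
    (h1 : Nonempty ν → a' = 1) (h2 : Nonempty ν → b' = 1)
    (hcard : Nat.card {v : V // g v = v} = Nat.card {v : V // h v = v}) : g = h := by
  classical
  rw [hg.card h1 (Finset.univ.filter fun k => a k = 1) (by simp),
    hh.card h2 (Finset.univ.filter fun k => b k = 1) (by simp)] at hcard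
  have h3 := Nat.pow_right_injective (Finite.one_lt_card (α := F)) hcard
  have h4 := eq_of_sum he (Nat.add_right_cancel h3)
  refine hg.ext hh ?_ fun h => by rw [h1 h, h2 h]
  funext k
  have h5 : a k = 1 ↔ b k = 1 := by
    have := Finset.ext_iff.1 h4 k
    simpa using this
  rcases mul_self_eq_one_iff.1 (hg.sq k) with h6 | h6
  · rw [h6, h5.1 h6]
  · rcases mul_self_eq_one_iff.1 (hh.sq k) with h7 | h7
    · rw [h7, h5.2 h7]
    · rw [h6, h7]

variable (A)

/-- the image of the monomial group -/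
noncomputable def EE (P : Subgroup (Equiv.Perm (Pt e))) : Subgroup (↥(E Q) ⧸ Subgroup.center ↥(E Q)) :=
  (A.mono P).map (QuotientGroup.mk' _)

theorem isPGroup_EE : IsPGroup 2 (A.EE (PP e)) := (A.isPGroup_mono fun _ hπ x => PP_four hπ x).map _

theorem sgn_of_cent (hG : Good Q) (h2 : (2 : F) ≠ 0) [Subsingleton ν] [Fintype ν] [Fintype κ] [DecidableEq κ]
    (h5 : 5 ≤ Fintype.card (Pt e ⊕ ν)) (h3 : ∀ i j : Pt e, ∃ k, k ≠ i ∧ k ≠ j) (hbig : ∃ l, 2 ≤ e l)
    (hfix : Nonempty ν ∨ ∀ k : κ, ∃ l : κ, l ≠ k) {g : ↥(E Q)}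
    (hg : ∀ x ∈ A.EE (PP e), x * QuotientGroup.mk g = QuotientGroup.mk g * x) :
    ∃ (a : κ → F) (a' : F), A.Sgn (g : V ≃ₗ[F] V) a a' :=
  A.exists_sgn hG h2 h5 h3 hbig hfix fun x hx =>
    sc_of_comm hG (hg (QuotientGroup.mk x) ⟨x, hx, rfl⟩)

/-- **From a frame to `NoCenMove`**: all automorphisms come from semisimilitudes. -/
theorem noCenMove [Finite F] [Module.Finite F V] (hG : Good Q) (h2 : (2 : F) ≠ 0) [Subsingleton ν]
    [Fintype ν] [Fintype κ] [DecidableEq κ] (he : Function.Injective e)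
    (h5 : 5 ≤ Fintype.card (Pt e ⊕ ν)) (h3 : ∀ i j : Pt e, ∃ k, k ≠ i ∧ k ≠ j) (hbig : ∃ l, 2 ≤ e l)
    (hfix : Nonempty ν ∨ ∀ k : κ, ∃ l : κ, l ≠ k)
    (hν : Nonempty ν → ∀ g ∈ E Q, ∀ a a', A.Sgn g a a' → a' = 1)
    (hs : Function.Surjective (Psi Q)) : NoCenMove (↥(E Q) ⧸ Subgroup.center ↥(E Q)) := by
  have : Finite V := Module.finite_of_finite F
  have : Finite (V ≃ₗ[F] V) := Finite.of_injective (fun f : V ≃ₗ[F] V => (f : V → V)) DFunLike.coe_injective
  refine CenInv.of_cent A.isPGroup_EE fun u v hu hv _ _ _ _ α _ hα => ?_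
  obtain ⟨g, rfl⟩ := QuotientGroup.mk_surjective u
  obtain ⟨M, rfl⟩ := hs α
  rw [Psi_mk] at hα
  subst hα
  obtain ⟨a, a', hg⟩ := A.sgn_of_cent hG h2 h5 h3 hbig hfix hu
  obtain ⟨b, b', hh⟩ := A.sgn_of_cent hG h2 h5 h3 hbig hfix hv
  congr 1
  apply Subtype.ext
  refine hg.eq_of_card he hh (fun h => hν h _ g.2 _ _ hg) (fun h => hν h _ (conjE Q M g).2 _ _ hh)
    (Nat.card_congr (Equiv.subtypeEquiv M.1 fun v => ?_))
  rw [coe_conjE, conjLin_apply', M.1.injective.eq_iff]

include A in
/-- **From a frame to `NoCenMove`**: two blocks. -/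
theorem noCenMove_two [Finite F] [Module.Finite F V] (hG : Good Q) (h2 : (2 : F) ≠ 0) [IsEmpty ν]
    [Fintype ν] [Fintype κ] [DecidableEq κ]
    (h5 : 5 ≤ Fintype.card (Pt e ⊕ ν)) (h3 : ∀ i j : Pt e, ∃ k, k ≠ i ∧ k ≠ j) (hbig : ∃ l, 2 ≤ e l)
    {k₀ k₁ : κ} (hk : k₀ ≠ k₁) (hκ : ∀ k, k = k₀ ∨ k = k₁) :
    NoCenMove (↥(E Q) ⧸ Subgroup.center ↥(E Q)) := by
  have : Finite V := Module.finite_of_finite F
  have : Finite (V ≃ₗ[F] V) := Finite.of_injective (fun f : V ≃ₗ[F] V => (f : V → V)) DFunLike.coe_injective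
  have hfix : Nonempty ν ∨ ∀ k : κ, ∃ l : κ, l ≠ k := Or.inr fun k => by
    by_cases h : k = k₀
    · exact ⟨k₁, fun h' => hk (by rw [← h, h'])⟩
    · exact ⟨k₀, Ne.symm h⟩
  refine CenInv.of_cent A.isPGroup_EE fun u v hu hv _ _ hu1 hv1 α _ _ => ?_
  obtain ⟨g, rfl⟩ := QuotientGroup.mk_surjective u
  obtain ⟨h, rfl⟩ := QuotientGroup.mk_surjective v
  obtain ⟨a, a', hg⟩ := A.sgn_of_cent hG h2 h5 h3 hbig hfix hu
  obtain ⟨b, b', hh⟩ := A.sgn_of_cent hG h2 h5 h3 hbig hfix hv
  -- scalar elements are central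
  have hcen : ∀ {g : ↥(E Q)} {c : F}, (∀ x : Pt e, (g : V ≃ₗ[F] V) (A.b (.inl x)) = c • A.b (.inl x)) →
      (QuotientGroup.mk g : ↥(E Q) ⧸ Subgroup.center ↥(E Q)) = 1 := by
    intro g c hgc
    rw [QuotientGroup.eq_one_iff, Subgroup.mem_center_iff]
    have h6 : ∀ v, (g : V ≃ₗ[F] V) v = c • v := by
      have : (g : V ≃ₗ[F] V).toLinearMap = c • LinearMap.id := by
        apply A.b.ext
        rintro (x | u)
        · exact hgc x
        · exact isEmptyElim u
      exact fun v => LinearMap.congr_fun this v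
    intro x
    apply Subtype.ext
    ext v
    show (x : V ≃ₗ[F] V) ((g : V ≃ₗ[F] V) v) = (g : V ≃ₗ[F] V) ((x : V ≃ₗ[F] V) v)
    rw [h6, h6, map_smul]
  have hne : ∀ {g : ↥(E Q)} {a : κ → F} {a' : F}, A.Sgn (g : V ≃ₗ[F] V) a a' →
      (QuotientGroup.mk g : ↥(E Q) ⧸ Subgroup.center ↥(E Q)) ≠ 1 → a k₀ ≠ a k₁ := by
    intro g a a' hg h1 h
    apply h1
    refine hcen (c := a k₀) fun x => ?_
    rw [hg.inl]
    rcases hκ x.1 with e | e <;> rw [e]
    rw [h]
  have ha := hne hg hu1
  have hb := hne hh hv1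
  rw [← inv_mul_eq_one]
  refine (hcen (g := g⁻¹ * h) (c := a k₀ * b k₀) fun x => ?_ : _)
  have h6 : (((g⁻¹ * h : ↥(E Q)) : V ≃ₗ[F] V)) (A.b (.inl x)) =
      (g : V ≃ₗ[F] V).symm ((h : V ≃ₗ[F] V) (A.b (.inl x))) := rfl
  rw [h6, LinearEquiv.symm_apply_eq, hh.inl, map_smul, hg.inl, smul_smul]
  congr 1
  have pm : ∀ {c : F}, c * c = 1 → c = 1 ∨ c = -1 := fun h => mul_self_eq_one_iff.1 h
  rcases hκ x.1 with e | e <;> rw [e]
  · rw [mul_right_comm, hg.sq, one_mul]
  · rcases pm (hg.sq k₀) with h1 | h1 <;> rcases pm (hg.sq k₁) with h3 | h3 <;>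
      rcases pm (hh.sq k₀) with h4 | h4 <;> rcases pm (hh.sq k₁) with h7 | h7 <;>
      rw [h1, h3] at ha <;> rw [h4, h7] at hb <;> first | exact absurd rfl ha | exact absurd rfl hb |
        (rw [h1, h3, h4, h7]; ring)

end Frame

end Cfsg.Agent.Omega.Lie.CenOrthA

end

section


/-!
# The K-fact (ZS) for the orthogonal groups in odd characteristic, IV (helper676)

The spinor norm of a diagonal element, and the existence of frames.
-/

set_option autoImplicit false

namespace Cfsg.Agent.Omega.Lie.CenOrthA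

open QuadraticMap Cfsg.Agent.LieClassical.OrthCore Cfsg.Agent.LieClassical.OrthTrans
  Cfsg.Agent.Omega.Lie.CenPerm Cfsg.Agent.Omega.Lie.CenTwo Cfsg.Agent.ClassicalGeometry.OrthSemi

/-! ### The spinor norm -/

section spinor

variable {I : Type} [Fintype I] [DecidableEq I] {F : Type*} [Field F] [Finite F]

/-- the spinor norm as a sign -/
noncomputable def theta (Q : QuadraticForm F (I → F)) (c : F) : ↥(O Q) →* ℤˣ :=
  (Cfsg.Agent.ClassicalGeometry.SpinorSign.spinorSign (⇑Q) c).comp
    (LieClassical.OrthFinite.isometryEquiv Q).symm.toMonoidHom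

open Classical in
theorem theta_refl (h2 : (2 : F) ≠ 0) (Q : QuadraticForm F (I → F)) {c : F} (hc : c ≠ 0) (v : I → F)
    (hv : Q v ≠ 0) : theta Q c ⟨refl Q v hv, refl_mem_O hv⟩ = if IsSquare (c * Q v) then -1 else 1 := by
  rw [← Cfsg.Agent.ClassicalGeometry.SpinorSign.spinorSign_reflIso h2 Q hc v hv]
  show Cfsg.Agent.ClassicalGeometry.SpinorSign.spinorSign (⇑Q) c
    ((LieClassical.OrthFinite.isometryEquiv Q).symm _) = _
  congr 1
  rw [MulEquiv.symm_apply_eq]
  apply Subtype.ext
  ext x : 1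
  rw [LieClassical.OrthFinite.isometryEquiv_apply, Cfsg.Agent.ClassicalGeometry.Reflection.coe_reflIso,
    Cfsg.Agent.ClassicalGeometry.Reflection.reflectionMatrix_mulVec]
  exact refl_apply hv x

theorem theta_of_mem (Q : QuadraticForm F (I → F)) (hG : Good Q) (c : F) (g : ↥(O Q))
    (hg : (g : (I → F) ≃ₗ[F] (I → F)) ∈ E Q) : theta Q c g = 1 := by
  rw [← hG.commutator_eq_E, ← Subgroup.map_subtype_commutator] at hg
  obtain ⟨x, hx, hxg⟩ := hg
  have h1 : x = g := Subtype.ext hxg
  rw [← h1]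
  exact Abelianization.commutator_subset_ker (theta Q c) hx

variable {Q : QuadraticForm F (I → F)} {ι ν : Type} (A : Frame Q ι ν)

omit [Fintype I] [DecidableEq I] [Finite F] in
theorem exists_prod {θ : ↥(O Q) →* ℤˣ}
    (hθ : ∀ i : ι, θ ⟨refl Q (A.b (.inl i)) (A.ne _), refl_mem_O _⟩ = 1) (T : Finset ι) :
    ∃ x : ↥(O Q), θ x = 1 ∧ (∀ i ∈ T, (x : (I → F) ≃ₗ[F] (I → F)) (A.b (.inl i)) = -A.b (.inl i)) ∧
      (∀ i ∉ T, (x : (I → F) ≃ₗ[F] (I → F)) (A.b (.inl i)) = A.b (.inl i)) ∧
      ∀ u, (x : (I → F) ≃ₗ[F] (I → F)) (A.b (.inr u)) = A.b (.inr u) := by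
  classical
  induction T using Finset.induction_on with
  | empty =>
    exact ⟨1, map_one _, fun i hi => absurd hi (Finset.notMem_empty i), fun _ _ => rfl, fun _ => rfl⟩
  | insert j T hj ih =>
    obtain ⟨x, h1, h2, h3, h4⟩ := ih
    refine ⟨⟨refl Q (A.b (.inl j)) (A.ne _), refl_mem_O _⟩ * x, ?_, ?_, ?_, ?_⟩
    · rw [map_mul, hθ, h1, one_mul]
    · intro i hi
      show refl Q (A.b (.inl j)) (A.ne _) ((x : (I → F) ≃ₗ[F] (I → F)) _) = _
      rcases Finset.mem_insert.1 hi with rfl | hi
      · rw [h3 _ hj, A.refl_same]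
      · rw [h2 i hi, map_neg, A.refl_other (by
          intro h
          rw [Sum.inl.inj h] at hj
          exact hj hi)]
    · intro i hi
      show refl Q (A.b (.inl j)) (A.ne _) ((x : (I → F) ≃ₗ[F] (I → F)) _) = _
      rw [Finset.mem_insert, not_or] at hi
      rw [h3 i hi.2, A.refl_other (by
        intro h
        exact hi.1 (Sum.inl.inj h).symm)]
    · intro u
      show refl Q (A.b (.inl j)) (A.ne _) ((x : (I → F) ≃ₗ[F] (I → F)) _) = _
      rw [h4 u, A.refl_other (by simp)]

theorem one_of_mem (h2 : (2 : F) ≠ 0) (hG : Good Q) [Subsingleton ν] [Finite ι]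
    (hcc : ¬IsSquare (A.c' * A.c)) {g : (I → F) ≃ₗ[F] (I → F)} (hg : g ∈ E Q)
    (h1 : ∀ i, g (A.b (.inl i)) = A.b (.inl i) ∨ g (A.b (.inl i)) = -A.b (.inl i)) {a : F} (ha : a * a = 1)
    (u : ν) (hu : g (A.b (.inr u)) = a • A.b (.inr u)) : a = 1 := by
  classical
  have := Fintype.ofFinite ι
  rcases mul_self_eq_one_iff.1 ha with h | h
  · exact h
  exfalso
  have hθ : ∀ i : ι, theta Q A.c' ⟨refl Q (A.b (.inl i)) (A.ne _), refl_mem_O _⟩ = 1 := by
    intro i
    rw [theta_refl h2 Q A.hc', A.val, if_neg hcc]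
  have hθ' : theta Q A.c' ⟨refl Q (A.b (.inr u)) (A.ne _), refl_mem_O _⟩ = -1 := by
    rw [theta_refl h2 Q A.hc', A.val', if_pos ⟨A.c', rfl⟩]
  obtain ⟨x, hx1, hx2, hx3, hx4⟩ := exists_prod A hθ (Finset.univ.filter fun i =>
    g (A.b (.inl i)) = -A.b (.inl i))
  have h3 : (⟨g, E_le_O hg⟩ : ↥(O Q)) = ⟨refl Q (A.b (.inr u)) (A.ne _), refl_mem_O _⟩ * x := by
    apply Subtype.ext
    apply LinearEquiv.toLinearMap_injective
    apply A.b.ext
    rintro (i | w)
    · show g _ = refl Q (A.b (.inr u)) (A.ne _) ((x : (I → F) ≃ₗ[F] (I → F)) _)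
      by_cases hi : g (A.b (.inl i)) = -A.b (.inl i)
      · rw [hx2 i (by simpa using hi), map_neg, A.refl_other (by simp), hi]
      · rw [hx3 i (by simpa using hi), A.refl_other (by simp), (h1 i).resolve_right hi]
    · show g _ = refl Q (A.b (.inr u)) (A.ne _) ((x : (I → F) ≃ₗ[F] (I → F)) _)
      rw [Subsingleton.elim w u, hx4, A.refl_same, hu, h, neg_one_smul]
  have h4 := theta_of_mem Q hG A.c' ⟨g, E_le_O hg⟩ hg
  rw [h3, map_mul, hx1, hθ', mul_one] at h4
  exact absurd h4 (by decide)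

end spinor

/-! ### Orthogonal families -/

section families

variable {I : Type} [Fintype I] [DecidableEq I] {F : Type*} [Field F] [Finite F]

/-- orthogonal families with many values 1 -/
theorem exists_family (h2 : (2 : F) ≠ 0) (Q : QuadraticForm F (I → F)) (hQ : (polarBilin Q).Nondegenerate)
    (k : ℕ) (hk : k < Fintype.card I) : ∃ u : Fin (Fintype.card I) → (I → F), (∀ i, Q (u i) ≠ 0) ∧
      (∀ i j, i ≠ j → polar Q (u i) (u j) = 0) ∧ ∀ i, i.val < k → Q (u i) = 1 := by
  induction k with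
  | zero =>
    obtain ⟨b, hb1, hb2⟩ := ClassicalGeometry.CartanDieudonne.exists_orthogonal_basis h2 Q hQ
    have h : Module.finrank F (I → F) = Fintype.card I := Module.finrank_fintype_fun_eq_card F
    refine ⟨fun i => b (Fin.cast h.symm i), fun i => hb1 _, fun i j hij => hb2 _ _ ?_, fun i hi => ?_⟩
    · intro h'
      exact hij (Fin.cast_injective _ h')
    · exact absurd hi (Nat.not_lt_zero _)
  | succ k ih =>
    obtain ⟨u, h1, h3, h4⟩ := ih (by omega)
    set p : Fin (Fintype.card I) := ⟨k, by omega⟩ with hp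
    set p' : Fin (Fintype.card I) := ⟨k + 1, hk⟩ with hp'
    have hpp : p ≠ p' := by
      intro h
      have := congrArg Fin.val h
      simp [hp, hp'] at this
    obtain ⟨x, y, hxy⟩ := ClassicalGeometry.Universal.exists_sq_add_sq h2 (h1 p) (h1 p') 1
    set s : I → F := x • u p + y • u p' with hs
    set t : I → F := (-(Q (u p') * y)) • u p + (Q (u p) * x) • u p' with ht
    have hQs : Q s = 1 := by
      rw [hs, Q_add, QuadraticMap.map_smul, QuadraticMap.map_smul, polar_smul_left, polar_smul_right,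
        h3 p p' hpp, smul_zero, smul_zero, add_zero, smul_eq_mul, smul_eq_mul, ← hxy]
      ring
    have hQt : Q t = Q (u p) * Q (u p') := by
      rw [ht, Q_add, QuadraticMap.map_smul, QuadraticMap.map_smul, polar_smul_left, polar_smul_right,
        h3 p p' hpp, smul_zero, smul_zero, add_zero, smul_eq_mul, smul_eq_mul]
      linear_combination (Q (u p) * Q (u p')) * hxy
    have hst : polar Q s t = 0 := by
      have h5 := polar_comm (⇑Q) (u p') (u p)
      rw [h3 p p' hpp] at h5
      rw [hs, ht, polar_add_left, polar_add_right, polar_add_right, polar_smul_left, polar_smul_left,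
        polar_smul_left, polar_smul_left, polar_smul_right, polar_smul_right, polar_smul_right,
        polar_smul_right, h3 p p' hpp, h5, polar_self', polar_self']
      simp only [smul_eq_mul]
      ring
    have hperp : ∀ i, i ≠ p → i ≠ p' → polar Q (u i) s = 0 ∧ polar Q (u i) t = 0 := by
      intro i hi hi'
      rw [hs, ht, polar_add_right, polar_add_right, polar_smul_right, polar_smul_right, polar_smul_right,
        polar_smul_right, h3 i p hi, h3 i p' hi']
      simp
    refine ⟨Function.update (Function.update u p s) p' t, fun i => ?_, ?_, fun i hi => ?_⟩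
    · by_cases hi' : i = p'
      · rw [hi', Function.update_self, hQt]
        exact mul_ne_zero (h1 _) (h1 _)
      · rw [Function.update_of_ne hi']
        by_cases hi : i = p
        · rw [hi, Function.update_self, hQs]
          exact one_ne_zero
        · rw [Function.update_of_ne hi]
          exact h1 i
    · -- orthogonality
      have hval : ∀ i, Function.update (Function.update u p s) p' t i =
          if i = p' then t else if i = p then s else u i := by
        intro i
        by_cases hi' : i = p'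
        · rw [if_pos hi', hi', Function.update_self]
        · rw [Function.update_of_ne hi', if_neg hi']
          by_cases hi : i = p
          · rw [hi, Function.update_self, if_pos rfl]
          · rw [Function.update_of_ne hi, if_neg hi]
      intro i j hij
      rw [hval, hval]
      by_cases hi' : i = p'
      · have hj' : j ≠ p' := fun h => hij (by rw [hi', h])
        rw [if_pos hi', if_neg hj']
        by_cases hj : j = p
        · rw [if_pos hj, polar_comm, hst]
        · rw [if_neg hj, polar_comm]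
          exact (hperp j hj hj').2
      · rw [if_neg hi']
        by_cases hi : i = p
        · rw [if_pos hi]
          by_cases hj' : j = p'
          · rw [if_pos hj', hst]
          · have hj : j ≠ p := fun h => hij (by rw [hi, h])
            rw [if_neg hj', if_neg hj, polar_comm]
            exact (hperp j hj hj').1
        · rw [if_neg hi]
          by_cases hj' : j = p'
          · rw [if_pos hj']
            exact (hperp i hi hi').2
          · rw [if_neg hj']
            by_cases hj : j = p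
            · rw [if_pos hj]
              exact (hperp i hi hi').1
            · rw [if_neg hj]
              exact h3 i j hij
    · have hi' : i ≠ p' := by
        intro h
        rw [h] at hi
        simp [hp'] at hi
      rw [Function.update_of_ne hi']
      by_cases hip : i = p
      · rw [hip, Function.update_self, hQs]
      · rw [Function.update_of_ne hip]
        apply h4
        have : i.val ≠ k := fun h => hip (Fin.ext h)
        omega

omit [DecidableEq I] [Finite F] in
/-- a frame from an orthogonal family -/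
theorem exists_frame {Q : QuadraticForm F (I → F)} {ι ν : Type} [Fintype ι] [Fintype ν] [Nonempty ι]
    (h2 : (2 : F) ≠ 0) (w : ι ⊕ ν → (I → F)) (c c' : F) (hc : c ≠ 0) (hc' : c' ≠ 0)
    (hcard : Fintype.card (ι ⊕ ν) = Fintype.card I) (hv : ∀ i, Q (w (.inl i)) = c)
    (hv' : ∀ u, Q (w (.inr u)) = c') (ho : ∀ i j, i ≠ j → polar Q (w i) (w j) = 0) :
    ∃ A : Frame Q ι ν, A.c = c ∧ A.c' = c' := by
  classical
  have hn : ∀ i, Q (w i) ≠ 0 := by
    rintro (i | u)
    · rw [hv]; exact hc
    · rw [hv']; exact hc'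
  have hli : LinearIndependent F w := by
    refine LinearMap.linearIndependent_of_isOrthoᵢ (B := polarBilin Q) ?_ ?_
    · intro i j hij
      exact ho i j hij
    · intro i h
      have h' : polar Q (w i) (w i) = 0 := h
      rw [polar_self'] at h'
      exact hn i ((mul_eq_zero.1 h').resolve_left h2)
  let b := basisOfLinearIndependentOfCardEqFinrank hli (by
    rw [hcard, Module.finrank_fintype_fun_eq_card])
  have hb : ∀ i, b i = w i := fun i => by
    rw [show b = _ from rfl, coe_basisOfLinearIndependentOfCardEqFinrank]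
  have e1 : ∀ i, Q (b (.inl i)) = c := fun i => by rw [hb, hv]
  have e2 : ∀ u, Q (b (.inr u)) = c' := fun u => by rw [hb, hv']
  have e3 : ∀ i j, i ≠ j → polar Q (b i) (b j) = 0 := fun i j hij => by rw [hb, hb, ho i j hij]
  exact ⟨⟨b, c, c', hc, hc', e1, e2, e3⟩, rfl, rfl⟩

end families

/-! ### Blocks from the binary digits -/

section digits

/-- the index type of the blocks: the binary digits of `N` -/
abbrev Dig (N : ℕ) := {i : ℕ // i ∈ N.bitIndices.toFinset}

/-- the exponents -/
abbrev de (N : ℕ) : Dig N → ℕ := Subtype.val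

theorem card_Pt_de (N : ℕ) : Fintype.card (Pt (de N)) = N := by
  rw [card_Pt]
  rw [Finset.sum_coe_sort N.bitIndices.toFinset fun i => 2 ^ i]
  exact Finset.sum_toFinset_bitIndices_two_pow N

theorem exists_big {N : ℕ} (hN : 4 ≤ N) : ∃ l : Dig N, 2 ≤ de N l := by
  by_contra h
  push Not at h
  have h1 := Finset.sum_toFinset_bitIndices_two_pow N
  have h2 : ∑ i ∈ N.bitIndices.toFinset, 2 ^ i ≤ ∑ i ∈ Finset.range 2, 2 ^ i := by
    apply Finset.sum_le_sum_of_subset
    intro i hi
    exact Finset.mem_range.2 (h ⟨i, hi⟩)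
  rw [h1] at h2
  simp [Finset.sum_range_succ] at h2
  omega

theorem exists_other {N : ℕ} (hN : ∀ i, N ≠ 2 ^ i) (k : Dig N) : ∃ l : Dig N, l ≠ k := by
  by_contra h
  push Not at h
  apply hN k.1
  have h1 := Finset.sum_toFinset_bitIndices_two_pow N
  rw [← Finset.sum_coe_sort N.bitIndices.toFinset fun i => 2 ^ i,
    Finset.sum_eq_single k (fun b _ hb => absurd (h b) hb) (fun h => absurd (Finset.mem_univ _) h)] at h1
  exact h1.symm

end digits

end Cfsg.Agent.Omega.Lie.CenOrthA

end

section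


/-!
# The K-fact (ZS) for the orthogonal groups in odd characteristic (helper676)

`NoCenMove` for `PΩ_{2m+1}(q)` (`m ≥ 3`), `PΩ⁺_{2m}(q)` (`m ≥ 4`), `PΩ⁻_{2m}(q)` (`m ≥ 4`), `q` odd.
-/

set_option autoImplicit false

namespace Cfsg.Agent.Omega.Lie.CenOrth

open QuadraticMap Cfsg.Agent.LieClassical.OrthCore Cfsg.Agent.LieClassical.OrthTrans
  Cfsg.Agent.Omega.Lie.CenPerm Cfsg.Agent.Omega.Lie.CenTwo Cfsg.Agent.ClassicalGeometry.OrthSemi
  Cfsg.Agent.Omega.Lie.CenOrthA Cfsg.Agent.ClassicalGeometry.OrthSemiForms Cfsg.Agent.LieClassical.OrthForms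

section

variable {I : Type} [Fintype I] [DecidableEq I] {F : Type*} [Field F] [Finite F]

omit [Fintype I] [DecidableEq I] [Finite F] in
theorem nondegenerate_of_good {Q : QuadraticForm F (I → F)} (hG : Good Q) :
    (polarBilin Q).Nondegenerate := by
  refine ⟨fun x hx => hG.nondeg x hx, fun y hy => hG.nondeg y fun x => ?_⟩
  rw [polar_comm]
  exact hy x

theorem three {ι : Type} [Fintype ι] [DecidableEq ι] (h : 3 ≤ Fintype.card ι) (i j : ι) :
    ∃ k, k ≠ i ∧ k ≠ j := by
  by_contra hcon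
  push Not at hcon
  have h1 : (Finset.univ : Finset ι) ⊆ {i, j} := by
    intro k _
    rw [Finset.mem_insert, Finset.mem_singleton]
    by_cases hk : k = i
    · exact Or.inl hk
    · exact Or.inr (hcon k hk)
  have h2 := (Finset.card_le_card h1).trans Finset.card_le_two
  rw [Finset.card_univ] at h2
  omega

omit [DecidableEq I] in
/-- an orthonormal family gives `NoCenMove` -/
theorem of_family {Q : QuadraticForm F (I → F)} (hG : Good Q) (h2 : (2 : F) ≠ 0)
    (h7 : 7 ≤ Fintype.card I) (u : Fin (Fintype.card I) → (I → F)) (hu : ∀ i, Q (u i) = 1)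
    (ho : ∀ i j, i ≠ j → polar Q (u i) (u j) = 0)
    (hs : (∀ i, Fintype.card I ≠ 2 ^ i) → Function.Surjective (Psi Q)) :
    NoCenMove (↥(E Q) ⧸ Subgroup.center ↥(E Q)) := by
  classical
  by_cases hN : ∃ i, Fintype.card I = 2 ^ i
  · obtain ⟨i, hi⟩ := hN
    have hi3 : 3 ≤ i := by
      by_contra h
      have : 2 ^ i ≤ 2 ^ 2 := Nat.pow_le_pow_right (by norm_num) (by omega)
      omega
    let e : Bool → ℕ := fun _ => i - 1
    have hcard : Fintype.card (Pt e) = Fintype.card I := by
      rw [card_Pt, hi, Fintype.sum_bool]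
      show 2 ^ (i - 1) + 2 ^ (i - 1) = 2 ^ i
      obtain ⟨j, rfl⟩ := Nat.exists_eq_add_of_le hi3
      rw [show 3 + j - 1 = 2 + j by omega, show 3 + j = 2 + j + 1 by omega, pow_succ]
      omega
    let σ : Pt e ≃ Fin (Fintype.card I) := Fintype.equivOfCardEq (by rw [hcard, Fintype.card_fin])
    have : Nonempty (Pt e) := ⟨⟨true, 0⟩⟩
    obtain ⟨A, -, -⟩ := exists_frame (Q := Q) (ι := Pt e) (ν := Empty) h2
      (Sum.elim (fun x => u (σ x)) Empty.elim) 1 1 one_ne_zero one_ne_zero
      (by rw [Fintype.card_sum, hcard, Fintype.card_empty, add_zero]) (fun x => hu _) (fun x => x.elim)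
      (by
        rintro (x | x) (y | y) hxy
        · exact ho _ _ fun h => hxy (congrArg _ (σ.injective h))
        · exact y.elim
        · exact x.elim
        · exact x.elim)
    exact A.noCenMove_two hG h2 (by rw [Fintype.card_sum, hcard]; omega)
      (three (by rw [hcard]; omega)) ⟨true, by show 2 ≤ i - 1; omega⟩ (k₀ := true) (k₁ := false)
      (by decide) (by decide)
  · push Not at hN
    have hcard := card_Pt_de (Fintype.card I)
    let σ : Pt (de (Fintype.card I)) ≃ Fin (Fintype.card I) :=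
      Fintype.equivOfCardEq (by rw [hcard, Fintype.card_fin])
    have : Nonempty (Pt (de (Fintype.card I))) := Fintype.card_pos_iff.1 (by omega)
    obtain ⟨A, -, -⟩ := exists_frame (Q := Q) (ι := Pt (de (Fintype.card I))) (ν := Empty) h2
      (Sum.elim (fun x => u (σ x)) Empty.elim) 1 1 one_ne_zero one_ne_zero
      (by rw [Fintype.card_sum, hcard, Fintype.card_empty, add_zero]) (fun x => hu _) (fun x => x.elim)
      (by
        rintro (x | x) (y | y) hxy
        · exact ho _ _ fun h => hxy (congrArg _ (σ.injective h))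
        · exact y.elim
        · exact x.elim
        · exact x.elim)
    exact A.noCenMove hG h2 Subtype.val_injective (by rw [Fintype.card_sum, hcard]; omega)
      (three (by rw [hcard]; omega)) (exists_big (by omega)) (Or.inr (exists_other hN))
      (fun ⟨x⟩ => x.elim) (hs hN)

/-- **The abstract result**: all automorphisms come from semisimilitudes. -/
theorem of_surjective {Q : QuadraticForm F (I → F)} (hG : Good Q) (h2 : (2 : F) ≠ 0)
    (h7 : 7 ≤ Fintype.card I) (hs : Function.Surjective (Psi Q)) :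
    NoCenMove (↥(E Q) ⧸ Subgroup.center ↥(E Q)) := by
  classical
  obtain ⟨u, h1, ho, h3⟩ := exists_family h2 Q (nondegenerate_of_good hG) (Fintype.card I - 1) (by omega)
  set p : Fin (Fintype.card I) := ⟨Fintype.card I - 1, by omega⟩ with hp
  have hlt : ∀ i : Fin (Fintype.card I), i ≠ p → i.val < Fintype.card I - 1 := by
    intro i hi
    have h4 : i.val ≠ Fintype.card I - 1 := fun h => hi (Fin.ext h)
    have := i.2
    omega
  by_cases hsq : IsSquare (Q (u p))
  · obtain ⟨t, ht⟩ := hsq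
    have ht0 : t ≠ 0 := by
      rintro rfl
      rw [mul_zero] at ht
      exact h1 p ht
    have hval : ∀ i, Function.update u p (t⁻¹ • u p) i = (if i = p then t⁻¹ else 1 : F) • u i := by
      intro i
      by_cases hi : i = p
      · rw [hi, Function.update_self, if_pos rfl]
      · rw [Function.update_of_ne hi, if_neg hi, one_smul]
    refine of_family hG h2 h7 (Function.update u p (t⁻¹ • u p)) (fun i => ?_) (fun i j hij => ?_) fun _ => hs
    · by_cases hi : i = p
      · rw [hi, Function.update_self, QuadraticMap.map_smul, ht, smul_eq_mul]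
        field_simp
      · rw [Function.update_of_ne hi]
        exact h3 i (hlt i hi)
    · rw [hval, hval, polar_smul_left, polar_smul_right, ho i j hij, smul_zero, smul_zero]
  · set N := Fintype.card I - 1 with hN
    have hcard := card_Pt_de N
    let σ : Pt (de N) ≃ Fin N := Fintype.equivOfCardEq (by rw [hcard, Fintype.card_fin])
    have : Nonempty (Pt (de N)) := Fintype.card_pos_iff.1 (by omega)
    let f : Pt (de N) ⊕ Unit → Fin (Fintype.card I) :=
      Sum.elim (fun x => ⟨(σ x).val, by have := (σ x).2; omega⟩) fun _ => p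
    have hf1 : ∀ x, (f (.inl x)).val < N := fun x => (σ x).2
    have hf : Function.Injective f := by
      rintro (x | x) (y | y) hxy
      · have h4 : (f (.inl x)).val = (f (.inl y)).val := congrArg Fin.val hxy
        rw [σ.injective (Fin.ext h4)]
      · exfalso
        have h4 := hf1 x
        rw [hxy] at h4
        exact absurd h4 (lt_irrefl N)
      · exfalso
        have h4 := hf1 y
        rw [← hxy] at h4
        exact absurd h4 (lt_irrefl N)
      · rfl
    obtain ⟨A, hA1, hA2⟩ := exists_frame (Q := Q) (ι := Pt (de N)) (ν := Unit) h2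
      (fun x => u (f x)) 1 (Q (u p)) one_ne_zero (h1 p)
      (by rw [Fintype.card_sum, hcard, Fintype.card_unit]; omega) (fun x => h3 _ (hf1 x)) (fun x => rfl)
      (fun i j hij => ho _ _ fun h => hij (hf h))
    refine A.noCenMove hG h2 Subtype.val_injective (by rw [Fintype.card_sum, hcard]; omega)
      (three (by rw [hcard]; omega)) (exists_big (by omega)) (Or.inl ⟨()⟩) ?_ hs
    intro _ g hg a a' hga
    refine one_of_mem A h2 hG (by rw [hA1, hA2, mul_one]; exact hsq) hg (fun i => ?_) hga.sq' () (hga.inr ())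
    rw [hga.inl]
    rcases mul_self_eq_one_iff.1 (hga.sq i.1) with h | h
    · left; rw [h, one_smul]
    · right; rw [h, neg_one_smul]

end

/-! ### The three families -/

section families

variable {F : Type*} [Field F] [Finite F]

/-- `PΩ_{2m+1}(q)` -/
theorem odd {m : ℕ} (hm : 3 ≤ m) (h2 : (2 : F) ≠ 0) : NoCenMove (Cfsg.POmega F (Cfsg.quadFormOdd m F)) := by
  have := Fintype.ofFinite F
  have hG := good_odd (F := F) (m := m) (by omega) h2
  have h1 := of_surjective hG h2 (by simp; omega) (Cfsg.Agent.AutOrth.Final.surjective_odd hm h2)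
  have h3 := h1.map (pomegaEquiv hG).symm
  rwa [coe_oddForm] at h3

/-- `PΩ⁻_{2m}(q)` -/
theorem minus {m : ℕ} (hm : 4 ≤ m) (h2 : (2 : F) ≠ 0) (a b : F)
    (hab : ∀ z₁ z₂ : F, z₁ ^ 2 + a * z₁ * z₂ + b * z₂ ^ 2 = 0 → z₁ = 0 ∧ z₂ = 0) :
    NoCenMove (Cfsg.POmega F (Cfsg.quadFormMinus (m - 1) F a b)) := by
  have := Fintype.ofFinite F
  have hG := good_minus (F := F) (m := m - 1) (by omega) a b hab
  have h1 := of_surjective hG h2 (by simp; omega) (Cfsg.Agent.AutOrth.Final.surjective_minus (by omega) hab)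
  have h3 := h1.map (pomegaEquiv hG).symm
  rwa [coe_minusForm] at h3

/-- an orthonormal family of eight vectors for the plus form in dimension eight -/
theorem exists_plus_four (h2 : (2 : F) ≠ 0) : ∃ u : Fin 8 → (Fin 4 ⊕ Fin 4 → F),
    (∀ i, plusForm 4 F (u i) = 1) ∧ ∀ i j, i ≠ j → polar (plusForm 4 F) (u i) (u j) = 0 := by
  obtain ⟨a, b, hab⟩ := ClassicalGeometry.Universal.exists_sq_add_sq (F := F) h2 one_ne_zero one_ne_zero (-1)
  have hQ : ∀ v, plusForm 4 F v = v (.inl 0) * v (.inr 0) + v (.inl 1) * v (.inr 1) +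
      v (.inl 2) * v (.inr 2) + v (.inl 3) * v (.inr 3) := by
    intro v
    have h1 : plusForm 4 F v = Cfsg.quadFormPlus 4 F v := congrFun (coe_plusForm 4 F) v
    rw [h1, Cfsg.quadFormPlus, Fin.sum_univ_four]
  have hP : ∀ v w, polar (plusForm 4 F) v w =
      v (.inl 0) * w (.inr 0) + v (.inr 0) * w (.inl 0) + (v (.inl 1) * w (.inr 1) + v (.inr 1) * w (.inl 1)) +
      (v (.inl 2) * w (.inr 2) + v (.inr 2) * w (.inl 2)) + (v (.inl 3) * w (.inr 3) + v (.inr 3) * w (.inl 3)) := by
    intro v w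
    simp only [polar, hQ, Pi.add_apply]
    ring
  refine ⟨![Sum.elim ![1, 0, 0, 0] ![1, 0, 0, 0], Sum.elim ![0, 1, 0, 0] ![0, 1, 0, 0],
    Sum.elim ![a, b, 0, 0] ![-a, -b, 0, 0], Sum.elim ![-b, a, 0, 0] ![b, -a, 0, 0],
    Sum.elim ![0, 0, 1, 0] ![0, 0, 1, 0], Sum.elim ![0, 0, 0, 1] ![0, 0, 0, 1],
    Sum.elim ![0, 0, a, b] ![0, 0, -a, -b], Sum.elim ![0, 0, -b, a] ![0, 0, b, -a]], ?_, ?_⟩
  · intro i
    rw [hQ]
    fin_cases i <;> simp <;> linear_combination -hab
  · intro i j hij
    rw [hP]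
    fin_cases i <;> fin_cases j <;> first | exact absurd rfl hij | (simp; done) | (simp; ring)

/-- `PΩ⁺_{2m}(q)` -/
theorem plus {m : ℕ} (hm : 4 ≤ m) (h2 : (2 : F) ≠ 0) : NoCenMove (Cfsg.POmega F (Cfsg.quadFormPlus m F)) := by
  have := Fintype.ofFinite F
  have hG := good_plus (F := F) (m := m) (by omega)
  have h1 : NoCenMove (↥(E (plusForm m F)) ⧸ Subgroup.center ↥(E (plusForm m F))) := by
    rcases Nat.eq_or_lt_of_le hm with h | h
    · subst h
      obtain ⟨u, hu, ho⟩ := exists_plus_four (F := F) h2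
      have h8 : Fintype.card (Fin 4 ⊕ Fin 4) = 8 := by simp
      refine of_family hG h2 (by rw [h8]; norm_num) (fun i => u (Fin.cast h8 i)) (fun i => hu _)
        (fun i j hij => ho _ _ fun h => hij (Fin.cast_injective _ h)) fun h => ?_
      exact absurd (h8.trans (by norm_num : 8 = 2 ^ 3)) (h 3)
    · exact of_surjective hG h2 (by simp; omega) (Cfsg.Agent.AutOrth.Final.surjective_plus h)
  have h3 := h1.map (pomegaEquiv hG).symm
  rwa [coe_plusForm] at h3

/-! ### The rows -/

omit [Finite F] in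
theorem two_ne_zero_of_odd [Fintype F] (h : Odd (Fintype.card F)) : (2 : F) ≠ 0 :=
  Cfsg.Agent.LieClassical.PomegaCard.odd_card_iff.1 h

omit [Finite F] in
theorem two_ne_zero_of_char {p : ℕ} [CharP F p] (hp : p ≠ 2) : (2 : F) ≠ 0 := by
  intro h
  have h1 : ((2 : ℕ) : F) = 0 := by exact_mod_cast h
  rw [CharP.cast_eq_zero_iff F p] at h1
  have h3 : p.Prime := (CharP.char_is_prime_or_zero F p).resolve_right (by
    rintro rfl
    have := Nat.zero_dvd.1 h1
    omega)
  exact hp ((Nat.prime_dvd_prime_iff_eq h3 Nat.prime_two).1 h1)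

end families

theorem finite_POmega {I : Type} [Fintype I] [DecidableEq I] {F : Type} [Field F] [Finite F]
    (Q : (I → F) → F) : Finite (Cfsg.POmega F Q) := by
  have : Finite (Matrix.GeneralLinearGroup I F) :=
    Finite.of_injective (fun g : Matrix.GeneralLinearGroup I F => (g : Matrix I I F)) fun g h hgh => Units.ext hgh
  have : Finite (Cfsg.isometryGroup F Q) := inferInstance
  have : Finite (Cfsg.Omega F Q) := Subtype.finite
  exact Quotient.finite _

/-- a finite group isomorphic to a group with `NoCenMove` -/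
theorem of_equiv {X Y : Type*} [Group X] [Group Y] [Finite Y] (e : X ≃* Y) (h : NoCenMove Y) : NoCenMove X := by
  have : Finite X := Finite.of_equiv Y e.symm.toEquiv
  exact h.map e.symm

/-- **The row `PΩ_{2m+1}(q)`.** -/
theorem of_isPOmegaOdd {X : Type*} [Group X] (h : Cfsg.IsPOmegaOdd X) : NoCenMove X := by
  obtain ⟨F, _, _, m, hm, hodd, ⟨e⟩⟩ := h
  have := finite_POmega (Cfsg.quadFormOdd m F)
  exact of_equiv e (odd hm (two_ne_zero_of_odd hodd))

theorem of_isPOmegaOddChar {p : ℕ} {X : Type*} [Group X] (h : Cfsg.IsPOmegaOddChar p X) :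
    NoCenMove X := by
  obtain ⟨F, _, _, _, m, hm, hodd, ⟨e⟩⟩ := h
  have := finite_POmega (Cfsg.quadFormOdd m F)
  exact of_equiv e (odd hm (two_ne_zero_of_odd hodd))

/-- **The row `PΩ⁺_{2m}(q)`.** -/
theorem of_isPOmegaPlusChar {p : ℕ} (hp : p ≠ 2) {X : Type*} [Group X]
    (h : Cfsg.IsPOmegaPlusChar p X) : NoCenMove X := by
  obtain ⟨F, _, _, _, m, hm, ⟨e⟩⟩ := h
  have := finite_POmega (Cfsg.quadFormPlus m F)
  exact of_equiv e (plus hm (two_ne_zero_of_char hp))

/-- **The row `PΩ⁻_{2m}(q)`.** -/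
theorem of_isPOmegaMinusChar {p : ℕ} (hp : p ≠ 2) {X : Type*} [Group X]
    (h : Cfsg.IsPOmegaMinusChar p X) : NoCenMove X := by
  obtain ⟨F, _, _, _, m, a, b, hm, hab, ⟨e⟩⟩ := h
  have := finite_POmega (Cfsg.quadFormMinus (m - 1) F a b)
  exact of_equiv e (minus hm (two_ne_zero_of_char hp) a b hab)

end Cfsg.Agent.Omega.Lie.CenOrth

end
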