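import Cfsg.Agent.Mrg.Omega.Lie.CenSL
import Cfsg.Agent.Nodes.RGDTwAll


/-!
# (ZS) rows: `NoCenMove` for `³D₄(q)` and `²E₆(q)`, `q` odd
-/

set_option autoImplicit false
set_option maxRecDepth 10000

namespace Cfsg.Agent.Omega.Lie.CenTwist

open CoxeterSystem Cfsg.Agent.ChevalleyStructure.CoxeterGeom Cfsg.Agent.Tits.Roots Cfsg.Agent.Tits.Core
  Cfsg.Agent.Nodes Cfsg.Agent.Nodes.Reps Cfsg.Agent.Nodes.BNOf Cfsg.Agent.Nodes.Coroot
  Cfsg.Agent.Nodes.RGDChev Cfsg.Agent.KFacts.RgdChevCoord Cfsg.Agent.Nodes.RGDFold Cfsg.Agent.Nodes.RGDTwGen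
  Cfsg.Agent.Omega.Lie.CenSL Cfsg.Agent.Omega.Lie.CenRGD Cfsg.Agent.Omega.Lie.CenChev
  Cfsg.Agent.Omega.Lie.CenFold Cfsg.Agent.Omega.Lie.CenTab Cfsg.Agent.Omega.Lie.CenExp
  Cfsg.Agent.Omega.Lie.CenTwo
open Cfsg.Lie Cfsg.Agent.ChevalleyStructure Cfsg.Agent.ChevalleyStructure.Elts
  Cfsg.Agent.ChevalleyStructure.NPerm Cfsg.Agent.ChevalleyStructure.TwistedU
  Cfsg.Agent.ChevalleyStructure.TwistedFix Cfsg.Agent.ChevalleyStructure.RootCombGood
  Cfsg.Agent.ChevalleyStructure.RootCombBridge Cfsg.Agent.ChevalleyStructure.CoxeterGeomTypes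

universe u

/-! ### the tables of `³D₄` -/

/-- the fixed roots -/
def lgD (r : ℕ) : Bool := bit 12599811 r

/-- the index in `G₂` of the restriction of a root -/
def kapD (r : ℕ) : ℕ := Nat.mod (Nat.shiftRight 270680405404553584112470720839162559212167222520314986752 (Nat.mul 8 r)) 256

theorem kD : ∀ s < chevD4.nroots, kapD s < chevG2.nroots ∧
    ∀ i, vec chevG2 2 (kapD s) i = V chevD4 RGDTwD4.J s (Fin.revPerm i) := by decide +kernel

theorem fxD : ∀ r < chevD4.nroots, lgD r = true → RGDTwD4.rho r = r ∧ RGDTwD4.eps r = 1 := by decide +kernel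

theorem invD : ∀ i, ∀ r < chevD4.nroots, lgD r = true → lgD (wp chevD4 (RGDTwD4.J i) r) = true := by decide +kernel

theorem negD : ∀ r < chevD4.nroots, lgD r = true → lgD (chevD4.neg r) = true := by decide +kernel

theorem oneD : ∀ r < chevD4.nroots, lgD r = true → ∀ s < chevD4.nroots, kapD s = kapD r → s = r := by decide +kernel

theorem lg0D : ∀ r < chevD4.nroots, lgD r = true → inpG2.lgB (kapD r) = true := by decide +kernel

theorem lg1D : ∀ k < chevG2.nroots, inpG2.lgB k = true → ∃ r < chevD4.nroots, lgD r = true ∧ kapD r = k := by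
  decide +kernel

theorem crtD : ∀ r < chevD4.nroots, lgD r = true → ∀ s < chevD4.nroots,
    car chevD4 r s = car chevG2 (kapD r) (kapD s) := by decide +kernel

theorem oddD : ∀ r < chevD4.nroots, lgD r = true → ∃ s < chevD4.nroots, ((car chevD4 r s : ℤ) : ZMod 2) ≠ 0 := by
  decide +kernel

theorem clsD : ∀ r < chevD4.nroots, ∀ s < chevD4.nroots, kapD r = kapD s →
    r = s ∨ (s ≠ chevD4.neg r ∧ chevD4.commTerms r s = []) := by decide +kernel

theorem rltD : ∀ r < chevD4.nroots, RGDTwD4.rho r < chevD4.nroots ∧ (RGDTwD4.eps r = 1 ∨ RGDTwD4.eps r = -1) := by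
  decide +kernel

theorem orbD : ∀ i, ∀ j ∈ RGDTwD4.J i, ∀ j' ∈ RGDTwD4.J i, ∃ n < 3,
    RGDTwD4.rho^[n] (chevD4.simple (j : ℕ)) = chevD4.simple (j' : ℕ) := by decide +kernel

theorem partD (g : Fin 4 → ZMod 2) : ∑ j, g j = ∑ i, ((RGDTwD4.J i).map g).sum := by
  simp [RGDTwD4.J, Fin.sum_univ_succ]
  ring

theorem ftD : FT chevD4 4 chevG2 2 RGDTwD4.J Fin.revPerm RGDTwD4.rho RGDTwD4.eps lgD inpG2.lgB kapD where
  kap := kD
  fx := fxD
  inv := invD
  neg := negD
  one := oneD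
  lg0 := lg0D
  lg1 := lg1D
  crt := crtD
  odd' := oddD
  cls := clsD
  rlt := rltD
  orb := orbD
  part := partD

theorem hAD : ∀ i j, cartanOf chevG2 2 i j = RGDTwD4.A (Fin.revPerm i) (Fin.revPerm j) := by decide +kernel

theorem hMD (i j : Fin 2) : CoxeterMatrix.G₂ i j = CoxeterMatrix.G₂ (Fin.revPerm i) (Fin.revPerm j) :=
  Reindex.matrix_eq isTypeG2.isCartan RGDTwD4.isCartan hAD i j

/-! ### the tables of `²E₆` -/

/-- the fixed roots -/
def lgE (r : ℕ) : Bool := bit 4179351942451543935303 r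

/-- the index in `F₄` of the restriction of a root -/
def kapE (r : ℕ) : ℕ := Nat.mod (Nat.shiftRight
  45582584101651951948437494863922957325296350105326534737529523010002501262664582074891740662430697337053271388435410011036216373984576858526590585234246252800573775695446272
  (Nat.mul 8 r)) 256

set_option Elab.async false

theorem kE : ∀ s < chevE6.nroots, kapE s < chevF4.nroots ∧
    ∀ i, vec chevF4 4 (kapE s) i = V chevE6 RGDTwE6.J s (Fin.revPerm i) := by decide +kernel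

theorem fxE : ∀ r < chevE6.nroots, lgE r = true → TwistedE6Sigma.rho r = r ∧ TwistedE6Sigma.eps r = 1 := by
  decide +kernel

theorem invE : ∀ i, ∀ r < chevE6.nroots, lgE r = true → lgE (wp chevE6 (RGDTwE6.J i) r) = true := by decide +kernel

theorem negE : ∀ r < chevE6.nroots, lgE r = true → lgE (chevE6.neg r) = true := by decide +kernel

theorem oneE : ∀ r < chevE6.nroots, lgE r = true → ∀ s < chevE6.nroots, kapE s = kapE r → s = r := by decide +kernel

theorem lg0E : ∀ r < chevE6.nroots, lgE r = true → inpF4.lgB (kapE r) = true := by decide +kernel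

theorem lg1E : ∀ k < chevF4.nroots, inpF4.lgB k = true → ∃ r < chevE6.nroots, lgE r = true ∧ kapE r = k := by
  decide +kernel

theorem crtE : ∀ r < chevE6.nroots, lgE r = true → ∀ s < chevE6.nroots,
    car chevE6 r s = car chevF4 (kapE r) (kapE s) := by decide +kernel

theorem oddE : ∀ r < chevE6.nroots, lgE r = true → ∃ s < chevE6.nroots, ((car chevE6 r s : ℤ) : ZMod 2) ≠ 0 := by
  decide +kernel

theorem clsE : ∀ r < chevE6.nroots, ∀ s < chevE6.nroots, kapE r = kapE s →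
    r = s ∨ (s ≠ chevE6.neg r ∧ chevE6.commTerms r s = []) := by decide +kernel

theorem rltE : ∀ r < chevE6.nroots, TwistedE6Sigma.rho r < chevE6.nroots ∧
    (TwistedE6Sigma.eps r = 1 ∨ TwistedE6Sigma.eps r = -1) := by
  decide +kernel

theorem orbE : ∀ i, ∀ j ∈ RGDTwE6.J i, ∀ j' ∈ RGDTwE6.J i, ∃ n < 3,
    TwistedE6Sigma.rho^[n] (chevE6.simple (j : ℕ)) = chevE6.simple (j' : ℕ) := by decide +kernel

theorem partE (g : Fin 6 → ZMod 2) : ∑ j, g j = ∑ i, ((RGDTwE6.J i).map g).sum := by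
  simp [RGDTwE6.J, Fin.sum_univ_succ]
  ring

theorem ftE : FT chevE6 6 chevF4 4 RGDTwE6.J Fin.revPerm TwistedE6Sigma.rho TwistedE6Sigma.eps lgE inpF4.lgB kapE where
  kap := kE
  fx := fxE
  inv := invE
  neg := negE
  one := oneE
  lg0 := lg0E
  lg1 := lg1E
  crt := crtE
  odd' := oddE
  cls := clsE
  rlt := rltE
  orb := orbE
  part := partE

theorem hAE : ∀ i j, cartanOf chevF4 4 i j = RGDTwE6.A (Fin.revPerm i) (Fin.revPerm j) := by decide +kernel

theorem hME (i j : Fin 4) : CoxeterMatrix.F₄ i j = CoxeterMatrix.F₄ (Fin.revPerm i) (Fin.revPerm j) :=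
  Reindex.matrix_eq isTypeF4.isCartan RGDTwE6.isCartan hAE i j

/-- the fixed roots over the roots of `inpF4.β` -/
def memE (r : ℕ) : Bool := and (lgE r) (decide (kapE r ∈ inpF4.β))

/-- the check for two roots -/
def okE (r s : ℕ) : Bool := decide (kapE r = kapE s ∨ (r ≠ s ∧ r ≠ chevE6.neg s ∧ chevE6.commTerms s r = [] ∧
  chevE6.commTerms s (chevE6.neg r) = [] ∧ chevE6.commTerms (chevE6.neg s) r = [] ∧
    chevE6.commTerms (chevE6.neg s) (chevE6.neg r) = []))

theorem hcE : ∀ r < chevE6.nroots, memE r = true → ∀ s < chevE6.nroots, memE s = true → okE r s = true := by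
  decide +kernel

/-! ### the groups -/

section

variable {K : Type u} [Field K]

theorem hsigD (φ : K →+* K) : ∀ r < chevD4.nroots, ∀ t : K,
    D4Fixed.sig φ (xG RGDTwD4.hp.inList r t) = xG RGDTwD4.hp.inList (RGDTwD4.rho r)
      (((RGDTwD4.eps r : ℤ) : K) * φ t) := by
  intro r hr t
  have h24 : r < 24 := hr
  rw [RGDTwD4.xG_eq]
  exact D4U.sig_xG φ h24 (by rw [RGDTwD4.rho, dif_pos h24]) (by rw [RGDTwD4.eps, dif_pos h24]) t

theorem hsigE (φ : K →+* K) : ∀ r < chevE6.nroots, ∀ t : K,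
    TwE6Basic.sg φ (xG RGDTwE6.hp.inList r t) = xG RGDTwE6.hp.inList (TwistedE6Sigma.rho r)
      (((TwistedE6Sigma.eps r : ℤ) : K) * φ t) := by
  intro r hr t
  have h72 : r < 72 := hr
  apply Units.ext
  exact TwistedE6Sigma.sig_xE6 φ h72 rfl

/-- **(ZS)** for `³D₄(q)`, `q` odd. -/
theorem noCenMove_D4 [Fintype K] {q : ℕ} (hq : IsPrimePow q) (hK : Fintype.card K = q ^ 3) (h2 : (2 : K) ≠ 0) :
    NoCenMove ↥(twistedD4 K q) := by
  obtain ⟨φ, hφ⟩ := D4Fixed.exists_frob hq hK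
  let cs₀ := CoxeterMatrix.G₂.toCoxeterSystem
  obtain ⟨cs, hcs⟩ := Reindex.exists_reindex cs₀ Fin.revPerm hMD
  have C := cd_of_chk bridgeG2 isTypeG2 chkG2 (by decide)
  have hne : Nonempty {r : ℕ // r ∈ inpG2.β} := ⟨⟨11, by decide⟩⟩
  obtain ⟨E, hE, hO⟩ := exists_E_fold RGDTwD4.hp isTypeG2 cs RGDTwD4.isCartan ftD RGDTwD4.foldData
    (RGDTwD4.foldGrp hφ (D4Fixed.twisted_le_fix hK hφ)) (hsigD φ) cs₀ h2 hcs hAD
    (β := fun j : {r : ℕ // r ∈ inpG2.β} => j.1) (fun j => (C.mem j.1 j.2).1) (comb isTypeG2 cs₀ C) (by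
      rintro ⟨j, hj⟩ ⟨k, hk⟩ hjk
      exfalso
      apply hjk
      have h1 : j = 11 := by simpa [inpG2] using hj
      have h2 : k = 11 := by simpa [inpG2] using hk
      exact Subtype.ext (h1.trans h2.symm))
  intro S t ht hS u hu hc hu2
  exact noMove hE hO S t hS u hu hc hu2

/-- **(ZS)** for `²E₆(q)`, `q` odd. -/
theorem noCenMove_E6 [Fintype K] {q : ℕ} (hq : IsPrimePow q) (hK : Fintype.card K = q ^ 2) (h2 : (2 : K) ≠ 0) :
    NoCenMove ↥(twistedE6 K q) := by
  obtain ⟨φ, hφ, hqq⟩ := TwE6Basic.exists_frob hq hK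
  let cs₀ := CoxeterMatrix.F₄.toCoxeterSystem
  obtain ⟨cs, hcs⟩ := Reindex.exists_reindex cs₀ Fin.revPerm hME
  have C := cd_of_chk bridgeF4 isTypeF4 chkF4 (by decide)
  have hne : Nonempty {r : ℕ // r ∈ inpF4.β} := ⟨⟨47, by decide⟩⟩
  obtain ⟨E, hE, hO⟩ := exists_E_fold RGDTwE6.hp isTypeF4 cs RGDTwE6.isCartan ftE RGDTwE6.foldData
    (RGDTwE6.foldGrp hφ hqq) (hsigE φ) cs₀ h2 hcs hAE
    (β := fun j : {r : ℕ // r ∈ inpF4.β} => j.1) (fun j => (C.mem j.1 j.2).1) (comb isTypeF4 cs₀ C) (by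
      rintro ⟨j, hj⟩ ⟨k, hk⟩ hjk r hr s hs hlr hls hrj hsk
      have hrj' : kapE r = j := hrj
      have hsk' : kapE s = k := hsk
      have h1 := hcE r hr (by
        show and (lgE r) _ = true
        rw [hlr, hrj', Bool.true_and]
        exact decide_eq_true hj) s hs (by
        show and (lgE s) _ = true
        rw [hls, hsk', Bool.true_and]
        exact decide_eq_true hk)
      rcases of_decide_eq_true h1 with h3 | h3
      · exfalso
        apply hjk
        rw [hrj', hsk'] at h3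
        exact Subtype.ext h3
      · exact h3)
  intro S t ht hS u hu hc hu2
  exact noMove hE hO S t hS u hu hc hu2

end

/-- **(ZS)** for `²E₆(q)` and `³D₄(q)` of odd characteristic. -/
theorem noCenMove_twisted {p : ℕ} [Fact p.Prime] (hp2 : p ≠ 2) {X : Type*} [Group X] (hX : IsTwistedE6D4Char p X) :
    NoCenMove X := by
  obtain ⟨K, _, _, _, q, hq, h⟩ := hX
  have h2 : (2 : K) ≠ 0 := by
    intro h0
    have h1 : ((2 : ℕ) : K) = 0 := by exact_mod_cast h0
    rw [CharP.cast_eq_zero_iff K p] at h1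
    exact hp2 ((Nat.prime_dvd_prime_iff_eq Fact.out Nat.prime_two).1 h1)
  rcases h with ⟨hK, ⟨e⟩⟩ | ⟨hK, ⟨e⟩⟩
  · have : Finite X := Finite.of_equiv _ e.symm.toEquiv
    exact (noCenMove_E6 hq hK h2).map e.symm
  · have : Finite X := Finite.of_equiv _ e.symm.toEquiv
    exact (noCenMove_D4 hq hK h2).map e.symm

/-- **(ZS)** for the exceptional Chevalley groups `G₂, F₄, E₆, E₇, E₈` of odd characteristic. -/
theorem noCenMove_exc {p : ℕ} [Fact p.Prime] (hp2 : p ≠ 2) {X : Type*} [Group X] (hX : IsExceptionalChevChar p X) :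
    NoCenMove X := by
  obtain ⟨K, _, _, _, h⟩ := hX
  have h2 : (2 : K) ≠ 0 := by
    intro h0
    have h1 : ((2 : ℕ) : K) = 0 := by exact_mod_cast h0
    rw [CharP.cast_eq_zero_iff K p] at h1
    exact hp2 ((Nat.prime_dvd_prime_iff_eq Fact.out Nat.prime_two).1 h1)
  rcases h with ⟨-, ⟨e⟩⟩ | ⟨⟨e⟩⟩ | ⟨⟨e⟩⟩ | ⟨⟨e⟩⟩ | ⟨⟨e⟩⟩
  · have : Finite X := Finite.of_equiv _ e.symm.toEquiv
    exact (noCenMove_G2 K h2).map e.symm
  · have : Finite X := Finite.of_equiv _ e.symm.toEquiv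
    exact (noCenMove_F4 K h2).map e.symm
  · have : Finite X := Finite.of_equiv _ e.symm.toEquiv
    exact (CenTab.noCenMove_E6 K h2).map e.symm
  · have : Finite X := Finite.of_equiv _ e.symm.toEquiv
    exact (noCenMove_E7 K h2).map e.symm
  · have : Finite X := Finite.of_equiv _ e.symm.toEquiv
    exact (noCenMove_E8 K h2).map e.symm

end Cfsg.Agent.Omega.Lie.CenTwist
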