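import Mathlib
import Cfsg.Agent.Mrg.Omega.Lie.TwoMain
import Cfsg.Agent.ClassicalGeometry.AutPSL.Main
import Cfsg.Prelude.Def_LieTypeChar
import Cfsg.Agent.Omega.KFactsZS
import Cfsg.Agent.ClassicalGeometry.PSUAutMain
import Cfsg.Agent.Omega.Lie.CenTwo

section


/-!
# The row `PSL_n(r)`, `r` odd, of the K-fact (ZS) (helper584; NODE LIE)

* `noCenMove_three`: `NoCenMove (PSL_n(F))` for `n ≥ 3`, `F` a finite field of odd characteristic;
* `monoGrp P`: the signed permutation matrices of determinant one over a subgroup `P` of the symmetric group.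
-/

set_option autoImplicit false
set_option linter.dupNamespace false
set_option linter.unusedSectionVars false

namespace Cfsg.Agent.Omega.Lie.CenLin

open Matrix Equiv CenMat
open Cfsg.Agent.ClassicalGeometry.AutPSL.Root
open Cfsg.Agent.ClassicalGeometry.AutPSL.Auto

section mono

variable {ι F : Type*} [Fintype ι] [DecidableEq ι] [Field F]

/-- signed permutation matrices of determinant 1 over `P` -/
def monoGrp (F : Type*) [Field F] (P : Subgroup (Perm ι)) : Subgroup (SpecialLinearGroup ι F) where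
  carrier := {g | ∃ p ∈ P, ∃ s : ι → F, (∀ i, s i * s i = 1) ∧ (g : Matrix ι ι F) = mono s p}
  mul_mem' := by
    rintro g h ⟨p, hp, s, hs, hg⟩ ⟨r, hr, t, ht, hh⟩
    refine ⟨p * r, P.mul_mem hp hr, fun i => s i * t (p⁻¹ i), fun i => ?_, ?_⟩
    · have h1 := hs i
      have h2 := ht (p⁻¹ i)
      calc s i * t (p⁻¹ i) * (s i * t (p⁻¹ i)) = (s i * s i) * (t (p⁻¹ i) * t (p⁻¹ i)) := by ring
        _ = 1 := by rw [h1, h2, one_mul]
    · rw [Matrix.SpecialLinearGroup.coe_mul, hg, hh, mono_mul]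
  one_mem' := ⟨1, P.one_mem, fun _ => 1, fun _ => one_mul 1, by
    rw [Matrix.SpecialLinearGroup.coe_one, mono_one]⟩
  inv_mem' := by
    rintro g ⟨p, hp, s, hs, hg⟩
    refine ⟨p⁻¹, P.inv_mem hp, fun i => s (p i), fun i => hs _, ?_⟩
    have h1 : (g : Matrix ι ι F) * mono (fun i => s (p i)) p⁻¹ = 1 := by
      rw [hg, mono_mul, mul_inv_cancel, ← mono_one]
      congr 1
      funext i
      have : p (p⁻¹ i) = i := by simp
      rw [this, hs]
    calc ((g⁻¹ : SpecialLinearGroup ι F) : Matrix ι ι F)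
        = (g⁻¹ : SpecialLinearGroup ι F) * ((g : Matrix ι ι F) * mono (fun i => s (p i)) p⁻¹) := by
          rw [h1, mul_one]
      _ = ((g⁻¹ * g : SpecialLinearGroup ι F) : Matrix ι ι F) * mono (fun i => s (p i)) p⁻¹ := by
          rw [← Matrix.mul_assoc, ← Matrix.SpecialLinearGroup.coe_mul]
      _ = _ := by rw [inv_mul_cancel, Matrix.SpecialLinearGroup.coe_one, one_mul]

theorem mem_monoGrp {P : Subgroup (Perm ι)} {g : SpecialLinearGroup ι F} :
    g ∈ monoGrp F P ↔ ∃ p ∈ P, ∃ s : ι → F, (∀ i, s i * s i = 1) ∧ (g : Matrix ι ι F) = mono s p :=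
  Iff.rfl

theorem pow_mono {g : SpecialLinearGroup ι F} {p : Perm ι} {s : ι → F} (hs : ∀ i, s i * s i = 1)
    (hg : (g : Matrix ι ι F) = mono s p) (m : ℕ) :
    ∃ t : ι → F, (∀ i, t i * t i = 1) ∧ ((g ^ m : SpecialLinearGroup ι F) : Matrix ι ι F)
      = mono t (p ^ m) := by
  induction m with
  | zero =>
    refine ⟨fun _ => 1, fun _ => one_mul 1, ?_⟩
    rw [pow_zero, pow_zero, Matrix.SpecialLinearGroup.coe_one, mono_one]
  | succ m ih =>
    obtain ⟨t, ht, hgm⟩ := ih
    refine ⟨fun i => t i * s ((p ^ m)⁻¹ i), fun i => ?_, ?_⟩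
    · have h1 := ht i
      have h2 := hs ((p ^ m)⁻¹ i)
      calc t i * s ((p ^ m)⁻¹ i) * (t i * s ((p ^ m)⁻¹ i))
          = (t i * t i) * (s ((p ^ m)⁻¹ i) * s ((p ^ m)⁻¹ i)) := by ring
        _ = 1 := by rw [h1, h2, one_mul]
    · rw [pow_succ, pow_succ, Matrix.SpecialLinearGroup.coe_mul, hgm, hg, mono_mul]

theorem isPGroup_monoGrp {P : Subgroup (Perm ι)} (hP : IsPGroup 2 P) :
    IsPGroup 2 (monoGrp F P) := by
  rintro ⟨g, p, hp, s, hs, hg⟩
  obtain ⟨k, hk⟩ := hP ⟨p, hp⟩
  have hk' : p ^ (2 ^ k) = 1 := congrArg Subtype.val hk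
  obtain ⟨t, ht, hgm⟩ := pow_mono hs hg (2 ^ k)
  refine ⟨k + 1, ?_⟩
  apply Subtype.ext
  apply Subtype.ext
  change ((g ^ (2 ^ (k + 1)) : SpecialLinearGroup ι F) : Matrix ι ι F) = 1
  rw [pow_succ, pow_mul, pow_two, Matrix.SpecialLinearGroup.coe_mul, hgm, hk', mono_mul, one_mul,
    ← mono_one]
  congr 1
  funext i
  rw [inv_one, Perm.one_apply, ht]

end mono

section psl

variable {F : Type*} [Field F] [Fintype F] [DecidableEq F] {n : ℕ}

theorem smul_sg_conj {x y : SpecialLinearGroup (Fin n) F} {a b : F} {f g : Fin n → ZMod 2}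
    (hb : b ≠ 0) (hx : (x : Matrix (Fin n) (Fin n) F) = a • sg F f)
    (hy : (y : Matrix (Fin n) (Fin n) F) = b • sg F g) {A : GL (Fin n) F} {σ : F ≃+* F}
    (h : lift (cj A * fld σ) (pr x) = pr y) :
    ∃ (C : Matrix (Fin n) (Fin n) F) (κ : F), IsUnit C.det ∧ sg F g * C = κ • (C * sg F f) := by
  rw [lift_pr, MulAut.mul_apply] at h
  obtain ⟨c, hc⟩ := exists_smul_of_pr_eq h
  have h1 : ((fld σ x : SpecialLinearGroup (Fin n) F) : Matrix (Fin n) (Fin n) F) = σ a • sg F f := by
    ext i j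
    rw [coe_fld_apply, hx, Matrix.smul_apply, Matrix.smul_apply, smul_eq_mul, smul_eq_mul, map_mul]
    congr 1
    rw [sg, diagonal_apply]
    by_cases hij : i = j
    · rw [if_pos hij, sgn]
      split_ifs
      · rw [map_neg, map_one]
      · rw [map_one]
    · rw [if_neg hij, map_zero]
  refine ⟨(A : Matrix (Fin n) (Fin n) F), b⁻¹ * (c * σ a), ?_, ?_⟩
  · exact (Matrix.isUnit_iff_isUnit_det _).1 A.isUnit
  · rw [coe_cj, h1, hy] at hc
    have h2 : b • (sg F g * (A : Matrix (Fin n) (Fin n) F))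
        = (c * σ a) • ((A : Matrix (Fin n) (Fin n) F) * sg F f) := by
      calc b • (sg F g * (A : Matrix (Fin n) (Fin n) F))
          = (b • sg F g) * (A : Matrix (Fin n) (Fin n) F) := by rw [Matrix.smul_mul]
        _ = (c * σ a) • ((A : Matrix (Fin n) (Fin n) F) * sg F f
              * ((A⁻¹ : GL (Fin n) F) : Matrix (Fin n) (Fin n) F)
              * (A : Matrix (Fin n) (Fin n) F)) := by
            rw [hc, Matrix.mul_smul, Matrix.smul_mul, Matrix.smul_mul, Matrix.smul_mul, smul_smul]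
        _ = _ := by
            rw [Matrix.mul_assoc _ ((A⁻¹ : GL (Fin n) F) : Matrix (Fin n) (Fin n) F), ← Units.val_mul,
              inv_mul_cancel, Units.val_one, Matrix.mul_one]
    rw [mul_smul, ← h2, smul_smul, inv_mul_cancel₀ hb, one_smul]

theorem coe_itr_sg {x : SpecialLinearGroup (Fin n) F} {a : F} (ha : a ≠ 0) {f : Fin n → ZMod 2}
    (hx : (x : Matrix (Fin n) (Fin n) F) = a • sg F f) :
    ((itr x : SpecialLinearGroup (Fin n) F) : Matrix (Fin n) (Fin n) F) = a⁻¹ • sg F f := by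
  rw [coe_itr]
  have h1 : (x : Matrix (Fin n) (Fin n) F) * (a⁻¹ • sg F f) = 1 := by
    rw [hx, Matrix.mul_smul, Matrix.smul_mul, smul_smul, sg_mul_self, inv_mul_cancel₀ ha, one_smul]
  have h2 : ((x⁻¹ : SpecialLinearGroup (Fin n) F) : Matrix (Fin n) (Fin n) F) = a⁻¹ • sg F f := by
    calc ((x⁻¹ : SpecialLinearGroup (Fin n) F) : Matrix (Fin n) (Fin n) F)
        = (x⁻¹ : SpecialLinearGroup (Fin n) F) * ((x : Matrix (Fin n) (Fin n) F) * (a⁻¹ • sg F f)) := by
          rw [h1, Matrix.mul_one]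
      _ = ((x⁻¹ * x : SpecialLinearGroup (Fin n) F) : Matrix (Fin n) (Fin n) F) * (a⁻¹ • sg F f) := by
          rw [← Matrix.mul_assoc, ← Matrix.SpecialLinearGroup.coe_mul]
      _ = _ := by rw [inv_mul_cancel, Matrix.SpecialLinearGroup.coe_one, Matrix.one_mul]
  rw [h2, transpose_smul, sg, diagonal_transpose]

/-- two sign vectors conjugate under the automorphism group of `PSL_n` -/
theorem exists_conj_form (hn : 3 ≤ n) {x y : SpecialLinearGroup (Fin n) F} {a b : F}
    {f g : Fin n → ZMod 2} (ha : a ≠ 0) (hb : b ≠ 0)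
    (hx : (x : Matrix (Fin n) (Fin n) F) = a • sg F f)
    (hy : (y : Matrix (Fin n) (Fin n) F) = b • sg F g)
    {τ : MulAut (ProjectiveSpecialLinearGroup (Fin n) F)} (h : τ (pr x) = pr y) :
    ∃ (C : Matrix (Fin n) (Fin n) F) (κ : F), IsUnit C.det ∧ sg F g * C = κ • (C * sg F f) := by
  obtain ⟨p, hp⟩ := CharP.exists F
  have hpp : Fact p.Prime := ⟨CharP.char_is_prime F p⟩
  rcases Cfsg.Agent.ClassicalGeometry.AutPSL.Main.surj_three p hn τ with ⟨A, σ, rfl⟩ | ⟨A, σ, rfl⟩
  · exact smul_sg_conj hb hx hy h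
  · rw [map_mul, MulAut.mul_apply, lift_pr] at h
    exact smul_sg_conj hb (coe_itr_sg ha hx) hy h

theorem comm_of_cent {E : Subgroup (SpecialLinearGroup (Fin n) F)}
    {x : SpecialLinearGroup (Fin n) F}
    (hx : ∀ e ∈ E.map pr, e * pr x = pr x * e) {e : SpecialLinearGroup (Fin n) F} (he : e ∈ E) :
    ∃ c : F, (x : Matrix (Fin n) (Fin n) F) * (e : Matrix (Fin n) (Fin n) F)
      = c • ((e : Matrix (Fin n) (Fin n) F) * (x : Matrix (Fin n) (Fin n) F)) := by
  have h1 := hx (pr e) ⟨e, he, rfl⟩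
  rw [← map_mul, ← map_mul] at h1
  obtain ⟨c, hc⟩ := exists_smul_of_pr_eq h1
  exact ⟨c, by rw [← Matrix.SpecialLinearGroup.coe_mul, ← Matrix.SpecialLinearGroup.coe_mul, hc]⟩

theorem sq_scalar {x : SpecialLinearGroup (Fin n) F} (hx : pr x * pr x = 1) :
    ∃ c : F, (x : Matrix (Fin n) (Fin n) F) * (x : Matrix (Fin n) (Fin n) F)
      = c • (1 : Matrix (Fin n) (Fin n) F) := by
  rw [← map_mul, ← map_one pr] at hx
  obtain ⟨c, hc⟩ := exists_smul_of_pr_eq hx.symm
  exact ⟨c, by rw [← Matrix.SpecialLinearGroup.coe_mul, hc, Matrix.SpecialLinearGroup.coe_one]⟩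

theorem noCenMove_ne_four (h2 : (2 : F) ≠ 0) (hn : 3 ≤ n) (hn4 : n ≠ 4) :
    CenTwo.NoCenMove (ProjectiveSpecialLinearGroup (Fin n) F) := by
  have : Nonempty (Fin n) := ⟨⟨0, by omega⟩⟩
  obtain ⟨P⟩ : Nonempty (Sylow 2 (Perm (Fin n))) := inferInstance
  have hE : IsPGroup 2 ((monoGrp F (P : Subgroup (Perm (Fin n)))).map
      (pr : SpecialLinearGroup (Fin n) F →* _)) :=
    (isPGroup_monoGrp P.isPGroup').map _
  refine of_cent hE ?_
  intro u τ hu hτ huu
  obtain ⟨x, rfl⟩ := pr_surjective u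
  obtain ⟨y, hy⟩ := pr_surjective (τ (pr x))
  rw [← hy] at hτ
  have hyy : pr y * pr y = 1 := by rw [hy, ← map_mul, huu, map_one]
  have core' : ∀ z : SpecialLinearGroup (Fin n) F,
      (∀ e ∈ (monoGrp F (P : Subgroup (Perm (Fin n)))).map pr, e * pr z = pr z * e) →
      pr z * pr z = 1 → ∃ (a : F) (f : Fin n → ZMod 2), a ≠ 0 ∧
        (z : Matrix (Fin n) (Fin n) F) = a • sg F f ∧ ∀ p ∈ P, ∃ c, ∀ i, f (p i) = f i + c := by
    intro z hz hzz
    obtain ⟨μ, hμ⟩ := sq_scalar hzz
    have hdet : IsUnit ((z : Matrix (Fin n) (Fin n) F)).det := by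
      rw [z.2]; exact isUnit_one
    refine core h2 (by rw [Fintype.card_fin]; exact hn) (by rw [Fintype.card_fin]; exact hn4)
      (P := (P : Set (Perm (Fin n)))) P.one_mem hdet hμ ?_
    intro s hs p hp hd
    exact comm_of_cent hz (e := ⟨mono s p, hd⟩) (mem_monoGrp.2 ⟨p, hp, s, hs, rfl⟩)
  obtain ⟨a, f, ha, hxf, hf⟩ := core' x hu huu
  obtain ⟨b, g, hb, hyg, hg⟩ := core' y hτ hyy
  obtain ⟨C, κ, hC, hκ⟩ := exists_conj_form hn ha hb hxf hyg hy.symm
  rw [← hy]
  symm
  rcases PermSyl.unique_of_shift P hf hg (conj_card h2 hC hκ) with h | h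
  · have h3 : g = f := funext h
    apply pr_eq_of_smul (c := b * a⁻¹)
    rw [hyg, hxf, smul_smul, mul_assoc, inv_mul_cancel₀ ha, mul_one, h3]
  · have h3 : g = fun i => f i + 1 := funext h
    apply pr_eq_of_smul (c := -(b * a⁻¹))
    rw [hyg, hxf, smul_smul, h3, sg_add_one, smul_neg, neg_mul, neg_smul, mul_assoc,
      inv_mul_cancel₀ ha, mul_one]

end psl

/-! ### `n = 4` -/

section four

variable {F : Type*} [Field F]

/-- a square root of `-1` in the upper block -/
def bt (p q r : F) (h : p * p + q * r = -1) : SpecialLinearGroup (Fin 4) F :=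
  ⟨!![p, q, 0, 0; r, -p, 0, 0; 0, 0, 1, 0; 0, 0, 0, 1], by
    simp [Matrix.det_succ_row_zero, Fin.sum_univ_succ, Fin.succAbove]
    linear_combination -h⟩

/-- a square root of `-1` in the lower block -/
def bl (p q r : F) (h : p * p + q * r = -1) : SpecialLinearGroup (Fin 4) F :=
  ⟨!![1, 0, 0, 0; 0, 1, 0, 0; 0, 0, p, q; 0, 0, r, -p], by
    simp [Matrix.det_succ_row_zero, Fin.sum_univ_succ]
    linear_combination -h⟩

/-- the swap of the two blocks -/
def sw (F : Type*) [Field F] : SpecialLinearGroup (Fin 4) F :=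
  ⟨!![0, 0, 1, 0; 0, 0, 0, 1; 1, 0, 0, 0; 0, 1, 0, 0], by
    simp [Matrix.det_succ_row_zero, Fin.sum_univ_succ, Fin.succAbove]⟩

theorem coe_bt (p q r : F) (h : p * p + q * r = -1) : (bt p q r h : Matrix (Fin 4) (Fin 4) F)
    = !![p, q, 0, 0; r, -p, 0, 0; 0, 0, 1, 0; 0, 0, 0, 1] := rfl

theorem coe_bl (p q r : F) (h : p * p + q * r = -1) : (bl p q r h : Matrix (Fin 4) (Fin 4) F)
    = !![1, 0, 0, 0; 0, 1, 0, 0; 0, 0, p, q; 0, 0, r, -p] := rfl

theorem coe_sw : (sw F : Matrix (Fin 4) (Fin 4) F)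
    = !![0, 0, 1, 0; 0, 0, 0, 1; 1, 0, 0, 0; 0, 1, 0, 0] := rfl

theorem bt_pow (p q r : F) (h : p * p + q * r = -1) : (bt p q r h) ^ (2 ^ 2) = 1 := by
  have h1 : (bt p q r h * bt p q r h) * (bt p q r h * bt p q r h) = 1 := by
    apply Subtype.ext
    rw [Matrix.SpecialLinearGroup.coe_mul, Matrix.SpecialLinearGroup.coe_mul, coe_bt]
    have e1 : (!![p, q, 0, 0; r, -p, 0, 0; 0, 0, 1, 0; 0, 0, 0, 1] : Matrix (Fin 4) (Fin 4) F)
        * !![p, q, 0, 0; r, -p, 0, 0; 0, 0, 1, 0; 0, 0, 0, 1]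
        = !![-1, 0, 0, 0; 0, -1, 0, 0; 0, 0, 1, 0; 0, 0, 0, 1] := by
      ext i j
      fin_cases i <;> fin_cases j <;> simp [Matrix.mul_apply, Fin.sum_univ_four]
      · exact h
      · ring
      · ring
      · linear_combination h
    rw [e1]
    ext i j
    fin_cases i <;> fin_cases j <;> simp [Matrix.mul_apply, Fin.sum_univ_four]
  rw [show (2 ^ 2 : ℕ) = 2 + 2 from rfl, pow_add, pow_two, h1]

theorem bl_pow (p q r : F) (h : p * p + q * r = -1) : (bl p q r h) ^ (2 ^ 2) = 1 := by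
  have h1 : (bl p q r h * bl p q r h) * (bl p q r h * bl p q r h) = 1 := by
    apply Subtype.ext
    rw [Matrix.SpecialLinearGroup.coe_mul, Matrix.SpecialLinearGroup.coe_mul, coe_bl]
    have e1 : (!![1, 0, 0, 0; 0, 1, 0, 0; 0, 0, p, q; 0, 0, r, -p] : Matrix (Fin 4) (Fin 4) F)
        * !![1, 0, 0, 0; 0, 1, 0, 0; 0, 0, p, q; 0, 0, r, -p]
        = !![1, 0, 0, 0; 0, 1, 0, 0; 0, 0, -1, 0; 0, 0, 0, -1] := by
      ext i j
      fin_cases i <;> fin_cases j <;> simp [Matrix.mul_apply, Fin.sum_univ_four]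
      · exact h
      · ring
      · ring
      · linear_combination h
    rw [e1]
    ext i j
    fin_cases i <;> fin_cases j <;> simp [Matrix.mul_apply, Fin.sum_univ_four]
  rw [show (2 ^ 2 : ℕ) = 2 + 2 from rfl, pow_add, pow_two, h1]

theorem sw_pow : (sw F) ^ (2 ^ 1) = 1 := by
  have h1 : sw F * sw F = 1 := by
    apply Subtype.ext
    rw [Matrix.SpecialLinearGroup.coe_mul, coe_sw]
    ext i j
    fin_cases i <;> fin_cases j <;> simp [Matrix.mul_apply, Fin.sum_univ_four]
  rw [pow_one, pow_two, h1]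

/-- the generators -/
def e1 (F : Type*) [Field F] : SpecialLinearGroup (Fin 4) F := bt 0 1 (-1) (by ring)
def e2 {a b : F} (h : a * a + b * b = -1) : SpecialLinearGroup (Fin 4) F := bt a b b h
def e3 (F : Type*) [Field F] : SpecialLinearGroup (Fin 4) F := bl 0 1 (-1) (by ring)
def e4 {a b : F} (h : a * a + b * b = -1) : SpecialLinearGroup (Fin 4) F := bl a b b h

theorem r12 {a b : F} (h : a * a + b * b = -1) : e1 F * e2 h * e1 F = e2 h := by
  apply Subtype.ext
  rw [Matrix.SpecialLinearGroup.coe_mul, Matrix.SpecialLinearGroup.coe_mul, e1, e2, coe_bt, coe_bt]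
  ext i j
  fin_cases i <;> fin_cases j <;> simp [Matrix.mul_apply, Fin.sum_univ_four]

theorem r34 {a b : F} (h : a * a + b * b = -1) : e3 F * e4 h * e3 F = e4 h := by
  apply Subtype.ext
  rw [Matrix.SpecialLinearGroup.coe_mul, Matrix.SpecialLinearGroup.coe_mul, e3, e4, coe_bl, coe_bl]
  ext i j
  fin_cases i <;> fin_cases j <;> simp [Matrix.mul_apply, Fin.sum_univ_four]

theorem comm_bt_bl {p q r p' q' r' : F} (h : p * p + q * r = -1) (h' : p' * p' + q' * r' = -1) :
    bl p' q' r' h' * bt p q r h = bt p q r h * bl p' q' r' h' := by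
  apply Subtype.ext
  rw [Matrix.SpecialLinearGroup.coe_mul, Matrix.SpecialLinearGroup.coe_mul, coe_bl, coe_bt]
  ext i j
  fin_cases i <;> fin_cases j <;> simp [Matrix.mul_apply, Fin.sum_univ_four]

theorem sw_bt {p q r : F} (h : p * p + q * r = -1) : sw F * bt p q r h = bl p q r h * sw F := by
  apply Subtype.ext
  rw [Matrix.SpecialLinearGroup.coe_mul, Matrix.SpecialLinearGroup.coe_mul, coe_sw, coe_bl, coe_bt]
  ext i j
  fin_cases i <;> fin_cases j <;> simp [Matrix.mul_apply, Fin.sum_univ_four]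

theorem sw_bl {p q r : F} (h : p * p + q * r = -1) : sw F * bl p q r h = bt p q r h * sw F := by
  apply Subtype.ext
  rw [Matrix.SpecialLinearGroup.coe_mul, Matrix.SpecialLinearGroup.coe_mul, coe_sw, coe_bl, coe_bt]
  ext i j
  fin_cases i <;> fin_cases j <;> simp [Matrix.mul_apply, Fin.sum_univ_four]

/-- the 2-group `(Q₈ × Q₈).2` -/
theorem isPGroup_four [Finite F] {a b : F} (h : a * a + b * b = -1) :
    IsPGroup 2 (Subgroup.closure ({sw F, e4 h, e3 F, e2 h, e1 F} : Set (SpecialLinearGroup (Fin 4) F))) := by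
  have h0 : IsPGroup 2 (Subgroup.closure (∅ : Set (SpecialLinearGroup (Fin 4) F))) := by
    rw [Subgroup.closure_empty]
    exact IsPGroup.of_bot
  have h1 := closure_insert h0 (w := e1 F) (k := 2) (bt_pow _ _ _ _) (by
    intro s hs; exact absurd hs (Set.notMem_empty s))
  rw [insert_empty_eq] at h1
  have h2 := closure_insert h1 (w := e2 h) (k := 2) (bt_pow _ _ _ _) (by
    intro s hs
    rw [Set.mem_singleton_iff] at hs
    rcases hs with rfl
    · have e : e2 h * e1 F * (e2 h)⁻¹ = (e1 F)⁻¹ := by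
        have := r12 h
        calc e2 h * e1 F * (e2 h)⁻¹ = (e1 F)⁻¹ * (e1 F * e2 h * e1 F) * (e2 h)⁻¹ := by group
          _ = (e1 F)⁻¹ := by rw [this]; group
      rw [e]
      exact Subgroup.inv_mem _ (Subgroup.subset_closure (by simp)))
  have h3 := closure_insert h2 (w := e3 F) (k := 2) (bl_pow _ _ _ _) (by
    intro s hs
    rw [Set.mem_insert_iff, Set.mem_singleton_iff] at hs
    rcases hs with rfl | rfl
    · have e : e3 F * e2 h * (e3 F)⁻¹ = e2 h := by
        rw [e3, e2, comm_bt_bl]; group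
      rw [e]
      exact Subgroup.subset_closure (by simp)
    · have e : e3 F * e1 F * (e3 F)⁻¹ = e1 F := by
        rw [e3, e1, comm_bt_bl]; group
      rw [e]
      exact Subgroup.subset_closure (by simp))
  have h4 := closure_insert h3 (w := e4 h) (k := 2) (bl_pow _ _ _ _) (by
    intro s hs
    rw [Set.mem_insert_iff, Set.mem_insert_iff, Set.mem_singleton_iff] at hs
    rcases hs with rfl | rfl | rfl
    · have e : e4 h * e3 F * (e4 h)⁻¹ = (e3 F)⁻¹ := by
        have := r34 h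
        calc e4 h * e3 F * (e4 h)⁻¹ = (e3 F)⁻¹ * (e3 F * e4 h * e3 F) * (e4 h)⁻¹ := by group
          _ = (e3 F)⁻¹ := by rw [this]; group
      rw [e]
      exact Subgroup.inv_mem _ (Subgroup.subset_closure (by simp))
    · have e : e4 h * e2 h * (e4 h)⁻¹ = e2 h := by
        rw [e4, e2, comm_bt_bl]; group
      rw [e]
      exact Subgroup.subset_closure (by simp)
    · have e : e4 h * e1 F * (e4 h)⁻¹ = e1 F := by
        rw [e4, e1, comm_bt_bl]; group
      rw [e]
      exact Subgroup.subset_closure (by simp))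
  refine (closure_insert h4 (w := sw F) (k := 1) sw_pow ?_)
  intro s hs
  rw [Set.mem_insert_iff, Set.mem_insert_iff, Set.mem_insert_iff, Set.mem_singleton_iff] at hs
  rcases hs with rfl | rfl | rfl | rfl
  · have e : sw F * e4 h * (sw F)⁻¹ = e2 h := by
      rw [e4, e2, sw_bl]; group
    rw [e]
    exact Subgroup.subset_closure (by simp)
  · have e : sw F * e3 F * (sw F)⁻¹ = e1 F := by
      rw [e3, e1, sw_bl]; group
    rw [e]
    exact Subgroup.subset_closure (by simp)
  · have e : sw F * e2 h * (sw F)⁻¹ = e4 h := by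
      rw [e4, e2, sw_bt]; group
    rw [e]
    exact Subgroup.subset_closure (by simp)
  · have e : sw F * e1 F * (sw F)⁻¹ = e3 F := by
      rw [e3, e1, sw_bt]; group
    rw [e]
    exact Subgroup.subset_closure (by simp)

theorem noCenMove_four [Fintype F] [DecidableEq F] (h2 : (2 : F) ≠ 0) :
    CenTwo.NoCenMove (ProjectiveSpecialLinearGroup (Fin 4) F) := by
  obtain ⟨a, b, hab⟩ : ∃ a b : F, a * a + b * b = -1 := by
    obtain ⟨p, hp⟩ := CharP.exists F
    have hpp : NeZero p := ⟨(CharP.char_is_prime F p).ne_zero⟩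
    obtain ⟨a, b, h⟩ := CharP.sq_add_sq F p (-1)
    refine ⟨(a : F), (b : F), ?_⟩
    rw [← pow_two, ← pow_two, h]
    simp
  set E := Subgroup.closure ({sw F, e4 hab, e3 F, e2 hab, e1 F} :
    Set (SpecialLinearGroup (Fin 4) F)) with hEdef
  have hE : IsPGroup 2 (E.map (pr : SpecialLinearGroup (Fin 4) F →* _)) := (isPGroup_four hab).map _
  refine of_cent hE ?_
  intro u τ hu hτ huu
  obtain ⟨x, rfl⟩ := pr_surjective u
  obtain ⟨y, hy⟩ := pr_surjective (τ (pr x))
  rw [← hy] at hτ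
  have core' : ∀ z : SpecialLinearGroup (Fin 4) F,
      (∀ e ∈ E.map pr, e * pr z = pr z * e) →
      ∃ t : F, t ≠ 0 ∧ ((z : Matrix (Fin 4) (Fin 4) F) = t • (1 : Matrix (Fin 4) (Fin 4) F) ∨
        (z : Matrix (Fin 4) (Fin 4) F) = t • !![1, 0, 0, 0; 0, 1, 0, 0; 0, 0, -1, 0; 0, 0, 0, -1]) := by
    intro z hz
    have hNM : ((z⁻¹ : SpecialLinearGroup (Fin 4) F) : Matrix (Fin 4) (Fin 4) F)
        * (z : Matrix (Fin 4) (Fin 4) F) = 1 := by
      rw [← Matrix.SpecialLinearGroup.coe_mul, inv_mul_cancel, Matrix.SpecialLinearGroup.coe_one]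
    have c1 := comm_of_cent hz (e := e1 F) (Subgroup.subset_closure (by simp))
    have c2 := comm_of_cent hz (e := e2 hab) (Subgroup.subset_closure (by simp))
    have c3 := comm_of_cent hz (e := e3 F) (Subgroup.subset_closure (by simp))
    have c4 := comm_of_cent hz (e := e4 hab) (Subgroup.subset_closure (by simp))
    have c5 := comm_of_cent hz (e := sw F) (Subgroup.subset_closure (by simp))
    rw [e1, coe_bt, neg_zero] at c1
    rw [e2, coe_bt] at c2
    rw [e3, coe_bl, neg_zero] at c3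
    rw [e4, coe_bl] at c4
    rw [coe_sw] at c5
    exact core4 h2 hab hNM c1 c2 c3 c4 c5
  have hone : ∀ (z : SpecialLinearGroup (Fin 4) F) (t : F),
      (z : Matrix (Fin 4) (Fin 4) F) = t • (1 : Matrix (Fin 4) (Fin 4) F) → pr z = 1 := by
    intro z t hz
    rw [← map_one pr]
    symm
    apply pr_eq_of_smul (c := t)
    rw [hz, Matrix.SpecialLinearGroup.coe_one]
  obtain ⟨s, hs, hx⟩ := core' x hu
  obtain ⟨t, ht, hy'⟩ := core' y hτ
  rw [← hy]
  rcases hx with hx | hx
  · rw [hone x s hx, map_one] at hy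
    rw [hy, hone x s hx]
  · rcases hy' with hy' | hy'
    · rw [hone y t hy'] at hy
      have h3 : pr x = 1 := τ.injective (by rw [← hy, map_one])
      rw [h3, hone y t hy']
    · symm
      apply pr_eq_of_smul (c := t * s⁻¹)
      rw [hx, hy', smul_smul, mul_assoc, inv_mul_cancel₀ hs, mul_one]

/-- **the row `PSL_n(r)`, `n ≥ 3`, `r` odd** -/
theorem noCenMove_three [Fintype F] (h2 : (2 : F) ≠ 0) {n : ℕ} (hn : 3 ≤ n) :
    CenTwo.NoCenMove (ProjectiveSpecialLinearGroup (Fin n) F) := by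
  classical
  by_cases h4 : n = 4
  · subst h4
    exact noCenMove_four h2
  · exact noCenMove_ne_four h2 hn h4

end four

/-! ### `n = 2`, `r ≡ ±1 mod 8` -/

section two

variable {F : Type*} [Field F]

/-- an element of order 8 of `SL₂` (`t² = 2`) -/
def x8 (t : F) : SpecialLinearGroup (Fin 2) F :=
  ⟨!![0, -1; 1, t], by simp [Matrix.det_fin_two]⟩

theorem coe_x8 (t : F) : (x8 t : Matrix (Fin 2) (Fin 2) F) = !![0, -1; 1, t] := rfl

theorem x8_pow {t : F} (ht : t * t = 2) : (x8 t) ^ (2 ^ 3) = 1 := by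
  have e2 : x8 t * x8 t * (x8 t * x8 t) * (x8 t * x8 t * (x8 t * x8 t)) = 1 := by
    have s1 : (!![0, -1; 1, t] : Matrix (Fin 2) (Fin 2) F) * !![0, -1; 1, t]
        = !![-1, -t; t, 1] := by
      ext i j
      fin_cases i <;> fin_cases j <;> simp [Matrix.mul_apply, Fin.sum_univ_two]
      linear_combination ht
    have s2 : (!![-1, -t; t, 1] : Matrix (Fin 2) (Fin 2) F) * !![-1, -t; t, 1]
        = !![-1, 0; 0, -1] := by
      ext i j
      fin_cases i <;> fin_cases j <;> simp [Matrix.mul_apply, Fin.sum_univ_two]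
      · linear_combination -ht
      · linear_combination -ht
    apply Subtype.ext
    rw [Matrix.SpecialLinearGroup.coe_mul, Matrix.SpecialLinearGroup.coe_mul,
      Matrix.SpecialLinearGroup.coe_mul, coe_x8, s1, s2]
    ext i j
    fin_cases i <;> fin_cases j <;> simp [Matrix.mul_apply, Fin.sum_univ_two]
  rw [show (2 ^ 3 : ℕ) = (2 + 2) + (2 + 2) from rfl, pow_add, pow_add, pow_two, e2]

/-- `C(x8)` modulo scalars -/
theorem cent_x8 (h2 : (2 : F) ≠ 0) {t : F} (ht : t * t = 2) {M : Matrix (Fin 2) (Fin 2) F}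
    (hM : M.det = 1) {c : F} (hc : M * !![0, -1; 1, t] = c • (!![0, -1; 1, t] * M)) :
    M 0 1 = -M 1 0 ∧ M 1 1 = M 0 0 + t * M 1 0 := by
  have e : ∀ i j, (M * (!![0, -1; 1, t] : Matrix (Fin 2) (Fin 2) F)) i j
      = c * ((!![0, -1; 1, t] : Matrix (Fin 2) (Fin 2) F) * M) i j := by
    intro i j; rw [hc]; rfl
  simp only [Matrix.mul_apply, Fin.sum_univ_two] at e
  have a1 : M 0 1 = -(c * M 1 0) := by simpa using e 0 0
  have a2 : -M 0 0 + M 0 1 * t = -(c * M 1 1) := by simpa using e 0 1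
  have a3 : M 1 1 = c * (M 0 0 + t * M 1 0) := by simpa using e 1 0
  have a4 : -M 1 0 + M 1 1 * t = c * (M 0 1 + t * M 1 1) := by simpa using e 1 1
  have ht0 : t ≠ 0 := by
    rintro rfl
    apply h2; rw [← ht]; ring
  rw [Matrix.det_fin_two] at hM
  have hc1 : c = 1 := by
    have h3 : (1 - c) * t = 0 := by
      linear_combination a1 * M 1 1 - a2 * M 1 0 - a3 * M 0 1 + a4 * M 0 0 - (1 - c) * t * hM
    exact (sub_eq_zero.1 ((mul_eq_zero.1 h3).resolve_right ht0)).symm
  subst hc1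
  exact ⟨by linear_combination a1, by linear_combination a3⟩

/-- **the row `L₂(r)`, `r ≡ ±1 mod 8`** (`2` is a square in `F`) -/
theorem noCenMove_two [Fintype F] (h2 : (2 : F) ≠ 0) (hsq : IsSquare (2 : F)) :
    CenTwo.NoCenMove (ProjectiveSpecialLinearGroup (Fin 2) F) := by
  classical
  obtain ⟨t, ht'⟩ := hsq
  have ht : t * t = 2 := ht'.symm
  have hE : IsPGroup 2 ((Subgroup.zpowers (x8 t)).map (pr : SpecialLinearGroup (Fin 2) F →* _)) := by
    refine IsPGroup.map ?_ _
    rintro ⟨x, hx⟩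
    obtain ⟨m, rfl⟩ := Subgroup.mem_zpowers_iff.1 hx
    refine ⟨3, ?_⟩
    apply Subtype.ext
    change (x8 t ^ m) ^ (2 ^ 3) = 1
    rw [← _root_.zpow_natCast, ← _root_.zpow_mul, mul_comm, _root_.zpow_mul, _root_.zpow_natCast,
      x8_pow ht, _root_.one_zpow]
  refine of_cent hE ?_
  intro u τ hu hτ huu
  obtain ⟨x, rfl⟩ := pr_surjective u
  obtain ⟨y, hy⟩ := pr_surjective (τ (pr x))
  rw [← hy] at hτ
  have hyy : pr y * pr y = 1 := by rw [hy, ← map_mul, huu, map_one]
  have core' : ∀ z : SpecialLinearGroup (Fin 2) F,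
      (∀ e ∈ (Subgroup.zpowers (x8 t)).map pr, e * pr z = pr z * e) → pr z * pr z = 1 →
      pr z = 1 ∨ ∃ s : F, s ≠ 0 ∧ (z : Matrix (Fin 2) (Fin 2) F) = s • !![-t, -2; 2, t] := by
    intro z hz hzz
    obtain ⟨c, hc⟩ := comm_of_cent hz (e := x8 t) (Subgroup.mem_zpowers _)
    rw [coe_x8] at hc
    obtain ⟨h3, h4⟩ := cent_x8 h2 ht z.2 hc
    obtain ⟨μ, hμ⟩ := sq_scalar hzz
    have h5 := congrFun (congrFun hμ 1) 0
    have h6 : (z : Matrix (Fin 2) (Fin 2) F) 1 0 * (z : Matrix (Fin 2) (Fin 2) F) 0 0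
        + (z : Matrix (Fin 2) (Fin 2) F) 1 1 * (z : Matrix (Fin 2) (Fin 2) F) 1 0 = 0 := by
      simpa [Matrix.mul_apply, Fin.sum_univ_two] using h5
    have h7 : (z : Matrix (Fin 2) (Fin 2) F) 1 0 * (2 * (z : Matrix (Fin 2) (Fin 2) F) 0 0
        + t * (z : Matrix (Fin 2) (Fin 2) F) 1 0) = 0 := by
      rw [h4] at h6
      linear_combination h6
    rcases mul_eq_zero.1 h7 with h8 | h8
    · left
      rw [← map_one pr]
      symm
      apply pr_eq_of_smul (c := (z : Matrix (Fin 2) (Fin 2) F) 0 0)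
      rw [Matrix.SpecialLinearGroup.coe_one]
      rw [h8] at h3 h4
      ext i j
      fin_cases i <;> fin_cases j <;> simp [h3, h4, h8]
    · by_cases h9 : (z : Matrix (Fin 2) (Fin 2) F) 1 0 = 0
      · left
        rw [← map_one pr]
        symm
        apply pr_eq_of_smul (c := (z : Matrix (Fin 2) (Fin 2) F) 0 0)
        rw [Matrix.SpecialLinearGroup.coe_one]
        rw [h9] at h3 h4
        ext i j
        fin_cases i <;> fin_cases j <;> simp [h3, h4, h9]
      · right
        refine ⟨(z : Matrix (Fin 2) (Fin 2) F) 1 0 / 2, div_ne_zero h9 h2, ?_⟩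
        have h10 : (z : Matrix (Fin 2) (Fin 2) F) 0 0
            = (z : Matrix (Fin 2) (Fin 2) F) 1 0 / 2 * -t := by
          field_simp
          linear_combination h8
        ext i j
        fin_cases i <;> fin_cases j
        · simpa using h10
        · simp only [Fin.zero_eta, Fin.isValue, Fin.mk_one, Matrix.smul_apply, Matrix.of_apply,
            Matrix.cons_val', Matrix.cons_val_one, Matrix.cons_val_fin_one, Matrix.cons_val_zero,
            smul_eq_mul]
          rw [h3]; field_simp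
        · simp only [Fin.zero_eta, Fin.isValue, Fin.mk_one, Matrix.smul_apply, Matrix.of_apply,
            Matrix.cons_val', Matrix.cons_val_one, Matrix.cons_val_fin_one, Matrix.cons_val_zero,
            smul_eq_mul]
          field_simp
        · simp only [Fin.isValue, Fin.mk_one, Matrix.smul_apply, Matrix.of_apply,
            Matrix.cons_val', Matrix.cons_val_one, Matrix.cons_val_fin_one,
            smul_eq_mul]
          rw [h4, h10]; field_simp; ring
  rw [← hy]
  rcases core' x hu huu with hx | ⟨s, hs, hx⟩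
  · rw [hx, map_one] at hy
    rw [hy, hx]
  · rcases core' y hτ hyy with hy' | ⟨r, hr, hy'⟩
    · rw [hy'] at hy
      have h3 : pr x = 1 := τ.injective (by rw [← hy, map_one])
      rw [h3, hy']
    · symm
      apply pr_eq_of_smul (c := r * s⁻¹)
      rw [hx, hy', smul_smul, mul_assoc, inv_mul_cancel₀ hs, mul_one]

end two

end Cfsg.Agent.Omega.Lie.CenLin

end

section


/-!
# The row `PSL_n(r)`, `r` odd, of the K-fact (ZS), Prelude form (helper584; NODE LIE)
-/

set_option autoImplicit false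
set_option linter.dupNamespace false

namespace Cfsg.Agent.Omega.Lie.CenLinRow

open Cfsg

universe u

/-- **(ZS) for `PSL_n(r)`, `r` odd**: `NoCenMove` or `L₂(r)` with `r ≡ 3, 5 mod 8` -/
theorem row {K : Type u} [Group K] {p : ℕ} (hp : p.Prime) (hp2 : p ≠ 2) (h : IsPSLChar p K) :
    CenTwo.NoCenMove K ∨ ∃ (F : Type) (_ : Field F) (_ : Fintype F), 4 ≤ Fintype.card F ∧
      (Fintype.card F % 8 = 3 ∨ Fintype.card F % 8 = 5) ∧
      Nonempty (K ≃* Matrix.ProjectiveSpecialLinearGroup (Fin 2) F) := by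
  classical
  obtain ⟨F, _, _, hF, n, hn, h4, ⟨e⟩⟩ := h
  have h2 : (2 : F) ≠ 0 := by
    intro h0
    have h1 : ((2 : ℕ) : F) = 0 := by exact_mod_cast h0
    have h3 : p ∣ 2 := (CharP.cast_eq_zero_iff F p 2).1 h1
    exact hp2 ((Nat.prime_dvd_prime_iff_eq hp Nat.prime_two).1 h3)
  have : Finite K := Finite.of_equiv _ e.symm.toEquiv
  by_cases hn2 : n = 2
  · subst hn2
    by_cases hsq : IsSquare (2 : F)
    · exact Or.inl ((CenLin.noCenMove_two h2 hsq).map e.symm)
    · right
      refine ⟨F, _, _, h4 rfl, ?_, ⟨e⟩⟩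
      rw [FiniteField.isSquare_two_iff] at hsq
      tauto
  · exact Or.inl ((CenLin.noCenMove_three h2 (by omega)).map e.symm)

end Cfsg.Agent.Omega.Lie.CenLinRow

end

section


/-!
# The field `psl` of `RowsZS` (helper584)
-/

set_option autoImplicit false

namespace Cfsg.Agent.Omega.KFacts

open Cfsg Cfsg.Agent.Omega.Lie.CenTwo

universe u

/-- the row `PSL_n(r)`, `r` odd, of `(ZS)` -/
theorem zs_psl : ZSRow.{u} fun K _ => OddChar @IsPSLChar K ∧ ¬ IsLieTypeChar 2 K ∧ ¬ IsLTwoFour K := by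
  intro K _ h
  obtain ⟨⟨p, hp, hp2, hK⟩, h2, h4⟩ := h
  rcases Cfsg.Agent.Omega.Lie.CenLinRow.row hp hp2 hK with h | ⟨F, _, _, hF4, hF8, ⟨e⟩⟩
  · exact h
  · rcases of_lTwo hF4 hF8 e with h | h
    · exact absurd h h2
    · exact absurd h h4

end Cfsg.Agent.Omega.KFacts

end

section


/-!
# The row `PSU_n(r)`, `r` odd, of the K-fact (ZS) (helper138; NODE LIE)

* `noCenMove`: `NoCenMove (PSU n F q)` for `n ≥ 3`, `F` a finite field with `q ^ 2` elements, `q` odd.

The 2-group is the group of signed permutation matrices over a Sylow 2-subgroup of the symmetric group (`n ≠ 4`), resp.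
`(Q₈ × Q₈).2` (`n = 4`), intersected with `SU`; the automorphisms are semi-isometries
(`ClassicalGeometry.PSUAutMain.exists_toAut`).
-/

set_option autoImplicit false
set_option linter.dupNamespace false
set_option linter.unusedSectionVars false

namespace Cfsg.Agent.Omega.Lie.CenUni

open Matrix Equiv CenMat CenLin
open Cfsg Cfsg.Agent.LieClassical.HermBasic Cfsg.Agent.LieClassical.HermSiegel
open Cfsg.Agent.ClassicalGeometry.PSUAutBasic (pr pr_surjective exists_center_mul
  exists_scalar_of_mem_center mem_center_of_act)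
open Cfsg.Agent.ClassicalGeometry.PSUAutCount (gm semiConj toAut gm_mul_inv gm_inv_mul guConj
  mat_guConjFun)
open Cfsg.Agent.LieClassical.FieldTransfer (suCongr)

section basic

variable {F : Type*} [Field F] [Fintype F] {q n : ℕ}

omit [Fintype F] in
theorem mat_ext {A B : Matrix (Fin n) (Fin n) F} (h : ∀ v, A *ᵥ v = B *ᵥ v) : A = B := by
  ext i j
  have h1 := congrFun (h (Pi.single j 1)) i
  rwa [mulVec_single_one, mulVec_single_one] at h1

/-- the Gram criterion -/
theorem mem_SU_of_gram (hF : Fintype.card F = q ^ 2) {g : SpecialLinearGroup (Fin n) F}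
    (h : ∀ i j, ∑ k, (g : Matrix (Fin n) (Fin n) F) k i * (g : Matrix (Fin n) (Fin n) F) k j ^ q
      = if i = j then 1 else 0) : g ∈ SU n F q := by
  rw [Cfsg.Agent.LieClassical.HermBasic.mem_SU_iff]
  intro u v
  rw [herm_def, herm_def]
  have h1 : ∀ k, ((g : Matrix (Fin n) (Fin n) F) *ᵥ u) k * ((g : Matrix (Fin n) (Fin n) F) *ᵥ v) k ^ q
      = ∑ i, ∑ j, u i * v j ^ q * ((g : Matrix (Fin n) (Fin n) F) k i
        * (g : Matrix (Fin n) (Fin n) F) k j ^ q) := by
    intro k
    rw [mulVec, mulVec, dotProduct, dotProduct, sum_pow_q hF, Finset.sum_mul_sum]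
    refine Finset.sum_congr rfl fun i _ => Finset.sum_congr rfl fun j _ => ?_
    rw [mul_pow]
    ring
  calc ∑ k, ((g : Matrix (Fin n) (Fin n) F) *ᵥ u) k * ((g : Matrix (Fin n) (Fin n) F) *ᵥ v) k ^ q
      = ∑ k, ∑ i, ∑ j, u i * v j ^ q * ((g : Matrix (Fin n) (Fin n) F) k i
        * (g : Matrix (Fin n) (Fin n) F) k j ^ q) := Finset.sum_congr rfl fun k _ => h1 k
    _ = ∑ i, ∑ j, u i * v j ^ q * ∑ k, ((g : Matrix (Fin n) (Fin n) F) k i
        * (g : Matrix (Fin n) (Fin n) F) k j ^ q) := by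
      rw [Finset.sum_comm]
      refine Finset.sum_congr rfl fun i _ => ?_
      rw [Finset.sum_comm]
      refine Finset.sum_congr rfl fun j _ => ?_
      rw [Finset.mul_sum]
    _ = ∑ i, u i * v i ^ q := by
      refine Finset.sum_congr rfl fun i _ => ?_
      rw [Finset.sum_eq_single i]
      · rw [h, if_pos rfl, mul_one]
      · intro j _ hj
        rw [h, if_neg hj.symm, mul_zero]
      · intro h0; exact absurd (Finset.mem_univ _) h0

theorem mat_eq_of_pr_eq (hF : Fintype.card F = q ^ 2) (hn : 3 ≤ n) {g h : SU n F q}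
    (H : pr n F q g = pr n F q h) : ∃ c : F, mat h = c • mat g := by
  obtain ⟨z, hz, rfl⟩ := exists_center_mul H
  obtain ⟨c, -, -, hc⟩ := exists_scalar_of_mem_center hF hn hz
  refine ⟨c, mat_ext fun v => ?_⟩
  have h1 := hc v
  rw [mat_mul, smul_mulVec, ← mulVec_mulVec]
  rw [act_def] at h1
  rw [h1, mulVec_smul]

theorem pr_eq_of_smul {g h : SU n F q} {c : F} (H : mat h = c • mat g) :
    pr n F q g = pr n F q h := by
  rw [Cfsg.Agent.ClassicalGeometry.PSUAutBasic.pr_eq_iff]
  apply mem_center_of_act (c := c)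
  intro v
  have h1 : mat (g⁻¹ * h) = c • (1 : Matrix (Fin n) (Fin n) F) := by
    rw [mat_mul, H, mul_smul_comm, ← mat_mul, inv_mul_cancel, mat_one]
  rw [act_def, h1, smul_mulVec, one_mulVec]

theorem finite_PSU : Finite (PSU n F q) :=
  Finite.of_surjective _ (pr_surjective (n := n) (F := F) (q := q))

/-- the 2-group of `PSU` given by a 2-group of `SL` -/
def im (n : ℕ) (F : Type*) [Field F] (q : ℕ) (E : Subgroup (SpecialLinearGroup (Fin n) F)) :
    Subgroup (PSU n F q) := (E.comap (SU n F q).subtype).map (pr n F q)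

omit [Fintype F] in
theorem isPGroup_im {E : Subgroup (SpecialLinearGroup (Fin n) F)} (hE : IsPGroup 2 E) :
    IsPGroup 2 (im n F q E) :=
  (hE.comap_of_injective _ (Subgroup.subtype_injective _)).map _

theorem comm_of_cent (hF : Fintype.card F = q ^ 2) (hn : 3 ≤ n)
    {E : Subgroup (SpecialLinearGroup (Fin n) F)} {x : SU n F q}
    (hx : ∀ e ∈ im n F q E, e * pr n F q x = pr n F q x * e) {e : SpecialLinearGroup (Fin n) F}
    (he : e ∈ E) (he' : e ∈ SU n F q) :
    ∃ c : F, mat x * (e : Matrix (Fin n) (Fin n) F)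
      = c • ((e : Matrix (Fin n) (Fin n) F) * mat x) := by
  have h1 := hx (pr n F q ⟨e, he'⟩) ⟨⟨e, he'⟩, he, rfl⟩
  rw [← map_mul, ← map_mul] at h1
  obtain ⟨c, hc⟩ := mat_eq_of_pr_eq hF hn h1
  rw [mat_mul, mat_mul] at hc
  exact ⟨c, hc⟩

theorem sq_scalar (hF : Fintype.card F = q ^ 2) (hn : 3 ≤ n) {x : SU n F q}
    (hx : pr n F q x * pr n F q x = 1) :
    ∃ c : F, mat x * mat x = c • (1 : Matrix (Fin n) (Fin n) F) := by
  rw [← map_mul, ← map_one (pr n F q)] at hx
  obtain ⟨c, hc⟩ := mat_eq_of_pr_eq hF hn hx.symm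
  rw [mat_mul, mat_one] at hc
  exact ⟨c, hc⟩

theorem mat_suCongr (ρ : F ≃+* F) (g : SU n F q) (i j : Fin n) :
    mat (suCongr n q ρ g) i j = ρ (mat g i j) := rfl

/-- two sign vectors conjugate under the automorphism group of `PSU_n` -/
theorem exists_conj_form (hF : Fintype.card F = q ^ 2) (hn : 3 ≤ n) (h32 : ¬ (n = 3 ∧ q = 2))
    {x y : SU n F q} {a b : F} {f g : Fin n → ZMod 2} (hb : b ≠ 0)
    (hx : mat x = a • sg F f) (hy : mat y = b • sg F g)
    {τ : MulAut (PSU n F q)} (h : τ (pr n F q x) = pr n F q y) :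
    ∃ (C : Matrix (Fin n) (Fin n) F) (κ : F), IsUnit C.det ∧ sg F g * C = κ • (C * sg F f) := by
  obtain ⟨A, ρ, rfl⟩ := Cfsg.Agent.ClassicalGeometry.PSUAutMain.exists_toAut hF hn h32 τ
  rw [Cfsg.Agent.ClassicalGeometry.PSUAutMain.toAut_pr'] at h
  obtain ⟨c, hc⟩ := mat_eq_of_pr_eq hF hn h
  have h0 : mat (semiConj A ρ x) = gm A * mat (suCongr n q ρ x) * gm A⁻¹ := rfl
  have h1 : mat (suCongr n q ρ x) = ρ a • sg F f := by
    ext i j
    rw [mat_suCongr, hx, Matrix.smul_apply, Matrix.smul_apply, smul_eq_mul, smul_eq_mul, map_mul]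
    congr 1
    rw [sg, diagonal_apply]
    by_cases hij : i = j
    · rw [if_pos hij, sgn]
      split_ifs
      · rw [map_neg, map_one]
      · rw [map_one]
    · rw [if_neg hij, map_zero]
  refine ⟨gm A, b⁻¹ * (c * ρ a), ?_, ?_⟩
  · have h3 := congrArg Matrix.det (gm_mul_inv A)
    rw [det_mul, det_one] at h3
    exact IsUnit.of_mul_eq_one _ h3
  · rw [h0, h1, hy] at hc
    have h2 : b • (sg F g * gm A) = (c * ρ a) • (gm A * sg F f) := by
      calc b • (sg F g * gm A)
          = (b • sg F g) * gm A := by rw [Matrix.smul_mul]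
        _ = (c * ρ a) • (gm A * sg F f * gm A⁻¹ * gm A) := by
            rw [hc, Matrix.mul_smul, Matrix.smul_mul, Matrix.smul_mul, Matrix.smul_mul, smul_smul]
        _ = _ := by
            rw [Matrix.mul_assoc _ (gm A⁻¹), gm_inv_mul, Matrix.mul_one]
    rw [mul_smul, ← h2, smul_smul, inv_mul_cancel₀ hb, one_smul]

omit [Fintype F] in
theorem pow_q_of_sq {x : F} (hq : Odd q) (hx : x * x = 1) : x ^ q = x := by
  obtain ⟨k, rfl⟩ := hq
  rw [pow_succ, pow_mul, pow_two, hx, one_pow, one_mul]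

theorem mono_mem_SU (hF : Fintype.card F = q ^ 2) (hq : Odd q) {s : Fin n → F}
    (hs : ∀ i, s i * s i = 1) (p : Perm (Fin n)) (hd : (mono s p).det = 1) :
    (⟨mono s p, hd⟩ : SpecialLinearGroup (Fin n) F) ∈ SU n F q := by
  apply mem_SU_of_gram hF
  intro i j
  change ∑ k, mono s p k i * mono s p k j ^ q = _
  rw [Finset.sum_eq_single (p i)]
  · rw [mono_apply, mono_apply, if_pos rfl]
    by_cases hij : i = j
    · subst hij
      rw [if_pos rfl, if_pos rfl, pow_q_of_sq hq (hs _), hs]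
    · rw [if_neg (fun h => hij (p.injective h)), if_neg hij, zero_pow_q hF, mul_zero]
  · intro k _ hk
    rw [mono_apply, if_neg hk, zero_mul]
  · intro h; exact absurd (Finset.mem_univ _) h

theorem noCenMove_ne_four (hF : Fintype.card F = q ^ 2) (hq : Odd q) (h2 : (2 : F) ≠ 0)
    (hn : 3 ≤ n) (hn4 : n ≠ 4) : CenTwo.NoCenMove (PSU n F q) := by
  classical
  have h32 : ¬ (n = 3 ∧ q = 2) := by
    rintro ⟨-, rfl⟩
    exact absurd hq (by decide)
  have : Finite (PSU n F q) := finite_PSU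
  have : Nonempty (Fin n) := ⟨⟨0, by omega⟩⟩
  obtain ⟨P⟩ : Nonempty (Sylow 2 (Perm (Fin n))) := inferInstance
  have hE : IsPGroup 2 (im n F q (monoGrp F (P : Subgroup (Perm (Fin n))))) :=
    isPGroup_im (isPGroup_monoGrp P.isPGroup')
  refine of_cent hE ?_
  intro u τ hu hτ huu
  obtain ⟨x, rfl⟩ := pr_surjective u
  obtain ⟨y, hy⟩ := pr_surjective (τ (pr n F q x))
  rw [← hy] at hτ
  have hyy : pr n F q y * pr n F q y = 1 := by rw [hy, ← map_mul, huu, map_one]
  have core' : ∀ z : SU n F q,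
      (∀ e ∈ im n F q (monoGrp F (P : Subgroup (Perm (Fin n)))),
        e * pr n F q z = pr n F q z * e) →
      pr n F q z * pr n F q z = 1 → ∃ (a : F) (f : Fin n → ZMod 2), a ≠ 0 ∧
        mat z = a • sg F f ∧ ∀ p ∈ P, ∃ c, ∀ i, f (p i) = f i + c := by
    intro z hz hzz
    obtain ⟨μ, hμ⟩ := sq_scalar hF hn hzz
    have hdet : IsUnit (mat z).det := by
      rw [mat_def, z.1.2]; exact isUnit_one
    refine core h2 (by rw [Fintype.card_fin]; exact hn) (by rw [Fintype.card_fin]; exact hn4)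
      (P := (P : Set (Perm (Fin n)))) P.one_mem hdet hμ ?_
    intro s hs p hp hd
    exact comm_of_cent hF hn hz (e := ⟨mono s p, hd⟩) (mem_monoGrp.2 ⟨p, hp, s, hs, rfl⟩)
      (mono_mem_SU hF hq hs p hd)
  obtain ⟨a, f, ha, hxf, hf⟩ := core' x hu huu
  obtain ⟨b, g, hb, hyg, hg⟩ := core' y hτ hyy
  obtain ⟨C, κ, hC, hκ⟩ := exists_conj_form hF hn h32 hb hxf hyg hy.symm
  rw [← hy]
  symm
  rcases PermSyl.unique_of_shift P hf hg (conj_card h2 hC hκ) with h | h
  · have h3 : g = f := funext h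
    apply pr_eq_of_smul (c := b * a⁻¹)
    rw [hyg, hxf, smul_smul, mul_assoc, inv_mul_cancel₀ ha, mul_one, h3]
  · have h3 : g = fun i => f i + 1 := funext h
    apply pr_eq_of_smul (c := -(b * a⁻¹))
    rw [hyg, hxf, smul_smul, h3, sg_add_one, smul_neg, neg_mul, neg_smul, mul_assoc,
      inv_mul_cancel₀ ha, mul_one]

end basic

section four

variable {F : Type*} [Field F] [Fintype F] {q : ℕ}

/-- conics over the fixed field have points -/
theorem exists_conic (hF : Fintype.card F = q ^ 2) (hq : Odd q) {a : F} (ha : a ^ q = a)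
    (ha0 : a ≠ 0) : ∃ x y : F, x ^ q = x ∧ y ^ q = y ∧ a * (x * x) + a * (y * y) + 1 = 0 := by
  classical
  let K : Subfield F := RingHom.eqLocusField (conj hF : F →+* F) (RingHom.id F)
  have : Fintype K := Fintype.ofFinite _
  have hcard : Fintype.card K = q := by
    rw [← Nat.card_eq_fintype_card]
    exact card_fixed hF
  have hodd : Fintype.card K % 2 = 1 := by
    rw [hcard]; exact Nat.odd_iff.1 hq
  let a' : K := ⟨a, ha⟩
  have ha' : a' ≠ 0 := fun h => ha0 (congrArg Subtype.val h)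
  obtain ⟨x, y, hxy⟩ := FiniteField.exists_root_sum_quadratic (R := K)
    (f := Polynomial.C a' * Polynomial.X ^ 2 + Polynomial.C 0 * Polynomial.X + Polynomial.C 0)
    (g := Polynomial.C a' * Polynomial.X ^ 2 + Polynomial.C 0 * Polynomial.X + Polynomial.C 1)
    (Polynomial.degree_quadratic ha') (Polynomial.degree_quadratic ha') hodd
  refine ⟨x, y, x.2, y.2, ?_⟩
  simp only [Polynomial.eval_add, Polynomial.eval_mul, Polynomial.eval_C, Polynomial.eval_pow,
    Polynomial.eval_X, zero_mul, add_zero] at hxy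
  have h5 := congrArg (fun t : K => (t : F)) hxy
  simp only [Subfield.coe_add, Subfield.coe_mul, Subfield.coe_zero, SubmonoidClass.coe_pow,
    Subfield.coe_one] at h5
  linear_combination h5

/-- `q` odd: `a, b` of trace zero with `a² + b² = -1` -/
theorem exists_ab (hF : Fintype.card F = q ^ 2) (hq : Odd q) :
    ∃ a b : F, a * a + b * b = -1 ∧ a ^ q = -a ∧ b ^ q = -b := by
  obtain ⟨d, hd0, hd⟩ := exists_trace_zero_ne hF
  have hdq : d ^ q = -d := by linear_combination hd
  obtain ⟨x, y, hx, hy, hxy⟩ := exists_conic hF hq (a := d * d)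
    (by rw [mul_pow, hdq, neg_mul_neg]) (mul_ne_zero hd0 hd0)
  refine ⟨d * x, d * y, by linear_combination hxy, ?_, ?_⟩
  · rw [mul_pow, hdq, hx]; ring
  · rw [mul_pow, hdq, hy]; ring

theorem bt_mem (hF : Fintype.card F = q ^ 2) {a b : F} (h : a * a + b * b = -1)
    (ha : a ^ q = -a) (hb : b ^ q = -b) : bt a b b h ∈ SU 4 F q := by
  apply mem_SU_of_gram hF
  have z := zero_pow_q (F := F) hF
  intro i j
  rw [coe_bt]
  fin_cases i <;> fin_cases j <;>
    simp [Fin.sum_univ_four, z, ha, hb, neg_pow_q hF] <;>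
    first | linear_combination -h | ring

theorem bl_mem (hF : Fintype.card F = q ^ 2) {a b : F} (h : a * a + b * b = -1)
    (ha : a ^ q = -a) (hb : b ^ q = -b) : bl a b b h ∈ SU 4 F q := by
  apply mem_SU_of_gram hF
  have z := zero_pow_q (F := F) hF
  intro i j
  rw [coe_bl]
  fin_cases i <;> fin_cases j <;>
    simp [Fin.sum_univ_four, z, ha, hb, neg_pow_q hF] <;>
    first | linear_combination -h | ring

theorem e1_mem (hF : Fintype.card F = q ^ 2) : e1 F ∈ SU 4 F q := by
  apply mem_SU_of_gram hF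
  have z := zero_pow_q (F := F) hF
  intro i j
  rw [e1, coe_bt]
  fin_cases i <;> fin_cases j <;>
    simp [Fin.sum_univ_four, z, neg_pow_q hF]

theorem e3_mem (hF : Fintype.card F = q ^ 2) : e3 F ∈ SU 4 F q := by
  apply mem_SU_of_gram hF
  have z := zero_pow_q (F := F) hF
  intro i j
  rw [e3, coe_bl]
  fin_cases i <;> fin_cases j <;>
    simp [Fin.sum_univ_four, z, neg_pow_q hF]

theorem sw_mem (hF : Fintype.card F = q ^ 2) : sw F ∈ SU 4 F q := by
  apply mem_SU_of_gram hF
  have z := zero_pow_q (F := F) hF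
  intro i j
  rw [coe_sw]
  fin_cases i <;> fin_cases j <;>
    simp [Fin.sum_univ_four, z]

theorem noCenMove_four (hF : Fintype.card F = q ^ 2) (hq : Odd q) (h2 : (2 : F) ≠ 0) :
    CenTwo.NoCenMove (PSU 4 F q) := by
  classical
  have : Finite (PSU 4 F q) := finite_PSU
  have hn : 3 ≤ 4 := by norm_num
  obtain ⟨a, b, hab, ha, hb⟩ := exists_ab hF hq
  set E := Subgroup.closure ({sw F, e4 hab, e3 F, e2 hab, e1 F} :
    Set (SpecialLinearGroup (Fin 4) F)) with hEdef
  have hE : IsPGroup 2 (im 4 F q E) := isPGroup_im (isPGroup_four hab)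
  refine of_cent hE ?_
  intro u τ hu hτ huu
  obtain ⟨x, rfl⟩ := pr_surjective u
  obtain ⟨y, hy⟩ := pr_surjective (τ (pr 4 F q x))
  rw [← hy] at hτ
  have core' : ∀ z : SU 4 F q, (∀ e ∈ im 4 F q E, e * pr 4 F q z = pr 4 F q z * e) →
      ∃ t : F, t ≠ 0 ∧ (mat z = t • (1 : Matrix (Fin 4) (Fin 4) F) ∨
        mat z = t • !![1, 0, 0, 0; 0, 1, 0, 0; 0, 0, -1, 0; 0, 0, 0, -1]) := by
    intro z hz
    have hNM : mat z⁻¹ * mat z = 1 := by
      rw [← mat_mul, inv_mul_cancel, mat_one]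
    have c1 := comm_of_cent hF hn hz (e := e1 F) (Subgroup.subset_closure (by simp)) (e1_mem hF)
    have c2 := comm_of_cent hF hn hz (e := e2 hab) (Subgroup.subset_closure (by simp))
      (bt_mem hF hab ha hb)
    have c3 := comm_of_cent hF hn hz (e := e3 F) (Subgroup.subset_closure (by simp)) (e3_mem hF)
    have c4 := comm_of_cent hF hn hz (e := e4 hab) (Subgroup.subset_closure (by simp))
      (bl_mem hF hab ha hb)
    have c5 := comm_of_cent hF hn hz (e := sw F) (Subgroup.subset_closure (by simp)) (sw_mem hF)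
    rw [e1, coe_bt, neg_zero] at c1
    rw [e2, coe_bt] at c2
    rw [e3, coe_bl, neg_zero] at c3
    rw [e4, coe_bl] at c4
    rw [coe_sw] at c5
    exact core4 h2 hab hNM c1 c2 c3 c4 c5
  have hone : ∀ (z : SU 4 F q) (t : F),
      mat z = t • (1 : Matrix (Fin 4) (Fin 4) F) → pr 4 F q z = 1 := by
    intro z t hz
    rw [← map_one (pr 4 F q)]
    symm
    apply pr_eq_of_smul (c := t)
    rw [hz, mat_one]
  obtain ⟨s, hs, hx⟩ := core' x hu
  obtain ⟨t, ht, hy'⟩ := core' y hτ
  rw [← hy]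
  rcases hx with hx | hx
  · rw [hone x s hx, map_one] at hy
    rw [hy, hone x s hx]
  · rcases hy' with hy' | hy'
    · rw [hone y t hy'] at hy
      have h3 : pr 4 F q x = 1 := τ.injective (by rw [← hy, map_one])
      rw [h3, hone y t hy']
    · symm
      apply pr_eq_of_smul (c := t * s⁻¹)
      rw [hx, hy', smul_smul, mul_assoc, inv_mul_cancel₀ hs, mul_one]

/-- **the row `PSU_n(r)`, `n ≥ 3`, `r` odd** -/
theorem noCenMove (hF : Fintype.card F = q ^ 2) (hq : Odd q) (h2 : (2 : F) ≠ 0) {n : ℕ}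
    (hn : 3 ≤ n) : CenTwo.NoCenMove (PSU n F q) := by
  by_cases h4 : n = 4
  · subst h4
    exact noCenMove_four hF hq h2
  · exact noCenMove_ne_four hF hq h2 hn h4

end four

end Cfsg.Agent.Omega.Lie.CenUni

end

section


/-!
# The row `PSU_n(r)`, `r` odd, of the K-fact (ZS), Prelude form (helper138; NODE LIE)
-/

set_option autoImplicit false
set_option linter.dupNamespace false

namespace Cfsg.Agent.Omega.Lie.CenUniRow

open Cfsg

universe u

/-- **(ZS) for `PSU_n(r)`, `r` odd** -/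
theorem row {K : Type u} [Group K] {p : ℕ} (hp : p.Prime) (hp2 : p ≠ 2) (h : IsPSUChar p K) :
    CenTwo.NoCenMove K := by
  classical
  obtain ⟨F, _, _, hF, n, q, hq, hn, h32, ⟨e⟩⟩ := h
  have h2 : (2 : F) ≠ 0 := by
    intro h0
    have h1 : ((2 : ℕ) : F) = 0 := by exact_mod_cast h0
    have h3 : p ∣ 2 := (CharP.cast_eq_zero_iff F p 2).1 h1
    exact hp2 ((Nat.prime_dvd_prime_iff_eq hp Nat.prime_two).1 h3)
  have hodd : Odd q := by
    rw [← Nat.not_even_iff_odd]
    intro he
    apply h2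
    have h3 : ringChar F = 2 := by
      apply FiniteField.even_card_iff_char_two.2
      rw [hq, ← Nat.even_iff]
      exact he.pow_of_ne_zero (by norm_num)
    have h4 : ((2 : ℕ) : F) = 0 := by rw [← h3]; exact ringChar.Nat.cast_ringChar
    exact_mod_cast h4
  have : Finite (PSU n F q) := CenUni.finite_PSU
  have : Finite K := Finite.of_equiv _ e.symm.toEquiv
  exact (CenUni.noCenMove hq hodd h2 hn).map e.symm

end Cfsg.Agent.Omega.Lie.CenUniRow

end

section


/-!
# The field `psu` of `RowsZS` (helper138)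
-/

set_option autoImplicit false

namespace Cfsg.Agent.Omega.KFacts

open Cfsg Cfsg.Agent.Omega.Lie.CenTwo

universe u

/-- the row `PSU_n(r)`, `r` odd, of `(ZS)` -/
theorem zs_psu : ZSRow.{u} fun K _ => OddChar @IsPSUChar K ∧ ¬ IsLieTypeChar 2 K := by
  intro K _ h
  obtain ⟨⟨p, hp, hp2, hK⟩, -⟩ := h
  exact Cfsg.Agent.Omega.Lie.CenUniRow.row hp hp2 hK

end Cfsg.Agent.Omega.KFacts

end

section


/-!
# Invariants of central involutions, and Sylow 2-subgroups of symmetric groups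

* `noCenMove_of_inv`: a 2-subgroup `E` of `X` and a function on `X`, invariant under all automorphisms, which is
  injective on the involutions of `C_X(E)`, give `NoCenMove X`;
* `two_dvd_index`: an element of `N(K) - K` with square in `K` makes the index of `K` even;
* `eq_or_eq_compl`: `P` a Sylow 2-subgroup of `Sym(ι)`, `A`, `B` subsets of the same size which every element of `P`
  fixes or maps to the complement: `A = B` or `A = Bᶜ`.
-/

set_option autoImplicit false

namespace Cfsg.Agent.Omega.Lie.CenSwap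

open Subgroup Cfsg.Agent.Omega.Lie.CenTwo
open scoped Pointwise

/-! ### The invariant -/

theorem noCenMove_of_inv {X : Type*} [Group X] [Finite X] {α : Type*} (inv : X → α)
    (hinv : ∀ (τ : MulAut X) (u : X), u * u = 1 → inv (τ u) = inv u) (E : Subgroup X) (hE : IsPGroup 2 ↥E)
    (hinj : ∀ u v : X, (∀ x ∈ E, x * u = u * x) → (∀ x ∈ E, x * v = v * x) → u * u = 1 → v * v = 1 →
      inv u = inv v → u ≠ 1 → v ≠ 1 → u = v) : NoCenMove X := by
  have : Fact (Nat.Prime 2) := ⟨Nat.prime_two⟩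
  obtain ⟨S, hS⟩ := hE.exists_le_sylow
  refine NoCenMove.of_one (S := S) fun τ _ hτS u hu hc huu => ?_
  by_cases hu1 : u = 1
  · rw [hu1, map_one]
  refine hinj _ _ ?_ ?_ ?_ huu (hinv τ u huu) ?_ hu1
  · intro x hx
    obtain ⟨y, hy, rfl⟩ := exists_preimage (S := (S : Subgroup X)) hτS (hS hx)
    rw [← map_mul, hc y hy, map_mul]
  · intro x hx
    exact hc x (hS hx)
  · rw [← map_mul, huu, map_one]
  · intro h1
    apply hu1
    apply τ.injective
    rw [h1, map_one]

/-! ### Even index -/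

theorem two_dvd_index {X : Type*} [Group X] [Finite X] {K : Subgroup X} {t : X}
    (hn : ∀ x ∈ K, t * x * t⁻¹ ∈ K) (ht : t ∉ K) (htt : t * t ∈ K) : 2 ∣ K.index := by
  have hnt : t ∈ normalizer (K : Set X) := by
    rw [Subgroup.mem_normalizer_iff]
    intro x
    refine ⟨fun hx => hn x hx, fun hx => ?_⟩
    have h1 := hn _ hx
    have e : t * (t * x * t⁻¹) * t⁻¹ = (t * t) * x * (t * t)⁻¹ := by group
    rw [e] at h1
    have h2 := K.mul_mem (K.mul_mem (K.inv_mem htt) h1) htt
    have e2 : (t * t)⁻¹ * (t * t * x * (t * t)⁻¹) * (t * t) = x := by group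
    rwa [e2] at h2
  set N : Subgroup X := normalizer (K : Set X) with hN
  have hKN : K ≤ N := Subgroup.le_normalizer
  have h1 : (K.subgroupOf N).index ∣ K.index := Subgroup.relIndex_dvd_index_of_le hKN
  refine Dvd.dvd.trans ?_ h1
  have hnorm : (K.subgroupOf N).Normal := Subgroup.normal_in_normalizer
  have h2 : orderOf ((⟨t, hnt⟩ : N) : N ⧸ K.subgroupOf N) = 2 := by
    rw [orderOf_eq_prime_iff (hp := ⟨Nat.prime_two⟩)]
    constructor
    · rw [pow_two, ← QuotientGroup.mk_mul, QuotientGroup.eq_one_iff, Subgroup.mem_subgroupOf]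
      exact htt
    · intro h
      rw [QuotientGroup.eq_one_iff, Subgroup.mem_subgroupOf] at h
      exact ht h
  rw [Subgroup.index_eq_card, ← h2]
  exact orderOf_dvd_natCard _

/-! ### Symmetric groups -/

section Perm

variable {ι : Type*} [Fintype ι] [DecidableEq ι]

/-- Two subsets of the same size are interchanged by a permutation of order at most two. -/
theorem exists_swap {A B : Finset ι} (h : A.card = B.card) :
    ∃ t : Equiv.Perm ι, t * t = 1 ∧ A.map t.toEmbedding = B ∧ B.map t.toEmbedding = A := by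
  have h1 : (A \ B).card = (B \ A).card := by
    have e1 := Finset.card_sdiff_add_card_inter A B
    have e2 := Finset.card_sdiff_add_card_inter B A
    rw [Finset.inter_comm B A] at e2
    omega
  have e : {x // x ∈ A \ B} ≃ {x // x ∈ B \ A} := Finset.equivOfCardEq h1
  let f : ι → ι := fun x => if hx : x ∈ A \ B then (e ⟨x, hx⟩ : ι) else
    if hx : x ∈ B \ A then (e.symm ⟨x, hx⟩ : ι) else x
  have hf1 : ∀ x (hx : x ∈ A \ B), f x = e ⟨x, hx⟩ := fun x hx => dif_pos hx
  have hdis : ∀ x, x ∈ B \ A → x ∉ A \ B := by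
    intro x hx hx'
    rw [Finset.mem_sdiff] at hx hx'
    exact hx.2 hx'.1
  have hf2 : ∀ x (hx : x ∈ B \ A), f x = e.symm ⟨x, hx⟩ := fun x hx => by
    have := hdis x hx
    simp only [f]
    rw [dif_neg this, dif_pos hx]
  have hf3 : ∀ x, x ∉ A \ B → x ∉ B \ A → f x = x := fun x h1 h2 => by
    simp only [f]
    rw [dif_neg h1, dif_neg h2]
  have hinv : Function.Involutive f := by
    intro x
    by_cases hx : x ∈ A \ B
    · rw [hf1 x hx, hf2 _ (e ⟨x, hx⟩).2]
      simp
    · by_cases hx' : x ∈ B \ A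
      · rw [hf2 x hx', hf1 _ (e.symm ⟨x, hx'⟩).2]
        simp
      · rw [hf3 x hx hx', hf3 x hx hx']
  have hAB : ∀ x ∈ A, f x ∈ B := by
    intro x hx
    by_cases hxB : x ∈ B
    · rw [hf3 x (by simp [hxB]) (by simp [hx])]
      exact hxB
    · have hx1 : x ∈ A \ B := Finset.mem_sdiff.2 ⟨hx, hxB⟩
      rw [hf1 x hx1]
      exact (Finset.mem_sdiff.1 (e ⟨x, hx1⟩).2).1
  have hBA : ∀ x ∈ B, f x ∈ A := by
    intro x hx
    by_cases hxA : x ∈ A
    · rw [hf3 x (by simp [hx]) (by simp [hxA])]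
      exact hxA
    · have hx1 : x ∈ B \ A := Finset.mem_sdiff.2 ⟨hx, hxA⟩
      rw [hf2 x hx1]
      exact (Finset.mem_sdiff.1 (e.symm ⟨x, hx1⟩).2).1
  refine ⟨hinv.toPerm, ?_, ?_, ?_⟩
  · ext1 x
    exact hinv x
  · apply Finset.eq_of_subset_of_card_le
    · intro y hy
      rw [Finset.mem_map] at hy
      obtain ⟨x, hx, rfl⟩ := hy
      exact hAB x hx
    · rw [Finset.card_map, h]
  · apply Finset.eq_of_subset_of_card_le
    · intro y hy
      rw [Finset.mem_map] at hy
      obtain ⟨x, hx, rfl⟩ := hy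
      exact hBA x hx
    · rw [Finset.card_map, h]

/-- `g` maps `A` to `A` or to its complement -/
def Semi (g : Equiv.Perm ι) (A : Finset ι) : Prop :=
  A.map g.toEmbedding = A ∨ A.map g.toEmbedding = Aᶜ

theorem map_compl (g : Equiv.Perm ι) (A : Finset ι) :
    (Aᶜ).map g.toEmbedding = (A.map g.toEmbedding)ᶜ := by
  ext x
  simp only [Finset.mem_map_equiv, Finset.mem_compl]

theorem map_mul (g h : Equiv.Perm ι) (A : Finset ι) :
    A.map (g * h).toEmbedding = (A.map h.toEmbedding).map g.toEmbedding := by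
  rw [Finset.map_map]
  rfl

theorem map_one (A : Finset ι) : A.map (1 : Equiv.Perm ι).toEmbedding = A := by
  ext x
  simp only [Finset.mem_map_equiv]
  rfl

theorem Semi.mul {g h : Equiv.Perm ι} {A : Finset ι} (hg : Semi g A) (hh : Semi h A) : Semi (g * h) A := by
  unfold Semi at *
  rw [map_mul]
  rcases hh with h1 | h1 <;> rw [h1]
  · exact hg
  · rw [map_compl]
    rcases hg with h2 | h2 <;> rw [h2]
    · right; rfl
    · left; rw [compl_compl]

theorem semi_one (A : Finset ι) : Semi 1 A := Or.inl (map_one A)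

/-- the stabiliser of the partition `{A, Aᶜ}` -/
def stab (A : Finset ι) : Subgroup (Equiv.Perm ι) where
  carrier := {g | Semi g A}
  mul_mem' := fun hg hh => hg.mul hh
  one_mem' := semi_one A
  inv_mem' := by
    intro g hg
    have h1 : (A.map g.toEmbedding).map g⁻¹.toEmbedding = A := by
      rw [← map_mul, inv_mul_cancel, map_one]
    rcases hg with h | h
    · left
      rw [h] at h1
      exact h1
    · right
      rw [h, map_compl] at h1
      rw [← h1, compl_compl]
      rw [h1]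

theorem mem_stab {A : Finset ι} {g : Equiv.Perm ι} : g ∈ stab A ↔ Semi g A := Iff.rfl

/-- **Sylow 2-subgroups of symmetric groups.** -/
theorem eq_or_eq_compl (P : Sylow 2 (Equiv.Perm ι)) {A B : Finset ι} (hA : ∀ g ∈ P, Semi g A)
    (hB : ∀ g ∈ P, Semi g B) (hcard : A.card = B.card) : A = B ∨ A = Bᶜ := by
  by_contra hcon
  push Not at hcon
  obtain ⟨h1, h2⟩ := hcon
  obtain ⟨t, htt, htA, htB⟩ := exists_swap hcard
  have hti : t⁻¹ = t := inv_eq_of_mul_eq_one_left htt
  have hP : (P : Subgroup (Equiv.Perm ι)) ≤ stab A ⊓ stab B := fun g hg =>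
    ⟨hA g hg, hB g hg⟩
  have key : ∀ {C D : Finset ι}, C.map t.toEmbedding = D → ∀ x : Equiv.Perm ι, Semi x C →
      Semi (t * x * t⁻¹) D := by
    intro C D hCD x hx
    have hDC : D.map t.toEmbedding = C := by
      rw [← hCD, ← map_mul, htt, map_one]
    unfold Semi
    rw [map_mul, hti, hDC, map_mul]
    rcases hx with h | h
    · left; rw [h, hCD]
    · right; rw [h, map_compl, hCD]
  have h3 : 2 ∣ (stab A ⊓ stab B).index := by
    apply two_dvd_index (t := t)
    · rintro x ⟨hx1, hx2⟩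
      exact ⟨key htB x hx2, key htA x hx1⟩
    · rintro ⟨h, -⟩
      rcases h with h | h
      · rw [htA] at h
        exact h1 h.symm
      · rw [htA] at h
        apply h2
        rw [h, compl_compl]
    · rw [htt]
      exact one_mem _
  have : Fact (Nat.Prime 2) := ⟨Nat.prime_two⟩
  exact P.not_dvd_index (h3.trans (Subgroup.index_dvd_of_le hP))

end Perm

end Cfsg.Agent.Omega.Lie.CenSwap

end
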