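import Cfsg.Agent.Mrg.Omega.Lie.LQThm
import Cfsg.Agent.Mrg.Omega.Lie.LemmaTComp
import Cfsg.Agent.Omega.Lie.TwoEnd
import Mathlib
import Cfsg.Agent.Mrg.Omega.BTwo.ModG

section


/-!
# NODE LIE: `H = N(R i) / O₂(N(R i))` acting on `M = W i / R i`

`QFr`: helper688's `ModFr` together with the action of helper452's `HQ (R i)`.  Facts (N0), (N1), LEMMA N for
`A = AA V R i j`, `T = TT τ`, `Ĥ = normalClosure A`.
-/

set_option autoImplicit false
set_option linter.unusedSectionVars false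

namespace Cfsg.Agent.Omega.Lie.QMod

open Subgroup Cfsg.Agent.Omega.BTwo Cfsg.Agent.Omega.Lie Cfsg.Agent.Omega.Lie.Quot
  Cfsg.Agent.Omega.Lie.LemN

universe u v w

variable {G : Type u} [Group G] {ι : Type w} {F : Type v} [Field F]
  {V : Subgroup G} {R : ι → Subgroup G} {i j : ι}

/-- `M = W i / R i`, `B = R i` as modules for `H = N(R i) / O₂(N(R i))` -/
structure QFr (V : Subgroup G) (R : ι → Subgroup G) (i : ι) (M B : Type u) [AddCommGroup M] [AddCommGroup B]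
    [DistribMulAction (NR R i) M] [DistribMulAction (NR R i) B] [DistribMulAction (HQ (R i)) M]
    [DistribMulAction (HQ (R i)) B] (p : G → M) (r : G → B) (f : M →+ M →+ B) : Prop
    extends ModFr V R i M B p r f where
  smul_M : ∀ (n : NR R i) (a : M), pr (R i) n • a = n • a
  smul_B : ∀ (n : NR R i) (a : B), pr (R i) n • a = n • a

/-- a group acting through a quotient -/
def liftAct {N X : Type*} [Group N] [AddCommGroup X] [DistribMulAction N X] (K : Subgroup N) [K.Normal]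
    (h : ∀ n ∈ K, ∀ x : X, n • x = x) : N ⧸ K →* AddMonoid.End X :=
  QuotientGroup.lift K (DistribMulAction.toAddMonoidEnd N X) fun n hn => by
    ext x
    exact h n hn x

theorem exists_q (b : BT V R) (i : ι) :
    ∃ (M B : Type u) (_ : AddCommGroup M) (_ : AddCommGroup B) (_ : DistribMulAction (NR R i) M)
      (_ : DistribMulAction (NR R i) B) (_ : DistribMulAction (HQ (R i)) M)
      (_ : DistribMulAction (HQ (R i)) B) (p : G → M) (r : G → B) (f : M →+ M →+ B),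
      QFr V R i M B p r f := by
  obtain ⟨M, B, _, _, _, _, p, r, f, m⟩ := b.exists_mod i
  have hM : ∀ n ∈ pCore 2 (normalizer (R i : Set G)), ∀ x : M, n • x = x := fun n hn x =>
    m.Q_act b ⟨n, hn, rfl⟩ x
  have hB : ∀ n ∈ pCore 2 (normalizer (R i : Set G)), ∀ x : B, n • x = x := fun n hn x =>
    m.act_B b (Q_le_C b i ⟨n, hn, rfl⟩) x
  let _ : DistribMulAction (HQ (R i)) M := DistribMulAction.compHom M (liftAct _ hM)
  let _ : DistribMulAction (HQ (R i)) B := DistribMulAction.compHom B (liftAct _ hB)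
  exact ⟨M, B, _, _, _, _, _, _, p, r, f, { m with
    smul_M := fun n a => rfl
    smul_B := fun n a => rfl }⟩

variable {M B : Type u} [AddCommGroup M] [AddCommGroup B]
  [DistribMulAction (NR R i) M] [DistribMulAction (NR R i) B] [DistribMulAction (HQ (R i)) M]
  [DistribMulAction (HQ (R i)) B] {p : G → M} {r : G → B}
  {f : M →+ M →+ B} {vv : F → F → G} {w1 w2 t : F → G}

open Cfsg.Agent.Omega.Lie.TwoEnd (D cm)

/-! ### elements -/

theorem exists_U (b : BT V R) {a : HQ (R i)} (ha : a ∈ AA V R i j) :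
    ∃ h : NR R i, (h : G) ∈ UU V R j ∧ pr (R i) h = a := by
  obtain ⟨u, hu, rfl⟩ := (mem_AA b).1 ha
  exact ⟨⟨u, U_le_N b i j hu⟩, hu, rfl⟩

theorem notMem_D (b : BT V R) (hij : i ≠ j) {h : NR R i} (hh : (h : G) ∈ UU V R j) (ha1 : pr (R i) h ≠ 1) :
    (h : G) ∉ DD V R := by
  intro hD
  exact ha1 ((pr_eq_one h.2).2 ((U_inf_Q b hij hh).2 hD))

theorem exists_line (b : BT V R) (τ : TorD V R i j vv t) {a x : HQ (R i)} (ha : a ∈ AA V R i j)
    (hx : x ∈ TT τ) : ∃ h h' n : NR R i, Line V R i j h h' n ∧ pr (R i) h = a ∧ pr (R i) h' = x * a * x⁻¹ ∧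
      pr (R i) n = x := by
  obtain ⟨h, hh, rfl⟩ := exists_U b ha
  obtain ⟨y, hy, rfl⟩ := (mem_TT τ).1 hx
  have hut := conj_mem_U b hh (τ.memX y hy) (cj_eq_self_iff.2 (τ.normR' hy))
  exact ⟨_, _, _, line_of b hh (τ.memX y hy) (cj_eq_self_iff.2 (τ.normR hy))
    (cj_eq_self_iff.2 (τ.normR' hy)) hut, rfl, rfl, rfl⟩

section BT

variable (m : QFr V R i M B p r f) (b : BT V R)
include m

theorem D_pr (h : NR R i) (a : M) : D (pr (R i) h) a = LemN.br h a := by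
  rw [TwoEnd.D_apply, m.smul_M]; rfl

include b

theorem two (a : M) : a + a = 0 := m.two_M b a

/-- `H⁰` preserves `f` -/
theorem inv {h : HQ (R i)} (hh : h ∈ H0 R i) (a c : M) : f (h • a) (h • c) = f a c := by
  obtain ⟨g, hg, hgC, rfl⟩ := mem_im.1 hh
  rw [m.smul_M, m.smul_M, m.f_act b, m.act_B b hgC]

theorem A_le_H0 : AA V R i j ≤ H0 R i := by
  intro a ha
  obtain ⟨h, hh, rfl⟩ := exists_U b ha
  exact pr_mem_im h.2 (centralizer_le (b.R_le i) (UU_le_cen j hh))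

theorem H0_normal : (H0 R i).Normal := by
  have _ := m
  have _ := b
  constructor
  intro x hx g
  obtain ⟨y, hy, hyC, rfl⟩ := mem_im.1 hx
  obtain ⟨g', hg', rfl⟩ := exists_pr g
  exact pr_mem_im (mul_mem (mul_mem hg' hy) (inv_mem hg'))
    (conj_mem_of_normalizer (normalizer_le_normalizer_centralizer _ hg') hyC)

theorem nc_le_H0 : normalClosure (AA V R i j : Set (HQ (R i))) ≤ H0 R i := by
  have := H0_normal m b
  exact normalClosure_le_normal (A_le_H0 m b)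

/-- the orbit of `e` generates `M` -/
theorem gen {S : AddSubgroup M} (hS : ∀ h : HQ (R i), ∀ a ∈ S, h • a ∈ S) (hV : m.sb V ≤ S) : S = ⊤ :=
  m.toModFr.gen (fun n a ha => by
    rw [← m.smul_M]
    exact hS _ a ha) hV

theorem D_e {a : HQ (R i)} (ha : a ∈ AA V R i j) {x : M} (hx : x ∈ m.sb V) : D a x = 0 := by
  obtain ⟨h, hh, rfl⟩ := exists_U b ha
  rw [D_pr m]; exact br_V m.toModFr b hh hx

theorem A_e {a : HQ (R i)} (ha : a ∈ AA V R i j) {x : M} (hx : x ∈ m.sb V) : a • x = x :=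
  sub_eq_zero.1 (D_e m b ha hx)

theorem D_U {a : HQ (R i)} (ha : a ∈ AA V R i j) (x : M) : D a x ∈ m.sb (UU V R i) := by
  obtain ⟨h, hh, rfl⟩ := exists_U b ha
  rw [D_pr m]; exact br_mem_U m.toModFr b hh x

theorem D_D {a : HQ (R i)} (ha : a ∈ AA V R i j) {x : M} (hx : x ∈ m.sb (UU V R i)) :
    D a x ∈ m.sb (DD V R) := by
  obtain ⟨h, hh, rfl⟩ := exists_U b ha
  rw [D_pr m]; exact br_mem_D m.toModFr b hh hx

theorem D_V {a : HQ (R i)} (ha : a ∈ AA V R i j) {x : M} (hx : x ∈ m.sb (DD V R)) :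
    D a x ∈ m.sb V := by
  obtain ⟨h, hh, rfl⟩ := exists_U b ha
  rw [D_pr m]; exact br_mem_V m.toModFr b hh hx

/-- `f ([x, a], y) = f (x, [y, a])` -/
theorem adj {a : HQ (R i)} (ha : a ∈ AA V R i j) (x y : M) : f (D a x) y = f x (D a y) := by
  obtain ⟨h, hh, rfl⟩ := exists_U b ha
  rw [D_pr m, D_pr m]; exact br_adj m.toModFr b hh x y

/-- `A` is normal in `N_H(e)` -/
theorem nrm [Finite G] (hij : i ≠ j) {h : HQ (R i)} (hh : ∀ x ∈ m.sb V, h • x ∈ m.sb V) {a : HQ (R i)}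
    (ha : a ∈ AA V R i j) : h * a * h⁻¹ ∈ AA V R i j := by
  obtain ⟨n, hn, rfl⟩ := exists_pr h
  have hRW := b.R_le_W i i
  have hVW := V_le_WW V (R i)
  -- `n` normalises `V`
  have hnV : n ∈ normalizer (V : Set G) := by
    refine mem_normalizer_of_conj fun v hv => ?_
    have h1 := hh (p v) (m.p_mem (hVW hv) hv)
    rw [m.smul_M, m.p_act ⟨n, hn⟩ v (hVW hv)] at h1
    exact (m.p_mem_iff (conj_mem_of_normalizer (normalizer_le_WW V (R i) hn) (hVW hv)) (b.R_le i)).1 h1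
  obtain ⟨u, hu, rfl⟩ := exists_U b ha
  have h1 : n * u * n⁻¹ ∈ YY V R := conj_mem_of_normalizer (b.NV_le_NY hnV) (UU_le_YY j hu)
  obtain ⟨x, hx, y, hy, e⟩ := b.exists_mul_Y hij h1
  have hxN := b.W_le_N i (UU_le_WW i hx)
  have h2 : pr (R i) ⟨x, hxN⟩ = 1 := (pr_eq_one hxN).2 (b.W_le_Q i (UU_le_WW i hx))
  have h3 : pr (R i) ⟨n, hn⟩ * pr (R i) u * (pr (R i) ⟨n, hn⟩)⁻¹ = pr (R i) ⟨y, U_le_N b i j hy⟩ := by
    have e1 : (⟨n, hn⟩ : NR R i) * u * (⟨n, hn⟩ : NR R i)⁻¹ = ⟨x, hxN⟩ * ⟨y, U_le_N b i j hy⟩ :=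
      Subtype.ext e
    rw [← map_inv, ← map_mul, ← map_mul, e1, map_mul, h2, one_mul]
  rw [h3]
  exact (mem_AA b).2 ⟨y, hy, rfl⟩

/-- `rad` is normalised by `H` -/
theorem rad_smul {h : HQ (R i)} {z : M} (hz : z ∈ m.sb (ZZ V R i)) : h • z ∈ m.sb (ZZ V R i) := by
  obtain ⟨n, hn, rfl⟩ := exists_pr h
  rw [m.smul_M]
  refine m.sb_smul ?_ hz
  rw [← cj_eq_self_iff]
  exact cj_ZZ b (cj_eq_self_iff.2 hn)

/-- `rad` is the radical of `f` -/
theorem mem_rad {z : M} : z ∈ m.sb (ZZ V R i) ↔ ∀ x, f z x = 0 := by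
  constructor
  · rintro ⟨ζ, hζ, hζ', rfl⟩ x
    obtain ⟨w, hw, rfl⟩ := m.p_surj x
    rw [m.f_eq _ hζ' _ hw, bil_one b hζ hw, m.r_one]
  · intro h
    obtain ⟨w, hw, rfl⟩ := m.p_surj z
    refine m.p_mem hw (mem_inf.2 ⟨hw, ?_⟩)
    rw [mem_centralizer_iff]
    intro x hx
    have h1 := h (p x)
    rw [m.f_eq _ hw _ hx, m.r_ker _ (b.WW_comm i hw hx), mul_inv_eq_one, mul_inv_eq_iff_eq_mul] at h1
    exact h1.symm

/-- (8.1) with an arbitrary proper subgroup of `B` -/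
theorem key [Finite G] {z : M} {R₀ : AddSubgroup B} (hR : R₀ ≠ ⊤) (h : ∀ u, f u z ∈ R₀) :
    z ∈ m.sb (ZZ V R i) := by
  rw [mem_rad m b]
  intro x
  refine m.rad_xi b (QuotientAddGroup.mk' R₀) ?_ (fun c => ?_) x
  · intro h0
    apply hR
    rw [eq_top_iff]
    intro β _
    rw [← QuotientAddGroup.eq_zero_iff]
    exact congrArg (fun g => g β) h0
  · rw [m.f_symm b]
    exact (QuotientAddGroup.eq_zero_iff _).2 (h c)

end BT

section BTC

variable (m : QFr V R i M B p r f) (b : BTC V R)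
include m b

/-- `H` is faithful on `M` -/
theorem faithful [Finite G] {h : HQ (R i)} (hh : ∀ a : M, h • a = a) : h = 1 := by
  obtain ⟨n, hn, rfl⟩ := exists_pr h
  rw [pr_eq_one]
  exact m.mem_Q b (h := ⟨n, hn⟩) fun a => by rw [← m.smul_M]; exact hh a

/-- `Ĥ = ⟨A^H⟩` centralises `rad` -/
theorem rad_fix (hij : i ≠ j) {h : HQ (R i)} (hh : h ∈ normalClosure (AA V R i j : Set (HQ (R i)))) {z : M}
    (hz : z ∈ m.sb (ZZ V R i)) : h • z = z := by
  let N : Subgroup (HQ (R i)) :=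
    { carrier := {h | ∀ z ∈ m.sb (ZZ V R i), h • z = z}
      one_mem' := fun z _ => one_smul _ z
      mul_mem' := fun {x y} hx hy z hz => by rw [mul_smul, hy z hz, hx z hz]
      inv_mem' := fun {x} hx z hz => by
        rw [inv_smul_eq_iff, hx z hz] }
  have hN : N.Normal := ⟨fun x hx g z hz => by
    rw [mul_smul, mul_smul, hx _ (rad_smul m b.toBT hz), smul_inv_smul]⟩
  have hA : (AA V R i j : Set (HQ (R i))) ⊆ N := by
    intro a ha z hz
    obtain ⟨u, hu, rfl⟩ := exists_U b.toBT ha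
    obtain ⟨ζ, hζ, hζ', rfl⟩ := hz
    rw [m.smul_M, m.p_act u ζ hζ',
      m.p_eq_iff (conj_mem_of_normalizer (normalizer_le_WW V (R i) u.2) hζ') hζ']
    have h1 := Z_U b hij hζ hu
    rw [show (u : G) * ζ * (u : G)⁻¹ * ζ⁻¹ = (ζ * u * ζ⁻¹ * (u : G)⁻¹)⁻¹ by group]
    exact inv_mem h1
  exact normalClosure_le_normal hA hh z hz

/-- (8.1) for `Ĥ` -/
theorem hkey [Finite G] (hij : i ≠ j) {h : HQ (R i)}
    (hh : h ∈ normalClosure (AA V R i j : Set (HQ (R i)))) {z : M} {R₀ : AddSubgroup B} (hR : R₀ ≠ ⊤)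
    (h0 : ∀ u, f u z ∈ R₀) : h • z = z := rad_fix m b hij hh (key m b.toBT hR h0)

/-- (N0) on a line: `[M, a, a^x] ≤ e`, `x ∈ T` -/
theorem line0 (τ : TorD V R i j vv t) {a x : HQ (R i)} (ha : a ∈ AA V R i j) (hx : x ∈ TT τ) (y : M) :
    D (x * a * x⁻¹) (D a y) ∈ m.sb V := by
  obtain ⟨h, h', n, l, rfl, e, -⟩ := exists_line b.toBT τ ha hx
  rw [← e, D_pr m, D_pr m]
  exact n0_line m.toModFr b l y

/-- `[M, a, b, b^x] = 0`, `x ∈ T` -/
theorem line1 (τ : TorD V R i j vv t) {a a' x : HQ (R i)} (ha : a ∈ AA V R i j) (ha' : a' ∈ AA V R i j)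
    (hx : x ∈ TT τ) (y : M) : D (x * a' * x⁻¹) (D a' (D a y)) = 0 := by
  obtain ⟨u, hu, rfl⟩ := exists_U b.toBT ha
  obtain ⟨h, h', n, l, rfl, e, -⟩ := exists_line b.toBT τ ha' hx
  rw [← e, D_pr m, D_pr m, D_pr m]
  exact c3 m.toModFr b hu l y

/-- (N1): `[M, a, b] ≠ 0 ⟹ e ≤ [M, a, b]` -/
theorem full [CharP F 2] (c : Coord V R i j vv w1 w2) {a a' : HQ (R i)} (ha : a ∈ AA V R i j)
    (ha' : a' ∈ AA V R i j) (hne : ∃ y : M, D a' (D a y) ≠ 0) {x : M} (hx : x ∈ m.sb V) :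
    ∃ y : M, D a' (D a y) = x := by
  obtain ⟨u, hu, rfl⟩ := exists_U b.toBT ha
  obtain ⟨u', hu', rfl⟩ := exists_U b.toBT ha'
  obtain ⟨y, hy⟩ := hne
  rw [D_pr m, D_pr m] at hy
  obtain ⟨z, hz⟩ := n1 m.toModFr b c hu hu' ⟨y, hy⟩ hx
  exact ⟨z, by rw [D_pr m, D_pr m]; exact hz⟩

/-- `[M, a, b] ≠ 0 ⟹ [M, a, b^x] ≤ [M, a, b]`, `x ∈ T` -/
theorem same [Finite F] [CharP F 2] (c : Coord V R i j vv w1 w2) (τ : TorD V R i j vv t)
    {a a' x : HQ (R i)} (ha : a ∈ AA V R i j)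
    (ha' : a' ∈ AA V R i j) (hx : x ∈ TT τ) (hne : ∃ y : M, D a' (D a y) ≠ 0) (y : M) :
    ∃ y' : M, D (x * a' * x⁻¹) (D a y) = D a' (D a y') := by
  obtain ⟨u, hu, rfl⟩ := exists_U b.toBT ha
  obtain ⟨h, h', n, l, rfl, e, -⟩ := exists_line b.toBT τ ha' hx
  obtain ⟨z, hz⟩ := hne
  rw [D_pr m, D_pr m] at hz
  obtain ⟨y', hy'⟩ := c2 m.toModFr b c hu l ⟨z, hz⟩ y
  exact ⟨y', by rw [← e, D_pr m, D_pr m, D_pr m, D_pr m]; exact hy'⟩

/-- LEMMA N: `e ≤ [M, a] + rad` -/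
theorem lemN [Finite G] [Finite F] [CharP F 2] (hq : 4 ≤ Nat.card F) (hij : i ≠ j)
    (c : Coord V R i j vv w1 w2) {a : HQ (R i)} (ha : a ∈ AA V R i j) (ha1 : a ≠ 1) {x : M}
    (hx : x ∈ m.sb V) : ∃ y : M, ∃ z ∈ m.sb (ZZ V R i), x = D a y + z := by
  obtain ⟨u, hu, rfl⟩ := exists_U b.toBT ha
  obtain ⟨y, z, hz, e⟩ := lemN_M m.toModFr b c hq hu (notMem_D b.toBT hij hu ha1) hx
  exact ⟨y, z, hz, by rw [D_pr m]; exact e⟩

/-- LEMMA N: what lies in `Ĥ` and centralises `[M, a]` centralises `e` -/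
theorem lemN_fix [Finite G] [Finite F] [CharP F 2] (hq : 4 ≤ Nat.card F) (hij : i ≠ j)
    (c : Coord V R i j vv w1 w2) {a h : HQ (R i)} (ha : a ∈ AA V R i j) (ha1 : a ≠ 1)
    (hh : h ∈ normalClosure (AA V R i j : Set (HQ (R i)))) (hy : ∀ y : M, h • D a y = D a y) {x : M}
    (hx : x ∈ m.sb V) : h • x = x := by
  obtain ⟨y, z, hz, rfl⟩ := lemN m b hq hij c ha ha1 hx
  rw [smul_add, hy, rad_fix m b hij hh hz]

/-- `|e| = |F|` -/
theorem card_e (c : Coord V R i j vv w1 w2) : Nat.card (m.sb V) = Nat.card F := by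
  symm
  have hvW : ∀ q, vv 0 q ∈ WW V (R i) := fun q => V_le_WW V (R i) (c.v_mem 0 q)
  refine Nat.card_congr (Equiv.ofBijective (fun β : F => (⟨p (vv 0 β), m.p_mem (hvW β) (c.v_mem 0 β)⟩ :
    m.sb V)) ⟨fun β β' h => ?_, ?_⟩)
  · have h1 : p (vv 0 β) = p (vv 0 β') := congrArg Subtype.val h
    rw [m.p_eq_iff (hvW β) (hvW β')] at h1
    obtain ⟨x, hx⟩ := (c.mem_R1 _).1 h1
    have h2 := c.v_add x 0 0 β'
    rw [hx, inv_mul_cancel_right, add_zero, zero_add] at h2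
    exact (c.v_inj h2).2.symm
  · rintro ⟨x, hx⟩
    obtain ⟨β, hβ⟩ := mem_e m.toModFr b c hx
    exact ⟨β, Subtype.ext hβ⟩

/-- `|B| = |F|` -/
theorem card_B (c : Coord V R i j vv w1 w2) : Nat.card B = Nat.card F := by
  have _ := b
  symm
  have hR : ∀ q, vv q 0 ∈ R i := fun q => (c.mem_R1 _).2 ⟨q, rfl⟩
  refine Nat.card_congr (Equiv.ofBijective (fun β : F => r (vv β 0)) ⟨fun β β' h => ?_, fun x => ?_⟩)
  · exact (c.v_inj (m.r_inj (hR β) (hR β') h)).1
  · obtain ⟨y, hy, rfl⟩ := m.r_surj x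
    obtain ⟨β, rfl⟩ := (c.mem_R1 _).1 hy
    exact ⟨β, rfl⟩

omit b in
theorem finite_M [Finite G] : Finite M :=
  Finite.of_surjective (fun x : WW V (R i) => p x) fun a => by
    obtain ⟨x, hx, rfl⟩ := m.p_surj a
    exact ⟨⟨x, hx⟩, rfl⟩

/-- `|[M, a, a^x]| ≤ |F|`, `x ∈ T` -/
theorem card_line [Finite G] (c : Coord V R i j vv w1 w2) (τ : TorD V R i j vv t) {a x : HQ (R i)}
    (ha : a ∈ AA V R i j) (hx : x ∈ TT τ) :
    Nat.card (cm (cm (⊤ : AddSubgroup M) a) (x * a * x⁻¹)) ≤ Nat.card F := by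
  have := finite_M m
  rw [← card_e m b c]
  have h : cm (cm (⊤ : AddSubgroup M) a) (x * a * x⁻¹) ≤ m.sb V := by
    rintro _ ⟨_, ⟨y, -, rfl⟩, rfl⟩
    exact line0 m b τ ha hx y
  exact Nat.card_le_card_of_injective (AddSubgroup.inclusion h) (AddSubgroup.inclusion_injective h)

/-- `|M : e^⊥| ≤ |F|` -/
theorem index_U [Finite G] (c : Coord V R i j vv w1 w2) : (m.sb (UU V R i)).index ≤ Nat.card F := by
  have h1 : (m.sb (UU V R i)).index = Nat.card (M ⧸ m.sb (UU V R i)) := rfl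
  have := finite_M m
  rw [h1]
  -- `M / e^⊥ → F`, `w ↦` its parameter
  have hFi : Finite F := Finite.of_injective (fun a => vv a 0) fun a a' h => (c.v_inj h).1
  have hs : ∀ w : WW V (R i), ∃ s, ∀ b c, (w : G) * vv b c * (w : G)⁻¹ = vv (b + s * c) c := fun w =>
    c.W1_act w w.2
  choose s hs using hs
  have hp : ∀ y : M, ∃ w : WW V (R i), p w = y := fun y => by
    obtain ⟨x, hx, rfl⟩ := m.p_surj y
    exact ⟨⟨x, hx⟩, rfl⟩
  choose q hq using hp
  refine Nat.card_le_card_of_injective (fun z : M ⧸ m.sb (UU V R i) => s (q (Quotient.out z))) fun z z' h => ?_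
  rw [← QuotientAddGroup.out_eq' z, ← QuotientAddGroup.out_eq' z', QuotientAddGroup.eq]
  set y : M := Quotient.out z
  set y' : M := Quotient.out z'
  rw [← hq y, ← hq y', ← m.p_inv (q y).2, ← m.p_mul _ (inv_mem (q y).2) _ (q y').2]
  have hW : ((q y : WW V (R i)) : G)⁻¹ * (q y' : WW V (R i)) ∈ WW V (R i) := mul_mem (inv_mem (q y).2) (q y').2
  refine m.p_mem hW (mem_inf.2 ⟨hW, ?_⟩)
  rw [mem_centralizer_iff]
  intro v hv
  obtain ⟨d, e, rfl⟩ := (c.mem_V v).1 hv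
  have h1 := hs (q y) d e
  have h2 := hs (q y') d e
  have h3 : s (q y) = s (q y') := h
  rw [h3, ← h2] at h1
  calc vv d e * (((q y : WW V (R i)) : G)⁻¹ * (q y' : WW V (R i)))
      = ((q y : WW V (R i)) : G)⁻¹ * ((q y : WW V (R i)) * vv d e * ((q y : WW V (R i)) : G)⁻¹) *
        (q y' : WW V (R i)) := by group
    _ = ((q y : WW V (R i)) : G)⁻¹ * (q y' : WW V (R i)) * vv d e := by rw [h1]; group

/-- `|[M, a, b]| ≤ |F|²` -/
theorem card_two [Finite G] (c : Coord V R i j vv w1 w2) {a a' : HQ (R i)}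
    (ha : a ∈ AA V R i j) (ha' : a' ∈ AA V R i j) :
    Nat.card (cm (cm (⊤ : AddSubgroup M) a) a') ≤ Nat.card F ^ 2 := by
  have := finite_M m
  have hFi : Finite F := Finite.of_injective (fun a => vv a 0) fun a a' h => (c.v_inj h).1
  set φ : M →+ M := (D a').comp (D a) with hφ
  have e1 : cm (cm (⊤ : AddSubgroup M) a) a' = φ.range := by
    unfold cm
    rw [AddSubgroup.map_map, ← AddMonoidHom.range_eq_map]
  rw [e1]
  set U := m.sb (UU V R i) with hU
  have h1 := AddSubgroup.index_map_dvd U (f := φ.rangeRestrict) φ.rangeRestrict_surjective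
  have h2 : (U.map φ.rangeRestrict).index ≤ Nat.card F :=
    (Nat.le_of_dvd (Nat.pos_of_ne_zero AddSubgroup.index_ne_zero_of_finite) h1).trans (index_U m b c)
  have h3 : Nat.card (U.map φ.rangeRestrict) ≤ Nat.card F := by
    rw [← card_e m b c]
    refine Nat.card_le_card_of_injective (fun z : U.map φ.rangeRestrict => (⟨((z : φ.range) : M), ?_⟩ : m.sb V)) ?_
    · obtain ⟨z, y, hy, rfl⟩ := z
      exact D_V m b.toBT ha' (D_D m b.toBT ha hy)
    · intro z z' h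
      exact Subtype.ext (Subtype.ext (congrArg (fun x : m.sb V => (x : M)) h))
  rw [← AddSubgroup.card_mul_index (U.map φ.rangeRestrict), pow_two]
  exact Nat.mul_le_mul h3 h2

/-- `|A| = |U j : D|` -/
theorem card_A (hij : i ≠ j) : Nat.card (AA V R i j) = (DD V R).relIndex (UU V R j) := by
  have _ := m
  -- the hom `U j → H`
  let φ : UU V R j →* HQ (R i) :=
    (pr (R i)).comp (Subgroup.inclusion (U_le_N b.toBT i j))
  have h1 : φ.range = AA V R i j := by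
    ext x
    rw [mem_AA b.toBT]
    constructor
    · rintro ⟨u, rfl⟩; exact ⟨u, u.2, rfl⟩
    · rintro ⟨u, hu, rfl⟩; exact ⟨⟨u, hu⟩, rfl⟩
  have h2 : φ.ker = (DD V R).subgroupOf (UU V R j) := by
    ext u
    rw [MonoidHom.mem_ker, mem_subgroupOf]
    change pr (R i) ⟨(u : G), _⟩ = 1 ↔ _
    rw [pr_eq_one, U_inf_Q b.toBT hij u.2]
  rw [← h1, ← index_ker, h2]
  rfl

omit b in
/-- `|M| = |W i : R i|` -/
theorem card_M_eq : Nat.card M = (R i).relIndex (WW V (R i)) := by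
  let φ : WW V (R i) →* Multiplicative M :=
    { toFun := fun x => Multiplicative.ofAdd (p x)
      map_one' := by rw [coe_one, m.p_one]; rfl
      map_mul' := fun x y => by rw [coe_mul, m.p_mul x x.2 y y.2]; rfl }
  have h1 : Function.Surjective φ := fun a => by
    obtain ⟨x, hx, e⟩ := m.p_surj a.toAdd
    exact ⟨⟨x, hx⟩, congrArg Multiplicative.ofAdd e⟩
  have h2 : φ.ker = (R i).subgroupOf (WW V (R i)) := by
    ext x
    rw [MonoidHom.mem_ker, mem_subgroupOf, ← m.p_ker x x.2]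
    exact Iff.rfl
  change _ = ((R i).subgroupOf (WW V (R i))).index
  rw [← h2, index_ker, MonoidHom.range_eq_top.2 h1, card_top]
  rfl

/-- `|M| ≤ (|F| |A|)²` -/
theorem card_M [Finite G] [CharP F 2] (hij : i ≠ j) (c : Coord V R i j vv w1 w2) :
    Nat.card M ≤ (Nat.card F * Nat.card (AA V R i j)) ^ 2 := by
  have hFi : Finite F := Finite.of_injective (fun a => vv a 0) fun a a' h => (c.v_inj h).1
  obtain ⟨N, _, _, P1, P2, y⟩ := c.exists_yPair b.toBT
  have hA : Nat.card (AA V R i j) = Nat.card N := by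
    rw [card_A m b hij, ← b.card_U i j, y.index_D_U]
  -- `|R i| = |F|`, `|V| = |F|²`
  have hR : Nat.card (R i) = Nat.card F := by
    symm
    refine Nat.card_congr (Equiv.ofBijective (fun β : F => (⟨vv β 0, (c.mem_R1 _).2 ⟨β, rfl⟩⟩ : R i))
      ⟨fun β β' h => (c.v_inj (congrArg Subtype.val h)).1, ?_⟩)
    rintro ⟨x, hx⟩
    obtain ⟨β, hβ⟩ := (c.mem_R1 _).1 hx
    exact ⟨β, Subtype.ext hβ⟩
  have hV : Nat.card V = Nat.card F * Nat.card F := by
    rw [← Nat.card_prod]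
    symm
    refine Nat.card_congr (Equiv.ofBijective (fun β : F × F => (⟨vv β.1 β.2, c.v_mem _ _⟩ : V))
      ⟨fun β β' h => ?_, ?_⟩)
    · have h1 := c.v_inj (congrArg Subtype.val h)
      exact Prod.ext h1.1 h1.2
    · rintro ⟨x, hx⟩
      obtain ⟨β, γ, hβ⟩ := (c.mem_V _).1 hx
      exact ⟨(β, γ), Subtype.ext hβ⟩
  have h1 : (R i).relIndex V = Nat.card F := by
    have h2 := relIndex_mul_relIndex ⊥ (R i) V bot_le (b.R_le i)
    rw [relIndex_bot_left, relIndex_bot_left, hR, hV] at h2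
    exact Nat.eq_of_mul_eq_mul_left Nat.card_pos h2
  have h2 : V.relIndex (DD V R) ≤ Nat.card N := by
    have k1 := y.index_cen_le b.toBT c
    have k2 : (centralizer (YY V R : Set G)).relIndex (DD V R) = V.relIndex (DD V R) := by
      rw [← inf_relIndex_right, ← inf_relIndex_right V]
      congr 1
      apply le_antisymm
      · rintro x ⟨hx, hx'⟩
        refine mem_inf.2 ⟨b.cen_DU (i := i) hx' fun u hu => ?_, hx'⟩
        exact (mem_centralizer_iff.1 hx u (UU_le_YY i hu)).symm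
      · rintro x ⟨hx, hx'⟩
        refine mem_inf.2 ⟨?_, hx'⟩
        rw [mem_centralizer_iff]
        exact fun u hu => (mem_centralizer_iff.1 (YY_le_cen hu) x hx).symm
    rw [k2] at k1
    have := y.finite_M
    exact Nat.le_of_dvd Nat.card_pos k1
  have h3 : (DD V R).relIndex (UU V R i) = Nat.card N := y.index_D_U
  have h4 : (UU V R i).relIndex (WW V (R i)) ≤ Nat.card F := by
    have k := b.relIndex_U_le i
    rw [← inf_relIndex_right, inf_comm] at k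
    rw [← hR]
    exact k
  have e1 := relIndex_mul_relIndex (R i) V (DD V R) (b.R_le i) (V_le_D V R)
  have e2 := relIndex_mul_relIndex (R i) (DD V R) (UU V R i) ((b.R_le i).trans (V_le_D V R)) (b.D_le_U i)
  have e3 := relIndex_mul_relIndex (R i) (UU V R i) (WW V (R i)) (b.R_le_U i) (UU_le_WW i)
  rw [card_M_eq m, ← e3, ← e2, ← e1, h1, h3, hA]
  calc Nat.card F * V.relIndex (DD V R) * Nat.card N * (UU V R i).relIndex (WW V (R i))
      ≤ Nat.card F * Nat.card N * Nat.card N * Nat.card F := by gcongr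
    _ = (Nat.card F * Nat.card N) ^ 2 := by ring

end BTC

end Cfsg.Agent.Omega.Lie.QMod

end

section


/-!
# NODE LIE, (L1) of #13991: `e = C_M(A) ∩ C_M(T)^⊥`

In the situation of `QMod` with `C(W i) ≤ R i` (`rad = 0`), `q ≥ 4`:
* `dperp`: `e^⊥⊥ = e`;
* `mem_cA_iff`: `C_M(A) = [M, A]^⊥`;
* `cT_le`: `C_M(T) ≤ e^⊥`; `D_le`: `D / R = e + C(T)`;
* `mem_e_iff`: `x ∈ e ↔ x ∈ C_M(A)` and `f (x, C_M(T)) = 0`;
* **`stab`**: `h ∈ H` normalising `A` and `T` stabilises `e`; `stab_of_comm`: `h` normalises `A` and commutes with `T`.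
* `lift_norm`: `h ∈ H` stabilises `e` ==> its preimages normalise `V`.
-/

set_option autoImplicit false
set_option linter.unusedSectionVars false

namespace Cfsg.Agent.Omega.Lie.LOne

open Subgroup Cfsg.Agent.Omega.BTwo Cfsg.Agent.Omega.Lie Cfsg.Agent.Omega.Lie.Quot
  Cfsg.Agent.Omega.Lie.LemN Cfsg.Agent.Omega.Lie.QMod

open Cfsg.Agent.Omega.Lie.TwoEnd (D cm)

universe u v w

variable {G : Type u} [Group G] {ι : Type w} {F : Type v} [Field F]
  {V : Subgroup G} {R : ι → Subgroup G} {i j : ι}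
  {M B : Type u} [AddCommGroup M] [AddCommGroup B]
  [DistribMulAction (NR R i) M] [DistribMulAction (NR R i) B] [DistribMulAction (HQ (R i)) M]
  [DistribMulAction (HQ (R i)) B] {p : G → M} {r : G → B}
  {f : M →+ M →+ B} {vv : F → F → G} {w1 w2 t : F → G}

theorem D_eq {H X : Type*} [Group H] [AddCommGroup X] [DistribMulAction H X] (a : H) (x : X) :
    D a x = a • x - x := TwoEnd.D_apply a x

section BT

variable (m : QFr V R i M B p r f) (b : BT V R)
include m b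

theorem f_act (h : HQ (R i)) (a c : M) : f (h • a) (h • c) = h • f a c := by
  obtain ⟨n, hn, rfl⟩ := exists_pr h
  rw [m.smul_M, m.smul_M, m.f_act b, m.smul_B]

theorem f_act_zero (h : HQ (R i)) {a c : M} : f (h • a) (h • c) = 0 ↔ f a c = 0 := by
  rw [f_act m b]
  exact smul_eq_zero_iff_eq h

/-- `e^⊥⊥ = e + rad` -/
theorem dperp {x : M} (hx : ∀ y ∈ m.sb (UU V R i), f x y = 0) :
    ∃ v ∈ m.sb V, ∃ z, (∀ y, f z y = 0) ∧ x = v + z := by
  obtain ⟨w, hw, rfl⟩ := m.p_surj x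
  obtain ⟨v, hv, hc⟩ := b.cen_U (b.W_le_Q i hw) fun u hu => by
    have huW := UU_le_WW i hu
    have h1 := hx (p u) (m.p_mem huW hu)
    rw [m.f_eq _ hw _ huW, m.r_ker _ (b.WW_comm i hw huW), mul_inv_eq_one, mul_inv_eq_iff_eq_mul] at h1
    exact h1
  have hvW := V_le_WW V (R i) hv
  have hzW : v⁻¹ * w ∈ WW V (R i) := mul_mem (inv_mem hvW) hw
  refine ⟨p v, m.p_mem hvW hv, p (v⁻¹ * w), ?_, ?_⟩
  · rw [← mem_rad m b]
    exact m.p_mem hzW (mem_inf.2 ⟨hzW, hc⟩)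
  · rw [← m.p_mul _ hvW _ hzW]
    congr 1
    group

/-- `h` stabilises `e` ==> its preimages normalise `V` -/
theorem lift_norm [Finite G] {n : G} (hn : n ∈ normalizer (R i : Set G))
    (h : ∀ x ∈ m.sb V, pr (R i) ⟨n, hn⟩ • x ∈ m.sb V) : n ∈ normalizer (V : Set G) := by
  have hVW := V_le_WW V (R i)
  refine mem_normalizer_of_conj fun v hv => ?_
  have h1 := h (p v) (m.p_mem (hVW hv) hv)
  rw [m.smul_M, m.p_act ⟨n, hn⟩ v (hVW hv)] at h1
  exact (m.p_mem_iff (conj_mem_of_normalizer (normalizer_le_WW V (R i) hn) (hVW hv)) (b.R_le i)).1 h1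

/-- `C_M(A) ≤ [M, A]^⊥` -/
theorem f_cA {x : M} (hx : ∀ a ∈ AA V R i j, a • x = x) {a : HQ (R i)} (ha : a ∈ AA V R i j) (y : M) :
    f x (D a y) = 0 := by
  rw [← adj m b ha, D_eq, hx a ha, sub_self, map_zero, AddMonoidHom.zero_apply]

/-- `C_M(A) = [M, A]^⊥` -/
theorem mem_cA_iff (hrad : ∀ z, (∀ y, f z y = 0) → z = 0) {x : M} :
    (∀ a ∈ AA V R i j, a • x = x) ↔ ∀ a ∈ AA V R i j, ∀ y, f x (D a y) = 0 := by
  refine ⟨fun hx a ha y => f_cA m b hx ha y, fun hx a ha => ?_⟩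
  have h1 : D a x = 0 := hrad _ fun y => by rw [adj m b ha]; exact hx a ha y
  rw [D_eq] at h1
  exact sub_eq_zero.1 h1

/-- `C_M(T) ≤ e^⊥` -/
theorem cT_le [CharP F 2] (hF : ∃ a : F, a ≠ 0 ∧ a ≠ 1) (c : Coord V R i j vv w1 w2) (τ : TorD V R i j vv t)
    {x : M} (hx : ∀ a ∈ TT τ, a • x = x) : x ∈ m.sb (UU V R i) := by
  rw [← m.perp_iff b]
  obtain ⟨w, hw, rfl⟩ := m.p_surj x
  obtain ⟨s, hs⟩ := c.W1_act w hw
  have hVW := V_le_WW V (R i)
  -- `f (p w, p (vv 0 γ)) = r (vv (s γ) 0)`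
  have hf : ∀ γ, f (p w) (p (vv 0 γ)) = r (vv (s * γ) 0) := by
    intro γ
    rw [m.f_eq _ hw _ (hVW (c.v_mem 0 γ)), hs]
    congr 1
    rw [zero_add, mul_inv_eq_iff_eq_mul, ← c.v_add, add_zero, zero_add]
  obtain ⟨a, ha, ha1⟩ := hF
  have hT : pr (R i) ⟨t a, τ.normR ha⟩ ∈ TT τ := (mem_TT τ).2 ⟨a, ha, rfl⟩
  have h1 := hf (a⁻¹ * 1)
  have hR : vv (s * 1) 0 ∈ R i := (c.mem_R1 _).2 ⟨_, rfl⟩
  have h2 : p (vv 0 (a⁻¹ * 1)) = pr (R i) ⟨t a, τ.normR ha⟩ • p (vv 0 1) := by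
    rw [m.smul_M, m.p_act _ _ (hVW (c.v_mem 0 1))]
    change _ = p (t a * vv 0 1 * (t a)⁻¹)
    rw [τ.act a 0 1 ha, mul_zero]
  have h3 : f (p w) (pr (R i) ⟨t a, τ.normR ha⟩ • p (vv 0 1)) = r (vv (a * (s * 1)) 0) := by
    conv_lhs => rw [← hx _ hT]
    rw [f_act m b, hf, m.smul_B, m.r_act _ _ hR]
    change r (t a * vv (s * 1) 0 * (t a)⁻¹) = _
    rw [τ.act a _ 0 ha, mul_zero]
  rw [h2, h3] at h1
  have hRi : ∀ q, vv q 0 ∈ R i := fun q => (c.mem_R1 _).2 ⟨q, rfl⟩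
  have h4 := (c.v_inj (m.r_inj (hRi _) (hRi _) h1)).1
  have h5 : s = 0 := by
    by_contra hs0
    have h6 : a = a⁻¹ := by
      apply mul_left_cancel₀ hs0
      linear_combination h4
    have h7 : a * a = 1 := by
      nth_rw 2 [h6]
      exact mul_inv_cancel₀ ha
    have h8 : (a + 1) * (a + 1) = 0 := by
      have h9 : (2 : F) = 0 := CharP.cast_eq_zero F 2
      linear_combination h7 + (a + 1) * h9
    have h10 : a + 1 = 0 := mul_self_eq_zero.1 h8
    apply ha1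
    have h9 : (2 : F) = 0 := CharP.cast_eq_zero F 2
    linear_combination h10 - h9
  rintro _ ⟨v, hv, hvW, rfl⟩
  rw [m.f_eq _ hw _ hvW]
  obtain ⟨β, γ, rfl⟩ := (c.mem_V v).1 hv
  rw [hs, h5, zero_mul, add_zero, mul_inv_cancel, m.r_one]

/-- `[D / R, T] ≤ e` -/
theorem T_D (τ : TorD V R i j vv t) {a : HQ (R i)} (ha : a ∈ TT τ) {x : M} (hx : x ∈ m.sb (DD V R)) :
    a • x - x ∈ m.sb V := by
  obtain ⟨c, hc, rfl⟩ := (mem_TT τ).1 ha
  rw [m.smul_M]
  exact m.X_D b (h := ⟨t c, τ.normR hc⟩) (τ.memX c hc) hx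

/-- `D / R = e + C(T)` -/
theorem D_le [Finite F] [CharP F 2] (τ : TorD V R i j vv t) {x : M} (hx : x ∈ m.sb (DD V R)) :
    ∃ v ∈ m.sb V, ∃ y, (∀ a ∈ TT τ, a • y = y) ∧ x = v + y := by
  have hc := card_T b τ
  have hfin : Finite (TT τ) := by
    have h1 : 1 < Nat.card F := Finite.one_lt_card
    exact (Nat.card_pos_iff.1 (by omega)).2
  have := Fintype.ofFinite (TT τ)
  have h2F : 2 ∣ Nat.card F := by
    have := (CharP.cast_eq_zero F 2)
    have h3 : addOrderOf (1 : F) = 2 := by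
      have h4 : addOrderOf (1 : F) ∣ 2 := by
        rw [addOrderOf_dvd_iff_nsmul_eq_zero, nsmul_eq_mul, mul_one]
        exact_mod_cast CharP.cast_eq_zero F 2
      rcases (Nat.dvd_prime Nat.prime_two).1 h4 with h | h
      · rw [AddMonoid.addOrderOf_eq_one_iff] at h
        exact absurd h one_ne_zero
      · exact h
    rw [← h3]
    exact addOrderOf_dvd_natCard 1
  have hodd : Odd (Nat.card (TT τ)) := by
    rw [← Nat.not_even_iff_odd]
    intro he
    have h5 := he.two_dvd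
    omega
  set y : M := ∑ a : TT τ, (a : HQ (R i)) • x with hy
  have h1 : ∑ a : TT τ, ((a : HQ (R i)) • x - x) = y - x := by
    rw [Finset.sum_sub_distrib, Finset.sum_const, Finset.card_univ, ← Nat.card_eq_fintype_card]
    obtain ⟨k, hk⟩ := hodd
    have h3 : Nat.card (TT τ) • x = x := by
      rw [hk, add_smul, one_smul, mul_comm, mul_smul, two_smul, two m b, smul_zero, zero_add]
    rw [h3]
  have h2 : y - x ∈ m.sb V := by
    rw [← h1]
    exact AddSubgroup.sum_mem _ fun a _ => T_D m b τ a.2 hx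
  refine ⟨-(y - x), neg_mem h2, y, fun a ha => ?_, by abel⟩
  rw [hy, Finset.smul_sum]
  exact Fintype.sum_equiv (Equiv.mulLeft (⟨a, ha⟩ : TT τ)) _ _ fun c => by
    rw [smul_smul]; rfl

end BT

section BTC

variable (m : QFr V R i M B p r f) (b : BTC V R)
include m b

/-- **`e = C_M(A) ∩ C_M(T)^⊥`** -/
theorem mem_e_iff [Finite G] [Finite F] [CharP F 2] (hq : 4 ≤ Nat.card F) (c : Coord V R i j vv w1 w2)
    (τ : TorD V R i j vv t) (hrad : ∀ z, (∀ y, f z y = 0) → z = 0) (hA : ∃ a ∈ AA V R i j, a ≠ 1) {x : M} :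
    x ∈ m.sb V ↔ (∀ a ∈ AA V R i j, a • x = x) ∧ ∀ y, (∀ a ∈ TT τ, a • y = y) → f x y = 0 := by
  have hF := exists_ne hq
  constructor
  · intro hx
    refine ⟨fun a ha => A_e m b.toBT ha hx, fun y hy => ?_⟩
    rw [m.f_symm b.toBT]
    exact (m.perp_iff b.toBT y).2 (cT_le m b.toBT hF c τ hy) x hx
  · rintro ⟨hx, hx'⟩
    obtain ⟨a₀, ha₀, ha₀'⟩ := hA
    have hxe : ∀ v ∈ m.sb V, f x v = 0 := by
      intro v hv
      obtain ⟨y, z, hz, rfl⟩ := lemN m b hq c.ne c ha₀ ha₀' hv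
      have hz0 : z = 0 := hrad z ((mem_rad m b.toBT).1 hz)
      rw [hz0, add_zero]
      exact f_cA m b.toBT hx ha₀ y
    have hxD : ∀ d ∈ m.sb (DD V R), f x d = 0 := by
      intro d hd
      obtain ⟨v, hv, y, hy, rfl⟩ := D_le m b.toBT τ hd
      rw [map_add, hxe v hv, hx' y hy, add_zero]
    -- an element outside `e^⊥`
    have hw : p (w1 1) ∉ m.sb (UU V R i) := w1_notMem m.toModFr b c one_ne_zero
    obtain ⟨v, hv, z, hz, rfl⟩ := dperp m b.toBT (x := x) fun y hy => by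
      obtain ⟨h, hh, hD⟩ := m.A_surj b.toBT c.ne hw hy
      have h1 := hxD _ hD
      have h2 : f x (h • p (w1 1) - p (w1 1)) = 0 := by
        have h3 : pr (R i) h ∈ AA V R i j := (mem_AA b.toBT).2 ⟨h, hh, rfl⟩
        have h4 := f_cA m b.toBT hx h3 (p (w1 1))
        rwa [D_eq, m.smul_M] at h4
      rw [map_sub, h2, zero_sub, neg_eq_zero] at h1
      exact h1
    rw [hrad z hz, add_zero]
    exact hv

/-- **(L1)**: `h ∈ H` normalising `A` and `T` stabilises `e` -/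
theorem stab [Finite G] [Finite F] [CharP F 2] (hq : 4 ≤ Nat.card F) (c : Coord V R i j vv w1 w2)
    (τ : TorD V R i j vv t) (hrad : ∀ z, (∀ y, f z y = 0) → z = 0) (hA : ∃ a ∈ AA V R i j, a ≠ 1)
    {h : HQ (R i)} (hhA : ∀ a ∈ AA V R i j, h * a * h⁻¹ ∈ AA V R i j)
    (hhT : ∀ a ∈ TT τ, h * a * h⁻¹ ∈ TT τ) {x : M} (hx : x ∈ m.sb V) : h • x ∈ m.sb V := by
  have hinv : ∀ {S : Subgroup (HQ (R i))}, (∀ a ∈ S, h * a * h⁻¹ ∈ S) → ∀ a ∈ S, h⁻¹ * a * h ∈ S := by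
    intro S hS a ha
    exact conj_inv_mem_of_normalizer (mem_normalizer_of_conj hS) ha
  rw [mem_e_iff m b hq c τ hrad hA] at hx ⊢
  refine ⟨fun a ha => ?_, fun y hy => ?_⟩
  · have h1 := hx.1 _ (hinv hhA a ha)
    rw [mul_smul, mul_smul, inv_smul_eq_iff] at h1
    exact h1
  · have h1 := hx.2 (h⁻¹ • y) fun a ha => by
      have h2 := hy _ (hhT a ha)
      rw [mul_smul, mul_smul] at h2
      rw [← smul_left_cancel_iff h, h2, smul_inv_smul]
    have h2 := (f_act_zero m b.toBT h).2 h1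
    rwa [smul_inv_smul] at h2

theorem stab_of_comm [Finite G] [Finite F] [CharP F 2] (hq : 4 ≤ Nat.card F) (c : Coord V R i j vv w1 w2)
    (τ : TorD V R i j vv t) (hrad : ∀ z, (∀ y, f z y = 0) → z = 0) (hA : ∃ a ∈ AA V R i j, a ≠ 1)
    {h : HQ (R i)} (hhA : ∀ a ∈ AA V R i j, h * a * h⁻¹ ∈ AA V R i j)
    (hhT : ∀ a ∈ TT τ, h * a = a * h) {x : M} (hx : x ∈ m.sb V) : h • x ∈ m.sb V :=
  stab m b hq c τ hrad hA hhA (fun a ha => by rw [hhT a ha, mul_inv_cancel_right]; exact ha) hx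

end BTC

end Cfsg.Agent.Omega.Lie.LOne

end

section


/-!
# LEMMA HOM (THEOREM FIX, NODE LIE (L9)): homologies in characteristic 2

`HomSys D ph`: `D` is a set of nonzero vectors of an `F`-space, closed under nonzero scalars, `ph d` a functional with
`ph d d = 1`; the homologies `hh ph d μ : v ↦ v + (μ + 1) ph d v • d` map `D` to `D` and are compatible with `ph`.

* `HomSys.sym`, `HomSys.inv` : `ph d y = (ph y d)⁻¹` for `d, y ∈ D`;
* **`HomSys.perp`** : if `|D|` is odd, `|F| ≥ 4` and a group which is compatible with `ph` is transitive on `D`, then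
  `ph d y = 0` for `d, y ∈ D` non-proportional.
-/

set_option autoImplicit false
set_option linter.unusedSectionVars false

namespace Cfsg.Agent.Omega.Lie.HomLem

universe u v

variable {F : Type u} [Field F] {C : Type v} [AddCommGroup C] [Module F C]

/-- the homology with centre `d`, axis `ker (ph d)` and factor `μ` (characteristic 2) -/
def hh (ph : C → C →ₗ[F] F) (d : C) (μ : F) (v : C) : C := v + ((μ + 1) * ph d v) • d

/-- system of homologies -/
structure HomSys (D : Set C) (ph : C → C →ₗ[F] F) : Prop where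
  smul : ∀ d ∈ D, ∀ c : F, c ≠ 0 → c • d ∈ D
  self : ∀ d ∈ D, ph d d = 1
  ph_smul : ∀ d ∈ D, ∀ c : F, c ≠ 0 → ∀ v ∈ D, ph (c • d) v = c⁻¹ * ph d v
  mem : ∀ d ∈ D, ∀ μ : F, μ ≠ 0 → ∀ y ∈ D, hh ph d μ y ∈ D
  equi : ∀ d ∈ D, ∀ μ : F, μ ≠ 0 → ∀ y ∈ D, ∀ v ∈ D, ph (hh ph d μ y) (hh ph d μ v) = ph y v

variable {ph : C → C →ₗ[F] F}

theorem ph_hh (d x : C) (μ : F) (v : C) : ph x (hh ph d μ v) = ph x v + (μ + 1) * ph d v * ph x d := by
  unfold hh
  rw [map_add, map_smul, smul_eq_mul]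

section two

variable [CharP F 2]

theorem two0 (F : Type u) [Field F] [CharP F 2] : (2 : F) = 0 := CharP.cast_eq_zero F 2

theorem smul2 (F : Type u) [Field F] [CharP F 2] {C : Type v} [AddCommGroup C] [Module F C] (v : C) :
    v + v = 0 := by
  have h : (2 : F) • v = 0 := by rw [two0 F, zero_smul]
  rwa [two_smul] at h

theorem hh_self {d : C} (hd : ph d d = 1) (μ : F) : hh ph d μ d = μ • d := by
  have h2 := two0 F
  unfold hh
  rw [hd]
  match_scalars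
  linear_combination h2

theorem hh_inv {d : C} (hd : ph d d = 1) {μ : F} (hμ : μ ≠ 0) (v : C) :
    hh ph d μ (hh ph d μ⁻¹ v) = v := by
  have h2 := two0 F
  have e : hh ph d μ (hh ph d μ⁻¹ v) = hh ph d μ⁻¹ v + ((μ + 1) * ph d (hh ph d μ⁻¹ v)) • d := rfl
  rw [e, ph_hh, hd]
  unfold hh
  match_scalars
  · ring
  · have h3 : μ * μ⁻¹ = 1 := mul_inv_cancel₀ hμ
    linear_combination (ph d v) * h3 + (μ⁻¹ + 2 + μ) * ph d v * h2

/-- formula for a product of two homologies -/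
theorem hh_hh {y y' : C} (h : ph y' y = 1) {l : F} (hl : l ≠ 0) (v : C) :
    hh ph y' l⁻¹ (hh ph y l v) =
      v + ((l + 1) * ph y v) • (y + y') + ((l⁻¹ + 1) * (ph y v + ph y' v)) • y' := by
  have h2 := two0 F
  have e : hh ph y' l⁻¹ (hh ph y l v) = hh ph y l v + ((l⁻¹ + 1) * ph y' (hh ph y l v)) • y' := rfl
  rw [e, ph_hh, h]
  unfold hh
  have h3 : l⁻¹ * l = 1 := inv_mul_cancel₀ hl
  match_scalars
  · ring
  · ring
  · linear_combination (ph y v) * h3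

end two

namespace HomSys

variable {D : Set C} (h : HomSys D ph)
include h

theorem ne_zero {d : C} (hd : d ∈ D) : d ≠ 0 := by
  rintro rfl
  have := h.self _ hd
  rw [map_zero] at this
  exact zero_ne_one this

variable [CharP F 2]

theorem equi' {d : C} (hd : d ∈ D) {μ : F} (hμ : μ ≠ 0) {y : C} (hy : y ∈ D) {v : C} (hv : v ∈ D) :
    ph (hh ph d μ y) v = ph y (hh ph d μ⁻¹ v) := by
  have h1 := h.equi d hd μ hμ y hy (hh ph d μ⁻¹ v) (h.mem d hd _ (inv_ne_zero hμ) v hv)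
  rwa [hh_inv (h.self d hd) hμ] at h1

theorem sym (hF : ∃ a : F, a ≠ 0 ∧ a ≠ 1) {d y : C} (hd : d ∈ D) (hy : y ∈ D) (h0 : ph d y = 0) :
    ph y d = 0 := by
  obtain ⟨a, ha, ha1⟩ := hF
  have h1 := h.equi d hd a ha y hy d hd
  have e : hh ph d a y = y := by
    unfold hh
    rw [h0, mul_zero, zero_smul, add_zero]
  rw [e, hh_self (h.self d hd), map_smul, smul_eq_mul] at h1
  have h2 : (a - 1) * ph y d = 0 := by linear_combination h1
  rcases mul_eq_zero.1 h2 with h3 | h3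
  · exact absurd (sub_eq_zero.1 h3) ha1
  · exact h3

/-- the pair lemma -/
theorem pair (hF : ∃ a : F, a ≠ 0 ∧ a ≠ 1) {d y : C} (hd : d ∈ D) (hy : y ∈ D) (hc : ph d y ≠ 0) :
    y + ph d y • d ∉ D := by
  intro ha
  have h2 := two0 F
  set c := ph d y with hcd
  set a := y + c • d with had
  have hdd := h.self d hd
  have haa := h.self a ha
  have hda : ph d a = 0 := by
    rw [had, map_add, map_smul, hdd, smul_eq_mul, mul_one, ← hcd]
    linear_combination c * h2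
  have had0 : ph a d = 0 := h.sym hF hd ha hda
  -- `x = d + a ∈ D`
  have hx : d + a ∈ D := by
    have h1 := h.mem d hd c⁻¹ (inv_ne_zero hc) y hy
    have e : hh ph d c⁻¹ y = d + a := by
      unfold hh
      rw [← hcd, had, add_mul, inv_mul_cancel₀ hc]
      match_scalars
      · ring
      · ring
    rwa [e] at h1
  set x := d + a with hxd
  have hxx := h.self x hx
  set p := ph x d with hp
  have hxa : ph x a = 1 + p := by
    have h1 : ph x x = ph x d + ph x a := by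
      conv_lhs => rw [hxd]
      rw [map_add]
    rw [hxx, ← hp] at h1
    linear_combination (-1 : F) * h1 - p * h2
  have hdx : ph d x = 1 := by rw [hxd, map_add, hdd, hda, add_zero]
  have hax : ph a x = 1 := by rw [hxd, map_add, had0, haa, zero_add]
  have hp0 : p ≠ 0 := by
    intro h0
    have := h.sym hF hx hd h0
    rw [hdx] at this
    exact one_ne_zero this
  have hp1 : 1 + p ≠ 0 := by
    intro h0
    have := h.sym hF hx ha (hxa.trans h0)
    rw [hax] at this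
    exact one_ne_zero this
  -- `z = p d + (1 + p) a`
  have hz1 : hh ph x p⁻¹ d = p • d + (1 + p) • a := by
    unfold hh
    rw [← hp, add_mul, inv_mul_cancel₀ hp0, hxd]
    match_scalars
    · linear_combination h2
    · ring
  have hμ : p * (1 + p)⁻¹ ≠ 0 := mul_ne_zero hp0 (inv_ne_zero hp1)
  have hz2 : (1 + p) • hh ph d (p * (1 + p)⁻¹) x = p • d + (1 + p) • a := by
    unfold hh
    rw [hdx, hxd]
    match_scalars
    · field_simp
      linear_combination (1 + p) * h2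
    · ring
  -- first computation
  have e1 : ph (hh ph x p⁻¹ d) d = 1 + (p + 1) * p := by
    rw [h.equi' hx (inv_ne_zero hp0) hd hd, inv_inv, ph_hh, hdd, ← hp, hdx, mul_one]
  have e2 : ph ((1 + p) • hh ph d (p * (1 + p)⁻¹) x) d = 1 := by
    rw [h.ph_smul _ (h.mem d hd _ hμ x hx) _ hp1 _ hd, h.equi' hd hμ hx hd, hh_self hdd, map_smul, smul_eq_mul, ← hp]
    field_simp
  rw [hz1, ← hz2, e2] at e1
  have e3 : (1 + p) * p = 0 := by linear_combination (-1 : F) * e1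
  rcases mul_eq_zero.1 e3 with h3 | h3
  · exact hp1 h3
  · exact hp0 h3

/-- `ph d y = (ph y d)⁻¹` on `D` -/
theorem inv (hF : ∃ a : F, a ≠ 0 ∧ a ≠ 1) {d y : C} (hd : d ∈ D) (hy : y ∈ D) :
    ph d y = (ph y d)⁻¹ := by
  have h2 := two0 F
  by_cases hc : ph d y = 0
  · rw [hc, h.sym hF hd hy hc, inv_zero]
  have hc' : ph y d ≠ 0 := fun h0 => hc (h.sym hF hy hd h0)
  by_contra hne
  have hne' : ph d y * ph y d ≠ 1 := fun h1 => hne (eq_inv_of_mul_eq_one_left h1)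
  have hμ : 1 + (ph d y * ph y d)⁻¹ ≠ 0 := by
    intro h0
    have h3 : (ph d y * ph y d)⁻¹ = 1 := by linear_combination h0 - h2
    exact hne' (inv_eq_one.1 h3)
  have h1 := h.smul _ (h.mem y hy _ hμ d hd) (ph d y) hc
  apply h.pair hF hd hy hc
  have e : y + ph d y • d = ph d y • hh ph y (1 + (ph d y * ph y d)⁻¹) d := by
    unfold hh
    match_scalars
    · have e3 : (ph d y * ph y d)⁻¹ * (ph d y * ph y d) = 1 := inv_mul_cancel₀ (mul_ne_zero hc hc')
      linear_combination (-1 : F) * e3 - ph d y * ph y d * h2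
    · ring
  rw [e]
  exact h1

theorem ph_ne (hF : ∃ a : F, a ≠ 0 ∧ a ≠ 1) {d y : C} (hd : d ∈ D) (hy : y ∈ D) (hc : ph d y ≠ 0) :
    ph y d ≠ 0 := fun h0 => hc (h.sym hF hy hd h0)

/-- `y` and `hh d μ y` are not perpendicular -/
theorem ph_hh_ne (hF : ∃ a : F, a ≠ 0 ∧ a ≠ 1) {d y : C} (hd : d ∈ D) (hy : y ∈ D) {μ : F} (hμ : μ ≠ 0) :
    ph y (hh ph d μ y) ≠ 0 := by
  have h2 := two0 F
  rw [ph_hh, h.self y hy]
  by_cases hc : ph d y = 0
  · rw [hc, mul_zero, zero_mul, add_zero]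
    exact one_ne_zero
  · have e : ph d y * ph y d = 1 := by
      rw [h.inv hF hd hy]
      exact inv_mul_cancel₀ (h.ph_ne hF hd hy hc)
    have e2 : 1 + (μ + 1) * ph d y * ph y d = μ := by linear_combination (μ + 1) * e + h2
    rw [e2]
    exact hμ

/-! ### the vector `a` -/

/-- `v + β a ∈ D` for one `β ≠ 0` implies all -/
theorem all (hF : ∃ a : F, a ≠ 0 ∧ a ≠ 1) {v a : C} (hv : v ∈ D) (hva : ph v a = 0) {β : F} (hβ : β ≠ 0)
    (hb : v + β • a ∈ D) (γ : F) : v + γ • a ∈ D := by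
  have _ := hF
  have h2 := two0 F
  by_cases hγ : γ = 0
  · rw [hγ, zero_smul, add_zero]; exact hv
  have hμ : β * γ⁻¹ ≠ 0 := mul_ne_zero hβ (inv_ne_zero hγ)
  have h1 := h.smul _ (h.mem v hv _ hμ _ hb) (γ * β⁻¹) (mul_ne_zero hγ (inv_ne_zero hβ))
  have e : (γ * β⁻¹) • hh ph v (β * γ⁻¹) (v + β • a) = v + γ • a := by
    unfold hh
    rw [map_add, map_smul, h.self v hv, hva, smul_zero, add_zero]
    match_scalars
    · field_simp
      linear_combination γ * h2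
    · field_simp
  rwa [e] at h1

/-- (i) -/
theorem step1 (hF : ∃ a : F, a ≠ 0 ∧ a ≠ 1) {v y a : C} (hv : v ∈ D) (hva : ph v a = 0) (hy : y ∈ D)
    (hya : ph y a = 0) (hya' : y + a ∈ D) (hyv : ph y v ≠ 0) : ∃ β : F, β ≠ 0 ∧ v + β • a ∈ D := by
  have h2 := two0 F
  obtain ⟨l, hl, hl1⟩ := hF
  have hF : ∃ a : F, a ≠ 0 ∧ a ≠ 1 := ⟨l, hl, hl1⟩
  have hl1' : l + 1 ≠ 0 := by
    intro h0
    apply hl1
    linear_combination h0 - h2
  have hyy' : ph y (y + a) = 1 := by rw [map_add, h.self y hy, hya, add_zero]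
  have hy'y : ph (y + a) y = 1 := by rw [h.inv hF hya' hy, hyy', inv_one]
  refine ⟨(l + 1) * ph y v, mul_ne_zero hl1' hyv, ?_⟩
  have h1 := h.mem _ hya' l⁻¹ (inv_ne_zero hl) _ (h.mem y hy l hl v hv)
  rw [hh_hh hy'y hl] at h1
  have e1 : ph (y + a) v = ph y v := by
    rw [h.inv hF hya' hv, map_add, hva, add_zero, ← h.inv hF hy hv]
  have e2 : ph y v + ph (y + a) v = 0 := by rw [e1]; linear_combination (ph y v) * h2
  have e3 : y + (y + a) = a := by rw [← add_assoc, smul2 F, zero_add]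
  rw [e2, mul_zero, zero_smul, add_zero, e3] at h1
  exact h1

/-- the transvection `τ = g²` -/
def tau (ph : C → C →ₗ[F] F) (x x' : C) (l : F) (v : C) : C :=
  hh ph x' l⁻¹ (hh ph x l (hh ph x' l⁻¹ (hh ph x l v)))

theorem tau_eq {x x' : C} (hx : x ∈ D) (hx' : x' ∈ D) (h1 : ph x x' = 1) (h1' : ph x' x = 1) {l : F} (hl : l ≠ 0)
    (v : C) : tau ph x x' l v = v + ((l + l⁻¹) * (ph x v + ph x' v)) • (x + x') := by
  have h2 := two0 F
  unfold tau
  rw [hh_hh h1' hl, hh_hh h1' hl]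
  simp only [map_add, map_smul, smul_eq_mul, h.self x hx, h.self x' hx', h1, h1']
  have h3 : l * l⁻¹ = 1 := mul_inv_cancel₀ hl
  match_scalars
  · ring
  · linear_combination (ph x v + ph x' v) * h3 + (3 * l * ph x v + l ^ 2 * ph x v + 3 * ph x v + ph x' v) * h2
  · linear_combination (ph x v + ph x' v) * h3 + (5 * l * ph x v + 2 * l * ph x v * l⁻¹ + l ^ 2 * ph x v +
      7 * ph x v + 5 * ph x v * l⁻¹ + ph x v * l⁻¹ ^ 2 + 3 * l⁻¹ * ph x' v + l⁻¹ ^ 2 * ph x' v + 3 * ph x' v) * h2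

theorem tau_mem {x x' : C} (hx : x ∈ D) (hx' : x' ∈ D) {l : F} (hl : l ≠ 0) {v : C} (hv : v ∈ D) :
    tau ph x x' l v ∈ D :=
  h.mem _ hx' _ (inv_ne_zero hl) _ (h.mem _ hx _ hl _ (h.mem _ hx' _ (inv_ne_zero hl) _ (h.mem _ hx _ hl _ hv)))

theorem tau_equi {x x' : C} (hx : x ∈ D) (hx' : x' ∈ D) {l : F} (hl : l ≠ 0) {y : C} (hy : y ∈ D) {v : C}
    (hv : v ∈ D) : ph (tau ph x x' l y) (tau ph x x' l v) = ph y v := by
  unfold tau
  have hl' := inv_ne_zero hl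
  have k1 := h.mem _ hx _ hl _ hy
  have k2 := h.mem _ hx' _ hl' _ k1
  have k3 := h.mem _ hx _ hl _ k2
  have j1 := h.mem _ hx _ hl _ hv
  have j2 := h.mem _ hx' _ hl' _ j1
  have j3 := h.mem _ hx _ hl _ j2
  rw [h.equi _ hx' _ hl' _ k3 _ j3, h.equi _ hx _ hl _ k2 _ j2, h.equi _ hx' _ hl' _ k1 _ j1,
    h.equi _ hx _ hl _ hy _ hv]

/-- `φ_d(a) = 0 ↔ ψ(d) = 0` -/
theorem psi_iff (hF : ∃ a : F, a ≠ 0 ∧ a ≠ 1) {x x' d : C} (hx : x ∈ D) (hx' : x' ∈ D) (hd : d ∈ D) :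
    ph d (x + x') = 0 ↔ ph x d + ph x' d = 0 := by
  have h2 := two0 F
  have k : ∀ s t : F, s + t = 0 ↔ s = t := fun s t =>
    ⟨fun e => by linear_combination e - t * h2, fun e => by linear_combination e + t * h2⟩
  rw [map_add, h.inv hF hd hx, h.inv hF hd hx', k, k]
  exact inv_inj

/-- (ii) -/
theorem step2 (hF : ∃ a : F, a ≠ 0 ∧ a ≠ 1) {x x' v w : C} (hx : x ∈ D) (hx' : x' ∈ D) (h1 : ph x x' = 1)
    (hv : v ∈ D) (hva : ph v (x + x') = 0) (hw : w ∈ D) (hwa : ph x w + ph x' w ≠ 0) (hwv : ph w v ≠ 0) :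
    ∃ β : F, β ≠ 0 ∧ v + β • (x + x') ∈ D := by
  have h2 := two0 F
  obtain ⟨l, hl, hl1⟩ := hF
  have hF : ∃ a : F, a ≠ 0 ∧ a ≠ 1 := ⟨l, hl, hl1⟩
  have hl1' : l + 1 ≠ 0 := by
    intro h0
    apply hl1
    linear_combination h0 - h2
  have h1' : ph x' x = 1 := by rw [h.inv hF hx' hx, h1, inv_one]
  have hκ : l + l⁻¹ ≠ 0 := by
    intro h0
    have h3 : l * l⁻¹ = 1 := mul_inv_cancel₀ hl
    have h4 : (l + 1) * (l + 1) = 0 := by linear_combination l * h0 - h3 + l * h2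
    exact hl1' (mul_self_eq_zero.1 h4)
  set ε := (l + l⁻¹) * (ph x w + ph x' w) with hε
  have hε0 : ε ≠ 0 := mul_ne_zero hκ hwa
  set w' := tau ph x x' l w with hw'
  have hw'D : w' ∈ D := h.tau_mem hx hx' hl hw
  have e1 : w' = w + ε • (x + x') := h.tau_eq hx hx' h1 h1' hl w
  -- `τ w' = w`
  have e2 : tau ph x x' l w' = w := by
    rw [h.tau_eq hx hx' h1 h1' hl, e1]
    simp only [map_add, map_smul, smul_eq_mul, h.self x hx, h.self x' hx', h1, h1']
    have e3 : (l + l⁻¹) * (ph x w + ε * (1 + 1) + (ph x' w + ε * (1 + 1))) = ε := by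
      rw [hε]
      linear_combination ((l + l⁻¹) * 2 * ((l + l⁻¹) * (ph x w + ph x' w))) * h2
    rw [e3, add_assoc, ← add_smul, show ε + ε = 0 by linear_combination ε * h2, zero_smul, add_zero]
  have e3 : ph w' w = ph w w' := by
    have := h.tau_equi hx hx' hl hw hw'D
    rwa [e2] at this
  have e4 : ph w w' = 0 := by
    by_contra hne
    have e5 : ph w w' * ph w w' = 1 := by
      nth_rw 1 [h.inv hF hw hw'D, e3]
      exact inv_mul_cancel₀ hne
    have e6 : (ph w w' + 1) * (ph w w' + 1) = 0 := by linear_combination e5 + (ph w w' + 1) * h2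
    have e7 := mul_self_eq_zero.1 e6
    rw [e1, map_add, map_smul, smul_eq_mul, h.self w hw] at e7
    have e8 : ε * ph w (x + x') = 0 := by linear_combination e7 - h2
    rcases mul_eq_zero.1 e8 with h9 | h9
    · exact hε0 h9
    · exact hwa ((h.psi_iff hF hx hx' hw).1 h9)
  have e5 : ph w' v = ph w v := by
    rw [h.inv hF hw'D hv, e1, map_add, map_smul, hva, smul_zero, add_zero, ← h.inv hF hw hv]
  refine ⟨(l + 1) * ph w v * ε, mul_ne_zero (mul_ne_zero hl1' hwv) hε0, ?_⟩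
  have h5 := h.mem _ hw'D l hl _ (h.mem w hw l hl v hv)
  have e6 : hh ph w' l (hh ph w l v) = v + ((l + 1) * ph w v * ε) • (x + x') := by
    have e7 : hh ph w' l (hh ph w l v) = hh ph w l v + ((l + 1) * ph w' (hh ph w l v)) • w' := rfl
    rw [e7, ph_hh, e3, e4, mul_zero, add_zero, e5]
    unfold hh
    rw [e1]
    match_scalars
    · ring
    · linear_combination ((l + 1) * ph w v) * h2
    · ring
    · ring
  rwa [e6] at h5

/-! ### components -/

/-- the graph on `D` -/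
def Adj (D : Set C) (ph : C → C →ₗ[F] F) (u v : D) : Prop := ph (u : C) (v : C) ≠ 0

/-- the component -/
def Cmp (D : Set C) (ph : C → C →ₗ[F] F) (u v : D) : Prop := Relation.ReflTransGen (Adj D ph) u v

theorem adj_symm (hF : ∃ a : F, a ≠ 0 ∧ a ≠ 1) {u v : D} (huv : Adj D ph u v) : Adj D ph v u :=
  h.ph_ne hF u.2 v.2 huv

theorem cmp_symm (hF : ∃ a : F, a ≠ 0 ∧ a ≠ 1) {u v : D} (huv : Cmp D ph u v) : Cmp D ph v u := by
  induction huv with
  | refl => exact Relation.ReflTransGen.refl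
  | tail _ h2 ih => exact Relation.ReflTransGen.head (h.adj_symm hF h2) ih

/-- the component as a setoid -/
def std (hF : ∃ a : F, a ≠ 0 ∧ a ≠ 1) : Setoid D where
  r := Cmp D ph
  iseqv := ⟨fun _ => Relation.ReflTransGen.refl, fun e => h.cmp_symm hF e, fun e e' => e.trans e'⟩

theorem cmp_hh (hF : ∃ a : F, a ≠ 0 ∧ a ≠ 1) {u v : D} (huv : Cmp D ph u v) {d : C} (hd : d ∈ D) {μ : F}
    (hμ : μ ≠ 0) : Cmp D ph u ⟨hh ph d μ v, h.mem d hd μ hμ v v.2⟩ :=
  huv.tail (h.ph_hh_ne hF hd v.2 hμ)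

theorem cmp_tau (hF : ∃ a : F, a ≠ 0 ∧ a ≠ 1) {u v : D} (huv : Cmp D ph u v) {x x' : C} (hx : x ∈ D)
    (hx' : x' ∈ D) {l : F} (hl : l ≠ 0) : Cmp D ph u ⟨tau ph x x' l v, h.tau_mem hx hx' hl v.2⟩ :=
  h.cmp_hh hF (h.cmp_hh hF (h.cmp_hh hF (h.cmp_hh hF huv hx hl) hx' (inv_ne_zero hl)) hx hl) hx'
    (inv_ne_zero hl)

/-- in the component of `x`, `ψ(v) = 0` implies `v ∈ Λ_a` -/
theorem cmp_all (hF : ∃ a : F, a ≠ 0 ∧ a ≠ 1) {x x' : C} (hx : x ∈ D) (hx' : x' ∈ D) (h1 : ph x x' = 1)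
    {v : D} (hv : Cmp D ph ⟨x, hx⟩ v) (hv0 : ph x (v : C) + ph x' (v : C) = 0) (γ : F) :
    (v : C) + γ • (x + x') ∈ D := by
  have h2 := two0 F
  have h1' : ph x' x = 1 := by rw [h.inv hF hx' hx, h1, inv_one]
  suffices H : ph x (v : C) + ph x' (v : C) = 0 → ∃ β : F, β ≠ 0 ∧ (v : C) + β • (x + x') ∈ D by
    obtain ⟨β, hβ, hb⟩ := H hv0
    exact h.all hF v.2 ((h.psi_iff hF hx hx' v.2).2 hv0) hβ hb γ
  induction hv with
  | refl =>
    intro _
    refine ⟨1, one_ne_zero, ?_⟩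
    change x + (1 : F) • (x + x') ∈ D
    rw [one_smul, ← add_assoc, smul2 F, zero_add]
    exact hx'
  | @tail u v hu huv ih =>
    intro hv0
    have hva := (h.psi_iff hF hx hx' v.2).2 hv0
    by_cases hu0 : ph x (u : C) + ph x' (u : C) = 0
    · obtain ⟨β, hβ, hb⟩ := ih hu0 hu0
      have hua := (h.psi_iff hF hx hx' u.2).2 hu0
      have hb1 := h.all hF u.2 hua hβ hb 1
      rw [one_smul] at hb1
      exact h.step1 hF v.2 hva u.2 hua hb1 huv
    · exact h.step2 hF hx hx' h1 v.2 hva u.2 hu0 huv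

omit h [CharP F 2] [Field F] [AddCommGroup C] [Module F C] in
theorem end_sq {X : Type*} (t : Function.End X) (ht : ∀ v, t (t v) = v) : t ^ 2 ^ 1 = 1 := by
  rw [pow_one, pow_two]
  funext v
  exact ht v

/-- the component of `x` has even order -/
theorem even_cmp (hF : ∃ a : F, a ≠ 0 ∧ a ≠ 1) [Finite D] {x x' : C} (hx : x ∈ D) (hx' : x' ∈ D)
    (h1 : ph x x' = 1) (hne : x ≠ x') : Even (Nat.card {v : D // Cmp D ph ⟨x, hx⟩ v}) := by
  classical
  have h2 := two0 F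
  obtain ⟨l, hl, hl1⟩ := hF
  have hF : ∃ a : F, a ≠ 0 ∧ a ≠ 1 := ⟨l, hl, hl1⟩
  have h1' : ph x' x = 1 := by rw [h.inv hF hx' hx, h1, inv_one]
  have hκ : l + l⁻¹ ≠ 0 := by
    intro h0
    have h3 : l * l⁻¹ = 1 := mul_inv_cancel₀ hl
    have h4 : (l + 1) * (l + 1) = 0 := by linear_combination l * h0 - h3 + l * h2
    have h5 := mul_self_eq_zero.1 h4
    apply hl1
    linear_combination h5 - h2
  have ha0 : x + x' ≠ 0 := by
    intro h0
    apply hne
    have h3 := smul2 F x'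
    have h4 : x + x' + x' = x' := by rw [h0, zero_add]
    rwa [add_assoc, h3, add_zero] at h4
  have hpa : ∀ (v : C) (γ : F), ph x (v + γ • (x + x')) + ph x' (v + γ • (x + x')) = ph x v + ph x' v := by
    intro v γ
    simp only [map_add, map_smul, smul_eq_mul, h.self x hx, h.self x' hx', h1, h1']
    linear_combination (2 * γ) * h2
  -- the involution
  let th : {v : D // Cmp D ph ⟨x, hx⟩ v} → {v : D // Cmp D ph ⟨x, hx⟩ v} := fun v =>
    if hv : ph x (v : C) + ph x' (v : C) = 0 then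
      ⟨⟨(v : C) + (1 : F) • (x + x'), h.cmp_all hF hx hx' h1 v.2 hv 1⟩, v.2.tail (by
        change ph (v : C) ((v : C) + (1 : F) • (x + x')) ≠ 0
        rw [map_add, map_smul, h.self _ v.1.2, (h.psi_iff hF hx hx' v.1.2).2 hv, smul_zero, add_zero]
        exact one_ne_zero)⟩
    else ⟨⟨tau ph x x' l v, h.tau_mem hx hx' hl v.1.2⟩, h.cmp_tau hF v.2 hx hx' hl⟩
  have hth1 : ∀ v : {v : D // Cmp D ph ⟨x, hx⟩ v}, ph x (v : C) + ph x' (v : C) = 0 →
      ((th v : D) : C) = (v : C) + (1 : F) • (x + x') := by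
    intro v hv
    simp only [th, dif_pos hv]
  have hth2 : ∀ v : {v : D // Cmp D ph ⟨x, hx⟩ v}, ph x (v : C) + ph x' (v : C) ≠ 0 →
      ((th v : D) : C) = (v : C) + ((l + l⁻¹) * (ph x (v : C) + ph x' (v : C))) • (x + x') := by
    intro v hv
    simp only [th, dif_neg hv]
    exact h.tau_eq hx hx' h1 h1' hl v
  have hinv : ∀ v, th (th v) = v := by
    intro v
    apply Subtype.ext
    apply Subtype.ext
    by_cases hv : ph x (v : C) + ph x' (v : C) = 0
    · have e1 := hth1 v hv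
      have e2 : ph x ((th v : D) : C) + ph x' ((th v : D) : C) = 0 := by rw [e1, hpa]; exact hv
      rw [hth1 _ e2, e1, add_assoc, smul2 F, add_zero]
    · have e1 := hth2 v hv
      have e2 : ph x ((th v : D) : C) + ph x' ((th v : D) : C) = ph x (v : C) + ph x' (v : C) := by
        rw [e1, hpa]
      rw [hth2 _ (e2 ▸ hv), e2, e1, add_assoc, smul2 F, add_zero]
  have hfix : ∀ v, th v ≠ v := by
    intro v hv0
    have hv0' : ((th v : D) : C) = (v : C) := by rw [hv0]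
    by_cases hv : ph x (v : C) + ph x' (v : C) = 0
    · rw [hth1 v hv, one_smul] at hv0'
      exact ha0 (add_eq_left.1 hv0')
    · rw [hth2 v hv] at hv0'
      rcases smul_eq_zero.1 (add_eq_left.1 hv0') with h3 | h3
      · exact mul_ne_zero hκ hv h3
      · exact ha0 h3
  have := Fintype.ofFinite {v : D // Cmp D ph ⟨x, hx⟩ v}
  rw [Nat.card_eq_fintype_card]
  have : Fact (Nat.Prime 2) := ⟨Nat.prime_two⟩
  have h3 := Equiv.Perm.card_fixedPoints_modEq (p := 2) (n := 1) (f := th) (end_sq _ hinv)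
  have h4 : Fintype.card (Function.fixedPoints th) = 0 := by
    rw [Fintype.card_eq_zero_iff]
    exact ⟨fun v => hfix v.1 v.2⟩
  rw [h4] at h3
  exact even_iff_two_dvd.2 (Nat.modEq_zero_iff_dvd.1 h3)

/-- **LEMMA HOM** -/
theorem perp (hF : ∃ a : F, a ≠ 0 ∧ a ≠ 1) [Finite D] (hodd : Odd (Nat.card D))
    (htr : ∀ x y : D, ∃ g : D ≃ D, (∀ u v : D, ph (g u : C) (g v : C) = 0 ↔ ph (u : C) (v : C) = 0) ∧ g x = y)
    {d y : C} (hd : d ∈ D) (hy : y ∈ D) (hn : ∀ c : F, y ≠ c • d) : ph d y = 0 := by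
  classical
  by_contra hc
  -- normalise
  have hx' : (ph d y)⁻¹ • y ∈ D := h.smul y hy _ (inv_ne_zero hc)
  have h1 : ph d ((ph d y)⁻¹ • y) = 1 := by rw [map_smul, smul_eq_mul, inv_mul_cancel₀ hc]
  have hne : d ≠ (ph d y)⁻¹ • y := by
    intro e
    apply hn (ph d y)
    rw [e, smul_smul]
    rw [← e, mul_inv_cancel₀ hc, one_smul]
  have hev := h.even_cmp hF hd hx' h1 hne
  -- every component has even order
  have hall : ∀ u : D, Even (Nat.card {v : D // Cmp D ph u v}) := by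
    intro u
    obtain ⟨g, hg, hgu⟩ := htr ⟨d, hd⟩ u
    have hmap : ∀ {u v : D}, Cmp D ph u v → Cmp D ph (g u) (g v) := by
      intro u v huv
      induction huv with
      | refl => exact Relation.ReflTransGen.refl
      | tail _ h2 ih => exact ih.tail (fun h0 => h2 ((hg _ _).1 h0))
    have hmap' : ∀ {u v : D}, Cmp D ph (g u) (g v) → Cmp D ph u v := by
      have key : ∀ {u v : D}, Cmp D ph u v → Cmp D ph (g.symm u) (g.symm v) := by
        intro u v huv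
        induction huv with
        | refl => exact Relation.ReflTransGen.refl
        | @tail b c _ h2 ih =>
          refine ih.tail (fun h0 => h2 ?_)
          have := (hg (g.symm b) (g.symm c)).2 h0
          rwa [g.apply_symm_apply, g.apply_symm_apply] at this
      intro u v huv
      have := key huv
      rwa [g.symm_apply_apply, g.symm_apply_apply] at this
    have e : Nat.card {v : D // Cmp D ph ⟨d, hd⟩ v} = Nat.card {v : D // Cmp D ph u v} := by
      apply Nat.card_congr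
      refine g.subtypeEquiv fun v => ?_
      rw [← hgu]
      exact ⟨hmap, hmap'⟩
    rw [← e]
    exact hev
  -- count
  have := Fintype.ofFinite D
  let s : Setoid D := h.std hF
  have e1 : Nat.card D = ∑ q : Quotient s, Nat.card {v : D // Quotient.mk s v = q} := by
    rw [← Nat.card_sigma]
    exact Nat.card_congr (Equiv.sigmaFiberEquiv (Quotient.mk s)).symm
  have e2 : Even (Nat.card D) := by
    rw [e1]
    refine Finset.even_sum _ fun q _ => ?_
    obtain ⟨u, rfl⟩ := Quotient.exists_rep q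
    have e3 : Nat.card {v : D // Quotient.mk s v = Quotient.mk s u} = Nat.card {v : D // Cmp D ph u v} := by
      refine Nat.card_congr (Equiv.subtypeEquivRight fun v => ?_)
      rw [Quotient.eq]
      exact ⟨fun k => h.cmp_symm hF k, fun k => h.cmp_symm hF k⟩
    rw [e3]
    exact hall u
  exact (Nat.not_even_iff_odd.2 hodd) e2

end HomSys

end Cfsg.Agent.Omega.Lie.HomLem

end

section


/-!
# THEOREM FIX (#15651), elements of `N(R i)` acting on `M = W i / R i` and on `V`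

`h : FMod ..`, `e₁ = p (v 0 1)`.
* `norm_V` : `g e₁ ∈ F e₁` implies `g ∈ N(V)`;
* `act_fix` : `g ∈ C(R i)`, `g e₁ = e₁` implies `g v(β, γ) g⁻¹ = v(β + ξ γ, γ)` (`F`-linear);
* `act_X` : `x ∈ X ∩ N(R i)` acts on `M` as `u t(a)`, `u ∈ U j`;
* `comm_V` : the KEY of step (3): `[u, x]` centralises `V ^ g`.
-/

set_option autoImplicit false
set_option linter.unusedSectionVars false

namespace Cfsg.Agent.Omega.Lie.Fix

open Subgroup Cfsg.Agent.Omega.BTwo Cfsg.Agent.Lib.SL2Mat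

universe u v w

variable {G : Type u} [Group G] {ι : Type w} {V : Subgroup G} {R : ι → Subgroup G} {i j : ι}

theorem conj_comm (g u x : G) : g * u * g⁻¹ * (g * x * g⁻¹) * (g * u * g⁻¹)⁻¹ * (g * x * g⁻¹)⁻¹ =
    g * (u * x * u⁻¹ * x⁻¹) * g⁻¹ := by group

variable {F : Type v} [Field F] [CharP F 2] {v : F → F → G} {w1 w2 : F → G}
variable {M B : Type u} [AddCommGroup M] [AddCommGroup B] [DistribMulAction (NR R i) M]
  [DistribMulAction (NR R i) B] [Module F M] {p : G → M} {r : G → B} {f : M →+ M →+ B}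
  {φ : M →ₗ[F] M →ₗ[F] F} {s : NR R i → (F ≃+* F)}
variable (h : FMod V R i j v w1 w2 M B p r f φ s)
include h

theorem p_v0 (γ : F) : p (v 0 γ) = γ • p (v 0 1) := h.p_v 0 γ

/-- conjugation on `R i` -/
theorem conj_v0 (g : NR R i) (β : F) :
    (g : G) * v β 0 * (g : G)⁻¹ = v (h.fr.sg h.co h.bt g β) 0 := by
  have h1 := h.fr.bF_sg h.co h.bt g β
  rw [h.fr.bF_apply h.co h.bt, h.fr.bF_apply h.co h.bt, h.fr.r_act g _ (h.fr.v0_mem h.co h.bt β)] at h1
  exact (h.fr.r_inj (h.fr.v0_mem h.co h.bt _)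
    (conj_mem_of_normalizer g.2 (h.fr.v0_mem h.co h.bt β)) h1).symm

/-- an element stabilising `e` normalises `V` -/
theorem norm_V [Finite G] {g : NR R i} {c : F} (hg : g • p (v 0 1) = c • p (v 0 1)) :
    (g : G) ∈ normalizer (V : Set G) := by
  have hVW := V_le_WW V (R i)
  refine mem_normalizer_of_conj fun x hx => ?_
  have h0 : p x ∈ h.fr.sb V := h.fr.p_mem (hVW hx) hx
  have h1 : g • p x ∈ h.fr.sb V := by
    obtain ⟨γ, hγ⟩ := h.mem_V.1 h0
    rw [← hγ, h.semi, hg, smul_smul]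
    exact h.mem_V.2 ⟨_, rfl⟩
  rw [h.fr.p_act g x (hVW hx)] at h1
  exact (h.fr.p_mem_iff (conj_mem_of_normalizer (normalizer_le_WW V (R i) g.2) (hVW hx)) (h.bt.R_le i)).1 h1

/-- `g e₁ = c e₁`, `g` linear: the action of `g` on `v 0 γ` -/
theorem conj_v {g : NR R i} {c : F} (hg : g • p (v 0 1) = c • p (v 0 1)) (hl : ∀ (l : F) (a : M), g • (l • a) = l • (g • a))
    (γ : F) : ∃ ζ : F, (g : G) * v 0 γ * (g : G)⁻¹ = v ζ (c * γ) := by
  have hW := h.fr.v_mem_W h.co h.bt 0 γ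
  have hW' := h.fr.v_mem_W h.co h.bt 0 (c * γ)
  have h1 : p ((g : G) * v 0 γ * (g : G)⁻¹) = p (v 0 (c * γ)) := by
    rw [← h.fr.p_act g _ hW, p_v0 h γ, p_v0 h (c * γ), hl, hg, smul_smul, mul_comm]
  rw [h.fr.p_eq_iff (conj_mem_of_normalizer (normalizer_le_WW V (R i) g.2) hW) hW'] at h1
  obtain ⟨ζ, hζ⟩ := (h.co.mem_R1 _).1 h1
  refine ⟨ζ, ?_⟩
  have h2 := h.co.v_add ζ 0 0 (c * γ)
  rw [add_zero, zero_add] at h2
  rw [h2, hζ]
  group

/-- `g ∈ C(R i)` trivial on `e` acts on `V` as an `F`-linear transvection -/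
theorem act_fix [Finite G] {g : NR R i} (hg : (g : G) ∈ centralizer (R i : Set G)) (he : g • p (v 0 1) = p (v 0 1)) :
    ∃ ξ : F, ∀ β γ, (g : G) * v β γ * (g : G)⁻¹ = v (β + ξ * γ) γ := by
  have he' : g • p (v 0 1) = (1 : F) • p (v 0 1) := by rw [one_smul]; exact he
  have hgV := norm_V h he'
  choose z hz using conj_v h he' (h.lin_cen hg)
  have hz' : ∀ β γ, (g : G) * v β γ * (g : G)⁻¹ = v (β + z γ) γ := by
    intro β γ
    have h1 := h.co.v_add β 0 0 γ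
    rw [add_zero, zero_add] at h1
    have h2 := h.co.v_add β 0 (z γ) γ
    rw [zero_add] at h2
    have h3 : (g : G) * v β 0 * (g : G)⁻¹ = v β 0 := by
      have h4 := h.cen_aux hg β
      rwa [one_mul] at h4
    have h5 := hz γ
    rw [one_mul] at h5
    calc (g : G) * v β γ * (g : G)⁻¹ = ((g : G) * v β 0 * (g : G)⁻¹) * ((g : G) * v 0 γ * (g : G)⁻¹) := by
          rw [h1]; group
      _ = v (β + z γ) γ := by rw [h3, h5, h2]
  -- `x = g w2(1) g⁻¹`
  have hx : (g : G) * w2 1 * (g : G)⁻¹ ∈ XX V R :=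
    conj_mem_of_normalizer (h.bt.NV_le_NX hgV) (W_le_X V R j (h.co.w2_mem 1))
  obtain ⟨A, hA⟩ := h.co.exists_actV h.bt hx
  have key : ∀ β γ, v (ent A 0 0 * (β + z γ) + ent A 0 1 * γ) (ent A 1 0 * (β + z γ) + ent A 1 1 * γ) =
      v (β + z (γ + β)) (γ + β) := by
    intro β γ
    rw [← hA, ← hz', ← hz']
    have h1 := h.co.w2_act 1 β γ
    rw [one_mul] at h1
    rw [← h1]
    group
  have h10 : ent A 1 0 = 1 := by
    have h0 : z 0 = 0 := by
      have h1 := hz 0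
      have h2 := h.co.v_add 0 0 0 0
      rw [add_zero] at h2
      have h3 : v 0 0 = 1 := left_eq_mul.1 h2
      rw [h3, mul_one, mul_inv_cancel, mul_zero] at h1
      exact (h.co.v_one _ _ h1.symm).1
    have h1 := (h.co.v_inj (key 1 0)).2
    rw [h0, add_zero, zero_add, mul_one, mul_zero, add_zero] at h1
    exact h1
  refine ⟨1 - ent A 1 1, fun β γ => ?_⟩
  rw [hz']
  congr 2
  have h1 := (h.co.v_inj (key 0 γ)).2
  rw [h10, zero_add, one_mul, add_zero] at h1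
  linear_combination h1

/-- such an element is in `C(V) W i` -/
theorem mem_sup [Finite G] {g : NR R i} (hg : (g : G) ∈ centralizer (R i : Set G))
    (he : g • p (v 0 1) = p (v 0 1)) : (g : G) ∈ centralizer (V : Set G) ⊔ WW V (R i) := by
  obtain ⟨ξ, hξ⟩ := act_fix h hg he
  have h1 : (w1 ξ)⁻¹ * (g : G) ∈ centralizer (V : Set G) := by
    rw [mem_centralizer_iff]
    intro z hz
    obtain ⟨β, γ, rfl⟩ := (h.co.mem_V z).1 hz
    have h2 := hξ β γ
    rw [← h.co.w1_act] at h2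
    calc v β γ * ((w1 ξ)⁻¹ * (g : G)) = (w1 ξ)⁻¹ * (w1 ξ * v β γ * (w1 ξ)⁻¹) * (g : G) := by group
      _ = (w1 ξ)⁻¹ * (g : G) * v β γ := by rw [← h2]; group
  have e : (g : G) = w1 ξ * ((w1 ξ)⁻¹ * (g : G)) := by group
  rw [e]
  exact mul_mem (mem_sup_right (h.co.w1_mem ξ)) (mem_sup_left h1)

/-- an element of `X ∩ N(R i)` acts on `M` as an element of `U j T` -/
theorem act_X [Finite G] [Finite F] {t : F → G} (τ : TorD V R i j v t) {x : NR R i} (hx : (x : G) ∈ XX V R) :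
    ∃ (a : Fˣ) (u : NR R i), (u : G) ∈ UU V R j ∧ ∀ m : M, x • m = u • tT τ a • m := by
  obtain ⟨N, _, _, P1, P2, y⟩ := h.co.exists_yPair h.bt
  obtain ⟨A, hA⟩ := h.co.exists_actV h.bt hx
  have h10 : ent A 1 0 = 0 := by
    have h1 := hA 1 0
    have h2 : (x : G) * v 1 0 * (x : G)⁻¹ ∈ R i := conj_mem_of_normalizer x.2 (h.fr.v0_mem h.co h.bt 1)
    obtain ⟨d, hd⟩ := (h.co.mem_R1 _).1 h2
    rw [← hd] at h1
    have h3 := (h.co.v_inj h1).2
    rw [mul_one, mul_zero, add_zero] at h3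
    exact h3.symm
  have hdet := det_eq A
  rw [h10, mul_zero, sub_zero] at hdet
  have h00 : ent A 0 0 ≠ 0 := left_ne_zero_of_mul_eq_one hdet
  have h11 : ent A 1 1 = (ent A 0 0)⁻¹ := (inv_eq_of_mul_eq_one_right hdet).symm
  set a := Units.mk0 _ h00 with ha
  -- `z = w1(..)⁻¹ x t(a)⁻¹ ∈ Y`
  set ξ := ent A 0 1 * ent A 0 0 with hξ
  have hz : (w1 ξ)⁻¹ * (x : G) * (t a)⁻¹ ∈ YY V R := by
    rw [← y.cen_X_V h.co h.btc, mem_inf]
    refine ⟨mul_mem (mul_mem (inv_mem (W_le_X V R i (h.co.w1_mem ξ))) hx) (inv_mem (τ.memX a a.ne_zero)), ?_⟩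
    rw [mem_centralizer_iff]
    intro z hz
    obtain ⟨β, γ, rfl⟩ := (h.co.mem_V z).1 hz
    -- `t a * v (a⁻¹ β) (a γ) * (t a)⁻¹ = v β γ`
    have k1 := τ.act a ((a : F)⁻¹ * β) (a * γ) a.ne_zero
    rw [mul_inv_cancel_left₀ a.ne_zero, inv_mul_cancel_left₀ a.ne_zero] at k1
    have k2 := hA ((a : F)⁻¹ * β) (a * γ)
    have e1 : ent A 0 0 * ((a : F)⁻¹ * β) + ent A 0 1 * (a * γ) = β + ξ * γ := by
      rw [hξ, ha]
      change ent A 0 0 * ((ent A 0 0)⁻¹ * β) + ent A 0 1 * (ent A 0 0 * γ) = _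
      rw [mul_inv_cancel_left₀ h00]
      ring
    have e2 : ent A 1 0 * ((a : F)⁻¹ * β) + ent A 1 1 * (a * γ) = γ := by
      rw [h10, h11, ha]
      change 0 * ((ent A 0 0)⁻¹ * β) + (ent A 0 0)⁻¹ * (ent A 0 0 * γ) = _
      rw [inv_mul_cancel_left₀ h00, zero_mul, zero_add]
    rw [e1, e2, ← h.co.w1_act ξ β γ] at k2
    calc v β γ * ((w1 ξ)⁻¹ * (x : G) * (t a)⁻¹)
        = (w1 ξ)⁻¹ * (w1 ξ * v β γ * (w1 ξ)⁻¹) * (x : G) * (t a)⁻¹ := by group
      _ = (w1 ξ)⁻¹ * (x : G) * (t a)⁻¹ * (t a * v ((a : F)⁻¹ * β) (a * γ) * (t a)⁻¹) := by rw [← k2]; group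
      _ = (w1 ξ)⁻¹ * (x : G) * (t a)⁻¹ * v β γ := by rw [k1]
  obtain ⟨x1, hx1, y1, hy1, e⟩ := h.bt.exists_mul_Y h.co.ne hz
  have hx1N := h.bt.W_le_N i (UU_le_WW i hx1)
  have hw1N := h.bt.W_le_N i (h.co.w1_mem ξ)
  refine ⟨a, ⟨y1, h.bt.cen_le_N i (UU_le_cen j hy1)⟩, hy1, fun m => ?_⟩
  have e2 : x = (⟨w1 ξ, hw1N⟩ : NR R i) * (⟨x1, hx1N⟩ * (⟨y1, h.bt.cen_le_N i (UU_le_cen j hy1)⟩ * tT τ a)) := by
    apply Subtype.ext
    change (x : G) = w1 ξ * (x1 * (y1 * t a))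
    calc (x : G) = w1 ξ * ((w1 ξ)⁻¹ * (x : G) * (t a)⁻¹) * t a := by group
      _ = w1 ξ * (x1 * (y1 * t a)) := by rw [e]; group
  rw [e2, mul_smul, mul_smul, mul_smul, h.fr.W_act h.bt (h.co.w1_mem ξ), h.fr.W_act h.bt (UU_le_WW i hx1)]

/-- **KEY of step (3)** : `x ∈ N(R i)` acts on `R i` and on `F (g e₁)` as the scalar `α`, `u ∈ C(R i)` fixes `g e₁`;
then `[u, x]` centralises `V ^ g` -/
theorem comm_V [Finite G] {g x u : NR R i} {α : F} (hα : α ≠ 0)
    (hx : ∀ β, (x : G) * v β 0 * (x : G)⁻¹ = v (α * β) 0) (hxe : x • g • p (v 0 1) = α • g • p (v 0 1))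
    (hu : (u : G) ∈ centralizer (R i : Set G)) (hue : u • g • p (v 0 1) = g • p (v 0 1)) {z : G} (hz : z ∈ V) :
    ((u : G) * x * (u : G)⁻¹ * (x : G)⁻¹) * ((g : G) * z * (g : G)⁻¹) =
      ((g : G) * z * (g : G)⁻¹) * ((u : G) * x * (u : G)⁻¹ * (x : G)⁻¹) := by
  -- conjugates
  set u' : NR R i := g⁻¹ * u * g with hu'
  set x' : NR R i := g⁻¹ * x * g with hx'
  have hu'c : (u' : G) ∈ centralizer (R i : Set G) := by
    have h1 : (g : G)⁻¹ * u * (g : G)⁻¹⁻¹ ∈ centralizer (R i : Set G) :=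
      conj_mem_of_normalizer (normalizer_le_normalizer_centralizer _ (inv_mem g.2)) hu
    rwa [inv_inv] at h1
  have hu'e : u' • p (v 0 1) = p (v 0 1) := by
    rw [hu', mul_smul, mul_smul, hue, inv_smul_smul]
  obtain ⟨ξ, hξ⟩ := act_fix h hu'c hu'e
  set α' := s g⁻¹ α with hα'
  have hα'0 : α' ≠ 0 := by
    rw [hα']
    exact fun h0 => hα ((map_eq_zero_iff _ (s g⁻¹).injective).1 h0)
  have hx'0 : ∀ β, (x' : G) * v β 0 * (x' : G)⁻¹ = v (α' * β) 0 := by
    intro β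
    rw [conj_v0 h, hx', h.fr.sg_mul, h.fr.sg_mul]
    have h1 : ∀ γ, h.fr.sg h.co h.bt x γ = α * γ := fun γ => by
      have h2 := conj_v0 h x γ
      rw [hx] at h2
      exact (h.co.v_inj h2).1.symm
    rw [h1, h.semi_B, ← h.fr.sg_mul, inv_mul_cancel, h.fr.sg_one]
  have hx'e : x' • p (v 0 1) = α' • p (v 0 1) := by
    rw [hx', mul_smul, mul_smul, hxe, h.semi, inv_smul_smul]
  choose ζ hζ using conj_v h hx'e (h.lin hα'0 hx'0)
  -- the two products agree on `V`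
  have key : ∀ z ∈ V, (u' : G) * (x' : G) * z * ((u' : G) * (x' : G))⁻¹ =
      (x' : G) * (u' : G) * z * ((x' : G) * (u' : G))⁻¹ := by
    intro z hz
    obtain ⟨β, γ, rfl⟩ := (h.co.mem_V z).1 hz
    have h0 : ∀ β γ, v β γ = v β 0 * v 0 γ := fun β γ => by
      rw [← h.co.v_add, add_zero, zero_add]
    have hxx : ∀ β γ, (x' : G) * v β γ * (x' : G)⁻¹ = v (α' * β + ζ γ) (α' * γ) := by
      intro β γ
      have h1 := h.co.v_add (α' * β) 0 (ζ γ) (α' * γ)
      rw [zero_add] at h1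
      rw [h1, ← hx'0, ← hζ, h0 β γ]
      group
    have e1 : (u' : G) * (x' : G) * v β γ * ((u' : G) * (x' : G))⁻¹ =
        (u' : G) * ((x' : G) * v β γ * (x' : G)⁻¹) * (u' : G)⁻¹ := by group
    have e2 : (x' : G) * (u' : G) * v β γ * ((x' : G) * (u' : G))⁻¹ =
        (x' : G) * ((u' : G) * v β γ * (u' : G)⁻¹) * (x' : G)⁻¹ := by group
    rw [e1, e2, hxx, hξ, hξ, hxx]
    congr 1
    ring
  have e1 : (u : G) = (g : G) * u' * (g : G)⁻¹ := by
    change (u : G) = (g : G) * ((g : G)⁻¹ * u * g) * (g : G)⁻¹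
    group
  have e2 : (x : G) = (g : G) * x' * (g : G)⁻¹ := by
    change (x : G) = (g : G) * ((g : G)⁻¹ * x * g) * (g : G)⁻¹
    group
  have hz2 := key ((x' : G)⁻¹ * (u' : G)⁻¹ * z * ((x' : G)⁻¹ * (u' : G)⁻¹)⁻¹) (by
    have hN : (x' : G)⁻¹ * (u' : G)⁻¹ ∈ normalizer (V : Set G) :=
      mul_mem (inv_mem (norm_V h hx'e)) (inv_mem (norm_V h (c := 1) (by rw [one_smul]; exact hu'e)))
    exact conj_mem_of_normalizer hN hz)
  have e3 : (u' : G) * (x' : G) * ((x' : G)⁻¹ * (u' : G)⁻¹ * z * ((x' : G)⁻¹ * (u' : G)⁻¹)⁻¹) *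
      ((u' : G) * (x' : G))⁻¹ = z := by group
  rw [e3] at hz2
  -- `z = [x', u'] z [x', u']⁻¹`
  have e4 : (u' : G) * x' * (u' : G)⁻¹ * (x' : G)⁻¹ * z =
      z * ((u' : G) * x' * (u' : G)⁻¹ * (x' : G)⁻¹) := by
    have e5 : (x' : G) * (u' : G) * ((x' : G)⁻¹ * (u' : G)⁻¹ * z * ((x' : G)⁻¹ * (u' : G)⁻¹)⁻¹) *
        ((x' : G) * (u' : G))⁻¹ =
        ((u' : G) * x' * (u' : G)⁻¹ * (x' : G)⁻¹)⁻¹ * z * ((u' : G) * x' * (u' : G)⁻¹ * (x' : G)⁻¹) := by
      group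
    rw [e5] at hz2
    nth_rw 1 [hz2]
    group
  rw [e1, e2]
  rw [conj_comm]
  calc (g : G) * ((u' : G) * x' * (u' : G)⁻¹ * (x' : G)⁻¹) * (g : G)⁻¹ * ((g : G) * z * (g : G)⁻¹)
      = (g : G) * ((u' : G) * x' * (u' : G)⁻¹ * (x' : G)⁻¹ * z) * (g : G)⁻¹ := by group
    _ = (g : G) * (z * ((u' : G) * x' * (u' : G)⁻¹ * (x' : G)⁻¹)) * (g : G)⁻¹ := by rw [e4]
    _ = _ := by group

end Cfsg.Agent.Omega.Lie.Fix

end
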