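import Cfsg.Agent.Mrg.Omega.Lie.QMod
import Cfsg.Agent.Mrg.Omega.BTwo.SemiBasic

section


/-!
# THEOREM FIX (#15651), steps (1) and (2): the system of homologies on `C_M(S ∩ N)`

`L ≤ N(R i)` (preimage of `S ∩ N`), `SN h τ L`; `CC` = `C_M(L)`; `Γ = normalizer L`.
* `dec` : `C_M(L) = e ⊕ (C_M(L) ∩ M₁)`;
* `homSys` : `D = Γ u₀` with the functionals `ph` is a `HomSys`;
* `perp` : `ph d y = 0` for non-proportional `d, y ∈ D`.
-/

set_option autoImplicit false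
set_option linter.unusedSectionVars false

namespace Cfsg.Agent.Omega.Lie.Fix

open Subgroup Cfsg.Agent.Omega.BTwo Cfsg.Agent.Lib.SL2Mat Cfsg.Agent.Omega.Lie.HomLem

universe u v w

variable {G : Type u} [Group G] {ι : Type w} {V : Subgroup G} {R : ι → Subgroup G} {i j : ι}
variable {F : Type v} [Field F] [CharP F 2] {v : F → F → G} {w1 w2 : F → G}
variable {M B : Type u} [AddCommGroup M] [AddCommGroup B] [DistribMulAction (NR R i) M]
  [DistribMulAction (NR R i) B] [Module F M] {p : G → M} {r : G → B} {f : M →+ M →+ B}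
  {φ : M →ₗ[F] M →ₗ[F] F} {s : NR R i → (F ≃+* F)}
variable (h : FMod V R i j v w1 w2 M B p r f φ s)

/-! ### the field automorphisms -/

section s
include h

theorem smul_e_inj {g : NR R i} {a c : F} (e : a • g • p (v 0 1) = c • g • p (v 0 1)) : a = c := by
  have hne : g • p (v 0 1) ≠ 0 := fun h0 => h.e_ne ((smul_eq_zero_iff_eq g).1 h0)
  have h1 : (a - c) • g • p (v 0 1) = 0 := by rw [sub_smul, e, sub_self]
  exact sub_eq_zero.1 ((smul_eq_zero.1 h1).resolve_right hne)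

theorem s_mul (g k : NR R i) (l : F) : s (g * k) l = s g (s k l) := by
  apply smul_e_inj h (g := g * k)
  rw [← h.semi, mul_smul, h.semi, h.semi, mul_smul]

theorem s_one (l : F) : s 1 l = l := by
  apply smul_e_inj h (g := 1)
  rw [← h.semi, one_smul, one_smul]

theorem s_inv (g : NR R i) (l : F) : s g (s g⁻¹ l) = l := by
  rw [← s_mul h, mul_inv_cancel, s_one h]

theorem s_inv' (g : NR R i) (l : F) : s g⁻¹ (s g l) = l := by
  rw [← s_mul h, inv_mul_cancel, s_one h]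

theorem s_T {t : F → G} (τ : TorD V R i j v t) (a : Fˣ) (l : F) : s (tT τ a) l = l :=
  (h.s_eq a.ne_zero (h.T_aux τ a) l).1

end s

/-- hypotheses on `L` = the preimage of `S ∩ N` -/
structure SN (h : FMod V R i j v w1 w2 M B p r f φ s) {t : F → G} (τ : TorD V R i j v t)
    (L Γ : Subgroup (NR R i)) : Prop where
  cen : ∀ x ∈ L, (x : G) ∈ centralizer (R i : Set G)
  fixe : ∀ x ∈ L, x • p (v 0 1) = p (v 0 1)
  A_le : ∀ u : NR R i, (u : G) ∈ UU V R j → u ∈ L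
  T_mem : ∀ a : Fˣ, tT τ a ∈ Γ
  norm : Γ ≤ normalizer (L : Set (NR R i))

variable {t : F → G} {τ : TorD V R i j v t} {L Γ : Subgroup (NR R i)}

/-- `C_M(L)` -/
def CC {h : FMod V R i j v w1 w2 M B p r f φ s} (d : SN h τ L Γ) : Submodule F M where
  carrier := {m | ∀ x ∈ L, x • m = m}
  zero_mem' := fun x _ => smul_zero _
  add_mem' := fun {m m'} hm hm' x hx => by
    have h1 := hm x hx
    have h2 := hm' x hx
    rw [smul_add, h1, h2]
  smul_mem' := fun l m hm x hx => by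
    have h1 := hm x hx
    rw [h.lin_cen (d.cen x hx), h1]

variable {h} (d : SN h τ L Γ)
include d

theorem mem_CC {m : M} : m ∈ CC d ↔ ∀ x ∈ L, x • m = m := Iff.rfl

theorem e_mem : p (v 0 1) ∈ CC d := fun x hx => d.fixe x hx

theorem smul_mem {g : NR R i} (hg : g ∈ Γ) {m : M} (hm : m ∈ CC d) :
    g • m ∈ CC d := by
  intro x hx
  have h1 : g⁻¹ * x * g ∈ L := by
    have h2 := conj_mem_of_normalizer (inv_mem (d.norm hg)) hx
    rwa [inv_inv] at h2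
  have h2 := hm _ h1
  have e : x • g • m = g • (g⁻¹ * x * g) • m := by
    rw [← mul_smul, ← mul_smul]
    congr 1
    group
  rw [e, h2]

theorem fix_A {m : M} (hm : m ∈ CC d) {u : NR R i} (hu : (u : G) ∈ UU V R j) : u • m = m := hm u (d.A_le u hu)

variable [Finite G] [Finite F]

omit d in
include h in
/-- LEMMA N, `rad = 0` -/
theorem lemN (hq : 4 ≤ Nat.card F) {u : NR R i} (hu : (u : G) ∈ UU V R j) (hD : (u : G) ∉ DD V R) (γ : F) :
    ∃ a : M, u • a - a = γ • p (v 0 1) := by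
  obtain ⟨a, z, ⟨ζ, hζ, hζW, rfl⟩, e⟩ := LemN.lemN_M h.fr h.btc h.co hq hu hD (h.mem_V.2 ⟨γ, rfl⟩)
  have h1 : p ζ = 0 := (h.fr.p_ker ζ hζW).2 (h.cenW hζ.2)
  rw [h1, add_zero, LemN.br_apply] at e
  exact ⟨a, e.symm⟩

/-- `C_M(L) ≤ e^⊥` -/
theorem CC_perp (hq : 4 ≤ Nat.card F) (hA : ∃ u ∈ UU V R j, u ∉ DD V R) {m : M} (hm : m ∈ CC d) :
    φ m (p (v 0 1)) = 0 := by
  obtain ⟨u, hu, hD⟩ := hA
  set u' : NR R i := ⟨u, h.bt.cen_le_N i (UU_le_cen j hu)⟩ with hu'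
  obtain ⟨a, ha⟩ := lemN (h := h) hq (u := u') hu hD 1
  rw [one_smul] at ha
  have hc : (u' : G) ∈ centralizer (R i : Set G) := centralizer_le (h.bt.R_le i) (UU_le_cen j hu)
  have h1 := h.phi_cen hc m a
  rw [fix_A d hm hu] at h1
  rw [← ha, map_sub, h1, sub_self]

/-- `C_M(L) = e ⊕ (C_M(L) ∩ M₁)` -/
theorem dec (hq : 4 ≤ Nat.card F) (hA : ∃ u ∈ UU V R j, u ∉ DD V R) {m : M} (hm : m ∈ CC d) :
    ∃ γ : F, ∃ z ∈ CC d, z ∈ h.M1 τ ∧ m = γ • p (v 0 1) + z := by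
  obtain ⟨N, _, _, P1, P2, y⟩ := h.co.exists_yPair h.bt
  obtain ⟨n, sf, q, E⟩ := h.exists_eig τ y
  obtain ⟨γ, z, hz, g, e⟩ := (E.mem_U m).1 (CC_perp d hq hA hm)
  obtain ⟨a, ha⟩ := h.exists_unit
  have hai : (a : F)⁻¹ - 1 ≠ 0 := fun e => ha (by rw [← inv_inv (a : F), sub_eq_zero.1 e, inv_one])
  have ha1 : (a : F) - 1 ≠ 0 := sub_ne_zero.2 ha
  have hT := smul_mem d (d.T_mem a) hm
  have hng := E.n_mem g a
  have hz1 := hz a
  have e1 : tT τ a • m = ((a : F)⁻¹ * γ) • p (v 0 1) + z + (a : F) • n g := by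
    rw [e, smul_add, smul_add, h.T_smul_e τ, hz1, hng, mul_comm]
  have hT2 := smul_mem d (d.T_mem a) hT
  have e2 : tT τ a • tT τ a • m = ((a : F)⁻¹ * ((a : F)⁻¹ * γ)) • p (v 0 1) + z + (a : F) • (a : F) • n g := by
    rw [e1, smul_add, smul_add, h.T_smul_e τ, hz1, h.T_lin τ, hng, mul_comm]
  -- `(T - a)(T - a⁻¹) m = (1 - a)(1 - a⁻¹) z`
  have h1 : tT τ a • tT τ a • m - ((a : F) + (a : F)⁻¹) • tT τ a • m + m ∈ CC d :=
    (CC d).add_mem ((CC d).sub_mem hT2 ((CC d).smul_mem _ hT)) hm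
  have h3 : (a : F) * (a : F)⁻¹ = 1 := mul_inv_cancel₀ a.ne_zero
  have e3 : tT τ a • tT τ a • m - ((a : F) + (a : F)⁻¹) • tT τ a • m + m =
      (((a : F) - 1) * ((a : F)⁻¹ - 1)) • z := by
    rw [e2, e1, e]
    match_scalars
    · linear_combination (-γ) * h3
    · linear_combination (-1 : F) * h3
    · linear_combination (-1 : F) * h3
  rw [e3] at h1
  have hzC : z ∈ CC d := by
    have h4 := (CC d).smul_mem (((a : F) - 1) * ((a : F)⁻¹ - 1))⁻¹ h1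
    rwa [smul_smul, inv_mul_cancel₀ (mul_ne_zero ha1 hai), one_smul] at h4
  -- `z = 0`
  have hz0 : z = 0 := by
    refine E.inj z hz fun g' => ?_
    obtain ⟨u, hu, hu1, hu2⟩ := y.surj 0 g'
    have huj : u ∈ UU V R j := (y.mem_U2 u hu).2 hu1
    set u' : NR R i := ⟨u, h.bt.cen_le_N i (UU_le_cen j huj)⟩ with hu'
    have h5 := E.A_0 u' huj z hz
    rw [fix_A d hzC (u := u') huj] at h5
    have h6 := h.e_smul_eq_zero (left_eq_add.1 h5)
    have h7 : P2 (u' : G) = g' := hu2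
    rwa [h7] at h6
  rw [hz0, add_zero] at e
  have hg : n g ∈ CC d := by
    have h5 : n g = m - γ • p (v 0 1) := by rw [e]; abel
    rw [h5]
    exact (CC d).sub_mem hm ((CC d).smul_mem γ (e_mem d))
  exact ⟨γ, n g, hg, E.n_mem g, e⟩

omit d in
include h τ in
theorem exists_eps {γ : F} (hγ : γ ≠ 0) : ∃ ε : M →ₗ[F] F, ε (γ • p (v 0 1)) = 1 ∧ ∀ z ∈ h.M1 τ, ε z = 0 := by
  obtain ⟨N, _, _, P1, P2, y⟩ := h.co.exists_yPair h.bt
  have hn : p (v 0 1) ∉ h.M1 τ := fun h1 => h.e_ne (h.M1_D τ y h1 (h.e_mem_D τ))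
  obtain ⟨f, hf, hf'⟩ := Submodule.exists_dual_map_eq_bot_of_notMem hn inferInstance
  refine ⟨(γ * f (p (v 0 1)))⁻¹ • f, ?_, fun z hz => ?_⟩
  · rw [LinearMap.smul_apply, map_smul, smul_eq_mul, smul_eq_mul]
    exact inv_mul_cancel₀ (mul_ne_zero hγ hf)
  · have h1 : f z ∈ (h.M1 τ).map f := ⟨z, hz, rfl⟩
    rw [hf', Submodule.mem_bot] at h1
    rw [LinearMap.smul_apply, h1, smul_zero]

/-- (K): an element of `Γ` stabilising `e` stabilises `C_M(L) ∩ M₁` -/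
theorem stab_M1 {k : NR R i} (hk : k ∈ Γ) {c : F} (hc : c ≠ 0)
    (hke : k • p (v 0 1) = c • p (v 0 1)) {z : M} (hz : z ∈ CC d) (hz1 : z ∈ h.M1 τ) : k • z ∈ h.M1 τ := by
  have hkV := norm_V h hke
  intro b
  set a : Fˣ := Units.map (s k⁻¹).toMonoidHom b with ha
  have hab : s k a = b := by
    change s k (s k⁻¹ b) = b
    exact s_inv h k b
  set x : NR R i := k * tT τ a * k⁻¹ with hx
  have hxX : (x : G) ∈ XX V R := conj_mem_of_normalizer (h.bt.NV_le_NX hkV) (τ.memX a a.ne_zero)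
  obtain ⟨a', u, hu, hxu⟩ := act_X h τ hxX
  have hxC : ∀ m ∈ CC d, x • m = tT τ a' • m := fun m hm => by
    rw [hxu, fix_A d (smul_mem d (d.T_mem a') hm) hu]
  -- `a' = b`
  have e1 : x • (c • p (v 0 1)) = (c * (b : F)⁻¹) • p (v 0 1) := by
    rw [← hke, hx, mul_smul, mul_smul, inv_smul_smul, h.T_e τ, h.semi, hke, smul_smul, map_inv₀, hab, mul_comm]
  have e2 : x • (c • p (v 0 1)) = (c * (a' : F)⁻¹) • p (v 0 1) := by
    rw [hxC _ ((CC d).smul_mem c (e_mem d)), h.T_smul_e τ]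
  have e3 : (a' : F) = b := by
    have h1 : (c * (a' : F)⁻¹ - c * (b : F)⁻¹) • p (v 0 1) = 0 := by rw [sub_smul, ← e1, ← e2, sub_self]
    have h2 := sub_eq_zero.1 (h.e_smul_eq_zero h1)
    exact inv_injective (mul_left_cancel₀ hc h2)
  have e4 : x • k • z = (b : F) • k • z := by
    rw [hx, mul_smul, mul_smul, inv_smul_smul, hz1 a, h.semi, hab]
  have e5 : a' = b := Units.ext e3
  rw [hxC _ (smul_mem d hk hz), e5] at e4
  exact e4

/-! ### the functionals -/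

omit d [Finite G] [Finite F] in
/-- the functional `x ↦ g ε (g⁻¹ x)` -/
def Fn (h : FMod V R i j v w1 w2 M B p r f φ s) (ε : M →ₗ[F] F) (g : NR R i) : M →ₗ[F] F where
  toFun x := s g (ε (g⁻¹ • x))
  map_add' x z := by rw [smul_add, map_add, map_add]
  map_smul' l x := by
    rw [h.semi, map_smul, smul_eq_mul, map_mul, s_inv h]
    rfl

omit d [Finite G] [Finite F] in
theorem Fn_apply (ε : M →ₗ[F] F) (g : NR R i) (x : M) : Fn h ε g x = s g (ε (g⁻¹ • x)) := rfl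

omit d in
/-- the orbit of `u₀` under `Γ` -/
def Dl (Γ : Subgroup (NR R i)) (u₀ : M) : Set M := {d | ∃ g ∈ Γ, g • u₀ = d}

open Classical in
omit d in
/-- the functionals -/
noncomputable def ph (h : FMod V R i j v w1 w2 M B p r f φ s) (ε : M →ₗ[F] F) (u₀ : M) (Γ : Subgroup (NR R i)) :
    M → M →ₗ[F] F :=
  fun d => if hd : ∃ g ∈ Γ, g • u₀ = d then Fn h ε hd.choose else 0

/-- the vector `u₀` and the functional `ε` -/
structure Ep (h : FMod V R i j v w1 w2 M B p r f φ s) (τ : TorD V R i j v t) (u₀ : M) (ε : M →ₗ[F] F) : Prop where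
  u0 : ∃ γ : F, γ ≠ 0 ∧ u₀ = γ • p (v 0 1)
  one : ε u₀ = 1
  zero : ∀ z ∈ h.M1 τ, ε z = 0

section ep

variable {u₀ : M} {ε : M →ₗ[F] F} (ep : Ep h τ u₀ ε) (hq : 4 ≤ Nat.card F) (hA : ∃ u ∈ UU V R j, u ∉ DD V R)
include ep

omit d [Finite G] [Finite F] in
theorem T_u (a : Fˣ) : tT τ a • u₀ = (a : F)⁻¹ • u₀ := by
  obtain ⟨γ, -, e⟩ := ep.u0
  rw [e, h.T_smul_e τ, smul_smul, mul_comm]

omit [Finite G] [Finite F] in
theorem u_mem : u₀ ∈ CC d := by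
  obtain ⟨γ, -, e⟩ := ep.u0
  rw [e]
  exact (CC d).smul_mem γ (e_mem d)

omit d [Finite G] [Finite F] in
theorem stab_u {k : NR R i} {c : F} (hc : c ≠ 0) (hk : k • u₀ = c • u₀) :
    ∃ c' : F, c' ≠ 0 ∧ k • p (v 0 1) = c' • p (v 0 1) := by
  obtain ⟨γ, hγ, e⟩ := ep.u0
  have h1 : s k γ ≠ 0 := fun h0 => hγ ((map_eq_zero_iff _ (s k).injective).1 h0)
  refine ⟨(s k γ)⁻¹ * (c * γ), mul_ne_zero (inv_ne_zero h1) (mul_ne_zero hc hγ), ?_⟩
  rw [e, h.semi, smul_smul] at hk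
  rw [mul_smul, ← hk, smul_smul, inv_mul_cancel₀ h1, one_smul]

include hq hA

theorem dec' {z : M} (hz : z ∈ CC d) : ∃ z₁ ∈ CC d, z₁ ∈ h.M1 τ ∧ z = ε z • u₀ + z₁ := by
  obtain ⟨γ, z₁, h1, h2, e⟩ := dec d hq hA hz
  obtain ⟨γ₀, hγ₀, e0⟩ := ep.u0
  refine ⟨z₁, h1, h2, ?_⟩
  have e1 : γ • p (v 0 1) = (γ * γ₀⁻¹) • u₀ := by
    rw [e0, smul_smul, mul_assoc, inv_mul_cancel₀ hγ₀, mul_one]
  have e2 : ε z = γ * γ₀⁻¹ := by
    rw [e, e1, map_add, map_smul, ep.one, ep.zero z₁ h2, smul_eq_mul, mul_one, add_zero]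
  rw [e2, ← e1]
  exact e

theorem Fn_unique {g g' : NR R i} (hg : g ∈ Γ)
    (hg' : g' ∈ Γ) (e : g • u₀ = g' • u₀) {x : M} (hx : x ∈ CC d) :
    Fn h ε g x = Fn h ε g' x := by
  set k : NR R i := g⁻¹ * g' with hk
  have hkN : k⁻¹ ∈ Γ := inv_mem (mul_mem (inv_mem hg) hg')
  have hku : k⁻¹ • u₀ = u₀ := by
    rw [inv_smul_eq_iff, hk, mul_smul, ← e, inv_smul_smul]
  obtain ⟨c', hc', hce⟩ := stab_u ep (k := k⁻¹) (c := 1) one_ne_zero (by rw [hku, one_smul])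
  have hz : g⁻¹ • x ∈ CC d := smul_mem d (inv_mem hg) hx
  obtain ⟨z₁, hz₁, hz₂, e1⟩ := dec' d ep hq hA hz
  have e2 : g'⁻¹ • x = k⁻¹ • g⁻¹ • x := by
    rw [← mul_smul, hk]
    congr 1
    group
  have e3 : ε (g'⁻¹ • x) = s k⁻¹ (ε (g⁻¹ • x)) := by
    rw [e2]
    generalize ε (g⁻¹ • x) = c at e1
    rw [e1, smul_add, h.semi, hku, map_add, ep.zero _ (stab_M1 d hkN hc' hce hz₁ hz₂), LinearMap.map_smul,
      ep.one, smul_eq_mul, mul_one, add_zero]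
  rw [Fn_apply, Fn_apply, e3, ← s_mul h]
  congr 2
  rw [hk]
  group

theorem ph_eq {g : NR R i} (hg : g ∈ Γ) {x : M} (hx : x ∈ CC d) :
    ph h ε u₀ Γ (g • u₀) x = s g (ε (g⁻¹ • x)) := by
  have hd : ∃ g' ∈ Γ, g' • u₀ = g • u₀ := ⟨g, hg, rfl⟩
  unfold ph
  rw [dif_pos hd]
  exact Fn_unique d ep hq hA hd.choose_spec.1 hg hd.choose_spec.2 hx

theorem ph_act {κ : NR R i} (hκ : κ ∈ Γ) {y : M} (hy : y ∈ Dl Γ u₀) {x : M}
    (hx : x ∈ CC d) : ph h ε u₀ Γ (κ • y) (κ • x) = s κ (ph h ε u₀ Γ y x) := by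
  obtain ⟨g, hg, rfl⟩ := hy
  rw [← mul_smul, ph_eq d ep hq hA (mul_mem hκ hg) (smul_mem d hκ hx), ph_eq d ep hq hA hg hx, ← s_mul h]
  congr 2
  rw [← mul_smul]
  congr 1
  group

omit d hq hA [Finite G] [Finite F] in
theorem act_D {κ : NR R i} (hκ : κ ∈ Γ) {y : M} (hy : y ∈ Dl Γ u₀) :
    κ • y ∈ Dl Γ u₀ := by
  obtain ⟨g, hg, rfl⟩ := hy
  exact ⟨κ * g, mul_mem hκ hg, mul_smul _ _ _⟩

omit hq hA [Finite G] [Finite F] in
theorem D_le {y : M} (hy : y ∈ Dl Γ u₀) : y ∈ CC d := by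
  obtain ⟨g, hg, rfl⟩ := hy
  exact smul_mem d hg (u_mem d ep)

omit d hq hA [Finite G] [Finite F] in
theorem exists_tor (g : NR R i) {c : F} (hc : c ≠ 0) : ∃ a : Fˣ, s g a = c := by
  refine ⟨Units.map (s g⁻¹).toMonoidHom (Units.mk0 c hc), ?_⟩
  change s g (s g⁻¹ c) = c
  exact s_inv h g c

omit hq hA [Finite G] [Finite F] in
theorem smul_D {y : M} (hy : y ∈ Dl Γ u₀) {c : F} (hc : c ≠ 0) : c • y ∈ Dl Γ u₀ := by
  obtain ⟨g, hg, rfl⟩ := hy
  obtain ⟨a, ha⟩ := exists_tor ep g (inv_ne_zero hc)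
  refine ⟨g * tT τ a, mul_mem hg (d.T_mem a), ?_⟩
  rw [mul_smul, T_u ep, h.semi, map_inv₀, ha, inv_inv]

omit d ep hq hA [Finite G] [Finite F] in
theorem tT_inv (a : Fˣ) : (tT τ a)⁻¹ = tT τ a⁻¹ := by
  rw [inv_eq_iff_mul_eq_one, ← tT_mul, mul_inv_cancel]
  exact Subtype.ext τ.one

theorem eps_T {z : M} (hz : z ∈ CC d) (a : Fˣ) : ε (tT τ a⁻¹ • z) = a * ε z := by
  obtain ⟨z₁, -, hz₂, e⟩ := dec' d ep hq hA hz
  have e2 : tT τ a⁻¹ • z = (ε z * a) • u₀ + ((a⁻¹ : Fˣ) : F) • z₁ := by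
    conv_lhs => rw [e, smul_add, h.T_lin τ, T_u ep, hz₂ a⁻¹, Units.val_inv_eq_inv_val, inv_inv, smul_smul]
    rw [Units.val_inv_eq_inv_val]
  have e3 := ep.zero _ hz₂
  have e4 := ep.one
  rw [e2]
  simp only [map_add, map_smul, smul_eq_mul, e3, e4, mul_one, mul_zero, add_zero]
  rw [mul_comm]

theorem ph_smul' {y : M} (hy : y ∈ Dl Γ u₀) {c : F} (hc : c ≠ 0) {x : M} (hx : x ∈ CC d) :
    ph h ε u₀ Γ (c • y) x = c⁻¹ * ph h ε u₀ Γ y x := by
  obtain ⟨g, hg, rfl⟩ := hy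
  obtain ⟨a, ha⟩ := exists_tor ep g (inv_ne_zero hc)
  have e1 : c • g • u₀ = (g * tT τ a) • u₀ := by
    rw [mul_smul, T_u ep, h.semi, map_inv₀, ha, inv_inv]
  rw [e1, ph_eq d ep hq hA (mul_mem hg (d.T_mem a)) hx, ph_eq d ep hq hA hg hx, s_mul h, s_T h τ, mul_inv_rev,
    mul_smul, tT_inv]
  rw [eps_T d ep hq hA (smul_mem d (inv_mem hg) hx), map_mul, ha]

/-- the homology `hh d μ` is induced by an element of `Γ` up to a scalar -/
theorem hh_eq {y : M} (hy : y ∈ Dl Γ u₀) {μ : F} (hμ : μ ≠ 0) :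
    ∃ κ ∈ Γ, ∃ ρ : F, ρ ≠ 0 ∧ (∀ l, s κ l = l) ∧
      ∀ x ∈ CC d, HomLem.hh (ph h ε u₀ Γ) y μ x = ρ⁻¹ • κ • x := by
  obtain ⟨ν, hν⟩ := FiniteField.isSquare_of_char_two (F := F) (ringChar.eq F 2 ▸ rfl : ringChar F = 2) μ
  have hν0 : ν ≠ 0 := by
    rintro rfl
    exact hμ (by rw [hν, mul_zero])
  obtain ⟨g, hg, rfl⟩ := hy
  obtain ⟨a, ha⟩ := exists_tor ep g (inv_ne_zero hν0)
  refine ⟨g * tT τ a * g⁻¹, mul_mem (mul_mem hg (d.T_mem a)) (inv_mem hg), ν⁻¹, inv_ne_zero hν0, fun l => ?_,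
    fun x hx => ?_⟩
  · rw [s_mul h, s_mul h, s_T h τ, s_inv h]
  · have hz := smul_mem d (inv_mem hg) hx
    obtain ⟨z₁, hz₁, hz₂, e⟩ := dec' d ep hq hA hz
    have h2 := two0 F
    have e1 : x = g • g⁻¹ • x := (smul_inv_smul g x).symm
    unfold HomLem.hh
    rw [ph_eq d ep hq hA hg hx, mul_smul (g * tT τ a), mul_smul g]
    have e2 : g • tT τ a • g⁻¹ • x = (ν * s g (ε (g⁻¹ • x))) • g • u₀ + ν⁻¹ • g • z₁ := by
      conv_lhs => rw [e, smul_add, h.T_lin τ, T_u ep, hz₂ a, smul_add, h.semi, h.semi, h.semi, map_inv₀, ha, inv_inv,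
        smul_smul]
      rw [mul_comm]
    have e3 : x = s g (ε (g⁻¹ • x)) • g • u₀ + g • z₁ := by
      conv_lhs => rw [e1, e, smul_add, h.semi]
    rw [e2]
    nth_rw 1 [e3]
    rw [inv_inv, hν]
    generalize s g (ε (g⁻¹ • x)) = C
    generalize g • u₀ = U
    generalize g • z₁ = Z
    have h3 : ν * ν⁻¹ = 1 := mul_inv_cancel₀ hν0
    match_scalars
    · linear_combination C * h2
    · linear_combination (-1 : F) * h3

/-- **the system of homologies** -/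
theorem homSys : HomSys (Dl Γ u₀) (ph h ε u₀ Γ) where
  smul y hy c hc := smul_D d ep hy hc
  self y hy := by
    obtain ⟨g, hg, rfl⟩ := hy
    rw [ph_eq d ep hq hA hg (smul_mem d hg (u_mem d ep)), inv_smul_smul, ep.one, map_one]
  ph_smul y hy c hc x hx := ph_smul' d ep hq hA hy hc (D_le d ep hx)
  mem y hy μ hμ x hx := by
    obtain ⟨κ, hκ, ρ, hρ, -, e⟩ := hh_eq d ep hq hA hy hμ
    rw [e x (D_le d ep hx)]
    exact smul_D d ep (act_D ep hκ hx) (inv_ne_zero hρ)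
  equi y hy μ hμ x hx z hz := by
    obtain ⟨κ, hκ, ρ, hρ, hs, e⟩ := hh_eq d ep hq hA hy hμ
    have hxC := D_le d ep hx
    have hzC := D_le d ep hz
    rw [e x hxC, e z hzC, ph_smul' d ep hq hA (act_D ep hκ hx) (inv_ne_zero hρ)
      ((CC d).smul_mem _ (smul_mem d hκ hzC)), map_smul, smul_eq_mul, inv_inv, mul_inv_cancel_left₀ hρ,
      ph_act d ep hq hA hκ hx hzC, hs]

end ep

end Cfsg.Agent.Omega.Lie.Fix

end

section


/-!
# THEOREM FIX (#15651), step (3)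

`exists_a` : for `g ∈ Γ` with `g u₀ ∈ M₁` there is `a ∈ U j` which fixes `M₁` pointwise and has
`[m, a] ∈ φ(m, e₁) g u₀ + e`; `final` : three points of `Δ` give a contradiction.
-/

set_option autoImplicit false
set_option linter.unusedSectionVars false

namespace Cfsg.Agent.Omega.Lie.Fix

open Subgroup Cfsg.Agent.Omega.BTwo Cfsg.Agent.Lib.SL2Mat Cfsg.Agent.Omega.Lie.HomLem

universe u v w

variable {G : Type u} [Group G] {ι : Type w} {V : Subgroup G} {R : ι → Subgroup G} {i j : ι}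

theorem comm_conj {n u x z : G} (e : (u * x * u⁻¹ * x⁻¹) * z = z * (u * x * u⁻¹ * x⁻¹)) :
    (n * z * n⁻¹) * ((n * u * n⁻¹) * (n * x * n⁻¹) * (n * u * n⁻¹)⁻¹ * (n * x * n⁻¹)⁻¹) =
      ((n * u * n⁻¹) * (n * x * n⁻¹) * (n * u * n⁻¹)⁻¹ * (n * x * n⁻¹)⁻¹) * (n * z * n⁻¹) := by
  rw [conj_comm]
  calc n * z * n⁻¹ * (n * (u * x * u⁻¹ * x⁻¹) * n⁻¹) = n * (z * (u * x * u⁻¹ * x⁻¹)) * n⁻¹ := by group
    _ = n * ((u * x * u⁻¹ * x⁻¹) * z) * n⁻¹ := by rw [e]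
    _ = _ := by group

variable {F : Type v} [Field F] [CharP F 2] {v : F → F → G} {w1 w2 : F → G}
variable {M B : Type u} [AddCommGroup M] [AddCommGroup B] [DistribMulAction (NR R i) M]
  [DistribMulAction (NR R i) B] [Module F M] {p : G → M} {r : G → B} {f : M →+ M →+ B}
  {φ : M →ₗ[F] M →ₗ[F] F} {s : NR R i → (F ≃+* F)}
variable {h : FMod V R i j v w1 w2 M B p r f φ s}
variable {t : F → G} {τ : TorD V R i j v t} {L Γ : Subgroup (NR R i)} (d : SN h τ L Γ)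
variable [Finite G] [Finite F] {u₀ : M} {ε : M →ₗ[F] F} (ep : Ep h τ u₀ ε)
include d ep

/-- `g e₁` is a multiple of `g u₀` -/
theorem ge_mem (g : NR R i) : ∃ c : F, g • p (v 0 1) = c • g • u₀ := by
  obtain ⟨γ, hγ, e⟩ := ep.u0
  refine ⟨(s g γ)⁻¹, ?_⟩
  have h1 : s g γ ≠ 0 := fun h0 => hγ ((map_eq_zero_iff _ (s g).injective).1 h0)
  rw [e, h.semi, smul_smul, inv_mul_cancel₀ h1, one_smul]

/-- (3), (i)-(iii) -/
theorem exists_a {g : NR R i} (hg : g ∈ Γ) (hg1 : g • u₀ ∈ h.M1 τ) :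
    ∃ a : NR R i, (a : G) ∈ UU V R j ∧ (∀ m ∈ h.M1 τ, a • m = m) ∧
      ∀ m : M, ∃ γ : F, a • m - m = φ m (p (v 0 1)) • g • u₀ + γ • p (v 0 1) := by
  obtain ⟨N, _, _, P1, P2, y⟩ := h.co.exists_yPair h.bt
  obtain ⟨n, sf, q, E⟩ := h.exists_eig τ y
  obtain ⟨a₁, ha₁⟩ := h.exists_unit
  set nw := nn w1 w2 (1 : F) with hnw
  have hnwX : nw ∈ XX V R := h.co.nn_mem_X h.bt 1
  have hnwV := h.bt.X_le_NV hnwX
  have hn12 : cj nw (R i) = R j := h.co.nn_R1 h.bt one_ne_zero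
  have hn21 : cj nw (R j) = R i := h.co.nn_R2 h.bt one_ne_zero
  have hU12 : cj nw (UU V R i) = UU V R j := h.bt.cj_UU hnwV hn12
  have hU21 : cj nw (UU V R j) = UU V R i := h.bt.cj_UU hnwV hn21
  have nwact : ∀ β γ, nw * v β γ * nw⁻¹ = v γ β := fun β γ => by
    have h1 := h.co.nn_act (one_ne_zero (α := F)) β γ
    rwa [inv_one, one_mul, one_mul] at h1
  have nwact' : ∀ β γ, nw⁻¹ * v β γ * nw = v γ β := fun β γ => by
    rw [← nwact γ β]; group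
  -- the element `z` of `V ^ g`
  obtain ⟨γ₀, hγ₀, hu₀⟩ := ep.u0
  set z : G := (g : G) * v 0 γ₀ * (g : G)⁻¹ with hz
  have hzW : z ∈ WW V (R i) := conj_mem_of_normalizer (normalizer_le_WW V (R i) g.2) (h.fr.v_mem_W h.co h.bt 0 γ₀)
  have hpz : p z = g • u₀ := by
    rw [hz, ← h.fr.p_act g _ (h.fr.v_mem_W h.co h.bt 0 γ₀), p_v0 h γ₀, hu₀]
  have hzU : z ∈ UU V R i := by
    have h1 : p z ∈ h.fr.sb (UU V R i) := by
      rw [hpz]
      exact h.mem_U.2 (h.M1_U τ hg1)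
    exact (h.fr.p_mem_iff hzW (h.bt.R_le_U i)).1 h1
  have hnz : n (P1 z) = g • u₀ := by
    have h1 := E.p_n z hzU
    rw [hpz] at h1
    have h2 := h.M1_D τ y ((h.M1 τ).sub_mem hg1 (E.n_mem (P1 z))) h1
    exact (sub_eq_zero.1 h2).symm
  -- the element `a`
  have hz2 : nw * z * nw⁻¹ ∈ UU V R j := by
    rw [← hU12]
    exact conj_mem_cj hzU
  set a : NR R i := ⟨nw * z * nw⁻¹, h.bt.cen_le_N i (UU_le_cen j hz2)⟩ with ha
  have haU : (a : G) ∈ UU V R j := hz2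
  have hac : (a : G) ∈ centralizer (R i : Set G) := centralizer_le (h.bt.R_le i) (UU_le_cen j haU)
  have hP2 : P2 (a : G) = P1 z := by
    have h1 := (y.nn1 h.bt h.co (one_ne_zero (α := F)) (UU_le_YY i hzU)).2
    rwa [inv_one, one_smul] at h1
  -- the commutators
  have hcomm : ∀ w ∈ UU V R i, ∀ b : Fˣ, (a : G) * (w * t b * w⁻¹ * (t b)⁻¹) =
      (w * t b * w⁻¹ * (t b)⁻¹) * (a : G) := by
    intro w hw b
    have hu : nw⁻¹ * w * nw ∈ UU V R j := by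
      have h1 : w ∈ cj nw (UU V R j) := by rw [hU21]; exact hw
      exact mem_cj.1 h1
    have hxX : nw⁻¹ * t b * nw ∈ XX V R := mul_mem (mul_mem (inv_mem hnwX) (τ.memX b b.ne_zero)) hnwX
    have hxN : nw⁻¹ * t b * nw ∈ normalizer (R i : Set G) := by
      rw [← cj_eq_self_iff, mul_assoc, cj_mul, cj_mul, hn12, cj_eq_self_iff.2 (τ.normR' b.ne_zero), ← hn12,
        ← cj_mul, inv_mul_cancel, cj_one]
    set u' : NR R i := ⟨_, h.bt.cen_le_N i (UU_le_cen j hu)⟩ with hu'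
    set x : NR R i := ⟨_, hxN⟩ with hx
    have hxv : ∀ β γ, (x : G) * v β γ * (x : G)⁻¹ = v ((b : F)⁻¹ * β) (b * γ) := by
      intro β γ
      have e : (x : G) * v β γ * (x : G)⁻¹ = nw⁻¹ * (t b * (nw * v β γ * nw⁻¹) * (t b)⁻¹) * nw := by
        change nw⁻¹ * t b * nw * v β γ * (nw⁻¹ * t b * nw)⁻¹ = _
        group
      rw [e, nwact, τ.act b γ β b.ne_zero, nwact']
    have hxR : ∀ β, (x : G) * v β 0 * (x : G)⁻¹ = v ((b : F)⁻¹ * β) 0 := fun β => by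
      rw [hxv, mul_zero]
    have hxe1 : x • p (v 0 1) = (b : F) • p (v 0 1) := by
      rw [h.fr.p_act _ _ (h.fr.v_mem_W h.co h.bt 0 1), hxv, mul_zero, mul_one, p_v0 h]
    -- `x` acts on `C_M(L)` as `t b⁻¹`
    obtain ⟨a', u'', hu'', hxu⟩ := act_X h τ (x := x) hxX
    have hxC : ∀ m ∈ CC d, x • m = tT τ a' • m := fun m hm => by
      rw [hxu, fix_A d (smul_mem d (d.T_mem a') hm) hu'']
    have ha' : (a' : F)⁻¹ = b := by
      have h1 := hxC _ (e_mem d)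
      rw [hxe1, h.T_e τ] at h1
      have h2 : ((b : F) - (a' : F)⁻¹) • p (v 0 1) = 0 := by rw [sub_smul, h1, sub_self]
      exact (sub_eq_zero.1 (h.e_smul_eq_zero h2)).symm
    have ha'' : (a' : F) = (b : F)⁻¹ := by rw [← ha', inv_inv]
    obtain ⟨c, hc⟩ := ge_mem d ep g
    have hge : g • p (v 0 1) ∈ h.M1 τ := by rw [hc]; exact (h.M1 τ).smul_mem c hg1
    have hgC : g • p (v 0 1) ∈ CC d := smul_mem d hg (e_mem d)
    have hxe : x • g • p (v 0 1) = (b : F)⁻¹ • g • p (v 0 1) := by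
      rw [hxC _ hgC, hge a', ha'']
    have h1 := comm_V h (inv_ne_zero b.ne_zero) hxR hxe
      (centralizer_le (h.bt.R_le i) (UU_le_cen j (hu : (u' : G) ∈ _))) (fix_A d hgC (u := u') hu)
      (h.co.v_mem 0 γ₀)
    have h2 := comm_conj (n := nw) (u := (u' : G)) (x := (x : G)) (z := z) h1
    have e1 : nw * (u' : G) * nw⁻¹ = w := by
      change nw * (nw⁻¹ * w * nw) * nw⁻¹ = w
      group
    have e2 : nw * (x : G) * nw⁻¹ = t b := by
      change nw * (nw⁻¹ * t b * nw) * nw⁻¹ = t b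
      group
    rw [e1, e2] at h2
    exact h2
  -- `a` fixes `M₁`
  have haM1 : ∀ m ∈ h.M1 τ, a • m = m := by
    intro m hm
    obtain ⟨w, hw, hwW, rfl⟩ := h.mem_U.2 (h.M1_U τ hm)
    have hk := hcomm w hw a₁
    set k := w * t a₁ * w⁻¹ * (t a₁)⁻¹ with hkd
    have htw : t a₁ * w⁻¹ * (t a₁)⁻¹ ∈ WW V (R i) :=
      conj_mem_of_normalizer (normalizer_le_WW V (R i) (τ.normR a₁.ne_zero)) (inv_mem hwW)
    have hkW : k ∈ WW V (R i) := by
      have e : k = w * (t a₁ * w⁻¹ * (t a₁)⁻¹) := by rw [hkd]; group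
      rw [e]
      exact mul_mem hwW htw
    have hpk : p k = (1 - (a₁ : F)) • p w := by
      have e : k = w * (t a₁ * w⁻¹ * (t a₁)⁻¹) := by rw [hkd]; group
      have e2 : p (t a₁ * w⁻¹ * (t a₁)⁻¹) = tT τ a₁ • p w⁻¹ := (h.fr.p_act (tT τ a₁) _ (inv_mem hwW)).symm
      rw [e, h.fr.p_mul _ hwW _ htw, e2, h.fr.p_inv hwW, smul_neg, hm a₁, sub_smul, one_smul, sub_eq_add_neg]
    have h1 : a • p k = p k := by
      rw [h.fr.p_act a _ hkW, hk, mul_inv_cancel_right]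
    rw [hpk, h.lin_cen hac] at h1
    have h2 : (1 - (a₁ : F)) • (a • p w - p w) = 0 := by rw [smul_sub, h1, sub_self]
    exact sub_eq_zero.1 ((smul_eq_zero.1 h2).resolve_left (sub_ne_zero.2 (Ne.symm ha₁)))
  refine ⟨a, haU, haM1, fun m => ?_⟩
  -- `[m, a]`
  have h1 := E.A_top a haU m
  rw [hP2, hnz] at h1
  obtain ⟨γ, d', hd', e⟩ := (E.mem_D _).1 h1
  have hd0 : d' = 0 := by
    refine E.inj d' hd' fun g' => ?_
    have h2 := h.phi_cen hac m (n g')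
    rw [haM1 _ (E.n_mem g')] at h2
    have h3 : φ (a • m - m - φ m (p (v 0 1)) • g • u₀) (n g') = 0 := by
      rw [map_sub, map_sub, LinearMap.sub_apply, LinearMap.sub_apply, h2, sub_self, zero_sub, map_smul,
        LinearMap.smul_apply, ← hnz, E.phi_11, smul_zero, neg_zero]
    rw [e, map_add, LinearMap.add_apply, map_smul, LinearMap.smul_apply, h.phi_symm (p (v 0 1)), E.phi_e1,
      smul_zero, zero_add] at h3
    exact h3
  rw [hd0, add_zero] at e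
  exact ⟨γ, by rw [← e]; abel⟩

/-- `x ∈ C_M(L)` with `ph (g u₀) x = 0` is an eigenvector of `g t g⁻¹` -/
theorem eig_of (hq : 4 ≤ Nat.card F) (hA : ∃ u ∈ UU V R j, u ∉ DD V R) {g : NR R i} (hg : g ∈ Γ) {x : M}
    (hx : x ∈ CC d) (h0 : ph h ε u₀ Γ (g • u₀) x = 0) (a : Fˣ) :
    (g * tT τ a * g⁻¹) • x = s g a • x := by
  rw [ph_eq d ep hq hA hg hx] at h0
  have h1 : ε (g⁻¹ • x) = 0 := (map_eq_zero_iff _ (s g).injective).1 h0
  obtain ⟨z₁, hz₁, hz₂, e⟩ := dec' d ep hq hA (smul_mem d (inv_mem hg) hx)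
  rw [h1, zero_smul, zero_add] at e
  have e2 : x = g • z₁ := by rw [← e, smul_inv_smul]
  rw [mul_smul, mul_smul, e2, inv_smul_smul, hz₂ a, h.semi]

/-- **step (3)** -/
theorem final (hq : 4 ≤ Nat.card F) (hA : ∃ u ∈ UU V R j, u ∉ DD V R) {g₂ g₃ : NR R i} (h2 : g₂ ∈ Γ) (h3 : g₃ ∈ Γ)
    (p12 : ph h ε u₀ Γ u₀ (g₂ • u₀) = 0) (p31 : ph h ε u₀ Γ (g₃ • u₀) u₀ = 0)
    (p32 : ph h ε u₀ Γ (g₃ • u₀) (g₂ • u₀) = 0) : False := by
  have huC := u_mem d ep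
  have h2C := smul_mem d h2 huC
  obtain ⟨γ₀, hγ₀, hu₀⟩ := ep.u0
  -- `g₂ u₀ ∈ M₁`
  have h21 : g₂ • u₀ ∈ h.M1 τ := by
    have h1 := ph_eq d ep hq hA (one_mem Γ) h2C
    rw [one_smul, inv_one, one_smul, s_one h, p12] at h1
    obtain ⟨z₁, -, hz₂, e⟩ := dec' d ep hq hA h2C
    rw [← h1, zero_smul, zero_add] at e
    rw [e]; exact hz₂
  obtain ⟨a, haU, haM1, hal⟩ := exists_a d ep h2 h21
  have hac : (a : G) ∈ centralizer (R i : Set G) := centralizer_le (h.bt.R_le i) (UU_le_cen j haU)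
  obtain ⟨a₁, ha₁⟩ := h.exists_unit
  set c := s g₃ a₁ with hc
  have hc1 : c ≠ 1 := fun e => ha₁ ((s g₃).injective (e.trans (map_one _).symm))
  have hc0 : c ≠ 0 := fun e => a₁.ne_zero ((map_eq_zero_iff _ (s g₃).injective).1 e)
  set t₃ : NR R i := g₃ * tT τ a₁ * g₃⁻¹ with ht₃
  have tu : t₃ • u₀ = c • u₀ := eig_of d ep hq hA h3 huC p31 a₁
  have t2 : t₃ • g₂ • u₀ = c • g₂ • u₀ := eig_of d ep hq hA h3 h2C p32 a₁
  -- `t₃` on `R i`
  have tR : ∀ β, (t₃ : G) * v β 0 * (t₃ : G)⁻¹ = v (c * β) 0 := by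
    intro β
    have h5 : ∀ γ, h.fr.sg h.co h.bt (tT τ a₁) γ = a₁ * γ := fun γ => (h.s_eq a₁.ne_zero (h.T_aux τ a₁) γ).2
    rw [conj_v0 h, ht₃, h.fr.sg_mul, h.fr.sg_mul, h5, h.semi_B, ← h.fr.sg_mul, mul_inv_cancel, h.fr.sg_one]
  have tlin := h.lin hc0 tR
  have tphi := h.phi_lin hc0 tR
  -- the plane `l`
  let l : Submodule F M := Submodule.span F {u₀, g₂ • u₀}
  have hl : ∀ x, x ∈ l ↔ ∃ α β : F, α • u₀ + β • g₂ • u₀ = x := fun x => Submodule.mem_span_pair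
  have hul : p (v 0 1) ∈ l := (hl _).2 ⟨γ₀⁻¹, 0, by
    rw [zero_smul, add_zero, hu₀, smul_smul, inv_mul_cancel₀ hγ₀, one_smul]⟩
  have h2l : g₂ • u₀ ∈ l := (hl _).2 ⟨0, 1, by rw [zero_smul, one_smul, zero_add]⟩
  have hal' : ∀ m : M, a • m - m ∈ l := fun m => by
    obtain ⟨γ, e⟩ := hal m
    rw [e]
    exact l.add_mem (l.smul_mem _ h2l) (l.smul_mem _ hul)
  have tl : ∀ x ∈ l, t₃ • x = c • x := by
    intro x hx
    obtain ⟨α, β, rfl⟩ := (hl x).1 hx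
    rw [smul_add, tlin, tlin, tu, t2, smul_add, smul_smul, smul_smul, smul_smul, smul_smul, mul_comm α, mul_comm β]
  have phl : ∀ x ∈ l, ph h ε u₀ Γ (g₃ • u₀) x = 0 := by
    intro x hx
    obtain ⟨α, β, rfl⟩ := (hl x).1 hx
    rw [map_add, map_smul, map_smul, p31, p32, smul_zero, smul_zero, add_zero]
  -- `b = t₃ a t₃⁻¹ a⁻¹`
  set b : NR R i := t₃ * a * t₃⁻¹ * a⁻¹ with hb
  have hbl : ∀ m : M, b • m - m ∈ l := by
    intro m
    set m' := t₃⁻¹ • a⁻¹ • m with hm'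
    have e1 : b • m = t₃ • a • m' := by rw [hb, mul_smul, mul_smul, mul_smul]
    have e2 : m = a • t₃ • m' := by rw [hm', smul_inv_smul, smul_inv_smul]
    have e3 : b • m - m = t₃ • (a • m' - m') - (a • t₃ • m' - t₃ • m') := by
      rw [e1, smul_sub]
      nth_rw 1 [e2]
      abel
    rw [e3, tl _ (hal' m')]
    exact l.sub_mem (l.smul_mem _ (hal' _)) (hal' _)
  -- `g₃⁻¹ b g₃` acts as an element of `U j`
  set a' : NR R i := g₃⁻¹ * a * g₃ with ha'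
  have ha'c : (a' : G) ∈ centralizer (R i : Set G) := by
    have h1 : (g₃ : G)⁻¹ * a * (g₃ : G)⁻¹⁻¹ ∈ centralizer (R i : Set G) :=
      conj_mem_of_normalizer (normalizer_le_normalizer_centralizer _ (inv_mem g₃.2)) hac
    rwa [inv_inv] at h1
  have ha'e : a' • p (v 0 1) = p (v 0 1) := by
    rw [ha', mul_smul, mul_smul, fix_A d (smul_mem d h3 (e_mem d)) haU, inv_smul_smul]
  have hsup := mem_sup h ha'c ha'e
  have hcs := comm_X_sup h.bt i hsup (τ.memX a₁ a₁.ne_zero) (τ.normR a₁.ne_zero)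
  rw [Y_sup_W h.bt h.co.ne] at hcs
  have hcs' := inv_mem hcs
  obtain ⟨y3, hy3, w3, hw3, e3⟩ := exists_mul_of_mem_sup
    ((UU_le_cen (R := R) j).trans (h.bt.cen_le_NW i)) hcs'
  set y' : NR R i := ⟨y3, h.bt.cen_le_N i (UU_le_cen j hy3)⟩ with hy'
  set w' : NR R i := ⟨w3, h.bt.W_le_N i hw3⟩ with hw'
  have hb' : g₃⁻¹ * b * g₃ = y' * w' := by
    apply Subtype.ext
    change (g₃ : G)⁻¹ * (g₃ * t a₁ * (g₃ : G)⁻¹ * a * (g₃ * t a₁ * (g₃ : G)⁻¹)⁻¹ * (a : G)⁻¹) * g₃ = y3 * w3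
    rw [← e3]
    change _ = (((g₃ : G)⁻¹ * a * g₃) * t a₁ * ((g₃ : G)⁻¹ * a * g₃)⁻¹ * (t a₁)⁻¹)⁻¹
    group
  have hb'' : ∀ m : M, b • m = g₃ • y' • g₃⁻¹ • m := by
    intro m
    have e : b = g₃ * (y' * w') * g₃⁻¹ := by rw [← hb']; group
    rw [e, mul_smul, mul_smul, mul_smul, h.fr.W_act h.bt (h := w') hw3]
  -- `y3 ∈ D`
  have hyD : y3 ∈ DD V R := by
    by_contra hD
    obtain ⟨m, hm⟩ := lemN (h := h) hq (u := y') hy3 hD γ₀
    rw [← hu₀] at hm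
    have h5 : b • g₃ • m - g₃ • m = g₃ • u₀ := by
      rw [hb'', inv_smul_smul, ← smul_sub, hm]
    have h6 := hbl (g₃ • m)
    rw [h5] at h6
    have h7 := phl _ h6
    rw [(homSys d ep hq hA).self _ ⟨g₃, h3, rfl⟩] at h7
    exact one_ne_zero h7
  have hb1 : ∀ m : M, b • m = m := fun m => by
    rw [hb'', h.fr.W_act h.bt (D_le_W V R i hyD : (y' : G) ∈ _), smul_inv_smul]
  -- `a t₃ = t₃ a` on `M`
  have hat : ∀ m : M, a • t₃ • m = t₃ • a • m := by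
    intro m
    have h5 := hb1 (a • t₃ • m)
    rw [hb, mul_smul, mul_smul, mul_smul, inv_smul_smul, inv_smul_smul] at h5
    exact h5.symm
  -- `l^⊥ ≤ C_M(a)`
  have hperp : ∀ z : M, (∀ x ∈ l, φ z x = 0) → a • z = z := by
    intro z hz
    apply h.ext
    intro x
    have e : x = a • a⁻¹ • x := (smul_inv_smul a x).symm
    have h5 := hz _ (hal' (a⁻¹ • x))
    rw [← e, map_sub, sub_eq_zero] at h5
    rw [h5]
    conv_lhs => rw [e]
    exact h.phi_cen hac _ _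
  set m0 := p (w1 1) with hm0
  have hm1 : φ m0 (p (v 0 1)) = 1 := h.phi_w1 1
  have h5 : a • (t₃ • m0 - m0) = t₃ • m0 - m0 := by
    apply hperp
    intro x hx
    have h6 := tphi m0 x
    rw [tl x hx, map_smul, smul_eq_mul] at h6
    have h7 := mul_left_cancel₀ hc0 h6
    rw [map_sub, LinearMap.sub_apply, h7, sub_self]
  have h6 : a • m0 - m0 = c • (a • m0 - m0) := by
    rw [← tl _ (hal' m0), smul_sub, ← hat]
    rw [smul_sub] at h5
    have h7 : a • t₃ • m0 - t₃ • m0 = (a • t₃ • m0 - a • m0) - (t₃ • m0 - m0) + (a • m0 - m0) := by abel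
    rw [h7, h5]
    abel
  have h7 : (1 - c) • (a • m0 - m0) = 0 := by rw [sub_smul, one_smul, ← h6, sub_self]
  have h8 := (smul_eq_zero.1 h7).resolve_left (sub_ne_zero.2 (Ne.symm hc1))
  obtain ⟨γ, e⟩ := hal m0
  rw [h8, hm1, one_smul] at e
  -- `g₂ u₀ ∈ e ∩ M₁ = 0`
  obtain ⟨N, _, _, P1, P2, y⟩ := h.co.exists_yPair h.bt
  have h9 : g₂ • u₀ ∈ h.fr.sb (DD V R) := by
    have h10 : g₂ • u₀ = (-γ) • p (v 0 1) := by
      rw [neg_smul, eq_neg_iff_add_eq_zero]; exact e.symm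
    rw [h10]
    exact h.D_smul_e τ _
  have h10 := h.M1_D τ y h21 h9
  rw [smul_eq_zero_iff_eq] at h10
  have h11 := ep.one
  rw [h10, map_zero] at h11
  exact zero_ne_one h11

end Cfsg.Agent.Omega.Lie.Fix

end

section


/-!
# THEOREM FIX (#15651), level of `N(R i)`

**`main`** : `Γ ≤ N(R i)` contains the torus, `L ≥ U j` is normalised by `Γ`, `L ≤ C(R i)` fixes `e`, and some `Q ≤ Γ` of
odd index stabilises `e`.  Then `Γ` stabilises `e`.
**`main'`** : the same with `L = ⟨A^Γ⟩`: only `a γ e₁ = γ e₁` for `a ∈ U j`, `γ ∈ Γ` is needed.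
-/

set_option autoImplicit false
set_option linter.unusedSectionVars false

namespace Cfsg.Agent.Omega.Lie.Fix

open Subgroup Cfsg.Agent.Omega.BTwo Cfsg.Agent.Lib.SL2Mat Cfsg.Agent.Omega.Lie.HomLem

universe u v w

theorem odd_units {F : Type*} [Field F] [Finite F] [CharP F 2] : Odd (Nat.card Fˣ) := by
  have := Fintype.ofFinite F
  have h1 := FiniteField.even_card_of_char_two (F := F) (ringChar.eq F 2 ▸ rfl : ringChar F = 2)
  rw [Nat.card_units, Nat.card_eq_fintype_card]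
  have h2 : 1 < Fintype.card F := Fintype.one_lt_card
  rw [← Nat.not_even_iff_odd]
  intro h3
  obtain ⟨k, hk⟩ := h3
  omega

variable {G : Type u} [Group G] {ι : Type w} {V : Subgroup G} {R : ι → Subgroup G} {i j : ι}
variable {F : Type v} [Field F] [CharP F 2] {v : F → F → G} {w1 w2 : F → G}
variable {M B : Type u} [AddCommGroup M] [AddCommGroup B] [DistribMulAction (NR R i) M]
  [DistribMulAction (NR R i) B] [Module F M] {p : G → M} {r : G → B} {f : M →+ M →+ B}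
  {φ : M →ₗ[F] M →ₗ[F] F} {s : NR R i → (F ≃+* F)}
variable {h : FMod V R i j v w1 w2 M B p r f φ s}
variable {t : F → G} {τ : TorD V R i j v t} {L Γ : Subgroup (NR R i)}
variable [Finite G] [Finite F]

include h in
/-- a 2-group stabilising `e` fixes a vector `≠ 0` of `e` -/
theorem exists_u0 {P : Subgroup (NR R i)} (hP : IsPGroup 2 P)
    (hPe : ∀ x ∈ P, ∃ c : F, x • p (v 0 1) = c • p (v 0 1)) :
    ∃ γ : F, γ ≠ 0 ∧ ∀ x ∈ P, x • (γ • p (v 0 1)) = γ • p (v 0 1) := by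
  classical
  let X : SubMulAction P M :=
    { carrier := {m | ∃ γ : F, γ ≠ 0 ∧ m = γ • p (v 0 1)}
      smul_mem' := by
        rintro ⟨x, hx⟩ _ ⟨γ, hγ, rfl⟩
        obtain ⟨c, hc⟩ := hPe x hx
        refine ⟨s x γ * c, mul_ne_zero ?_ ?_, ?_⟩
        · exact fun h0 => hγ ((map_eq_zero_iff _ (s x).injective).1 h0)
        · rintro rfl
          rw [zero_smul, smul_eq_zero_iff_eq] at hc
          exact h.e_ne hc
        · change x • (γ • p (v 0 1)) = _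
          rw [h.semi, hc, smul_smul] }
  have hM := h.fr.finite_M
  have hX : Nat.card X = Nat.card Fˣ := by
    symm
    refine Nat.card_congr (Equiv.ofBijective (fun a : Fˣ => (⟨(a : F) • p (v 0 1), a, a.ne_zero, rfl⟩ : X)) ⟨?_, ?_⟩)
    · intro a c e
      have h1 : (a : F) • p (v 0 1) = (c : F) • p (v 0 1) := congrArg Subtype.val e
      have h2 : ((a : F) - c) • p (v 0 1) = 0 := by rw [sub_smul, h1, sub_self]
      exact Units.ext (sub_eq_zero.1 (h.e_smul_eq_zero h2))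
    · rintro ⟨_, γ, hγ, rfl⟩
      exact ⟨Units.mk0 γ hγ, rfl⟩
  have : Fact (Nat.Prime 2) := ⟨Nat.prime_two⟩
  have hfX : Finite X := Subtype.finite
  have h1 := hP.card_modEq_card_fixedPoints X
  rw [hX] at h1
  have h2 : Nonempty (MulAction.fixedPoints P X) := by
    by_contra hcon
    rw [not_nonempty_iff] at hcon
    rw [Nat.card_of_isEmpty (α := MulAction.fixedPoints P X)] at h1
    have h3 := Nat.modEq_zero_iff_dvd.1 h1
    exact (Nat.not_even_iff_odd.2 (odd_units (F := F))) (even_iff_two_dvd.2 h3)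
  obtain ⟨⟨⟨_, γ, hγ, rfl⟩, hfix⟩⟩ := h2
  refine ⟨γ, hγ, fun x hx => ?_⟩
  exact congrArg Subtype.val (hfix ⟨x, hx⟩)

omit [CharP F 2] [Field F] in
/-- the orbit of a vector fixed by a subgroup of odd index has odd order -/
theorem odd_D {P : Subgroup (NR R i)} (hPo : Odd (P.relIndex Γ)) {u₀ : M} (hu : ∀ x ∈ P, x • u₀ = u₀) :
    Odd (Nat.card (Dl Γ u₀)) := by
  have e : Dl Γ u₀ = MulAction.orbit Γ u₀ := by
    ext x
    constructor
    · rintro ⟨g, hg, rfl⟩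
      exact ⟨⟨g, hg⟩, rfl⟩
    · rintro ⟨g, rfl⟩
      exact ⟨g, g.2, rfl⟩
  have h1 := MulAction.index_stabilizer (G := Γ) (x := u₀)
  rw [e, Nat.card_coe_set_eq, ← h1]
  have h2 : P.subgroupOf Γ ≤ MulAction.stabilizer Γ u₀ := by
    intro x hx
    rw [MulAction.mem_stabilizer_iff]
    exact hu _ (mem_subgroupOf.1 hx)
  exact hPo.of_dvd_nat (index_dvd_of_le h2)

theorem perp' (d : SN h τ L Γ) {u₀ : M} {ε : M →ₗ[F] F} (ep : Ep h τ u₀ ε) (hq : 4 ≤ Nat.card F)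
    (hA : ∃ u ∈ UU V R j, u ∉ DD V R) (hodd : Odd (Nat.card (Dl Γ u₀))) {x y : M} (hx : x ∈ Dl Γ u₀)
    (hy : y ∈ Dl Γ u₀) (hn : ∀ c : F, y ≠ c • x) : ph h ε u₀ Γ x y = 0 := by
  have hM := h.fr.finite_M
  have hfD : Finite (Dl Γ u₀) := Subtype.finite
  refine (homSys d ep hq hA).perp h.four hodd ?_ hx hy hn
  rintro ⟨_, g, hg, rfl⟩ ⟨_, g', hg', rfl⟩
  set κ : NR R i := g' * g⁻¹ with hκ
  have hκΓ : κ ∈ Γ := mul_mem hg' (inv_mem hg)
  refine ⟨{ toFun := fun u => ⟨κ • (u : M), act_D ep hκΓ u.2⟩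
            invFun := fun u => ⟨κ⁻¹ • (u : M), act_D ep (inv_mem hκΓ) u.2⟩
            left_inv := fun u => Subtype.ext (inv_smul_smul κ _)
            right_inv := fun u => Subtype.ext (smul_inv_smul κ _) }, fun u w => ?_, Subtype.ext ?_⟩
  · change ph h ε u₀ Γ (κ • (u : M)) (κ • (w : M)) = 0 ↔ _
    rw [ph_act d ep hq hA hκΓ u.2 (D_le d ep w.2)]
    exact map_eq_zero_iff _ (s κ).injective
  · change κ • g • u₀ = g' • u₀
    rw [hκ, mul_smul, inv_smul_smul]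

/-- **THEOREM FIX**, general form -/
theorem main (d : SN h τ L Γ) (hq : 4 ≤ Nat.card F) (hA : ∃ u ∈ UU V R j, u ∉ DD V R)
    {Q : Subgroup (NR R i)} (hQΓ : Q ≤ Γ) (hQ : ∀ x ∈ Q, ∃ c : F, x • p (v 0 1) = c • p (v 0 1))
    (hodd : Odd (Q.relIndex Γ)) {g : NR R i} (hg : g ∈ Γ) : ∃ c : F, g • p (v 0 1) = c • p (v 0 1) := by
  classical
  have : Fact (Nat.Prime 2) := ⟨Nat.prime_two⟩
  -- a Sylow 2-subgroup of `Q`
  obtain ⟨P₀⟩ : Nonempty (Sylow 2 Q) := inferInstance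
  set P : Subgroup (NR R i) := (P₀ : Subgroup Q).map Q.subtype with hP
  have hPQ : P ≤ Q := map_subtype_le _
  have hP2 : IsPGroup 2 P := P₀.isPGroup'.map _
  have hPo : Odd (P.relIndex Γ) := by
    rw [← relIndex_mul_relIndex P Q Γ hPQ hQΓ]
    refine Odd.mul ?_ hodd
    have e : P.relIndex Q = (P₀ : Subgroup Q).index := by
      unfold relIndex
      congr 1
      exact comap_map_eq_self_of_injective Q.subtype_injective _
    rw [e, ← Nat.not_even_iff_odd, even_iff_two_dvd]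
    exact P₀.not_dvd_index
  obtain ⟨γ, hγ, hfix⟩ := exists_u0 (h := h) hP2 fun x hx => hQ x (hPQ hx)
  set u₀ : M := γ • p (v 0 1) with hu₀
  obtain ⟨ε, hε1, hε2⟩ := exists_eps (h := h) (τ := τ) hγ
  have ep : Ep h τ u₀ ε := ⟨⟨γ, hγ, rfl⟩, hε1, hε2⟩
  have hoD := odd_D (M := M) hPo hfix
  by_contra hcon
  push Not at hcon
  have hu0 : u₀ ≠ 0 := fun h0 => hγ (h.e_smul_eq_zero h0)
  have hn0 : ∀ k : NR R i, k • u₀ ≠ 0 := fun k h0 => hu0 ((smul_eq_zero_iff_eq k).1 h0)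
  have hcon' : ∀ c : F, g • u₀ ≠ c • u₀ := by
    intro c e
    have hc : c ≠ 0 := by
      rintro rfl
      rw [zero_smul] at e
      exact hn0 g e
    obtain ⟨c', -, e'⟩ := stab_u ep hc e
    exact hcon c' e'
  -- a third point
  obtain ⟨g₃, h3, h31, h32⟩ : ∃ g₃ ∈ Γ, (∀ c : F, g₃ • u₀ ≠ c • u₀) ∧ ∀ c : F, g₃ • u₀ ≠ c • g • u₀ := by
    by_contra hno
    push Not at hno
    have hD1 : ∀ a : Fˣ, (a : F) • u₀ ∈ Dl Γ u₀ := fun a => smul_D d ep ⟨1, one_mem _, one_smul _ _⟩ a.ne_zero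
    have hD2 : ∀ a : Fˣ, (a : F) • g • u₀ ∈ Dl Γ u₀ := fun a => smul_D d ep ⟨g, hg, rfl⟩ a.ne_zero
    let f : Fˣ ⊕ Fˣ → Dl Γ u₀ := Sum.elim (fun a => ⟨_, hD1 a⟩) (fun a => ⟨_, hD2 a⟩)
    have hcan : ∀ (x : M), x ≠ 0 → ∀ a c : Fˣ, (a : F) • x = (c : F) • x → a = c := by
      intro x hx a c e
      have h1 : ((a : F) - c) • x = 0 := by rw [sub_smul, e, sub_self]
      exact Units.ext (sub_eq_zero.1 ((smul_eq_zero.1 h1).resolve_right hx))
    have hcross : ∀ a c : Fˣ, (a : F) • u₀ ≠ (c : F) • g • u₀ := by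
      intro a c e
      apply hcon' ((c : F)⁻¹ * a)
      rw [mul_smul, e, smul_smul, inv_mul_cancel₀ c.ne_zero, one_smul]
    have hf : Function.Bijective f := by
      constructor
      · rintro (a | a) (c | c) e
        · have h1 : (a : F) • u₀ = (c : F) • u₀ := congrArg Subtype.val e
          rw [hcan _ hu0 a c h1]
        · exact absurd (congrArg Subtype.val e) (hcross a c)
        · exact absurd (congrArg Subtype.val e).symm (hcross c a)
        · have h1 : (a : F) • g • u₀ = (c : F) • g • u₀ := congrArg Subtype.val e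
          rw [hcan _ (hn0 g) a c h1]
      · rintro ⟨_, k, hk, rfl⟩
        by_cases h1 : ∀ c : F, k • u₀ ≠ c • u₀
        · obtain ⟨c, hc⟩ := hno k hk h1
          have hc0 : c ≠ 0 := by
            rintro rfl
            rw [zero_smul] at hc
            exact hn0 k hc
          exact ⟨Sum.inr (Units.mk0 c hc0), Subtype.ext hc.symm⟩
        · push Not at h1
          obtain ⟨c, hc⟩ := h1
          have hc0 : c ≠ 0 := by
            rintro rfl
            rw [zero_smul] at hc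
            exact hn0 k hc
          exact ⟨Sum.inl (Units.mk0 c hc0), Subtype.ext hc.symm⟩
    have h1 : Nat.card (Dl Γ u₀) = Nat.card Fˣ + Nat.card Fˣ := by
      rw [← Nat.card_sum]
      exact (Nat.card_congr (Equiv.ofBijective f hf)).symm
    rw [h1, ← Nat.not_even_iff_odd] at hoD
    exact hoD ⟨_, rfl⟩
  have hnp : ∀ x y : M, x ≠ 0 → (∀ c : F, y ≠ c • x) → ∀ c : F, x ≠ c • y := by
    intro x y hx hxy c e
    have hc : c ≠ 0 := by
      rintro rfl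
      rw [zero_smul] at e
      exact hx e
    apply hxy c⁻¹
    rw [e, smul_smul, inv_mul_cancel₀ hc, one_smul]
  have hD0 : u₀ ∈ Dl Γ u₀ := ⟨1, one_mem _, one_smul _ _⟩
  exact final d ep hq hA hg h3 (perp' d ep hq hA hoD hD0 ⟨g, hg, rfl⟩ hcon')
    (perp' d ep hq hA hoD ⟨g₃, h3, rfl⟩ hD0 (hnp _ _ hu0 h31))
    (perp' d ep hq hA hoD ⟨g₃, h3, rfl⟩ ⟨g, hg, rfl⟩ (hnp _ _ (hn0 g) h32))

include h in
/-- **THEOREM FIX** for `L = ⟨A^Γ⟩` -/
theorem main' (hT : ∀ a : Fˣ, tT τ a ∈ Γ)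
    (hfix : ∀ u : NR R i, (u : G) ∈ UU V R j → ∀ g ∈ Γ, u • g • p (v 0 1) = g • p (v 0 1))
    (hq : 4 ≤ Nat.card F) (hA : ∃ u ∈ UU V R j, u ∉ DD V R)
    {Q : Subgroup (NR R i)} (hQΓ : Q ≤ Γ) (hQ : ∀ x ∈ Q, ∃ c : F, x • p (v 0 1) = c • p (v 0 1))
    (hodd : Odd (Q.relIndex Γ)) {g : NR R i} (hg : g ∈ Γ) : ∃ c : F, g • p (v 0 1) = c • p (v 0 1) := by
  let X : Set (NR R i) := {x | ∃ k ∈ Γ, ∃ u : NR R i, (u : G) ∈ UU V R j ∧ x = k * u * k⁻¹}
  have hXc : ∀ x ∈ closure X, (x : G) ∈ centralizer (R i : Set G) ∧ ∀ k ∈ Γ, x • k • p (v 0 1) = k • p (v 0 1) := by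
    intro x hx
    induction hx using closure_induction with
    | mem x hx =>
      obtain ⟨k, hk, u, hu, rfl⟩ := hx
      refine ⟨conj_mem_of_normalizer (normalizer_le_normalizer_centralizer _ k.2)
        (centralizer_le (h.bt.R_le i) (UU_le_cen j hu)), fun k' hk' => ?_⟩
      have h1 := hfix u hu (k⁻¹ * k') (mul_mem (inv_mem hk) hk')
      rw [mul_smul, mul_smul, ← mul_smul k⁻¹ k', h1, mul_smul, smul_inv_smul]
    | one => exact ⟨one_mem _, fun k _ => one_smul _ _⟩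
    | mul x y _ _ hx hy =>
      exact ⟨mul_mem hx.1 hy.1, fun k hk => by rw [mul_smul, hy.2 k hk, hx.2 k hk]⟩
    | inv x _ hx =>
      exact ⟨inv_mem hx.1, fun k hk => by rw [inv_smul_eq_iff, hx.2 k hk]⟩
  have d : SN h τ (closure X) Γ :=
    { cen := fun x hx => (hXc x hx).1
      fixe := fun x hx => by
        have h1 := (hXc x hx).2 1 (one_mem _)
        rwa [one_smul] at h1
      A_le := fun u hu => subset_closure ⟨1, one_mem _, u, hu, by group⟩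
      T_mem := hT
      norm := by
        intro k hk
        have key : ∀ k ∈ Γ, ∀ x ∈ closure X, k * x * k⁻¹ ∈ closure X := by
          intro k hk x hx
          induction hx using closure_induction with
          | mem x hx =>
            obtain ⟨k', hk', u, hu, rfl⟩ := hx
            exact subset_closure ⟨k * k', mul_mem hk hk', u, hu, by group⟩
          | one => rw [mul_one, mul_inv_cancel]; exact one_mem _
          | mul x y _ _ hx hy =>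
            have e : k * (x * y) * k⁻¹ = (k * x * k⁻¹) * (k * y * k⁻¹) := by group
            rw [e]; exact mul_mem hx hy
          | inv x _ hx =>
            have e : k * x⁻¹ * k⁻¹ = (k * x * k⁻¹)⁻¹ := by group
            rw [e]; exact inv_mem hx
        rw [mem_normalizer_iff]
        intro x
        refine ⟨key k hk x, fun hx => ?_⟩
        have h1 := key k⁻¹ (inv_mem hk) _ hx
        rwa [show k⁻¹ * (k * x * k⁻¹) * k⁻¹⁻¹ = x by group] at h1 }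
  exact main d hq hA hQΓ hQ hodd hg

end Cfsg.Agent.Omega.Lie.Fix

end
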