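import Cfsg.Agent.Mrg.Omega.Lie.TwoMain


/-!
# The normalizer of a Sylow 2-subgroup of the symmetric group (helper942 for helper342)

* `set_eq_of_card` : a `P`-invariant subset of `Ω` is determined by its cardinality, `P` a Sylow 2-subgroup of `Sym(Ω)`;
* `eq_one_of_pow` : `σ ^ r = 1`, `r` an odd prime, `σ` normalises `P` ⟹ `σ = 1`;
* **`eq_one_of_normalizer`** : a permutation of odd order which normalises a Sylow 2-subgroup of `Sym(Ω)` is trivial.
-/

set_option autoImplicit false

namespace Cfsg.Agent.Omega.Lie.PermNorm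

open Equiv Subgroup

universe u

variable {Ω : Type u}

theorem inv_self (g : Perm Ω) (i : Ω) : g⁻¹ (g i) = i := by simp

/-- a `P`-invariant subset is determined by its cardinality -/
theorem set_eq_of_card [Finite Ω] (P : Sylow 2 (Perm Ω)) {A B : Set Ω} (hA : ∀ p ∈ P, ∀ i, p i ∈ A ↔ i ∈ A)
    (hB : ∀ p ∈ P, ∀ i, p i ∈ B ↔ i ∈ B) (hc : A.ncard = B.ncard) : A = B := by
  classical
  have := Fintype.ofFinite Ω
  have key : ∀ C : Set Ω, (Finset.univ.filter fun i => (if i ∈ C then (1 : ZMod 2) else 0) = 1).card = C.ncard := by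
    intro C
    rw [← Set.ncard_coe_finset]
    congr 1
    ext i
    simp
  have h := PermSyl.eq_of_card P (a := fun i => if i ∈ A then 1 else 0) (b := fun i => if i ∈ B then 1 else 0)
    (fun p hp i => by simp only [hA p hp i]) (fun p hp i => by simp only [hB p hp i]) (by rw [key, key, hc])
  ext i
  have h1 := congrFun h i
  by_cases h2 : i ∈ A <;> by_cases h3 : i ∈ B <;> simp_all

/-- elements of odd prime order -/
theorem eq_one_of_pow {r : ℕ} (hr : r.Prime) (hr2 : r ≠ 2) : ∀ n : ℕ, ∀ (Ω : Type u) [Finite Ω],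
    Nat.card Ω = n → ∀ (P : Sylow 2 (Perm Ω)) (σ : Perm Ω), σ ^ r = 1 → σ • P = P → σ = 1 := by
  classical
  intro n
  induction n using Nat.strong_induction_on with
  | _ n ih =>
    intro Ω _ hn P σ hσ hP
    rcases isEmpty_or_nonempty Ω with hE | ⟨⟨δ⟩⟩
    · exact Subsingleton.elim _ _
    let β := {x : Ω // x ≠ δ}
    let f : Perm β →* Perm Ω := Perm.ofSubtype
    have hf : Function.Injective f := Perm.ofSubtype_injective
    obtain ⟨R₀⟩ : Nonempty (Sylow 2 (Perm β)) := inferInstance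
    obtain ⟨Q, hQ⟩ := (R₀.isPGroup'.map f).exists_le_sylow
    have hQR : (Q : Subgroup (Perm Ω)).comap f = R₀ :=
      R₀.is_maximal' (Q.isPGroup'.comap_of_injective f hf) (map_le_iff_le_comap.1 hQ)
    -- `σ` fixes `δ`
    have key : ∀ τ : Perm Ω, τ ^ r = 1 → τ • Q = Q → τ δ = δ → τ = 1 := by
      intro τ hτ hτQ hτδ
      have hsub : ∀ x, τ x ≠ δ ↔ x ≠ δ := by
        intro x
        rw [not_iff_not]
        constructor
        · intro h
          rw [← hτδ] at h
          exact τ.injective h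
        · rintro rfl
          exact hτδ
      let ρ : Perm β := τ.subtypePerm hsub
      have hfρ : f ρ = τ := Perm.ofSubtype_subtypePerm hsub fun x hx h => hx (by rw [h, hτδ])
      have h1 : ρ ^ r = 1 := by
        apply hf
        rw [map_pow, hfρ, hτ, map_one]
      have h2 : ρ • R₀ = R₀ := by
        rw [Sylow.smul_eq_iff_mem_normalizer] at hτQ ⊢
        refine mem_normalizer_iff.2 fun x => ?_
        have h3 := (mem_normalizer_iff.1 hτQ) (f x)
        have h4 : ∀ y : Perm β, y ∈ (R₀ : Subgroup (Perm β)) ↔ f y ∈ (Q : Subgroup (Perm Ω)) := by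
          intro y
          rw [← hQR, mem_comap]
        change x ∈ (R₀ : Subgroup (Perm β)) ↔ ρ * x * ρ⁻¹ ∈ (R₀ : Subgroup (Perm β))
        rw [h4, h4, map_mul, map_mul, map_inv, hfρ]
        exact h3
      have h3 : Nat.card β < n := by
        rw [← hn]
        exact Finite.card_subtype_lt (x := δ) (by simp)
      have h5 : ρ = 1 := ih _ h3 β rfl R₀ ρ h1 h2
      rw [← hfρ, h5, map_one]
    -- WLOG `P = Q`
    obtain ⟨g, hg⟩ := MulAction.exists_smul_eq (Perm Ω) P Q
    set σ' : Perm Ω := g * σ * g⁻¹ with hσ'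
    have e1 : σ' ^ r = 1 := by rw [hσ', conj_pow, hσ, mul_one, mul_inv_cancel]
    have e2 : σ' • Q = Q := by
      rw [← hg, hσ', mul_smul, mul_smul, inv_smul_smul, hP]
    -- the orbit
    let O : Set Ω := {x | ∃ q ∈ (Q : Subgroup (Perm Ω)), x = q δ}
    have hO : ∀ q ∈ Q, ∀ i, q i ∈ O ↔ i ∈ O := by
      intro q hq i
      constructor
      · rintro ⟨p, hp, h⟩
        refine ⟨q⁻¹ * p, mul_mem (inv_mem hq) hp, ?_⟩
        rw [Perm.mul_apply, ← h, inv_self]
      · rintro ⟨p, hp, rfl⟩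
        exact ⟨q * p, mul_mem hq hp, rfl⟩
    have hN := (mem_normalizer_iff.1 ((Sylow.smul_eq_iff_mem_normalizer).1 e2))
    have hO' : ∀ q ∈ Q, ∀ i, q i ∈ σ' '' O ↔ i ∈ σ' '' O := by
      have aux : ∀ q ∈ Q, ∀ i, i ∈ σ' '' O → q i ∈ σ' '' O := by
        rintro q hq _ ⟨x, hx, rfl⟩
        have h1 : σ'⁻¹ * q * σ' ∈ (Q : Subgroup (Perm Ω)) := by
          rw [hN]
          have e : σ' * (σ'⁻¹ * q * σ') * σ'⁻¹ = q := by group
          rw [e]
          exact hq
        refine ⟨(σ'⁻¹ * q * σ') x, (hO _ h1 x).2 hx, ?_⟩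
        rw [← Perm.mul_apply]
        have e : σ' * (σ'⁻¹ * q * σ') = q * σ' := by group
        rw [e, Perm.mul_apply]
      intro q hq i
      refine ⟨fun h => ?_, aux q hq i⟩
      have := aux q⁻¹ (inv_mem hq) _ h
      rwa [inv_self] at this
    have hOO : σ' '' O = O := set_eq_of_card Q hO' hO (Set.ncard_image_of_injective _ σ'.injective)
    -- a fixed point on the orbit
    have hcard : ∃ k, Nat.card O = 2 ^ k := by
      have h1 := Q.isPGroup'.card_orbit δ
      obtain ⟨k, hk⟩ := h1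
      refine ⟨k, ?_⟩
      rw [← hk]
      congr 2
      ext x
      constructor
      · rintro ⟨q, hq, rfl⟩
        exact ⟨⟨q, hq⟩, rfl⟩
      · rintro ⟨⟨q, hq⟩, rfl⟩
        exact ⟨q, hq, rfl⟩
    have hmem : ∀ x, σ' x ∈ O ↔ x ∈ O := by
      intro x
      constructor
      · intro h
        rw [← hOO] at h
        obtain ⟨y, hy, hyx⟩ := h
        rwa [← σ'.injective hyx]
      · intro h
        rw [← hOO]
        exact ⟨x, h, rfl⟩
    have : Fact r.Prime := ⟨hr⟩
    have := Fintype.ofFinite O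
    obtain ⟨⟨a, ha⟩, hfix⟩ := Perm.exists_fixed_point_of_prime (p := r) (n := 1) (α := O)
      (σ := σ'.subtypePerm hmem) (by
        rw [← Nat.card_eq_fintype_card]
        obtain ⟨k, hk⟩ := hcard
        rw [hk]
        intro h
        exact hr2 ((Nat.prime_dvd_prime_iff_eq hr Nat.prime_two).1 (hr.dvd_of_dvd_pow h))) (by
        rw [pow_one]
        ext x
        rw [Perm.subtypePerm_pow]
        simp [e1])
    have hfa : σ' a = a := congrArg Subtype.val hfix
    obtain ⟨q, hq, rfl⟩ := ha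
    have hqQ : q • Q = Q := (Sylow.smul_eq_iff_mem_normalizer).2 (le_normalizer hq)
    have h6 := key (q⁻¹ * σ' * q) (by
      have := conj_pow (i := r) (a := q⁻¹) (b := σ')
      rw [inv_inv] at this
      rw [this, e1, mul_one, inv_mul_cancel]) (by
      rw [mul_smul, mul_smul, hqQ, e2, inv_smul_eq_iff, hqQ]) (by
      rw [Perm.mul_apply, Perm.mul_apply, hfa, inv_self])
    have h7 : σ' = 1 := by
      have : σ' = q * (q⁻¹ * σ' * q) * q⁻¹ := by group
      rw [this, h6, mul_one, mul_inv_cancel]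
    have : σ = g⁻¹ * σ' * g := by rw [hσ']; group
    rw [this, h7, mul_one, inv_mul_cancel]

/-- **A permutation of odd order which normalises a Sylow 2-subgroup of `Sym(Ω)` is trivial.** -/
theorem eq_one_of_normalizer [Finite Ω] (P : Sylow 2 (Perm Ω)) {σ : Perm Ω} (ho : Odd (orderOf σ))
    (hn : σ ∈ normalizer ((P : Subgroup (Perm Ω)) : Set (Perm Ω))) : σ = 1 := by
  by_contra h1
  have h2 : orderOf σ ≠ 1 := fun h => h1 (orderOf_eq_one_iff.1 h)
  obtain ⟨r, hr, hrd⟩ := Nat.exists_prime_and_dvd h2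
  have h0 : orderOf σ ≠ 0 := (orderOf_pos σ).ne'
  have hr2 : r ≠ 2 := by
    rintro rfl
    exact Nat.not_even_iff_odd.2 ho (even_iff_two_dvd.2 hrd)
  have h3 := orderOf_pow_orderOf_div h0 hrd
  have h4 : σ ^ (orderOf σ / r) = 1 := eq_one_of_pow hr hr2 _ Ω rfl P _
    (by
      have := pow_orderOf_eq_one (σ ^ (orderOf σ / r))
      rwa [h3] at this)
    ((Sylow.smul_eq_iff_mem_normalizer).2 (pow_mem hn _))
  rw [h4, orderOf_one] at h3
  exact hr.one_lt.ne h3

end Cfsg.Agent.Omega.Lie.PermNorm
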